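import Cfsg.Agent.Mrg.Omega.TC.No
import Cfsg.Agent.Mrg.Omega.TC.OneEnd
import Cfsg.Agent.Mrg.Omega.TC.Int
import Cfsg.Agent.Mrg.Omega.TC.Crit
import Cfsg.Agent.Mrg.Omega.TC.ThmI
import Cfsg.Agent.Mrg.Omega.FrameI
import Cfsg.Agent.Mrg.Omega.TC.UniLev
import Cfsg.Agent.Mrg.Omega.OM.Lev.Main
import Cfsg.Agent.Mrg.Omega.SQ1.Choice
import Cfsg.Agent.Mrg.Omega.TC.RSix.End
import Cfsg.Agent.Mrg.Omega.OM.PG.Exact
import Cfsg.Agent.Mrg.Omega.VP
import Cfsg.Agent.Mrg.Omega.TC.ThmD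
import Cfsg.Agent.Mrg.Omega.TC.R.Base
import Cfsg.Agent.Mrg.Omega.OM.KTwo.Adj
import Cfsg.Agent.Omega.NO3S.EThree.TBig
import Cfsg.Agent.Mrg.Omega.TC.FrmRep
import Cfsg.Agent.Mrg.Omega.Node.MulG
import Cfsg.Agent.Mrg.Omega.Node.SymG

-- merged: Cfsg.Agent.Mrg.Omega.TC.FixEL
section

section


/-!
# LEMMA FIX over the frame `TC.Fr` (helper609 #19750 (1), helper364 #20327; CARD #18791 TWO CENTRES)

Hypothesis `hJ : ∀ i, ¬ jj T ≤ o2 (P i)` (i. e. `J(T)` moves `V i`; `hJ_iff`).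

* `exists_A` : some `A ∈ A(T)` moves `V i` and centralises `V j`;
* `zc_OO` : `Ω₁Z(O) ≤ V 0 V 1`, `O = C_T(V 0 V 1)`;
* `fixL` : **LEMMA FIX** : `FixL T V v`;
* `fixE` : **LEMMA FIX for `E_i`** : `V i ≰ N_i` implies `FixE T v i`;
* `comm_of_inter` : `V i ≰ N_i`, `N_0 ∩ N_1 ≤ Ω₁Z(T)` imply `[N_0, N_1] = 1` (with `TC/OneEnd.lean`);
* `false_of_comm` : `V i ≰ N_i`, `[N_0, N_1] = 1` implies `[W_{i+1}, N_i] = 1` for some `i` (with `TC/DOne.lean`).
-/

set_option autoImplicit false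
set_option linter.unusedSectionVars false

namespace Cfsg.Agent.Omega.TC.FixEL

open Subgroup Cfsg Cfsg.Agent.ZN Cfsg.Agent.PLocal.ThompsonJ Cfsg.Agent.PLocal.ElemAbSup
open Cfsg.Agent.Omega.MinPar
open Cfsg.Agent.Omega.OM.KTwo (CC QQ WU NU EU FF ne_add_one eq_add_one add_one_add_one le_normalizer_V le_V)
open Cfsg.Agent.Omega.NoFF.Basic (conj_conj mem_conj conj_le_iff conj_le_centralizer comm_symm comm_mono
  Z_le_V V_le conj_V_mul)
open Cfsg.Agent.ZN.ChoiceSit (Syl)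
open Cfsg.Agent.ZN.ChoiceBase (AA jj_eq)
open Phi
open DOne (FixE)
open scoped Pointwise

universe u

variable {G : Type u} [Group G]

theorem card_le_two_mul [Finite G] {A C : Subgroup G} {τ : G} (hτ : τ ∈ A) (hCA : C ≤ A)
    (hidx : ∀ a ∈ A, a ∈ C ∨ τ * a ∈ C) : Nat.card A ≤ 2 * Nat.card C := by
  have h1 : C.relIndex A ≤ 2 := by
    by_cases hτC : τ ∈ C
    · have : C = A := le_antisymm hCA fun a ha => by
        rcases hidx a ha with h | h
        · exact h
        · have := C.mul_mem (C.inv_mem hτC) h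
          rwa [inv_mul_cancel_left] at this
      rw [this, relIndex_self]
      omega
    · refine le_of_eq ?_
      rw [relIndex_eq_two_iff_exists_notMem_and]
      by_cases hh : ∀ b ∈ A, b * τ ∈ C ∨ b ∈ C
      · exact ⟨τ, hτ, hτC, hh⟩
      · -- use left cosets for `τ⁻¹`
        refine ⟨τ⁻¹, inv_mem hτ, fun h => hτC (by rw [← inv_inv τ]; exact inv_mem h), fun b hb => ?_⟩
        rcases hidx _ (inv_mem hb) with h | h
        · exact Or.inr (by rw [← inv_inv b]; exact inv_mem h)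
        · left
          have := inv_mem h
          rwa [mul_inv_rev, inv_inv] at this
  have h2 := relIndex_mul_relIndex (⊥ : Subgroup G) C A bot_le hCA
  rw [relIndex_bot_left, relIndex_bot_left] at h2
  rw [← h2, mul_comm]
  exact Nat.mul_le_mul_right _ h1

variable [Finite G] {T : Subgroup G} {V P : Fin 2 → Subgroup G} {v : Fin 2 → G} (D : Fr T V P v)

include D

/-- the two forms of the hypothesis -/
theorem hJ_iff (i : Fin 2) : (¬ jj T ≤ o2 (P i)) ↔ ∃ A ∈ AA T, ¬ A ≤ centralizer (V i : Set G) := by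
  rw [o2_P D i, jj_eq]
  constructor
  · intro h
    by_contra hcon
    push Not at hcon
    exact h (sSup_le fun A hA => le_inf hA.2.1 (hcon A hA))
  · rintro ⟨A, hA, h1⟩ h
    exact h1 ((le_sSup hA).trans (h.trans inf_le_right))

theorem V_le_cent (i j : Fin 2) : V i ≤ centralizer (V j : Set G) := by
  by_cases hij : i = j
  · subst hij
    intro x hx
    exact mem_centralizer_iff.2 fun y hy => D.V_comm hy hx
  · exact (D.U_le_Q i).trans (D.half hij).2

theorem eabV (i : Fin 2) : IsElementaryAbelian 2 (V i) :=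
  isElementaryAbelian_iff.2 ⟨fun _ ha _ hb => D.V_comm ha hb, fun a ha => D.sqV i a ha⟩

theorem V_inf {i j : Fin 2} (hij : i ≠ j) : V i ⊓ V j = ⊥ := by
  rw [eq_bot_iff]
  intro x hxx
  have hx : x ∈ V i := hxx.1
  have hx' : x ∈ V j := hxx.2
  by_contra hx1
  have hx1 : x ≠ 1 := hx1
  -- `v i` or `x` is in `V i ⊓ V j`
  have hvi : v i ∉ V j := v_notMem D hij.symm
  have hxv : x ≠ v i := fun h => hvi (h ▸ hx')
  obtain ⟨t, ht, htx⟩ := D.exists_swap hx hx1 hxv
  have h1 : t * x * t⁻¹ ∈ V j := (mem_normalizer_iff.1 (D.T_le_N j ht) x).1 hx'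
  rw [htx] at h1
  apply hvi
  have := mul_mem (inv_mem hx') h1
  rwa [inv_mul_cancel_left] at this

theorem card_V_sup {i j : Fin 2} (hij : i ≠ j) : Nat.card (V i ⊔ V j : Subgroup G) = 16 := by
  have h := card_sup_mul_card_inf (V_le_cent D j i)
  rw [V_inf D hij, Subgroup.card_bot, mul_one, D.four i, D.four j] at h
  exact h

theorem eab_sup {i j : Fin 2} : IsElementaryAbelian 2 (V i ⊔ V j : Subgroup G) :=
  isElementaryAbelian_sup (eabV D i) (eabV D j) (V_le_cent D j i)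

theorem mem_sup {i j : Fin 2} {x : G} (hx : x ∈ V i ⊔ V j) : ∃ a ∈ V i, ∃ b ∈ V j, x = a * b := by
  have h1 : (x : G) ∈ ((V i ⊔ V j : Subgroup G) : Set G) := hx
  rw [coe_sup_of_le_centralizer (V_le_cent D j i)] at h1
  obtain ⟨a, ha, b, hb, hx⟩ := h1
  exact ⟨a, ha, b, hb, hx.symm⟩

/-- an element of `T` moving `V i` fixes only `v i` in `V i` -/
theorem eq_of_fix {i : Fin 2} {t a : G} (ht : t ∈ T) (hto : t ∉ centralizer (V i : Set G)) (ha : a ∈ V i)
    (hta : t * a * t⁻¹ = a) : a = 1 ∨ a = v i := by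
  by_contra hcon
  push Not at hcon
  have hto' : t ∉ o2 (P i) := fun h => hto (by rw [o2_P D i] at h; exact h.2)
  have := moves D ht hto' ha hcon.1 hcon.2
  rw [hta] at this
  exact D.ne i (mul_eq_left.1 this.symm)

/-- some `A ∈ A(T)` moves `V i` and centralises `V j` -/
theorem exists_A (hJ : ∀ i, ¬ jj T ≤ o2 (P i)) {i j : Fin 2} (hij : i ≠ j) :
    ∃ A, IsMaxIn T A ∧ A ≤ centralizer (V j : Set G) ∧ ∃ τ ∈ A, τ ∉ o2 (P i) := by
  obtain ⟨A, hA, τ, hτ, hτo, hidx⟩ := exists_max D (hJ i)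
  by_cases hAj : A ≤ centralizer (V j : Set G)
  · exact ⟨A, hA, hAj, τ, hτ, hτo⟩
  obtain ⟨σ, hσ, hσo⟩ := SetLike.not_le_iff_exists.1 hAj
  have hAc := (isElementaryAbelian_iff.1 hA.2.1).1
  set C := A ⊓ centralizer (V j : Set G) with hC
  have hidxj : ∀ ρ ∈ A, ρ ∉ C → ∀ a ∈ A, a ∈ C ∨ ρ * a ∈ C := by
    intro ρ hρ hρo a ha
    by_cases hao : a ∈ centralizer (V j : Set G)
    · exact Or.inl ⟨ha, hao⟩
    · have h1 := mul_mem_o2 D (i := j) (hA.1 hρ) (fun h => hρo ⟨hρ, by rw [o2_P D j] at h; exact h.2⟩) (hA.1 ha)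
        (fun h => hao (by rw [o2_P D j] at h; exact h.2))
      rw [o2_P D j] at h1
      exact Or.inr ⟨mul_mem hρ ha, h1.2⟩
  have hσC : σ ∉ C := fun h => hσo h.2
  have hcard := card_le_two_mul hσ inf_le_left (hidxj σ hσ hσC)
  have hCe : IsElementaryAbelian 2 C := isElementaryAbelian_mono hA.2.1 inf_le_left
  by_cases hCi : C ≤ centralizer (V i : Set G)
  · exfalso
    have hτi : τ ∉ centralizer (V i : Set G) := fun h => hτo (by rw [o2_P D i]; exact ⟨hA.1 hτ, h⟩)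
    have hτj : τ ∉ centralizer (V j : Set G) := fun h => hτi (hCi ⟨hτ, h⟩)
    have hCX : C ≤ centralizer ((V i ⊔ V j : Subgroup G) : Set G) := by
      refine comm_symm (sup_le (comm_symm hCi) (comm_symm inf_le_right))
    have h1 := card_sup_mul_card_inf hCX
    have h2 : Nat.card ((V i ⊔ V j) ⊔ C : Subgroup G) ≤ Nat.card A :=
      hA.2.2 _ (sup_le (sup_le (D.V_le_T i) (D.V_le_T j)) (inf_le_left.trans hA.1))
        (isElementaryAbelian_sup (eab_sup D) hCe hCX)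
    have h3 : (V i ⊔ V j) ⊓ C ≤ zc T := by
      intro x hxx
      have hxC : x ∈ C := hxx.2
      obtain ⟨a, ha, b, hb, rfl⟩ := mem_sup D hxx.1
      have h4 : τ * (a * b) * τ⁻¹ = a * b := by
        rw [hAc τ hτ _ hxC.1, mul_inv_cancel_right]
      have h5 : τ * a * τ⁻¹ ∈ V i := (mem_normalizer_iff.1 (D.T_le_N i (hA.1 hτ)) a).1 ha
      have h6 : τ * b * τ⁻¹ ∈ V j := (mem_normalizer_iff.1 (D.T_le_N j (hA.1 hτ)) b).1 hb
      have h7 : a⁻¹ * (τ * a * τ⁻¹) = b * (τ * b * τ⁻¹)⁻¹ := by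
        have e : τ * (a * b) * τ⁻¹ = (τ * a * τ⁻¹) * (τ * b * τ⁻¹) := by group
        rw [e] at h4
        calc a⁻¹ * (τ * a * τ⁻¹) = a⁻¹ * ((τ * a * τ⁻¹) * (τ * b * τ⁻¹)) * (τ * b * τ⁻¹)⁻¹ := by group
          _ = b * (τ * b * τ⁻¹)⁻¹ := by rw [h4]; group
      have h8 : a⁻¹ * (τ * a * τ⁻¹) ∈ V i ⊓ V j :=
        mem_inf.2 ⟨mul_mem (inv_mem ha) h5, by rw [h7]; exact mul_mem hb (inv_mem h6)⟩
      rw [V_inf D hij, mem_bot] at h8
      have h9 : τ * a * τ⁻¹ = a := by rw [inv_mul_eq_one] at h8; exact h8.symm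
      have h10 : τ * b * τ⁻¹ = b := by
        rw [h8, eq_comm, mul_inv_eq_one] at h7
        exact h7.symm
      refine mul_mem ?_ ?_
      · rcases eq_of_fix D (hA.1 hτ) hτi ha h9 with h | h
        · rw [h]; exact one_mem _
        · rw [h]; exact D.v_mem_zc i
      · rcases eq_of_fix D (hA.1 hτ) hτj hb h10 with h | h
        · rw [h]; exact one_mem _
        · rw [h]; exact D.v_mem_zc j
    have h4 : Nat.card ((V i ⊔ V j) ⊓ C : Subgroup G) ≤ 4 := (Subgroup.card_le_of_le h3).trans (card_zc_le D)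
    rw [card_V_sup D hij] at h1
    have h5 : 0 < Nat.card C := Nat.card_pos
    have h6 : 16 * Nat.card C ≤ 8 * Nat.card C := by
      rw [← h1]
      calc _ ≤ (2 * Nat.card C) * 4 := Nat.mul_le_mul (h2.trans hcard) h4
        _ = 8 * Nat.card C := by ring
    omega
  · -- `V j C`
    obtain ⟨ρ, hρ, hρi⟩ := SetLike.not_le_iff_exists.1 hCi
    have hCX : C ≤ centralizer (V j : Set G) := inf_le_right
    have h1 := card_sup_mul_card_inf hCX
    have he : IsElementaryAbelian 2 (V j ⊔ C : Subgroup G) := isElementaryAbelian_sup (eabV D j) hCe hCX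
    have h3 : Nat.card (V j ⊓ C : Subgroup G) ≤ 2 := by
      have h4 : V j ⊓ C ≤ zpowers (v j) := by
        rintro x ⟨hx, hxC⟩
        have h5 : σ * x * σ⁻¹ = x := by rw [hAc σ hσ x hxC.1, mul_inv_cancel_right]
        rcases eq_of_fix D (hA.1 hσ) hσo hx h5 with h | h
        · rw [h]; exact one_mem _
        · rw [h]; exact mem_zpowers _
      refine (Subgroup.card_le_of_le h4).trans ?_
      rw [Nat.card_zpowers, orderOf_eq_prime (D.v_sq' j) (D.ne j)]
    have h5 : 2 * Nat.card C ≤ Nat.card (V j ⊔ C : Subgroup G) := by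
      rw [D.four j] at h1
      have h6 : Nat.card (V j ⊔ C : Subgroup G) * Nat.card (V j ⊓ C : Subgroup G) ≤
          Nat.card (V j ⊔ C : Subgroup G) * 2 := Nat.mul_le_mul_left _ h3
      omega
    refine ⟨V j ⊔ C, ⟨sup_le (D.V_le_T j) (inf_le_left.trans hA.1), he, fun B hB hBe => ?_⟩,
      sup_le (V_le_cent D j j) inf_le_right, ρ, mem_sup_right hρ, fun h => hρi (by rw [o2_P D i] at h; exact h.2)⟩
    exact (hA.2.2 B hB hBe).trans (hcard.trans h5)

/-! ### `Ω₁Z(O)`, `O = C_T(V 0 V 1)` -/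

omit D in
/-- `O = C_T(V 0 V 1)` -/
def OO (T : Subgroup G) (V : Fin 2 → Subgroup G) : Subgroup G :=
  T ⊓ (centralizer (V 0 : Set G) ⊓ centralizer (V 1 : Set G))

omit D [Finite G] in
theorem mem_OO {x : G} : x ∈ OO T V ↔ x ∈ T ∧ ∀ j, x ∈ centralizer (V j : Set G) := by
  constructor
  · rintro ⟨h1, h2, h3⟩
    refine ⟨h1, fun j => ?_⟩
    rcases Fin.exists_fin_two.1 ⟨j, rfl⟩ with h | h <;> rw [h]
    · exact h2
    · exact h3
  · rintro ⟨h1, h2⟩
    exact ⟨h1, h2 0, h2 1⟩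

omit D [Finite G] in
theorem mem_OO' {i j : Fin 2} (hij : i ≠ j) {x : G} :
    x ∈ OO T V ↔ x ∈ T ∧ x ∈ centralizer (V i : Set G) ∧ x ∈ centralizer (V j : Set G) := by
  rw [mem_OO]
  refine and_congr_right fun _ => ⟨fun h => ⟨h i, h j⟩, fun h k => ?_⟩
  by_cases hk : k = i
  · rw [hk]; exact h.1
  · have : k = j := by
      have h1 := eq_add_one hij
      have h2 := eq_add_one (i := i) (j := k) (fun h => hk h.symm)
      rw [h2, h1]
    rw [this]; exact h.2

theorem OO_le_o2 (i : Fin 2) : OO T V ≤ o2 (P i) := by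
  rw [o2_P D i]
  exact fun x hx => ⟨(mem_OO.1 hx).1, (mem_OO.1 hx).2 i⟩

theorem P_le_N_OO (i : Fin 2) : P i ≤ normalizer (OO T V : Set G) := by
  obtain ⟨j, hij⟩ : ∃ j : Fin 2, i ≠ j := ⟨i + 1, ne_add_one i⟩
  have key : ∀ g ∈ P i, ∀ x ∈ OO T V, g * x * g⁻¹ ∈ OO T V := by
    intro g hg x hx
    have h1 : g * x * g⁻¹ ∈ o2 (P i) := (mem_normalizer_iff.1 (le_normalizer_o2 _ hg) x).1 (OO_le_o2 D i hx)
    rw [o2_P D i] at h1
    refine (mem_OO' hij).2 ⟨h1.1, h1.2, mem_centralizer_iff.2 fun y hy => ?_⟩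
    have h2 : g⁻¹ * y * g ∈ V j := (mem_normalizer_iff''.1 (D.PN i j hg) y).1 hy
    have h3 := mem_centralizer_iff.1 ((mem_OO.1 hx).2 j) _ h2
    calc y * (g * x * g⁻¹) = g * ((g⁻¹ * y * g) * x) * g⁻¹ := by group
      _ = g * (x * (g⁻¹ * y * g)) * g⁻¹ := by rw [h3]
      _ = g * x * g⁻¹ * y := by group
  intro g hg
  rw [mem_normalizer_iff]
  intro x
  refine ⟨key g hg x, fun hx => ?_⟩
  have h1 := key g⁻¹ (inv_mem hg) _ hx
  have e : g⁻¹ * (g * x * g⁻¹) * g⁻¹⁻¹ = x := by group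
  rwa [e] at h1

theorem V_le_OO (i : Fin 2) : V i ≤ OO T V := fun _ hx => mem_OO.2 ⟨D.V_le_T i hx, fun j => V_le_cent D i j hx⟩

/-- `|Y : C_Y(A)| ≤ 2`, `Y = Ω₁Z(O)` -/
theorem card_zc_OO {i j : Fin 2} (hij : i ≠ j) {A : Subgroup G} (hA : IsMaxIn T A)
    (hAj : A ≤ centralizer (V j : Set G)) {τ : G} (hτ : τ ∈ A) (hτo : τ ∉ o2 (P i)) :
    Nat.card (zc (OO T V)) ≤ 2 * Nat.card (zc (OO T V) ⊓ centralizer (A : Set G) : Subgroup G) := by
  set Y := zc (OO T V) with hY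
  have hYO : Y ≤ OO T V := zc_le _
  set C := A ⊓ OO T V with hC
  have hidx : ∀ a ∈ A, a ∈ C ∨ τ * a ∈ C := by
    intro a ha
    by_cases hao : a ∈ o2 (P i)
    · rw [o2_P D i] at hao
      exact Or.inl ⟨ha, (mem_OO' hij).2 ⟨hA.1 ha, hao.2, hAj ha⟩⟩
    · have h1 := mul_mem_o2 D (hA.1 hτ) hτo (hA.1 ha) hao
      rw [o2_P D i] at h1
      exact Or.inr ⟨mul_mem hτ ha, (mem_OO' hij).2 ⟨h1.1, h1.2, mul_mem (hAj hτ) (hAj ha)⟩⟩
  have hcard := card_le_two_mul hτ inf_le_left hidx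
  have hCY : C ≤ centralizer (Y : Set G) := by
    intro a ha
    exact mem_centralizer_iff.2 fun y hy => ((mem_zc.1 hy).2.1 a ha.2).symm
  have h1 := card_sup_mul_card_inf hCY
  have h2 : Nat.card (Y ⊔ C : Subgroup G) ≤ Nat.card A :=
    hA.2.2 _ (sup_le (hYO.trans fun x hx => (mem_OO.1 hx).1) (inf_le_left.trans hA.1))
      (isElementaryAbelian_sup (isElementaryAbelian_zc _) (isElementaryAbelian_mono hA.2.1 inf_le_left) hCY)
  have h3 : Y ⊓ C ≤ Y ⊓ centralizer (A : Set G) := by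
    refine inf_le_inf_left _ (inf_le_left.trans ?_)
    intro a ha
    exact mem_centralizer_iff.2 fun b hb => (isElementaryAbelian_iff.1 hA.2.1).1 b hb a ha
  have h4 := Subgroup.card_le_of_le h3
  have h5 : 0 < Nat.card C := Nat.card_pos
  refine Nat.le_of_mul_le_mul_right ?_ h5
  rw [← h1]
  calc _ ≤ (2 * Nat.card C) * Nat.card (Y ⊓ centralizer (A : Set G) : Subgroup G) :=
        Nat.mul_le_mul (h2.trans hcard) h4
    _ = _ := by ring

/-- `Ω₁Z(O) = V 0 V 1` -/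
theorem zc_OO (hJ : ∀ i, ¬ jj T ≤ o2 (P i)) : zc (OO T V) ≤ V 0 ⊔ V 1 := by
  have h01 : (0 : Fin 2) ≠ 1 := by decide
  obtain ⟨A, hA, hAj, τ, hτ, hτo⟩ := exists_A D hJ h01
  obtain ⟨B, hB, hBj, σ, hσ, hσo⟩ := exists_A D hJ h01.symm
  set Y := zc (OO T V) with hY
  have hYO : Y ≤ OO T V := zc_le _
  have hOT : OO T V ≤ T := fun x hx => (mem_OO.1 hx).1
  have h1 := card_zc_OO D h01 hA hAj hτ hτo
  have h2 := card_zc_OO D h01.symm hB hBj hσ hσo
  -- `|C_Y(A)| ≤ 2 |C_Y(A) ∩ C_Y(B)|`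
  set YA := Y ⊓ centralizer (A : Set G) with hYA
  set YB := Y ⊓ centralizer (B : Set G) with hYB
  have hcomm : YB ≤ centralizer (YA : Set G) := by
    rintro x ⟨hx, -⟩
    refine mem_centralizer_iff.2 fun y hy => ?_
    exact (isElementaryAbelian_iff.1 (isElementaryAbelian_zc (OO T V))).1 y hy.1 x hx
  have h3 := card_sup_mul_card_inf hcomm
  have h4 : Nat.card (YA ⊔ YB : Subgroup G) ≤ Nat.card Y := Subgroup.card_le_of_le (sup_le inf_le_left inf_le_left)
  have h5 : YA ⊓ YB ≤ zc T := by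
    rintro y ⟨⟨hy, hyA⟩, ⟨-, hyB⟩⟩
    have hy' := mem_zc.1 hy
    have cτ : τ * y = y * τ := mem_centralizer_iff.1 hyA τ hτ
    have cσ : σ * y = y * σ := mem_centralizer_iff.1 hyB σ hσ
    refine mem_zc.2 ⟨hOT (hYO hy), fun t ht => ?_, hy'.2.2⟩
    -- modify `t` by `τ` and `σ`
    have key : ∀ s : G, s * y = y * s → s * t * y = y * (s * t) → t * y = y * t := by
      intro s hs hst
      have h6 : s⁻¹ * y = y * s⁻¹ := by
        calc s⁻¹ * y = s⁻¹ * (y * s) * s⁻¹ := by group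
          _ = s⁻¹ * (s * y) * s⁻¹ := by rw [hs]
          _ = y * s⁻¹ := by group
      calc t * y = s⁻¹ * (s * t * y) := by group
        _ = (s⁻¹ * y) * (s * t) := by rw [hst]; group
        _ = y * t := by rw [h6]; group
    have hτc : τ ∈ centralizer (V 1 : Set G) := hAj hτ
    have hσc : σ ∈ centralizer (V 0 : Set G) := hBj hσ
    have hmem : ∀ s ∈ T, s ∈ o2 (P 0) → s ∈ o2 (P 1) → s * y = y * s := by
      intro s hs h0 h1
      rw [o2_P D] at h0 h1
      exact hy'.2.1 s ((mem_OO' h01).2 ⟨hs, h0.2, h1.2⟩)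
    have hσ0 : σ ∈ o2 (P 0) := by rw [o2_P D]; exact ⟨hB.1 hσ, hσc⟩
    have hτ1 : τ ∈ o2 (P 1) := by rw [o2_P D]; exact ⟨hA.1 hτ, hτc⟩
    have h1' : ∀ s ∈ T, s ∈ o2 (P 0) → s * y = y * s := by
      intro s hs h0
      by_cases hs1 : s ∈ o2 (P 1)
      · exact hmem s hs h0 hs1
      · have h7 := hmem (σ * s) (mul_mem (hB.1 hσ) hs) (mul_mem hσ0 h0) (mul_mem_o2 D (hB.1 hσ) hσo hs hs1)
        have h6 : σ⁻¹ * y = y * σ⁻¹ := by
          calc σ⁻¹ * y = σ⁻¹ * (y * σ) * σ⁻¹ := by group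
            _ = σ⁻¹ * (σ * y) * σ⁻¹ := by rw [cσ]
            _ = y * σ⁻¹ := by group
        calc s * y = σ⁻¹ * (σ * s * y) := by group
          _ = (σ⁻¹ * y) * (σ * s) := by rw [h7]; group
          _ = y * s := by rw [h6]; group
    by_cases ht0 : t ∈ o2 (P 0)
    · exact h1' t ht ht0
    · exact key τ cτ (h1' (τ * t) (mul_mem (hA.1 hτ) ht) (mul_mem_o2 D (hA.1 hτ) hτo ht ht0))
  have h6 : Nat.card (YA ⊓ YB : Subgroup G) ≤ 4 := (Subgroup.card_le_of_le h5).trans (card_zc_le D)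
  have h7 : 0 < Nat.card YB := Nat.card_pos
  have hpY : 0 < Nat.card Y := Nat.card_pos
  have h8 : Nat.card Y ≤ 16 := by
    -- `|YA||YB| ≤ 4 |Y|`, `|Y| ≤ 2 |YA|`, `|Y| ≤ 2 |YB|`
    have h9 : Nat.card YA * Nat.card YB ≤ Nat.card Y * 4 := by
      rw [← h3]; exact Nat.mul_le_mul h4 h6
    have h10 : Nat.card Y * Nat.card Y ≤ 16 * Nat.card Y := by
      calc Nat.card Y * Nat.card Y ≤ (2 * Nat.card YA) * (2 * Nat.card YB) := Nat.mul_le_mul h1 h2
        _ = 4 * (Nat.card YA * Nat.card YB) := by ring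
        _ ≤ 4 * (Nat.card Y * 4) := Nat.mul_le_mul_left _ h9
        _ = 16 * Nat.card Y := by ring
    exact Nat.le_of_mul_le_mul_right h10 hpY
  have hVY : V 0 ⊔ V 1 ≤ Y := by
    have h9 : ∀ i, V i ≤ Y := by
      intro i x hx
      refine mem_zc.2 ⟨V_le_OO D i hx, fun o ho => ?_, D.sqV i x hx⟩
      exact (mem_centralizer_iff.1 ((mem_OO.1 ho).2 i) x hx).symm
    exact sup_le (h9 0) (h9 1)
  exact (Subgroup.eq_of_le_of_card_ge hVY (by rw [card_V_sup D h01]; exact h8)).ge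

/-- **LEMMA FIX** for `O = C_T(V 0 V 1)` -/
theorem fixL (hJ : ∀ i, ¬ jj T ≤ o2 (P i)) : FixL T V v := by
  intro i n hn hn2 hnV hnb
  obtain ⟨j, hij⟩ : ∃ j : Fin 2, i ≠ j := ⟨i + 1, ne_add_one i⟩
  obtain ⟨A, hA, hAj, τ, hτ, hτo⟩ := exists_A D hJ hij
  obtain ⟨p, hp, hp1, hpv⟩ := D.exists_ne_v i
  obtain ⟨g, hg, -, hgp⟩ := D.tr hij hp hp1
  have hnO : n ∈ OO T V := mem_OO.2 ⟨hn, hnV⟩
  have hcomm := cor_phi (O := OO T V) (v := v i) (p := p) (g := g) hA hτ (fun x hx => (mem_OO.1 hx).1)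
    (fun a ha => by
      by_cases hao : a ∈ o2 (P i)
      · rw [o2_P D i] at hao
        exact Or.inl ((mem_OO' hij).2 ⟨hA.1 ha, hao.2, hAj ha⟩)
      · have h1 := mul_mem_o2 D (hA.1 hτ) hτo (hA.1 ha) hao
        rw [o2_P D i] at h1
        exact Or.inr ((mem_OO' hij).2 ⟨h1.1, h1.2, mul_mem (hAj hτ) (hAj ha)⟩))
    (P_le_N_OO D i (D.T_le_P i (hA.1 hτ))) (P_le_N_OO D i hg) hgp.symm (V_le_OO D i hp)
    (fun o ho => (mem_centralizer_iff.1 ((mem_OO.1 ho).2 i) p hp).symm) (by rw [← pow_two]; exact D.sqV i p hp) hp1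
    (by
      rw [moves D (hA.1 hτ) hτo hp hp1 hpv]
      intro h
      exact D.ne i (mul_eq_left.1 h)) hnO (by rw [← pow_two]; exact hn2) (fun o ho => by
      obtain ⟨m, hm⟩ := mem_zpowers_iff.1 (hnb o (mem_OO.1 ho).1 (mem_OO.1 ho).2)
      rw [← hm]
      rcases Int.even_or_odd' m with ⟨k, rfl | rfl⟩
      · left; rw [zpow_mul, zpow_two, D.v_sq, one_zpow]
      · right; rw [zpow_add, zpow_mul, zpow_two, D.v_sq, one_zpow, one_mul, zpow_one])
  exact zc_OO D hJ (mem_zc.2 ⟨hnO, fun o ho => (hcomm o ho).symm, hn2⟩)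

/-- **LEMMA FIX** for `E_i` -/
theorem fixE {i : Fin 2} (hJ : ¬ jj T ≤ o2 (P i)) (hV : ¬ V i ≤ NU V v i) : FixE T v i := by
  obtain ⟨j, hij⟩ : ∃ j : Fin 2, i ≠ j := ⟨i + 1, ne_add_one i⟩
  intro e he hfix
  have hEN := D.E_le i he
  have hEo : EU T v i ≤ o2 (P i) := by
    refine (D.E_le i).trans (sup_le (N_le_o2 D i) ?_)
    rw [zpowers_le, o2_P D i]
    exact ⟨D.v_mem_T i, mem_centralizer_iff.2 fun b hb => D.comm_v i (D.V_le_T i hb)⟩
  have hoT : o2 (P i) ≤ T := by rw [o2_P D i]; exact inf_le_left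
  obtain ⟨a, ha, h⟩ := phi_mem D hij hJ (hEo he) (by rw [← pow_two]; exact D.E_sq i e he) fun o ho => by
    have h1 := inv_mem (hfix o (hoT ho))
    have e1 : (o * e * o⁻¹ * e⁻¹)⁻¹ = e * o * e⁻¹ * o⁻¹ := by group
    rwa [e1] at h1
  have haE : a ∈ EU T v i := by
    rcases h with h | h
    · rw [← h]; exact he
    · have e1 : a = e * (v j)⁻¹ := by rw [h]; group
      rw [e1]
      exact mul_mem he (inv_mem (le_V _ _ (D.v_mem_zc j)))
  have haz : a ∈ zc T := by
    by_cases ha1 : a = 1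
    · rw [ha1]; exact one_mem _
    by_cases hav : a = v i
    · rw [hav]; exact D.v_mem_zc i
    exfalso
    apply hV
    obtain ⟨t, ht, hta⟩ := D.exists_swap ha ha1 hav
    -- `a` or `a v i` is in `N_i`, so both
    obtain ⟨n, hn, y, hy, hny⟩ : ∃ n ∈ NU V v i, ∃ y ∈ zpowers (v i), n * y = a := by
      have h1 : a ∈ NU V v i ⊔ zpowers (v i) := D.E_le i haE
      have h2 : zpowers (v i) ≤ normalizer (NU V v i : Set G) := by
        rw [zpowers_le]
        exact D.C_le_N_N i (D.T_le_C i (D.v_mem_T i))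
      have h3 : a ∈ ((zpowers (v i) ⊔ NU V v i : Subgroup G) : Set G) := by
        rw [sup_comm] at h1
        exact h1
      rw [coe_mul_of_left_le_normalizer_right _ _ h2] at h3
      obtain ⟨y, hy, n, hn, hyn⟩ := h3
      have hyn : y * n = a := hyn
      refine ⟨n, hn, y, hy, ?_⟩
      rw [← hyn]
      obtain ⟨k, rfl⟩ := mem_zpowers_iff.1 hy
      have h4 : n * v i = v i * n := mem_centralizer_singleton_iff.1 (D.N_le_C i i hn)
      exact (Commute.zpow_right (show Commute n (v i) from h4) k)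
    have hyt : t * y * t⁻¹ = y := by
      obtain ⟨k, rfl⟩ := mem_zpowers_iff.1 hy
      have h4 : Commute t (v i) := D.comm_v i ht
      rw [(h4.zpow_right k).eq, mul_inv_cancel_right]
    have htn : t * n * t⁻¹ = n * v i := by
      have e1 : t * (n * y) * t⁻¹ = t * n * t⁻¹ * (t * y * t⁻¹) := by group
      have e2 : y * v i = v i * y := by
        obtain ⟨k, rfl⟩ := mem_zpowers_iff.1 hy
        exact ((Commute.refl (v i)).zpow_left k).eq
      rw [← hny, e1, hyt, mul_assoc n, e2, ← mul_assoc] at hta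
      exact mul_right_cancel hta
    have hvN : v i ∈ NU V v i := by
      have h1 : t * n * t⁻¹ ∈ NU V v i := (mem_normalizer_iff.1 (D.C_le_N_N i (D.T_le_C i ht)) n).1 hn
      rw [htn] at h1
      have := mul_mem (inv_mem hn) h1
      rwa [inv_mul_cancel_left] at this
    have haN : a ∈ NU V v i := by
      rw [← hny]
      exact mul_mem hn ((zpowers_le.2 hvN) hy)
    rcases D.le_or hvN with h3 | h3
    · exact h3
    · rcases h3 a ⟨ha, haN⟩ with h4 | h4
      · exact absurd h4 ha1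
      · exact absurd h4 hav
  rcases h with h | h
  · rw [h]; exact haz
  · rw [h]; exact mul_mem haz (D.v_mem_zc j)

/-! ### The case `d = 1` -/

theorem comm_le_inf {x e : G} (hx : x ∈ NU V v 1) (he : e ∈ NU V v 0) :
    x * e * x⁻¹ * e⁻¹ ∈ NU V v 0 ⊓ NU V v 1 := by
  have h1 : x * e * x⁻¹ ∈ NU V v 0 := (mem_normalizer_iff.1 (D.C_le_N_N 0 (D.N_le_C 1 0 hx)) e).1 he
  have h2 : e * x⁻¹ * e⁻¹ ∈ NU V v 1 := (mem_normalizer_iff.1 (D.C_le_N_N 1 (D.N_le_C 0 1 he)) _).1 (inv_mem hx)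
  refine mem_inf.2 ⟨mul_mem h1 (inv_mem he), ?_⟩
  have e1 : x * e * x⁻¹ * e⁻¹ = x * (e * x⁻¹ * e⁻¹) := by group
  rw [e1]
  exact mul_mem hx h2

/-- **`V i ≰ N_i`, `N_0 ∩ N_1 ≤ Ω₁Z(T)` imply `[N_0, N_1] = 1`** -/
theorem comm_of_inter (hJ : ∀ i, ¬ jj T ≤ o2 (P i)) (hV : ∀ i, ¬ V i ≤ NU V v i)
    (hI : NU V v 0 ⊓ NU V v 1 ≤ zc T) : NU V v 0 ≤ centralizer (NU V v 1 : Set G) := by
  by_contra hne
  exact OneEnd.false_of D (fun x hx e he => hI (comm_le_inf D hx he)) hne (fun i => fixE D (hJ i) (hV i))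

/-- **`V i ≰ N_i`, `[N_0, N_1] = 1`: some `[W_{i+1}, N_i] = 1`** -/
theorem false_of_comm (hJ : ∀ i, ¬ jj T ≤ o2 (P i)) (hV : ∀ i, ¬ V i ≤ NU V v i)
    (hN : NU V v 0 ≤ centralizer (NU V v 1 : Set G)) :
    ∃ i, WU V v (i + 1) ≤ centralizer (NU V v i : Set G) := by
  by_contra hcon
  push Not at hcon
  refine DOne.false_of D (fun i => ?_) hcon (fun i => fixE D (hJ i) (hV i))
  rcases Fin.exists_fin_two.1 ⟨i, rfl⟩ with h | h
  · rw [h]; exact hN
  · rw [h]; exact comm_symm hN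

end Cfsg.Agent.Omega.TC.FixEL

end

section


/-!
# LEMMA FIX inside `X` and `hU`, at every level (CARD #18791 "TWO CENTRES", helper691)

`X ≥ V 0, V 1` elementary abelian, normalised by `P 0`, `P 1`, with best offenders on `X` in `T` which centralise `V j`
and move `V i` (`Dat`; `X = Ω₁(Z(lev S n))` at stage `n`).

* `fixX` : **LEMMA FIX in `X`**: `n ∈ X`, `[n, C_T(V 0 V 1)] ≤ ⟨v i⟩` implies `n ∈ V 0 V 1`;
* `inf_cent_le_o2` : `C_T(V j) ≤ O₂(R)` for a `T`-minimal `R ≤ C(v i)` which moves `v j`.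
-/

set_option autoImplicit false
set_option linter.unusedSectionVars false

namespace Cfsg.Agent.Omega.TC.FixX

open Subgroup Cfsg Cfsg.Agent.ZN Cfsg.Agent.PLocal.ThompsonJ Cfsg.Agent.PLocal.ElemAbSup
open Cfsg.Agent.Omega.MinPar
open Cfsg.Agent.Omega.OM.KTwo (CC QQ WU NU EU FF ne_add_one eq_add_one add_one_add_one le_normalizer_V le_V)
open Cfsg.Agent.Omega.NoFF.Basic (conj_conj mem_conj conj_le_iff conj_le_centralizer comm_symm comm_mono
  Z_le_V V_le conj_V_mul)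
open Cfsg.Agent.MinSimple.MinParabolic (IsMinPar)
open Cfsg.Agent.MinSimple.VModule (le_normalizer_o2 le_o2 o2_le o2_isPGroup)
open Cfsg.Agent.ZN.ChoiceSit (Syl o2_le_syl syl_not_dvd)
open Cfsg.Agent.Omega.NO1.BestOff (Best)
open Phi FixEL
open scoped Pointwise

universe u

variable {G : Type u} [Group G]

/-- The data. -/
structure Dat (T X : Subgroup G) (V P : Fin 2 → Subgroup G) : Prop where
  comm : ∀ x ∈ X, ∀ y ∈ X, x * y = y * x
  sq : ∀ x ∈ X, x ^ 2 = 1
  le : ∀ i, V i ≤ X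
  leT : X ≤ T
  norm : ∀ i, P i ≤ normalizer (X : Set G)
  off : ∀ i j : Fin 2, i ≠ j → ∃ A : Subgroup G, A ≤ T ∧ Best X A ∧ A ≤ centralizer (V j : Set G) ∧
    ¬ A ≤ centralizer (V i : Set G)

theorem two_mul_card_le [Finite G] {K H : Subgroup G} {z : G} (hKH : K ≤ H) (hz : z ∈ H) (hzK : z ∉ K) :
    2 * Nat.card K ≤ Nat.card H := by
  obtain ⟨m, hm⟩ := card_dvd_of_le hKH
  have hm2 : 2 ≤ m := by
    by_contra hcon
    push Not at hcon
    have hpos : 0 < Nat.card H := Nat.card_pos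
    have hm1 : m = 1 := by
      rcases Nat.eq_zero_or_pos m with h0 | h0
      · rw [h0, mul_zero] at hm; omega
      · omega
    rw [hm1, mul_one] at hm
    exact hzK ((Subgroup.eq_of_le_of_card_ge hKH hm.le) ▸ hz)
  rw [hm, mul_comm 2]
  exact Nat.mul_le_mul_left _ hm2

variable [Finite G] {T X : Subgroup G} {V P : Fin 2 → Subgroup G} {v : Fin 2 → G} (D : Fr T V P v)
  (d : Dat T X V P)

include D d

theorem T_norm (i : Fin 2) : T ≤ normalizer (X : Set G) := (D.T_le_P i).trans (d.norm i)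

/-- `C_X(C_A(V i)) = V i C_X(A)` for a best offender `A` which moves `V i` -/
theorem k1 {i : Fin 2} {A : Subgroup G} (hAT : A ≤ T) (hA : Best X A) (hAi : ¬ A ≤ centralizer (V i : Set G)) {x : G}
    (hx : x ∈ X) (hxe : ∀ e ∈ A ⊓ centralizer (V i : Set G), e * x = x * e) :
    ∃ w ∈ V i, w * x ∈ centralizer (A : Set G) := by
  obtain ⟨τ, hτ, hτi⟩ := SetLike.not_le_iff_exists.1 hAi
  have hτo : τ ∉ o2 (P i) := fun h => hτi (by rw [o2_P D i] at h; exact h.2)
  set E := A ⊓ centralizer (V i : Set G) with hE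
  have hidx : ∀ a ∈ A, a ∈ E ∨ τ * a ∈ E := by
    intro a ha
    by_cases hao : a ∈ o2 (P i)
    · rw [o2_P D i] at hao
      exact Or.inl ⟨ha, hao.2⟩
    · have h1 := mul_mem_o2 D (hAT hτ) hτo (hAT ha) hao
      rw [o2_P D i] at h1
      exact Or.inr ⟨mul_mem hτ ha, h1.2⟩
  have hcard : Nat.card A ≤ 2 * Nat.card E := card_le_two_mul hτ inf_le_left hidx
  have hmax := hA.max E inf_le_left (le_inf inf_le_left (inf_le_right.trans (centralizer_le (d.le i))))
  set Y0 := X ⊓ centralizer (A : Set G) with hY0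
  set Y1 := X ⊓ centralizer (E : Set G) with hY1
  obtain ⟨p, hp, hp1, hpv⟩ := D.exists_ne_v i
  have hmv := moves D (hAT hτ) hτo hp hp1 hpv
  have hp0 : p ∉ Y0 := by
    rintro ⟨-, hpA⟩
    have h1 : τ * p = p * τ := mem_centralizer_iff.1 hpA τ hτ
    rw [h1, mul_inv_cancel_right] at hmv
    exact D.ne i (by simpa using hmv.symm)
  have hY01 : Y0 ≤ Y1 := inf_le_inf_left _ (centralizer_le inf_le_left)
  have hpY1 : p ∈ Y1 := ⟨d.le i hp, mem_centralizer_iff.2 fun e he => (mem_centralizer_iff.1 he.2 p hp).symm⟩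
  have hxY1 : x ∈ Y1 := ⟨hx, mem_centralizer_iff.2 fun e he => hxe e he⟩
  have hle : Nat.card Y1 ≤ 2 * Nat.card Y0 := by
    have hpos : 0 < Nat.card E := Nat.card_pos
    refine Nat.le_of_mul_le_mul_left (hmax.trans ?_) hpos
    calc Nat.card A * Nat.card Y0 ≤ (2 * Nat.card E) * Nat.card Y0 := Nat.mul_le_mul_right _ hcard
      _ = Nat.card E * (2 * Nat.card Y0) := by ring
  have hsup : Y0 ⊔ zpowers p ≤ Y1 := sup_le hY01 (zpowers_le.2 hpY1)
  have heq : Y0 ⊔ zpowers p = Y1 := by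
    refine Subgroup.eq_of_le_of_card_ge hsup (hle.trans ?_)
    exact two_mul_card_le le_sup_left (mem_sup_right (mem_zpowers p)) hp0
  have hpn : zpowers p ≤ centralizer (Y0 : Set G) := by
    rw [zpowers_le]
    exact mem_centralizer_iff.2 fun y hy => d.comm y hy.1 p (d.le i hp)
  rw [← heq] at hxY1
  have hx' : x ∈ ((Y0 ⊔ zpowers p : Subgroup G) : Set G) := hxY1
  rw [coe_sup_of_le_centralizer hpn] at hx'
  obtain ⟨y, hy, z, hz, hyz⟩ := hx'
  have hyz : y * z = x := hyz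
  have hzV : z ∈ V i := (zpowers_le.2 hp) hz
  refine ⟨z⁻¹, inv_mem hzV, ?_⟩
  have e : z⁻¹ * x = y := by
    rw [← hyz, d.comm y hy.1 z (d.le i hzV)]
    group
  rw [e]
  exact hy.2

/-- `[n, O] ≤ ⟨v i⟩` implies `[n, O] = 1`, `O = C_T(V 0 V 1)`. -/
theorem k2 {i j : Fin 2} (hij : i ≠ j) {n : G} (hn : n ∈ X)
    (hno : ∀ o ∈ OO T V, o * n * o⁻¹ * n⁻¹ = 1 ∨ o * n * o⁻¹ * n⁻¹ = v i) : ∀ o ∈ OO T V, o * n = n * o := by
  obtain ⟨A, hAT, hA, hAj, hAi⟩ := d.off i j hij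
  obtain ⟨τ, hτ, hτi⟩ := SetLike.not_le_iff_exists.1 hAi
  have hτo : τ ∉ o2 (P i) := fun h => hτi (by rw [o2_P D i] at h; exact h.2)
  obtain ⟨p, hp, hp1, hpv⟩ := D.exists_ne_v i
  obtain ⟨g, hg, -, hgp⟩ := D.tr hij hp hp1
  have hmv := moves D (hAT hτ) hτo hp hp1 hpv
  have hp2 : p * p = 1 := by rw [← pow_two]; exact D.sqV i p hp
  have hvp : v i * p = p * v i := D.V_comm (D.mem i) hp
  have hpvX : p ∈ X := d.le i hp
  have hvX : v i ∈ X := d.le i (D.mem i)
  have hOp : ∀ o ∈ OO T V, o * p = p * o := fun o ho => (mem_centralizer_iff.1 ((mem_OO.1 ho).2 i) p hp).symm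
  have hOv : ∀ o ∈ OO T V, o * v i = v i * o := fun o ho =>
    (mem_centralizer_iff.1 ((mem_OO.1 ho).2 i) (v i) (D.mem i)).symm
  have hgX : g ∈ normalizer (X : Set G) := d.norm i hg
  have hτX : τ ∈ normalizer (X : Set G) := T_norm D d i (hAT hτ)
  set y := g * n * g⁻¹ with hy
  have hyX : y ∈ X := (mem_normalizer_iff.1 hgX n).1 hn
  set y' := τ * y * τ⁻¹ with hy'
  have hy'X : y' ∈ X := (mem_normalizer_iff.1 hτX y).1 hyX
  -- `[o, y] ∈ ⟨p⟩`
  have hoy : ∀ o ∈ OO T V, o * y * o⁻¹ = y ∨ o * y * o⁻¹ = p * y := by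
    intro o ho
    have ho' : g⁻¹ * o * g ∈ OO T V := by
      have := (mem_normalizer_iff.1 (inv_mem (P_le_N_OO D i hg)) o).1 ho
      rwa [inv_inv] at this
    have e : o * y * o⁻¹ * y⁻¹ = g * ((g⁻¹ * o * g) * n * (g⁻¹ * o * g)⁻¹ * n⁻¹) * g⁻¹ := by rw [hy]; group
    rcases hno _ ho' with h | h
    · left
      rw [h, mul_one, mul_inv_cancel] at e
      exact mul_inv_eq_one.1 e
    · right
      rw [h, hgp] at e
      exact mul_inv_eq_iff_eq_mul.1 e
  set E0 := A ⊓ centralizer (V i : Set G) with hE0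
  have hE0O : E0 ≤ OO T V := fun e he => (mem_OO' hij).2 ⟨hAT he.1, he.2, hAj he.1⟩
  -- modulo `C(X)`, `A` is abelian
  have hcX : ∀ u ∈ centralizer (X : Set G), ∀ x ∈ X, u * x * u⁻¹ = x := fun u hu x hx => by
    rw [← mem_centralizer_iff.1 hu x hx, mul_inv_cancel_right]
  have htau : ∀ e ∈ A, ∀ z ∈ X, e * (τ * z * τ⁻¹) * e⁻¹ = τ * (e * z * e⁻¹) * τ⁻¹ := by
    intro e he z hz
    have h1 := hA.comm e he τ hτ
    have heX : e ∈ normalizer (X : Set G) := T_norm D d i (hAT he)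
    have h2 : τ * (e * z * e⁻¹) * τ⁻¹ ∈ X :=
      (mem_normalizer_iff.1 hτX _).1 ((mem_normalizer_iff.1 heX z).1 hz)
    have h3 := hcX _ h1 _ h2
    rw [← h3]
    group
  have hcomE : ∀ e ∈ E0, e * y = y * e := by
    by_contra hcon
    push Not at hcon
    obtain ⟨e0, he0, he0y⟩ := hcon
    have h0 : e0 * y * e0⁻¹ = p * y := by
      rcases hoy e0 (hE0O he0) with h | h
      · exact absurd (mul_inv_eq_iff_eq_mul.1 h) he0y
      · exact h
    set E := E0 ⊓ centralizer ({y} : Set G) with hE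
    have hEE0 : E ≤ E0 := inf_le_left
    have hEA : E ≤ A := inf_le_left.trans inf_le_left
    have hidx : ∀ e ∈ E0, e ∈ E ∨ e0 * e ∈ E := by
      intro e he
      rcases hoy e (hE0O he) with h | h
      · exact Or.inl ⟨he, mem_centralizer_singleton_iff.2 (mul_inv_eq_iff_eq_mul.1 h)⟩
      · refine Or.inr ⟨mul_mem he0 he, mem_centralizer_singleton_iff.2 (mul_inv_eq_iff_eq_mul.1 ?_)⟩
        have e1 : e0 * e * y * (e0 * e)⁻¹ = e0 * (e * y * e⁻¹) * e0⁻¹ := by group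
        have e2 : e0 * (p * y) * e0⁻¹ = (e0 * p * e0⁻¹) * (e0 * y * e0⁻¹) := by group
        rw [e1, h, e2, h0, hOp e0 (hE0O he0), mul_inv_cancel_right, ← mul_assoc, hp2, one_mul]
    have hc1 : Nat.card E0 ≤ 2 * Nat.card E := card_le_two_mul he0 hEE0 hidx
    have hidx2 : ∀ a ∈ A, a ∈ E0 ∨ τ * a ∈ E0 := by
      intro a ha
      by_cases hao : a ∈ o2 (P i)
      · rw [o2_P D i] at hao
        exact Or.inl ⟨ha, hao.2⟩
      · have h1 := mul_mem_o2 D (hAT hτ) hτo (hAT ha) hao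
        rw [o2_P D i] at h1
        exact Or.inr ⟨mul_mem hτ ha, h1.2⟩
    have hc2 : Nat.card A ≤ 2 * Nat.card E0 := card_le_two_mul hτ inf_le_left hidx2
    have hXE : A ⊓ centralizer (X : Set G) ≤ E := by
      refine le_inf (le_inf inf_le_left (inf_le_right.trans (centralizer_le (d.le i)))) ?_
      exact inf_le_right.trans (centralizer_le (Set.singleton_subset_iff.2 hyX))
    have hmax := hA.max E hEA hXE
    set Y1 := X ⊓ centralizer (E0 : Set G) with hY1
    have hYA : 2 * Nat.card ↥(X ⊓ centralizer (A : Set G)) ≤ Nat.card Y1 := by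
      refine two_mul_card_le (z := p) (inf_le_inf_left _ (centralizer_le inf_le_left)) ?_ ?_
      · exact ⟨hpvX, mem_centralizer_iff.2 fun e he => (mem_centralizer_iff.1 he.2 p hp).symm⟩
      · rintro ⟨-, hpA⟩
        have h1 : τ * p = p * τ := mem_centralizer_iff.1 hpA τ hτ
        rw [h1, mul_inv_cancel_right] at hmv
        exact D.ne i (by simpa using hmv.symm)
    -- `e0` on `y'`
    have h0' : e0 * y' * e0⁻¹ = p * v i * y' := by
      rw [hy', htau e0 he0.1 y hyX, h0]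
      have e2 : τ * (p * y) * τ⁻¹ = (τ * p * τ⁻¹) * (τ * y * τ⁻¹) := by group
      rw [e2, hmv]
    have hy1 : y ∉ Y1 := fun h => he0y (mem_centralizer_iff.1 h.2 e0 he0)
    have hy2 : y' ∉ Y1 ⊔ zpowers y := by
      intro h
      have hyc : zpowers y ≤ centralizer (Y1 : Set G) := by
        rw [zpowers_le]
        exact mem_centralizer_iff.2 fun z hz => d.comm z hz.1 y hyX
      have h' : y' ∈ ((Y1 ⊔ zpowers y : Subgroup G) : Set G) := h
      rw [coe_sup_of_le_centralizer hyc] at h'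
      obtain ⟨z, hz, c, hc, hzc⟩ := h'
      have hzc : z * c = y' := hzc
      obtain ⟨m, rfl⟩ := mem_zpowers_iff.1 hc
      have hz0 : e0 * z * e0⁻¹ = z := by
        rw [mem_centralizer_iff.1 hz.2 e0 he0, mul_inv_cancel_right]
      have hy2' : y ^ 2 = 1 := d.sq y hyX
      have hz0' : e0 * (z * y ^ m) * e0⁻¹ = z * (e0 * y * e0⁻¹) ^ m := by
        have e1 : e0 * (z * y ^ m) * e0⁻¹ = (e0 * z * e0⁻¹) * (e0 * y ^ m * e0⁻¹) := by group
        have e3 : (e0 * y * e0⁻¹) ^ m = e0 * y ^ m * e0⁻¹ := conj_zpow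
        rw [e1, hz0, e3]
      rw [hzc, h0', h0, ← hzc] at hz0'
      -- `p v_i z y^m = z (p y)^m`
      have hpyc : Commute p y := d.comm p hpvX y hyX
      rw [hpyc.mul_zpow] at hz0'
      have hzp : z * (p ^ m * y ^ m) = p ^ m * (z * y ^ m) := by
        have : z * p ^ m = p ^ m * z := d.comm z hz.1 _ (zpow_mem hpvX m)
        rw [← mul_assoc, this, mul_assoc]
      rw [hzp] at hz0'
      have h5 : p * v i = p ^ m := mul_right_cancel hz0'
      rcases Int.even_or_odd' m with ⟨k, rfl | rfl⟩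
      · rw [zpow_mul, zpow_two, hp2, one_zpow] at h5
        apply hpv
        calc p = p * v i * (v i)⁻¹ := by group
          _ = v i := by rw [h5, one_mul, inv_eq_iff_mul_eq_one.2 (D.v_sq i)]
      · rw [zpow_add, zpow_mul, zpow_two, hp2, one_zpow, one_mul, zpow_one] at h5
        exact D.ne i (by simpa using h5)
    have hcard1 := two_mul_card_le (K := Y1) (H := Y1 ⊔ zpowers y) le_sup_left (mem_sup_right (mem_zpowers y)) hy1
    have hcard2 := two_mul_card_le (K := Y1 ⊔ zpowers y) (H := (Y1 ⊔ zpowers y) ⊔ zpowers y') le_sup_left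
      (mem_sup_right (mem_zpowers y')) hy2
    have hcard3 : Nat.card ↥((Y1 ⊔ zpowers y) ⊔ zpowers y') ≤ Nat.card ↥(X ⊓ centralizer (E : Set G)) := by
      refine Subgroup.card_le_of_le (sup_le (sup_le ?_ ?_) ?_)
      · exact inf_le_inf_left _ (centralizer_le hEE0)
      · rw [zpowers_le]
        exact ⟨hyX, mem_centralizer_iff.2 fun e he => mem_centralizer_singleton_iff.1 he.2⟩
      · rw [zpowers_le]
        refine ⟨hy'X, mem_centralizer_iff.2 fun e he => ?_⟩
        have h1 : e * y * e⁻¹ = y := by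
          rw [mem_centralizer_singleton_iff.1 he.2, mul_inv_cancel_right]
        have h2 := htau e (hEA he) y hyX
        rw [h1] at h2
        exact mul_inv_eq_iff_eq_mul.1 h2
    have hpE : 0 < Nat.card E := Nat.card_pos
    have hpY : 0 < Nat.card Y1 := Nat.card_pos
    have hf1 : Nat.card A * Nat.card ↥(X ⊓ centralizer (A : Set G)) ≤ 2 * (Nat.card E * Nat.card Y1) := by
      have h1 : Nat.card A ≤ 4 * Nat.card E := by omega
      have h2 : 2 * (Nat.card A * Nat.card ↥(X ⊓ centralizer (A : Set G))) ≤ 4 * (Nat.card E * Nat.card Y1) := by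
        calc 2 * (Nat.card A * Nat.card ↥(X ⊓ centralizer (A : Set G)))
            = Nat.card A * (2 * Nat.card ↥(X ⊓ centralizer (A : Set G))) := by ring
          _ ≤ (4 * Nat.card E) * Nat.card Y1 := Nat.mul_le_mul h1 hYA
          _ = 4 * (Nat.card E * Nat.card Y1) := by ring
      omega
    have hf2 : 4 * (Nat.card E * Nat.card Y1) ≤ Nat.card E * Nat.card ↥(X ⊓ centralizer (E : Set G)) := by
      calc 4 * (Nat.card E * Nat.card Y1) = Nat.card E * (4 * Nat.card Y1) := by ring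
        _ ≤ _ := Nat.mul_le_mul_left _ (by omega)
    have hf3 : 0 < Nat.card E * Nat.card Y1 := Nat.mul_pos hpE hpY
    omega
  obtain ⟨w, hw, hwy⟩ := k1 D d hAT hA hAi hyX hcomE
  -- `y' = c y`, `c ∈ ⟨v i⟩`
  have hcy : y' = y ∨ y' = v i * y := by
    have h1 : τ * (w * y) * τ⁻¹ = w * y := by
      rw [mem_centralizer_iff.1 hwy τ hτ, mul_inv_cancel_right]
    have h2 : τ * (w * y) * τ⁻¹ = (τ * w * τ⁻¹) * y' := by rw [hy']; group
    rw [h2] at h1
    by_cases hw1 : w = 1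
    · rw [hw1] at h1
      left; simpa using h1
    by_cases hwv : w = v i
    · rw [hwv, D.cen i (hAT hτ)] at h1
      left; exact mul_left_cancel h1
    · right
      rw [moves D (hAT hτ) hτo hw hw1 hwv, mul_assoc] at h1
      have h3 : v i * y' = y := mul_left_cancel h1
      calc y' = v i * v i * y' := by rw [D.v_sq, one_mul]
        _ = v i * y := by rw [mul_assoc, h3]
  have hOy : ∀ o ∈ OO T V, o * y = y * o := by
    intro o ho
    rcases hoy o ho with h | h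
    · exact mul_inv_eq_iff_eq_mul.1 h
    exfalso
    have ho' : τ⁻¹ * o * τ ∈ OO T V := by
      have := (mem_normalizer_iff.1 (inv_mem (P_le_N_OO D i (D.T_le_P i (hAT hτ)))) o).1 ho
      rwa [inv_inv] at this
    have h1 : o * y' * o⁻¹ = p * y' := by
      rcases hcy with hc | hc
      · rw [hc]; exact h
      · rw [hc]
        have e : o * (v i * y) * o⁻¹ = (o * v i * o⁻¹) * (o * y * o⁻¹) := by group
        rw [e, hOv o ho, mul_inv_cancel_right, h, ← mul_assoc, hvp, mul_assoc]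
    have h2 : o * y' * o⁻¹ = τ * ((τ⁻¹ * o * τ) * y * (τ⁻¹ * o * τ)⁻¹) * τ⁻¹ := by rw [hy']; group
    rcases hoy _ ho' with h3 | h3
    · rw [h3, h1] at h2
      have h4 : p * y' = 1 * y' := by rw [h2, one_mul]
      exact hp1 (mul_right_cancel h4)
    · rw [h3, h1] at h2
      have e2 : τ * (p * y) * τ⁻¹ = (τ * p * τ⁻¹) * y' := by rw [hy']; group
      rw [e2, hmv] at h2
      have h4 : p = p * v i := mul_right_cancel h2
      exact D.ne i (by simpa using h4)
  intro o ho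
  have ho' : g * o * g⁻¹ ∈ OO T V := (mem_normalizer_iff.1 (P_le_N_OO D i hg) o).1 ho
  have h1 := hOy _ ho'
  have h2 : g * (o * n) * g⁻¹ = g * (n * o) * g⁻¹ := by
    calc g * (o * n) * g⁻¹ = (g * o * g⁻¹) * y := by rw [hy]; group
      _ = y * (g * o * g⁻¹) := h1
      _ = g * (n * o) * g⁻¹ := by rw [hy]; group
  exact mul_left_cancel (mul_right_cancel h2)

/-- `C_X(C_T(V 0 V 1)) ≤ V 0 V 1` -/
theorem k3 {y : G} (hy : y ∈ X) (hyo : ∀ o ∈ OO T V, o * y = y * o) : y ∈ V 0 ⊔ V 1 := by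
  have h01 : (0 : Fin 2) ≠ 1 := by decide
  obtain ⟨A, hAT, hA, hAj, hAi⟩ := d.off 0 1 h01
  obtain ⟨B, hBT, hB, hBj, hBi⟩ := d.off 1 0 h01.symm
  obtain ⟨τ, hτ, hτi⟩ := SetLike.not_le_iff_exists.1 hAi
  obtain ⟨σ, hσ, hσi⟩ := SetLike.not_le_iff_exists.1 hBi
  have hτo : τ ∉ o2 (P 0) := fun h => hτi (by rw [o2_P D 0] at h; exact h.2)
  have hσo : σ ∉ o2 (P 1) := fun h => hσi (by rw [o2_P D 1] at h; exact h.2)
  have hVo : ∀ k, ∀ w ∈ V k, ∀ o ∈ OO T V, o * w = w * o := fun k w hw o ho =>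
    (mem_centralizer_iff.1 ((mem_OO.1 ho).2 k) w hw).symm
  obtain ⟨w, hw, hwy⟩ := k1 D d hAT hA hAi hy fun e he => hyo e ((mem_OO' h01).2 ⟨hAT he.1, he.2, hAj he.1⟩)
  have hwX : w * y ∈ X := mul_mem (d.le 0 hw) hy
  have hwo : ∀ o ∈ OO T V, o * (w * y) = w * y * o := fun o ho => by
    rw [← mul_assoc, hVo 0 w hw o ho, mul_assoc, hyo o ho, ← mul_assoc]
  obtain ⟨w', hw', hwy'⟩ := k1 D d hBT hB hBi hwX fun e he =>
    hwo e ((mem_OO' h01.symm).2 ⟨hBT he.1, he.2, hBj he.1⟩)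
  set c := w' * (w * y) with hc
  have hcX : c ∈ X := mul_mem (d.le 1 hw') hwX
  have hco : ∀ o ∈ OO T V, o * c = c * o := fun o ho => by
    rw [hc, ← mul_assoc, hVo 1 w' hw' o ho, mul_assoc, hwo o ho, ← mul_assoc w']
  have hcτ : τ * c = c * τ := by
    have h1 : τ * w' = w' * τ := (mem_centralizer_iff.1 (hAj hτ) w' hw').symm
    have h2 : τ * (w * y) = w * y * τ := mem_centralizer_iff.1 hwy τ hτ
    rw [hc, ← mul_assoc, h1, mul_assoc, h2, ← mul_assoc w']
  have hcσ : σ * c = c * σ := mem_centralizer_iff.1 hwy' σ hσ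
  have key : ∀ t s : G, s * c = c * s → s * t * c = c * (s * t) → t * c = c * t := by
    intro t s hs hst
    have h6 : s⁻¹ * c = c * s⁻¹ := by
      calc s⁻¹ * c = s⁻¹ * (c * s) * s⁻¹ := by group
        _ = s⁻¹ * (s * c) * s⁻¹ := by rw [hs]
        _ = c * s⁻¹ := by group
    calc t * c = s⁻¹ * (s * t * c) := by group
      _ = (s⁻¹ * c) * (s * t) := by rw [hst]; group
      _ = c * t := by rw [h6]; group
  have hmem : ∀ s ∈ T, s ∈ o2 (P 0) → s ∈ o2 (P 1) → s * c = c * s := by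
    intro s hs h0 h1
    rw [o2_P D] at h0 h1
    exact hco s ((mem_OO' h01).2 ⟨hs, h0.2, h1.2⟩)
  have hσ0 : σ ∈ o2 (P 0) := by rw [o2_P D]; exact ⟨hBT hσ, hBj hσ⟩
  have hτ1 : τ ∈ o2 (P 1) := by rw [o2_P D]; exact ⟨hAT hτ, hAj hτ⟩
  have h1' : ∀ s ∈ T, s ∈ o2 (P 0) → s * c = c * s := by
    intro s hs h0
    by_cases hs1 : s ∈ o2 (P 1)
    · exact hmem s hs h0 hs1
    · exact key s σ hcσ (hmem (σ * s) (mul_mem (hBT hσ) hs) (mul_mem hσ0 h0) (mul_mem_o2 D (hBT hσ) hσo hs hs1))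
  have hcT : c ∈ zc T := by
    refine MinSimple.VModule.mem_zc.2 ⟨d.leT hcX, fun t ht => ?_, d.sq c hcX⟩
    by_cases ht0 : t ∈ o2 (P 0)
    · exact h1' t ht ht0
    · exact key t τ hcτ (h1' (τ * t) (mul_mem (hAT hτ) ht) (mul_mem_o2 D (hAT hτ) hτo ht ht0))
  have hcV : c ∈ V 0 ⊔ V 1 := by
    have h0 : v 0 ∈ V 0 ⊔ V 1 := mem_sup_left (D.mem 0)
    have h1 : v 1 ∈ V 0 ⊔ V 1 := mem_sup_right (D.mem 1)
    rcases (D.zT c).1 hcT with h | h | h | h <;> rw [h]
    · exact one_mem _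
    · exact h0
    · exact h1
    · exact mul_mem h0 h1
  have e : y = w⁻¹ * (w'⁻¹ * c) := by rw [hc]; group
  rw [e]
  exact mul_mem (inv_mem (mem_sup_left hw)) (mul_mem (inv_mem (mem_sup_right hw')) hcV)

/-- **LEMMA FIX in `X`** -/
theorem fixX {i : Fin 2} {n : G} (hn : n ∈ X)
    (hno : ∀ o ∈ OO T V, o * n * o⁻¹ * n⁻¹ = 1 ∨ o * n * o⁻¹ * n⁻¹ = v i) : n ∈ V 0 ⊔ V 1 := by
  obtain ⟨j, hij⟩ : ∃ j : Fin 2, i ≠ j := ⟨i + 1, ne_add_one i⟩
  exact k3 D d hn (k2 D d hij hn hno)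

omit d in
/-- `C_T(V j) ≤ O₂(R)` -/
theorem inf_cent_le_o2 {i j : Fin 2} (_hij : i ≠ j) {R : Subgroup G} (hR : IsMinPar T R) (hRC : R ≤ CC v i)
    (hRm : ¬ R ≤ CC v j) (hRN : R ≤ normalizer (V j : Set G)) : T ⊓ centralizer (V j : Set G) ≤ o2 R := by
  have hsyl : Syl T R := ⟨hR.le, D.T_isPGroup, fun Q hQ hQ2 hTQ => (D.syl i).2.2 Q (hQ.trans hRC) hQ2 hTQ⟩
  have hN : R ≤ normalizer ((R ⊓ centralizer (V j : Set G) : Subgroup G) : Set G) := by
    refine ThmI.le_inf_normalizer ?_ ?_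
    · exact le_normalizer
    · exact hRN.trans (ThmI.normalizer_le_normalizer_centralizer' _)
  rcases hR.sup_eq_or_inf_le D.T_isPGroup (syl_not_dvd hsyl) inf_le_left hN with h | h
  · exfalso
    apply hRm
    rw [← h]
    refine sup_le (inf_le_right.trans ?_) (D.T_le_C j)
    exact centralizer_le (Set.singleton_subset_iff.2 (D.mem j))
  · exact le_trans (le_inf inf_le_left (le_inf (inf_le_left.trans hR.le) inf_le_right)) h

end Cfsg.Agent.Omega.TC.FixX

end

section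


/-!
# LEMMA AV over the frame `Fr` (CARD #18791 TWO CENTRES)

* `set2` : `Av.Set2 T (P i) (centralizer (zc T)) (CC v j) (NU V v j) (V i) (zpowers (v i))` (`i ≠ j`,
  `J(T) ≰ O₂(P i)`);
* `av` : **(AV)** `M ⊴ C_j`, `M ∩ T ≤ C(V i)`: `C_M(v i)` centralises `N_j`;
* `av_sub`, `av_odd` : **(AV')**;
* `cor` : **(COR)** `M ⊴ C_j`, `M ∩ T ≰ C(N_j)`: `P i = (M ∩ P i) T`, `C_j = M D`, `v_i^{C_j} = v_i^M`;
* `not_le` : **(A) IS DEAD**: such an `M` does not centralise `V j`.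
-/

set_option autoImplicit false
set_option linter.unusedSectionVars false

namespace Cfsg.Agent.Omega.TC.AvFr

open Subgroup Cfsg Cfsg.Agent.ZN Cfsg.Agent.Omega.MinPar
open Cfsg.Agent.Omega.OM.KTwo (CC QQ WU NU EU ne_add_one eq_add_one)
open Cfsg.Agent.Omega.NoFF.Basic (conj_conj mem_conj conj_le_iff comm_symm Z_le_V V_le)
open Cfsg.Agent.ZN.ChoiceSit (Syl syl_not_dvd)
open scoped Pointwise

universe u

theorem eq_zero_of {j : Fin 2} (h : (1 : Fin 2) ≠ j) : j = 0 := by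
  revert h; revert j; decide

theorem eq_one_of {j : Fin 2} (h : (0 : Fin 2) ≠ j) : j = 1 := by
  revert h; revert j; decide

variable {G : Type u} [Group G] [Finite G] {T : Subgroup G} {V P : Fin 2 → Subgroup G} {v : Fin 2 → G}
  (D : Fr T V P v)

include D

theorem V_le_N {i j : Fin 2} (hij : i ≠ j) : V i ≤ NU V v j := by
  have h : i = j + 1 := eq_add_one hij.symm
  rw [h]; exact D.V_le_N j

/-- `N_j = ⟨v_i ^ C_j⟩`: centralising all the points -/
theorem mem_cent_N {i j : Fin 2} (hij : i ≠ j) {m : G}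
    (h : ∀ c ∈ CC v j, m * (c * v i * c⁻¹) = c * v i * c⁻¹ * m) : m ∈ centralizer (NU V v j : Set G) := by
  have h1 : NU V v j ≤ centralizer ({m} : Set G) := by
    refine V_le fun c hc => ?_
    intro w hw
    rw [← eq_add_one hij.symm] at hw
    rw [mem_conj] at hw
    rw [mem_centralizer_singleton_iff]
    by_cases hw1 : w = 1
    · rw [hw1, one_mul, mul_one]
    have hw1' : c⁻¹ * w * c ≠ 1 := by
      intro h'
      apply hw1
      have h3 := congrArg (fun t => c * t * c⁻¹) h'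
      simpa [mul_assoc] using h3
    obtain ⟨l, hl, -, hlw⟩ := D.tr hij hw hw1'
    have h3 : w = (c * l) * v i * (c * l)⁻¹ := by
      have e : (c * l) * v i * (c * l)⁻¹ = c * (l * v i * l⁻¹) * c⁻¹ := by group
      rw [e, hlw]; group
    rw [h3]
    exact (h _ (mul_mem hc (D.PC i j hij hl))).symm
  rw [mem_centralizer_iff]
  intro n hn
  exact mem_centralizer_singleton_iff.1 (h1 hn)

/-- **the setting of LEMMA AV** -/
theorem set2 {i j : Fin 2} (hij : i ≠ j) (hJ : ¬ jj T ≤ o2 (P i)) :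
    Av.Set2 T (P i) (centralizer (zc T : Set G)) (CC v j) (NU V v j) (V i) (zpowers (v i)) := by
  obtain ⟨a, ha, ha1, hav⟩ := D.exists_ne_v i
  refine Av.Set2.of_four (a := a) (v₂ := v j) D.T_isPGroup D.T_le_D (D.T_le_P i) (D.par i)
    (le_antisymm (D.gen hij) (sup_le (D.PC i j hij) (D.cent_zc_le j))) (syl_not_dvd (D.syl j))
    (fun x hx y hy => (mem_centralizer_iff.1 (D.N_comm j hx) y hy).symm) (D.C_le_N_N j) (V_le_N D hij) (fun x => ?_)
    (D.v_sq i) (D.PN i i) (fun d hd => mem_centralizer_singleton_iff.1 (D.cent_zc_le i hd)) ?_ ?_ (fun u hu huo => ?_)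
    fun c hc => mem_centralizer_singleton_iff.1 hc
  · constructor
    · intro hx
      by_cases hx1 : x = 1
      · exact Or.inl hx1
      · exact Or.inr (D.eq_of_V (D.mem i) (D.ne i) ha ha1 (Ne.symm hav) hx hx1)
    · rintro (h | h | h | h) <;> rw [h]
      · exact one_mem _
      · exact D.mem i
      · exact ha
      · exact mul_mem (D.mem i) ha
  · obtain ⟨t, ht, hta⟩ := D.exists_swap ha ha1 hav
    refine ⟨t, ht, fun h => ?_⟩
    have e : t * a * t⁻¹ = a := by rw [h, mul_inv_cancel_right]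
    rw [e] at hta
    exact D.ne i (by simpa using hta.symm)
  · rw [Phi.o2_P D i]; exact inf_le_right
  · have hu1 : u ∈ zc (o2 (P i)) := by
      rw [mem_zc, Phi.o2_P D i]
      refine ⟨⟨D.N_le_T j hu, mem_centralizer_iff.2 fun x hx => ?_⟩, huo, D.N_sq j u hu⟩
      exact mem_centralizer_iff.1 (D.N_comm j hu) x (V_le_N D hij hx)
    rw [Phi.zc_o2 D hij hJ] at hu1
    exact Phi.mem_V_sup D hu1

/-- **(AV)** -/
theorem av {i j : Fin 2} (hij : i ≠ j) (hJ : ¬ jj T ≤ o2 (P i)) {M : Subgroup G} (hM : M ≤ CC v j)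
    (hCM : CC v j ≤ normalizer (M : Set G)) (hTM : T ⊓ M ≤ centralizer (V i : Set G)) {x : G} (hx : x ∈ M)
    (hxv : x * v i = v i * x) : x ∈ centralizer (NU V v j : Set G) := by
  have hxZ : x ∈ M ⊓ centralizer ((zpowers (v i) : Subgroup G) : Set G) := by
    refine ⟨hx, mem_centralizer_iff.2 ?_⟩
    rintro _ ⟨n, rfl⟩
    have h1 : Commute x (v i) := hxv
    exact (h1.zpow_right n).eq.symm
  exact mem_cent_N D hij fun c hc => (set2 D hij hJ).av_cent hM hCM hTM c hc (v i) (mem_zpowers _) x hxZ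

theorem D_le_cent (i : Fin 2) : centralizer (zc T : Set G) ≤ centralizer ((zpowers (v i) : Subgroup G) : Set G) :=
  centralizer_le (by
    have h : zpowers (v i) ≤ zc T := zpowers_le.2 (D.v_mem_zc i)
    exact h)

/-- **(AV')** -/
theorem av_sub {i j : Fin 2} (hij : i ≠ j) (hJ : ¬ jj T ≤ o2 (P i)) {M : Subgroup G}
    (hM : M ≤ centralizer (zc T : Set G)) (hTn : T ≤ normalizer (M : Set G))
    (hTM : T ⊓ M ≤ centralizer (V i : Set G)) : M ≤ centralizer (V i : Set G) :=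
  (set2 D hij hJ).av_sub hM (hM.trans (D_le_cent D i)) hTn hTM

/-- **(AV')** for subgroups of odd order -/
theorem av_odd {i j : Fin 2} (hij : i ≠ j) (hJ : ¬ jj T ≤ o2 (P i)) {M : Subgroup G}
    (hM : M ≤ centralizer (zc T : Set G)) (hTn : T ≤ normalizer (M : Set G)) (hodd : ¬ 2 ∣ Nat.card M) :
    M ≤ centralizer (V i : Set G) :=
  (set2 D hij hJ).av_odd hM (hM.trans (D_le_cent D i)) hTn hodd

theorem exists_ne {i j : Fin 2} (hij : i ≠ j) {M : Subgroup G} (hne : ¬ T ⊓ M ≤ centralizer (NU V v j : Set G)) :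
    ∃ m ∈ T ⊓ M, ∃ g ∈ CC v j, ∃ z ∈ zpowers (v i), m * (g * z * g⁻¹) ≠ g * z * g⁻¹ * m := by
  by_contra hcon
  push Not at hcon
  exact hne fun m hm => mem_cent_N D hij fun c hc => hcon m hm c hc (v i) (mem_zpowers _)

/-- **(COR)** -/
theorem cor {i j : Fin 2} (hij : i ≠ j) (hJ : ¬ jj T ≤ o2 (P i)) {M : Subgroup G} (hM : M ≤ CC v j)
    (hCM : CC v j ≤ normalizer (M : Set G)) (hne : ¬ T ⊓ M ≤ centralizer (NU V v j : Set G)) :
    (M ⊓ P i) ⊔ T = P i ∧ CC v j = M ⊔ centralizer (zc T : Set G) ∧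
      ∀ c ∈ CC v j, ∃ m ∈ M, c * v i * c⁻¹ = m * v i * m⁻¹ := by
  have h := (set2 D hij hJ).cor hM hCM (exists_ne D hij hne)
  exact ⟨h.1, h.2, (set2 D hij hJ).cor_orbit hCM h.2 fun d hd => mem_centralizer_singleton_iff.1 (D.cent_zc_le i hd)⟩

/-- **(A) IS DEAD** -/
theorem not_le {i j : Fin 2} (hij : i ≠ j) (hJ : ¬ jj T ≤ o2 (P i)) {M : Subgroup G} (hM : M ≤ CC v j)
    (hCM : CC v j ≤ normalizer (M : Set G)) (hne : ¬ T ⊓ M ≤ centralizer (NU V v j : Set G)) :
    ¬ M ≤ centralizer (V j : Set G) := by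
  intro hMV
  have h := ((set2 D hij hJ).caseA_dead (C₁ := CC v i) (P₂ := P j) (V₂ := V j) (v₂ := v j) hM hCM
    (exists_ne D hij hne) (le_antisymm (D.gen hij.symm) (sup_le (D.PC j i hij.symm) (D.cent_zc_le i)))
    (fun g _ h => mem_centralizer_singleton_iff.2 h) (fun c hc => mem_centralizer_singleton_iff.1 hc) (D.mem j)
    (D.ne j) (D.PN j j) (fun a ha ha1 => ?_) hMV).2
  · set N : Subgroup G := closure {x | ∃ c ∈ CC v i, x = c * v j * c⁻¹} with hN
    have hNT : N ≤ T := by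
      refine le_trans ((closure_le _).2 ?_) (D.N_le_T i)
      rintro x ⟨c, hc, rfl⟩
      exact (mem_normalizer_iff.1 (D.C_le_N_N i hc) _).1 (V_le_N D hij.symm (D.mem j))
    have hbot : N = ⊥ := by
      refine D.nonloc N (D.T_isPGroup.to_le hNT) ?_ ?_
      · rcases Fin.exists_fin_two.1 ⟨i, rfl⟩ with hi | hi
        · rw [hi] at h; exact le_sup_left.trans h
        · have hj : j = 0 := eq_zero_of (hi ▸ hij)
          rw [hj] at h; exact le_sup_right.trans h
      · rcases Fin.exists_fin_two.1 ⟨i, rfl⟩ with hi | hi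
        · have hj : j = 1 := eq_one_of (hi ▸ hij)
          rw [hj] at h; exact le_sup_right.trans h
        · rw [hi] at h; exact le_sup_left.trans h
    have h1 : v j ∈ N := subset_closure ⟨1, one_mem _, by group⟩
    rw [hbot, mem_bot] at h1
    exact D.ne j h1
  · obtain ⟨l, hl, -, hla⟩ := D.tr hij.symm ha ha1
    exact ⟨l, hl, hla.symm⟩

end Cfsg.Agent.Omega.TC.AvFr

end

end

-- merged: Cfsg.Agent.Mrg.Omega.TC.LevU
section

section


/-!
# CARD #18791: LEMMA FIX, `hZO` and `hU` over `TC.Fr` at every level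

`OffK T V K` : `K ≤ O = C_T(V 0 V 1)` (a level, or `1`), everything over `O` normalises `K`, and for `i ≠ j` some `A ≤ T`
moves `V i`, centralises `V j` and offends on all elementary abelian `A`-invariant `F`, `V 0 V 1 ≤ F ≤ C_O(K)`.

* `offK_of_hJ` : stage `-1` (`K = 1`); `offK_of_lev` : stage `n` (`K = lev S n`);
* `OffK.fix` : `w ∈ C_O(K)`, `w² = 1`, `[w, O] ≤ ⟨v i⟩` implies `w ∈ V 0 V 1`;
* `OffK.zc_OO` : `Ω₁Z(O) ≤ V 0 V 1`; `OffK.hZO` : `Ω₁Z(O₂(P i)) ≤ V i ⟨v j⟩`;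
* `o2_eq` : `O₂(R) = C_T(V i)` for `R` minimal parabolic over `T` in `C(v j)`, moving `v i`;
* `norm_V_of` : `R ≤ C(v i)` normalising `V j` and `V 0 V 1` normalises `V i`;
* **`OffK.hU`** : `R` minimal parabolic over `T`, `R ≤ C(v i)`, `R ≰ C(v j)` implies `R ≤ N(V i)`.
-/

set_option autoImplicit false
set_option linter.unusedSectionVars false

namespace Cfsg.Agent.Omega.TC

open Subgroup Cfsg Cfsg.Agent.ZN Cfsg.Agent.PLocal.ThompsonJ Cfsg.Agent.PLocal.ElemAbSup
open Cfsg.Agent.Omega.MinPar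
open Cfsg.Agent.Omega.OM.KTwo (CC QQ WU NU EU FF ne_add_one eq_add_one add_one_add_one le_normalizer_V le_V)
open Cfsg.Agent.ZN.ChoiceSit (Syl o2_le_syl syl_not_dvd)
open Cfsg.Agent.Omega.FFThm (OffM ElemM)
open Cfsg.Agent.Omega.NO1.BestOff (Best)
open Cfsg.Agent.MinSimple.MinParabolic (IsMinPar)
open Phi FixEL
open scoped Pointwise

universe u

variable {G : Type u} [Group G]

/-- Offenders over the level `K`. -/
structure OffK (T : Subgroup G) (V : Fin 2 → Subgroup G) (K : Subgroup G) : Prop where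
  KO : K ≤ OO T V
  nrm : ∀ H : Subgroup G, OO T V ≤ o2 H → o2 H ≤ T → H ≤ normalizer (K : Set G)
  off : ∀ i j : Fin 2, i ≠ j → ∃ A ≤ T, A ≤ centralizer (V j : Set G) ∧ ¬ A ≤ centralizer (V i : Set G) ∧
    ∀ F : Subgroup G, F ≤ OO T V → F ≤ centralizer (K : Set G) → V 0 ⊔ V 1 ≤ F →
      (∀ x ∈ F, ∀ y ∈ F, x * y = y * x) → (∀ x ∈ F, x * x = 1) → A ≤ normalizer (F : Set G) → OffM F A

section

variable [Finite G] {T K : Subgroup G} {V P : Fin 2 → Subgroup G} {v : Fin 2 → G}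

theorem V_le_sup (V : Fin 2 → Subgroup G) (i : Fin 2) : V i ≤ V 0 ⊔ V 1 := by
  rcases Fin.exists_fin_two.1 ⟨i, rfl⟩ with h | h <;> rw [h]
  · exact le_sup_left
  · exact le_sup_right

theorem sup_eq_of (V : Fin 2 → Subgroup G) {i j : Fin 2} (hij : i ≠ j) : V 0 ⊔ V 1 = V i ⊔ V j := by
  rcases Fin.exists_fin_two.1 ⟨i, rfl⟩ with hi | hi
  · have hj : j = 1 := by
      have h1 := eq_add_one hij
      rw [h1, hi]; rfl
    rw [hi, hj]
  · have hj : j = 0 := by
      have h1 := eq_add_one hij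
      rw [h1, hi]; rfl
    rw [hi, hj, _root_.sup_comm]

variable (D : Fr T V P v) (h : OffK T V K)

include D

theorem sup_comm_mem {x y : G} (hx : x ∈ V 0 ⊔ V 1) (hy : y ∈ V 0 ⊔ V 1) : x * y = y * x :=
  (isElementaryAbelian_iff.1 (eab_sup D)).1 x hx y hy

theorem sup_sq {x : G} (hx : x ∈ V 0 ⊔ V 1) : x * x = 1 := by
  rw [← pow_two]; exact (isElementaryAbelian_iff.1 (eab_sup D)).2 x hx

theorem sup_le_OO : V 0 ⊔ V 1 ≤ OO T V := sup_le (V_le_OO D 0) (V_le_OO D 1)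

theorem OO_comm {o x : G} (ho : o ∈ OO T V) (hx : x ∈ V 0 ⊔ V 1) : o * x = x * o := by
  have h1 : V 0 ⊔ V 1 ≤ centralizer ({o} : Set G) := by
    refine sup_le ?_ ?_ <;>
      exact fun y hy => mem_centralizer_singleton_iff.2 (mem_centralizer_iff.1 ((mem_OO.1 ho).2 _) y hy)
  exact (mem_centralizer_singleton_iff.1 (h1 hx)).symm

theorem T_le_N_sup : T ≤ normalizer ((V 0 ⊔ V 1 : Subgroup G) : Set G) :=
  NO3b.Bang.le_normalizer_sup (D.T_le_N 0) (D.T_le_N 1)

theorem P_le_N_sup (i : Fin 2) : P i ≤ normalizer ((V 0 ⊔ V 1 : Subgroup G) : Set G) :=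
  NO3b.Bang.le_normalizer_sup (D.PN i 0) (D.PN i 1)

/-- `A ≤ C_T(V j)` moves `V i`: `a ∈ O` or `τ a ∈ O`. -/
theorem idx_OO {i j : Fin 2} (hij : i ≠ j) {A : Subgroup G} (hAT : A ≤ T) (hAj : A ≤ centralizer (V j : Set G))
    {τ : G} (hτ : τ ∈ A) (hτo : τ ∉ o2 (P i)) : ∀ a ∈ A, a ∈ OO T V ∨ τ * a ∈ OO T V := by
  intro a ha
  by_cases hao : a ∈ o2 (P i)
  · rw [o2_P D i] at hao
    exact Or.inl ((mem_OO' hij).2 ⟨hAT ha, hao.2, hAj ha⟩)
  · have h1 := mul_mem_o2 D (hAT hτ) hτo (hAT ha) hao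
    rw [o2_P D i] at h1
    exact Or.inr ((mem_OO' hij).2 ⟨h1.1, h1.2, mul_mem (hAj hτ) (hAj ha)⟩)

theorem mem_zpow_cases (i : Fin 2) {x : G} (hx : x ∈ zpowers (v i)) : x = 1 ∨ x = v i := by
  obtain ⟨m, hm⟩ := mem_zpowers_iff.1 hx
  rw [← hm]
  rcases Int.even_or_odd' m with ⟨k, rfl | rfl⟩
  · left; rw [zpow_mul, zpow_two, D.v_sq, one_zpow]
  · right; rw [zpow_add, zpow_mul, zpow_two, D.v_sq, one_zpow, one_mul, zpow_one]

/-- **`O₂(R) = C_T(V i)`** for every minimal parabolic `R ≤ C(v j)` over `T` moving `v i` -/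
theorem o2_eq {i j : Fin 2} (hij : i ≠ j) {R : Subgroup G} (hR : IsMinPar T R) (hRj : R ≤ CC v j)
    (hRi : ¬ R ≤ CC v i) : o2 R = T ⊓ centralizer (V i : Set G) := by
  have hRN : R ≤ normalizer (V i : Set G) := D.uni i j hij R hR hRj hRi
  have hTR : T ≤ R := hR.le
  have hsyl : Syl T R := ⟨hTR, D.T_isPGroup, fun Q hQ hQ2 hTQ => (D.syl j).2.2 Q (hQ.trans hRj) hQ2 hTQ⟩
  apply le_antisymm
  · have hoT : o2 R ≤ T := o2_le_syl hsyl
    refine le_inf hoT fun o ho => mem_centralizer_iff.2 fun x hx => ?_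
    by_cases hx1 : x = 1
    · rw [hx1, one_mul, mul_one]
    obtain ⟨l, hl, hlx⟩ := D.trans_of hTR hRN hRi hx hx1
    have h1 : l⁻¹ * o * l ∈ o2 R := by
      have := (mem_normalizer_iff.1 (le_normalizer_o2 _ (inv_mem hl)) o).1 ho
      rwa [inv_inv] at this
    have h2 := D.comm_v i (hoT h1)
    rw [← hlx]
    calc l * v i * l⁻¹ * o = l * (v i * (l⁻¹ * o * l)) * l⁻¹ := by group
      _ = l * (l⁻¹ * o * l * v i) * l⁻¹ := by rw [h2]
      _ = o * (l * v i * l⁻¹) := by group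
  · have hfact : Fact (Nat.Prime 2) := ⟨Nat.prime_two⟩
    have hN : R ≤ normalizer ((R ⊓ centralizer (V i : Set G) : Subgroup G) : Set G) := by
      have key : ∀ t ∈ R, ∀ x ∈ R ⊓ centralizer (V i : Set G), t * x * t⁻¹ ∈ R ⊓ centralizer (V i : Set G) := by
        intro t ht x hx
        refine ⟨R.mul_mem (R.mul_mem ht hx.1) (R.inv_mem ht), mem_centralizer_iff.2 fun z hz => ?_⟩
        have h1 : t⁻¹ * z * t ∈ V i := by
          have := (mem_normalizer_iff.1 (inv_mem (hRN ht)) z).1 hz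
          rwa [inv_inv] at this
        have h2 := mem_centralizer_iff.1 hx.2 _ h1
        calc z * (t * x * t⁻¹) = t * (t⁻¹ * z * t * x) * t⁻¹ := by group
          _ = t * (x * (t⁻¹ * z * t)) * t⁻¹ := by rw [h2]
          _ = t * x * t⁻¹ * z := by group
      intro t ht
      rw [mem_normalizer_iff]
      intro x
      refine ⟨key t ht x, fun hx => ?_⟩
      have h1 := key t⁻¹ (inv_mem ht) _ hx
      have e : t⁻¹ * (t * x * t⁻¹) * t⁻¹⁻¹ = x := by group
      rwa [e] at h1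
    rcases hR.sup_eq_or_inf_le D.T_isPGroup (syl_not_dvd hsyl) inf_le_left hN with h | h
    · exfalso
      apply hRi
      rw [← h]
      refine sup_le (inf_le_right.trans ?_) (D.T_le_C i)
      exact centralizer_le (Set.singleton_subset_iff.2 (D.mem i))
    · exact le_trans (le_inf inf_le_left (le_inf (inf_le_left.trans hTR) inf_le_right)) h

/-- `V i ⊓ V j ⟨v i⟩ = ⟨v i⟩` : an element `a w`, `w ∈ V j`, `a w ∈ V i ⟨..⟩` -/
theorem V_mem_of {i j : Fin 2} (hij : i ≠ j) {a w : G} (ha : a ∈ V i) (hw : w ∈ V j) (h : a * w ∈ V i) : w = 1 := by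
  have h1 : w ∈ V i := by
    have := mul_mem (inv_mem ha) h
    rwa [inv_mul_cancel_left] at this
  have h2 : w ∈ V i ⊓ V j := ⟨h1, hw⟩
  rw [V_inf D hij] at h2
  exact mem_bot.1 h2

/-- **The last step**: `R ≤ C(v i)` normalising `V j` and `V 0 V 1` normalises `V i`. -/
theorem norm_V_of {i j : Fin 2} (hij : i ≠ j) {R : Subgroup G} (hRi : R ≤ CC v i)
    (hRj : R ≤ normalizer (V j : Set G)) (hRM : R ≤ normalizer ((V 0 ⊔ V 1 : Subgroup G) : Set G)) :
    R ≤ normalizer (V i : Set G) := by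
  -- the group `L = C(v i) ⊓ C(V j) ⊓ N(V 0 V 1)`
  have hM : ∀ x, x ∈ V 0 ⊔ V 1 → ∃ a ∈ V i, ∃ w ∈ V j, x = a * w := by
    intro x hx
    have h1 : V 0 ⊔ V 1 = V i ⊔ V j := sup_eq_of V hij
    rw [h1] at hx
    exact FixEL.mem_sup D hx
  obtain ⟨p, hp, hp1, hpv⟩ := D.exists_ne_v i
  -- elements of `L` move `p` by a vector of `V j` (mod `v i`)
  set L : Subgroup G := CC v i ⊓ centralizer (V j : Set G) ⊓ normalizer ((V 0 ⊔ V 1 : Subgroup G) : Set G) with hL
  have hpM : p ∈ V 0 ⊔ V 1 := V_le_sup V i hp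
  have hLw : ∀ x ∈ L, ∃ w ∈ V j, x * p * x⁻¹ = p * w ∨ x * p * x⁻¹ = p * w * v i := by
    intro x hx
    obtain ⟨⟨hxi, hxj⟩, hxM⟩ := hx
    obtain ⟨a, ha, w, hw, e⟩ := hM _ ((mem_normalizer_iff.1 hxM p).1 hpM)
    -- `a ≡ p mod v i`
    refine ⟨w, hw, ?_⟩
    have haw : a * w = w * a := mem_centralizer_iff.1 (V_le_cent D j i hw) a ha
    have hvw : v i * w = w * v i := mem_centralizer_iff.1 (V_le_cent D j i hw) _ (D.mem i)
    have ha1 : a ≠ 1 := by
      rintro rfl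
      rw [one_mul] at e
      -- `p = x⁻¹ w x = w`
      have h1 : x * w * x⁻¹ = w := by
        have := mem_centralizer_iff.1 hxj w hw
        rw [← this]; group
      have h2 : p = w := by
        have : x * p * x⁻¹ = x * w * x⁻¹ := by rw [e, h1]
        exact mul_left_cancel (mul_right_cancel this)
      have h3 : p ∈ V i ⊓ V j := ⟨hp, h2 ▸ hw⟩
      rw [V_inf D hij] at h3
      exact hp1 (mem_bot.1 h3)
    have hav : a ≠ v i := by
      rintro rfl
      have h1 : x * (v i * w) * x⁻¹ = v i * w := by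
        have h2 := mem_centralizer_iff.1 hxj w hw
        have h3 : x * v i = v i * x := mem_centralizer_singleton_iff.1 hxi
        calc x * (v i * w) * x⁻¹ = (x * v i) * w * x⁻¹ := by group
          _ = v i * (x * w) * x⁻¹ := by rw [h3]; group
          _ = v i * w := by rw [← h2]; group
      have h2 : p = v i * w := by
        have : x * p * x⁻¹ = x * (v i * w) * x⁻¹ := by rw [e, h1]
        exact mul_left_cancel (mul_right_cancel this)
      have h3 : w = 1 := V_mem_of D hij (D.mem i) hw (h2 ▸ hp)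
      rw [h3, mul_one] at h2
      exact hpv h2
    rcases D.eq_of_V hp hp1 (D.mem i) (D.ne i) hpv ha ha1 with h1 | h1 | h1
    · left; rw [e, h1]
    · exact absurd h1 hav
    · right; rw [e, h1, mul_assoc, hvw, mul_assoc]
  -- multiplicativity
  have hLn : ∀ x ∈ L, ∀ w ∈ V j, x * w * x⁻¹ = w := by
    intro x hx w hw
    have := mem_centralizer_iff.1 hx.1.2 w hw
    rw [← this]; group
  have hLv : ∀ x ∈ L, x * v i * x⁻¹ = v i := by
    intro x hx
    have : x * v i = v i * x := mem_centralizer_singleton_iff.1 hx.1.1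
    rw [this]; group
  have hvw : ∀ w ∈ V j, v i * w = w * v i := fun w hw =>
    mem_centralizer_iff.1 (V_le_cent D j i hw) _ (D.mem i)
  have hmul : ∀ x ∈ L, ∀ y ∈ L, ∀ w ∈ V j, ∀ u ∈ V j, (x * p * x⁻¹ = p * w ∨ x * p * x⁻¹ = p * w * v i) →
      (y * p * y⁻¹ = p * u ∨ y * p * y⁻¹ = p * u * v i) →
      (x * y * p * (x * y)⁻¹ = p * (w * u) ∨ x * y * p * (x * y)⁻¹ = p * (w * u) * v i) := by
    intro x hx y _ w hw u hu h1 h2
    have e1 : x * y * p * (x * y)⁻¹ = x * (y * p * y⁻¹) * x⁻¹ := by group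
    have e2 : x * (p * u) * x⁻¹ = (x * p * x⁻¹) * u := by
      calc x * (p * u) * x⁻¹ = (x * p * x⁻¹) * (x * u * x⁻¹) := by group
        _ = _ := by rw [hLn x hx u hu]
    have e3 : x * (p * u * v i) * x⁻¹ = (x * p * x⁻¹) * u * v i := by
      calc x * (p * u * v i) * x⁻¹ = (x * (p * u) * x⁻¹) * (x * v i * x⁻¹) := by group
        _ = _ := by rw [hLv x hx, e2]
    have hvu := hvw u hu
    have hvv := D.v_sq i
    rw [e1]
    rcases h2 with h2 | h2 <;> rw [h2]
    · rw [e2]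
      rcases h1 with h1 | h1 <;> rw [h1]
      · left; group
      · right
        rw [mul_assoc (p * w), hvu]; group
    · rw [e3]
      rcases h1 with h1 | h1 <;> rw [h1]
      · right; group
      · left
        calc p * w * v i * u * v i = p * w * (v i * u) * v i := by group
          _ = p * (w * u) * (v i * v i) := by rw [hvu]; group
          _ = p * (w * u) := by rw [hvv, mul_one]
  have huniq : ∀ x : G, ∀ w ∈ V j, ∀ u ∈ V j, (x * p * x⁻¹ = p * w ∨ x * p * x⁻¹ = p * w * v i) →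
      (x * p * x⁻¹ = p * u ∨ x * p * x⁻¹ = p * u * v i) → w = u := by
    intro x w hw u hu h1 h2
    have hvn : v i ∉ V j := v_notMem D hij.symm
    have key : ∀ w ∈ V j, ∀ u ∈ V j, p * w = p * u * v i → w = u := by
      intro w hw u hu h3
      exfalso
      apply hvn
      have h4 : w = u * v i := by
        have : p * w = p * (u * v i) := by rw [h3, mul_assoc]
        exact mul_left_cancel this
      have h5 := mul_mem (inv_mem hu) hw
      rwa [h4, inv_mul_cancel_left] at h5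
    rcases h1 with h1 | h1 <;> rcases h2 with h2 | h2 <;> rw [h1] at h2
    · exact mul_left_cancel h2
    · exact key w hw u hu h2
    · exact (key u hu w hw h2.symm).symm
    · exact mul_left_cancel (mul_right_cancel h2)
  -- `x ∈ N(V i)` iff its `w` is `1`
  have hN_of : ∀ x ∈ L, (x * p * x⁻¹ = p * 1 ∨ x * p * x⁻¹ = p * 1 * v i) → x ∈ normalizer (V i : Set G) := by
    intro x hx hxp
    rw [mul_one] at hxp
    apply ZN.ChoiceBase.mem_normalizer_of_cj_le
    rintro _ ⟨y, hy, rfl⟩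
    change x * y * x⁻¹ ∈ V i
    by_cases hy1 : y = 1
    · rw [hy1, mul_one, mul_inv_cancel]; exact one_mem _
    have hpp : x * p * x⁻¹ ∈ V i := by
      rcases hxp with h1 | h1 <;> rw [h1]
      · exact hp
      · exact mul_mem hp (D.mem i)
    rcases D.eq_of_V hp hp1 (D.mem i) (D.ne i) hpv hy hy1 with h1 | h1 | h1
    · rw [h1]; exact hpp
    · rw [h1, hLv x hx]; exact D.mem i
    · rw [h1]
      have e : x * (p * v i) * x⁻¹ = (x * p * x⁻¹) * (x * v i * x⁻¹) := by group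
      rw [e, hLv x hx]
      exact mul_mem hpp (D.mem i)
  have hT_of : ∀ x : G, x ∈ normalizer (V i : Set G) → ∀ w ∈ V j,
      (x * p * x⁻¹ = p * w ∨ x * p * x⁻¹ = p * w * v i) → w = 1 := by
    intro x hxN w hw hxp
    have h1 : x * p * x⁻¹ ∈ V i := (mem_normalizer_iff.1 hxN p).1 hp
    rcases hxp with h2 | h2
    · rw [h2] at h1; exact V_mem_of D hij hp hw h1
    · rw [h2] at h1
      refine V_mem_of D hij hp hw ?_
      have := mul_mem h1 (inv_mem (D.mem i))
      rwa [mul_inv_cancel_right] at this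
  -- `T ⊓ L` is a Sylow 2-subgroup of `L`
  set X : Subgroup G := CC v i ⊓ normalizer (V j : Set G) ⊓ normalizer ((V 0 ⊔ V 1 : Subgroup G) : Set G) with hX
  have hTX : T ≤ X := le_inf (le_inf (D.T_le_C i) (D.T_le_N j)) (T_le_N_sup D)
  have hLX : L ≤ X :=
    le_inf (le_inf (inf_le_left.trans inf_le_left)
      ((inf_le_left.trans inf_le_right).trans (centralizer_le_normalizer _))) inf_le_right
  have hTXs : Syl T X := ⟨hTX, D.T_isPGroup, fun Q hQ hQ2 hTQ =>
    (D.syl i).2.2 Q (hQ.trans (inf_le_left.trans inf_le_left)) hQ2 hTQ⟩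
  have hLnX : X ≤ normalizer (L : Set G) := by
    refine fun x hx => ZN.ChoiceBase.mem_normalizer_of_cj_le ?_
    rintro _ ⟨y, hy, rfl⟩
    change x * y * x⁻¹ ∈ L
    obtain ⟨⟨hy1, hy2⟩, hy3⟩ := hy
    obtain ⟨⟨hx1, hx2⟩, hx3⟩ := hx
    refine mem_inf.2 ⟨mem_inf.2 ⟨mul_mem (mul_mem hx1 hy1) (inv_mem hx1), ?_⟩, mul_mem (mul_mem hx3 hy3) (inv_mem hx3)⟩
    refine mem_centralizer_iff.2 fun z hz => ?_
    have h1 : x⁻¹ * z * x ∈ V j := (mem_normalizer_iff''.1 hx2 z).1 hz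
    have h2 := mem_centralizer_iff.1 hy2 _ h1
    calc z * (x * y * x⁻¹) = x * (x⁻¹ * z * x * y) * x⁻¹ := by group
      _ = x * (y * (x⁻¹ * z * x)) * x⁻¹ := by rw [h2]
      _ = x * y * x⁻¹ * z := by group
  have hodd : ¬ 2 ∣ (T ⊓ L).relIndex L :=
    syl_not_dvd (SQ1.FFOne.syl_inf hTXs hLX fun x hx n hn => (mem_normalizer_iff.1 (hLnX hx) n).1 hn)
  have hLN : L ≤ normalizer (V i : Set G) := by
    set L₀ : Subgroup G := L ⊓ normalizer (V i : Set G) with hL₀
    have hTL₀ : T ⊓ L ≤ L₀ := le_inf inf_le_right (inf_le_left.trans (D.T_le_N i))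
    have hodd' : ¬ 2 ∣ L₀.relIndex L := fun h2 => hodd (h2.trans (relIndex_dvd_of_le_left L hTL₀))
    have hnorm : (L₀.subgroupOf L).Normal := by
      constructor
      rintro ⟨y, hyL⟩ hy ⟨x, hx⟩
      rw [mem_subgroupOf] at hy ⊢
      change y ∈ L₀ at hy
      change x * y * x⁻¹ ∈ L₀
      obtain ⟨w, hw, hxw⟩ := hLw x hx
      obtain ⟨w', hw', hxw'⟩ := hLw x⁻¹ (inv_mem hx)
      obtain ⟨u, hu, hyu⟩ := hLw y hyL
      have hu1 : u = 1 := hT_of y hy.2 u hu hyu
      rw [hu1] at hyu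
      have h1 := hmul x hx x⁻¹ (inv_mem hx) w hw w' hw' hxw hxw'
      have h2 : w * w' = 1 := by
        refine huniq _ _ (mul_mem hw hw') 1 (one_mem _) h1 (Or.inl ?_)
        group
      have h3 := hmul x hx y hyL w hw 1 (one_mem _) hxw hyu
      have h4 := hmul (x * y) (mul_mem hx hyL) x⁻¹ (inv_mem hx) _ (mul_mem hw (one_mem _)) w' hw' h3 hxw'
      rw [mul_one, h2] at h4
      exact mem_inf.2 ⟨mul_mem (mul_mem hx hyL) (inv_mem hx), hN_of _ (mul_mem (mul_mem hx hyL) (inv_mem hx)) h4⟩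
    intro x hx
    obtain ⟨w, hw, hxw⟩ := hLw x hx
    have h1 := hmul x hx x hx w hw w hw hxw hxw
    have h2 : w * w = 1 := by rw [← pow_two]; exact D.sqV j w hw
    rw [h2] at h1
    have h3 : x * x ∈ L₀ := mem_inf.2 ⟨mul_mem hx hx, hN_of _ (mul_mem hx hx) h1⟩
    have h4 : x ^ (L₀.relIndex L) ∈ L₀ := by
      have := (L₀.subgroupOf L).pow_index_mem (⟨x, hx⟩ : L)
      rw [mem_subgroupOf] at this
      exact this
    obtain ⟨k, hk⟩ : ∃ k, L₀.relIndex L = 2 * k + 1 := by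
      have : L₀.relIndex L % 2 = 1 := by omega
      exact ⟨L₀.relIndex L / 2, by omega⟩
    rw [hk, pow_add, pow_mul, pow_one, pow_two] at h4
    have h5 := mul_mem (inv_mem (L₀.pow_mem h3 k)) h4
    rw [inv_mul_cancel_left] at h5
    exact h5.2
  -- `R = L P_j`
  intro r hr
  have hPj : ∃ q ∈ P j, r * q ∈ centralizer (V j : Set G) := by
    -- first fix `v j`, then the second vector with an element of `T`
    have hrN := hRj hr
    obtain ⟨b, hb, hb1, hbv⟩ := D.exists_ne_v j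
    have hv1 : r⁻¹ * v j * r ∈ V j := (mem_normalizer_iff''.1 hrN _).1 (D.mem j)
    have hv2 : r⁻¹ * v j * r ≠ 1 := by
      intro h1
      apply D.ne j
      have : v j = r * (r⁻¹ * v j * r) * r⁻¹ := by group
      rw [this, h1]; group
    obtain ⟨l, hl, -, hlv⟩ := D.tr hij.symm hv1 hv2
    -- `r l` fixes `v j`
    have hfix : (r * l) * v j * (r * l)⁻¹ = v j := by
      calc (r * l) * v j * (r * l)⁻¹ = r * (l * v j * l⁻¹) * r⁻¹ := by group
        _ = v j := by rw [hlv]; group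
    have hrlN : r * l ∈ normalizer (V j : Set G) := mul_mem hrN (D.PN j j hl)
    have hb2 : (r * l) * b * (r * l)⁻¹ ∈ V j := (mem_normalizer_iff.1 hrlN b).1 hb
    have cent_of : ∀ x : G, x * v j * x⁻¹ = v j → x * b * x⁻¹ = b → x ∈ centralizer (V j : Set G) := by
      intro x hx1 hx2
      refine mem_centralizer_iff.2 fun y hy => ?_
      have hcv : v j * x = x * v j := by
        calc v j * x = (x * v j * x⁻¹) * x := by rw [hx1]
          _ = x * v j := by group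
      have hcb : b * x = x * b := by
        calc b * x = (x * b * x⁻¹) * x := by rw [hx2]
          _ = x * b := by group
      by_cases hy1 : y = 1
      · rw [hy1, one_mul, mul_one]
      rcases D.eq_of_V hb hb1 (D.mem j) (D.ne j) hbv hy hy1 with h1 | h1 | h1
      · rw [h1]; exact hcb
      · rw [h1]; exact hcv
      · rw [h1, mul_assoc, hcv, ← mul_assoc, hcb, mul_assoc]
    rcases D.eq_of_V hb hb1 (D.mem j) (D.ne j) hbv hb2 (fun h1 => hb1 (conj_eq_one_iff.1 h1)) with h1 | h1 | h1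
    · exact ⟨l, hl, cent_of _ hfix h1⟩
    · exfalso
      apply hbv
      have : (r * l) * b * (r * l)⁻¹ = (r * l) * v j * (r * l)⁻¹ := by rw [h1, hfix]
      exact mul_left_cancel (mul_right_cancel this)
    · obtain ⟨t, ht, htb⟩ := D.exists_swap hb hb1 hbv
      refine ⟨l * t, mul_mem hl (D.T_le_P j ht), ?_⟩
      have htv := D.cen j ht
      rw [← mul_assoc]
      refine cent_of _ ?_ ?_
      · calc r * l * t * v j * (r * l * t)⁻¹ = (r * l) * (t * v j * t⁻¹) * (r * l)⁻¹ := by group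
          _ = v j := by rw [htv, hfix]
      · calc r * l * t * b * (r * l * t)⁻¹ = (r * l) * (t * b * t⁻¹) * (r * l)⁻¹ := by group
          _ = ((r * l) * b * (r * l)⁻¹) * ((r * l) * v j * (r * l)⁻¹) := by rw [htb]; group
          _ = b := by rw [h1, hfix, mul_assoc, D.v_sq, mul_one]
  obtain ⟨q, hq, hrq⟩ := hPj
  have h1 : r * q ∈ L := by
    refine ⟨⟨mul_mem (hRi hr) (D.PC j i hij.symm hq), hrq⟩, mul_mem (hRM hr) (P_le_N_sup D j hq)⟩
  have h2 := mul_mem (hLN h1) (inv_mem (D.PN j i hq))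
  rwa [mul_inv_cancel_right] at h2

/-! ### LEMMA FIX -/

include h

/-- **LEMMA FIX** at the level `K` -/
theorem OffK.fix {i : Fin 2} {w : G} (hw : w ∈ OO T V) (hw2 : w * w = 1) (hwK : w ∈ centralizer (K : Set G))
    (hwc : ∀ o ∈ OO T V, o * w * o⁻¹ = w ∨ o * w * o⁻¹ = w * v i) : ∀ o ∈ OO T V, o * w = w * o := by
  obtain ⟨j, hij⟩ : ∃ j : Fin 2, i ≠ j := ⟨i + 1, ne_add_one i⟩
  obtain ⟨A, hAT, hAj, hAi, hoff⟩ := h.off i j hij
  obtain ⟨τ, hτ, hτi⟩ := SetLike.not_le_iff_exists.1 hAi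
  have hτo : τ ∉ o2 (P i) := fun h1 => hτi (by rw [o2_P D i] at h1; exact h1.2)
  obtain ⟨p, hp, hp1, hpv⟩ := D.exists_ne_v i
  obtain ⟨g, hg, -, hgp⟩ := D.tr hij hp hp1
  have hgO := P_le_N_OO D i hg
  have hoT : o2 (P i) ≤ T := o2_le_syl (sylP D i)
  have hgK : g ∈ normalizer (K : Set G) := h.nrm (P i) (OO_le_o2 D i) hoT hg
  set e := g * w * g⁻¹ with he
  have heO : e ∈ OO T V := (mem_normalizer_iff.1 hgO w).1 hw
  have heK : e ∈ centralizer (K : Set G) := by
    refine mem_centralizer_iff.2 fun k hk => ?_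
    have h1 : g⁻¹ * k * g ∈ K := (mem_normalizer_iff''.1 hgK k).1 hk
    have h2 := mem_centralizer_iff.1 hwK _ h1
    calc k * (g * w * g⁻¹) = g * (g⁻¹ * k * g * w) * g⁻¹ := by group
      _ = g * (w * (g⁻¹ * k * g)) * g⁻¹ := by rw [h2]
      _ = g * w * g⁻¹ * k := by group
  have hTO : T ≤ normalizer (OO T V : Set G) := (D.T_le_P i).trans (P_le_N_OO D i)
  have hτK : τ ∈ normalizer (K : Set G) := h.nrm (P i) (OO_le_o2 D i) hoT (D.T_le_P i (hAT hτ))
  have he'K : τ * e * τ⁻¹ ∈ centralizer (K : Set G) := by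
    refine mem_centralizer_iff.2 fun k hk => ?_
    have h1 : τ⁻¹ * k * τ ∈ K := (mem_normalizer_iff''.1 hτK k).1 hk
    have h2 := mem_centralizer_iff.1 heK _ h1
    calc k * (τ * e * τ⁻¹) = τ * (τ⁻¹ * k * τ * e) * τ⁻¹ := by group
      _ = τ * (e * (τ⁻¹ * k * τ)) * τ⁻¹ := by rw [h2]
      _ = τ * e * τ⁻¹ * k := by group
  have dat : LevFix.Dat A (OO T V) (V 0 ⊔ V 1) τ p e :=
    { VO := sup_le_OO D
      OV := fun o ho x hx => OO_comm D ho hx
      V2 := fun x hx => sup_sq D hx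
      AO := fun a ha o ho => (mem_normalizer_iff.1 (hTO (hAT ha)) o).1 ho
      AV := fun a ha x hx => (mem_normalizer_iff.1 (T_le_N_sup D (hAT ha)) x).1 hx
      τA := hτ
      idx := idx_OO D hij hAT hAj hτ hτo
      pV := V_le_sup V i hp
      p1 := hp1
      pτ := by
        rw [moves D (hAT hτ) hτo hp hp1 hpv]
        intro h1
        exact D.ne i (mul_eq_left.1 h1)
      eO := heO
      e2 := by
        calc g * w * g⁻¹ * (g * w * g⁻¹) = g * (w * w) * g⁻¹ := by group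
          _ = 1 := by rw [hw2]; group
      ec := by
        intro o ho
        have ho' : g⁻¹ * o * g ∈ OO T V := (mem_normalizer_iff''.1 hgO o).1 ho
        have e1 : o * e * o⁻¹ = g * ((g⁻¹ * o * g) * w * (g⁻¹ * o * g)⁻¹) * g⁻¹ := by rw [he]; group
        rcases hwc _ ho' with h1 | h1
        · left; rw [e1, h1]
        · right; rw [e1, h1, he, ← hgp]; group
      off := by
        intro F hFO hVF hFc hFcomm hFsq hFA
        refine hoff F hFO (hFc.trans ((closure_le _).2 ?_)) hVF hFcomm hFsq hFA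
        rintro x (hx | hx | hx)
        · exact centralizer_le h.KO (mem_centralizer_iff.2 fun o ho => OO_comm D ho hx)
        · rw [hx]; exact heK
        · have hx' : x = τ * e * τ⁻¹ := hx
          rw [hx']; exact he'K }
  intro o ho
  have ho' : g * o * g⁻¹ ∈ OO T V := (mem_normalizer_iff.1 hgO o).1 ho
  have h1 := dat.main _ ho'
  have e1 : o * w = g⁻¹ * ((g * o * g⁻¹) * e) * g := by rw [he]; group
  rw [e1, h1, he]; group

/-- `|Y : C_Y(A)| ≤ 2`, `Y = Ω₁Z(O)` -/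
theorem OffK.card_zc {i j : Fin 2} (hij : i ≠ j) {A : Subgroup G} (hAT : A ≤ T)
    (hAj : A ≤ centralizer (V j : Set G)) {τ : G} (hτ : τ ∈ A) (hτo : τ ∉ o2 (P i))
    (hoff : ∀ F : Subgroup G, F ≤ OO T V → F ≤ centralizer (K : Set G) → V 0 ⊔ V 1 ≤ F →
      (∀ x ∈ F, ∀ y ∈ F, x * y = y * x) → (∀ x ∈ F, x * x = 1) → A ≤ normalizer (F : Set G) → OffM F A) :
    Nat.card (zc (OO T V)) ≤ 2 * Nat.card (zc (OO T V) ⊓ centralizer (A : Set G) : Subgroup G) := by
  set Y := zc (OO T V) with hY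
  have hYO : Y ≤ OO T V := zc_le _
  have hTO : T ≤ normalizer (OO T V : Set G) := (D.T_le_P i).trans (P_le_N_OO D i)
  have hVY : V 0 ⊔ V 1 ≤ Y := by
    intro x hx
    exact mem_zc.2 ⟨sup_le_OO D hx, fun o ho => (OO_comm D ho hx), by rw [pow_two]; exact sup_sq D hx⟩
  have hOY : OO T V ≤ centralizer (Y : Set G) := by
    intro a ha
    exact mem_centralizer_iff.2 fun y hy => ((mem_zc.1 hy).2.1 a ha).symm
  have h1 := (hoff Y hYO (fun y hy => mem_centralizer_iff.2 fun k hk => (mem_zc.1 hy).2.1 k (h.KO hk)) hVY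
    (fun x hx y hy => (isElementaryAbelian_iff.1 (isElementaryAbelian_zc (OO T V))).1 x hx y hy)
    (fun x hx => by rw [← pow_two]; exact (mem_zc.1 hx).2.2)
    (hAT.trans (hTO.trans (NO3S.Level.normalizer_le_zc _)))).le
  have h2 : Nat.card A ≤ 2 * Nat.card ↥(A ⊓ centralizer (Y : Set G)) := by
    refine (LevFix.le_two_mul (C := A ⊓ OO T V) hτ inf_le_left fun a ha => ?_).trans
      (Nat.mul_le_mul_left _ (Subgroup.card_le_of_le (inf_le_inf_left _ hOY)))
    rcases idx_OO D hij hAT hAj hτ hτo a ha with h3 | h3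
    · exact Or.inl ⟨ha, h3⟩
    · exact Or.inr ⟨mul_mem hτ ha, h3⟩
  have hpos : 0 < Nat.card ↥(A ⊓ centralizer (Y : Set G)) := Nat.card_pos
  refine Nat.le_of_mul_le_mul_right ?_ hpos
  calc Nat.card Y * Nat.card ↥(A ⊓ centralizer (Y : Set G))
      ≤ Nat.card A * Nat.card ↥(Y ⊓ centralizer (A : Set G)) := h1
    _ ≤ (2 * Nat.card ↥(A ⊓ centralizer (Y : Set G))) * Nat.card ↥(Y ⊓ centralizer (A : Set G)) :=
        Nat.mul_le_mul_right _ h2
    _ = _ := by ring

/-- `Ω₁Z(O) ≤ V 0 V 1` -/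
theorem OffK.zc_OO : zc (OO T V) ≤ V 0 ⊔ V 1 := by
  have h01 : (0 : Fin 2) ≠ 1 := by decide
  obtain ⟨A, hAT, hAj, hAi, hoffA⟩ := h.off 0 1 h01
  obtain ⟨B, hBT, hBj, hBi, hoffB⟩ := h.off 1 0 h01.symm
  obtain ⟨τ, hτ, hτi⟩ := SetLike.not_le_iff_exists.1 hAi
  have hτo : τ ∉ o2 (P 0) := fun h1 => hτi (by rw [o2_P D] at h1; exact h1.2)
  obtain ⟨σ, hσ, hσi⟩ := SetLike.not_le_iff_exists.1 hBi
  have hσo : σ ∉ o2 (P 1) := fun h1 => hσi (by rw [o2_P D] at h1; exact h1.2)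
  set Y := zc (OO T V) with hY
  have hYO : Y ≤ OO T V := zc_le _
  have hOT : OO T V ≤ T := fun x hx => (mem_OO.1 hx).1
  have h1 := OffK.card_zc D h h01 hAT hAj hτ hτo hoffA
  have h2 := OffK.card_zc D h h01.symm hBT hBj hσ hσo hoffB
  set YA := Y ⊓ centralizer (A : Set G) with hYA
  set YB := Y ⊓ centralizer (B : Set G) with hYB
  have hcomm : YB ≤ centralizer (YA : Set G) := by
    rintro x ⟨hx, -⟩
    refine mem_centralizer_iff.2 fun y hy => ?_
    exact (isElementaryAbelian_iff.1 (isElementaryAbelian_zc (OO T V))).1 y hy.1 x hx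
  have h3 := card_sup_mul_card_inf hcomm
  have h4 : Nat.card (YA ⊔ YB : Subgroup G) ≤ Nat.card Y := Subgroup.card_le_of_le (sup_le inf_le_left inf_le_left)
  have h5 : YA ⊓ YB ≤ zc T := by
    rintro y ⟨⟨hy, hyA⟩, ⟨-, hyB⟩⟩
    have hy' := mem_zc.1 hy
    have cτ : τ * y = y * τ := mem_centralizer_iff.1 hyA τ hτ
    have cσ : σ * y = y * σ := mem_centralizer_iff.1 hyB σ hσ
    refine mem_zc.2 ⟨hOT (hYO hy), fun t ht => ?_, hy'.2.2⟩
    have key : ∀ s : G, s * y = y * s → s * t * y = y * (s * t) → t * y = y * t := by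
      intro s hs hst
      have h6 : s⁻¹ * y = y * s⁻¹ := by
        calc s⁻¹ * y = s⁻¹ * (y * s) * s⁻¹ := by group
          _ = s⁻¹ * (s * y) * s⁻¹ := by rw [hs]
          _ = y * s⁻¹ := by group
      calc t * y = s⁻¹ * (s * t * y) := by group
        _ = (s⁻¹ * y) * (s * t) := by rw [hst]; group
        _ = y * t := by rw [h6]; group
    have hτc : τ ∈ centralizer (V 1 : Set G) := hAj hτ
    have hσc : σ ∈ centralizer (V 0 : Set G) := hBj hσ
    have hmem : ∀ s ∈ T, s ∈ o2 (P 0) → s ∈ o2 (P 1) → s * y = y * s := by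
      intro s hs h0 h1
      rw [o2_P D] at h0 h1
      exact hy'.2.1 s ((mem_OO' h01).2 ⟨hs, h0.2, h1.2⟩)
    have hσ0 : σ ∈ o2 (P 0) := by rw [o2_P D]; exact ⟨hBT hσ, hσc⟩
    have hτ1 : τ ∈ o2 (P 1) := by rw [o2_P D]; exact ⟨hAT hτ, hτc⟩
    have h1' : ∀ s ∈ T, s ∈ o2 (P 0) → s * y = y * s := by
      intro s hs h0
      by_cases hs1 : s ∈ o2 (P 1)
      · exact hmem s hs h0 hs1
      · have h7 := hmem (σ * s) (mul_mem (hBT hσ) hs) (mul_mem hσ0 h0) (mul_mem_o2 D (hBT hσ) hσo hs hs1)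
        have h6 : σ⁻¹ * y = y * σ⁻¹ := by
          calc σ⁻¹ * y = σ⁻¹ * (y * σ) * σ⁻¹ := by group
            _ = σ⁻¹ * (σ * y) * σ⁻¹ := by rw [cσ]
            _ = y * σ⁻¹ := by group
        calc s * y = σ⁻¹ * (σ * s * y) := by group
          _ = (σ⁻¹ * y) * (σ * s) := by rw [h7]; group
          _ = y * s := by rw [h6]; group
    by_cases ht0 : t ∈ o2 (P 0)
    · exact h1' t ht ht0
    · exact key τ cτ (h1' (τ * t) (mul_mem (hAT hτ) ht) (mul_mem_o2 D (hAT hτ) hτo ht ht0))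
  have h6 : Nat.card (YA ⊓ YB : Subgroup G) ≤ 4 := (Subgroup.card_le_of_le h5).trans (card_zc_le D)
  have h7 : 0 < Nat.card YB := Nat.card_pos
  have hpY : 0 < Nat.card Y := Nat.card_pos
  have h8 : Nat.card Y ≤ 16 := by
    have h9 : Nat.card YA * Nat.card YB ≤ Nat.card Y * 4 := by
      rw [← h3]; exact Nat.mul_le_mul h4 h6
    have h10 : Nat.card Y * Nat.card Y ≤ 16 * Nat.card Y := by
      calc Nat.card Y * Nat.card Y ≤ (2 * Nat.card YA) * (2 * Nat.card YB) := Nat.mul_le_mul h1 h2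
        _ = 4 * (Nat.card YA * Nat.card YB) := by ring
        _ ≤ 4 * (Nat.card Y * 4) := Nat.mul_le_mul_left _ h9
        _ = 16 * Nat.card Y := by ring
    exact Nat.le_of_mul_le_mul_right h10 hpY
  have hVY : V 0 ⊔ V 1 ≤ Y := by
    intro x hx
    exact mem_zc.2 ⟨sup_le_OO D hx, fun o ho => (OO_comm D ho hx), by rw [pow_two]; exact sup_sq D hx⟩
  exact (Subgroup.eq_of_le_of_card_ge hVY (by rw [card_V_sup D h01]; exact h8)).ge

/-- **`Ω₁Z(O₂(P i)) ≤ V i ⟨v j⟩`** -/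
theorem OffK.hZO {i j : Fin 2} (hij : i ≠ j) : zc (o2 (P i)) ≤ V i ⊔ zpowers (v j) := by
  intro x hx
  obtain ⟨hx1, hx2, hx3⟩ := mem_zc.1 hx
  have ho := o2_P D i
  have hVi : V i ≤ o2 (P i) := by
    rw [ho]; exact le_inf (D.V_le_T i) (V_le_cent D i i)
  have hVj : V j ≤ o2 (P i) := by
    rw [ho]; exact le_inf (D.V_le_T j) (V_le_cent D j i)
  have hxO : x ∈ OO T V := by
    rw [ho] at hx1
    exact (mem_OO' hij).2 ⟨hx1.1, hx1.2, mem_centralizer_iff.2 fun y hy => (hx2 y (hVj hy))⟩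
  have hxz : x ∈ zc (OO T V) := mem_zc.2 ⟨hxO, fun o ho => hx2 o (OO_le_o2 D i ho), hx3⟩
  have hxM := OffK.zc_OO D h hxz
  rw [sup_eq_of V hij] at hxM
  obtain ⟨a, ha, b, hb, rfl⟩ := FixEL.mem_sup D hxM
  refine mul_mem_sup ha ?_
  -- `b` is centralised by `C_T(V i)`, which moves `V j`
  by_cases hb1 : b = 1
  · rw [hb1]; exact one_mem _
  by_cases hbv : b = v j
  · rw [hbv]; exact mem_zpowers _
  exfalso
  obtain ⟨A, hAT, hAj, hAi, -⟩ := h.off j i hij.symm
  obtain ⟨σ, hσ, hσi⟩ := SetLike.not_le_iff_exists.1 hAi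
  have hσo : σ ∈ o2 (P i) := by rw [ho]; exact ⟨hAT hσ, hAj hσ⟩
  have h1 := hx2 σ hσo
  have h2 : σ * a = a * σ := (mem_centralizer_iff.1 (hAj hσ) a ha).symm
  have h3 : σ * b * σ⁻¹ = b := by
    have h4 : a * (σ * b) = a * (b * σ) := by
      calc a * (σ * b) = σ * (a * b) := by rw [← mul_assoc, ← h2, mul_assoc]
        _ = a * (b * σ) := by rw [h1, mul_assoc]
    rw [mul_left_cancel h4, mul_inv_cancel_right]
  rcases FixEL.eq_of_fix D (hAT hσ) hσi hb h3 with h4 | h4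
  · exact hb1 h4
  · exact hbv h4

/-- **`hU`** : a minimal parabolic `R` over `T` in `C(v i)` which moves `v j` normalises `V i`. -/
theorem OffK.hU {i j : Fin 2} (hij : i ≠ j) {R : Subgroup G} (hR : IsMinPar T R) (hRi : R ≤ CC v i)
    (hRj : ¬ R ≤ CC v j) : R ≤ normalizer (V i : Set G) := by
  have hN : R ≤ normalizer (V j : Set G) := D.uni j i hij.symm R hR hRi hRj
  have ho := o2_eq D hij.symm hR hRi hRj
  have hoT : o2 R ≤ T := by rw [ho]; exact inf_le_left
  have hOR : OO T V ≤ o2 R := by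
    rw [ho]; exact fun x hx => ⟨(mem_OO.1 hx).1, (mem_OO.1 hx).2 j⟩
  have hRK := h.nrm R hOR hoT
  refine norm_V_of D hij hRi hN ?_
  -- `V i ^ R ≤ V 0 V 1`
  have key : ∀ g ∈ R, ∀ a ∈ V i, g * a * g⁻¹ ∈ V 0 ⊔ V 1 := by
    intro g hg a ha
    have haO : a ∈ OO T V := V_le_OO D i ha
    have hgi : g * v i = v i * g := mem_centralizer_singleton_iff.1 (hRi hg)
    have hao : a ∈ o2 R := by rw [ho]; exact ⟨D.V_le_T i ha, V_le_cent D i j ha⟩
    have h1 : g * a * g⁻¹ ∈ o2 R := (mem_normalizer_iff.1 (le_normalizer_o2 _ hg) a).1 hao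
    have h1T : g * a * g⁻¹ ∈ T := hoT h1
    have h1j : g * a * g⁻¹ ∈ centralizer (V j : Set G) := by rw [ho] at h1; exact h1.2
    -- commutators
    have hcomm : ∀ o ∈ o2 R, o * (g * a * g⁻¹) * o⁻¹ = g * a * g⁻¹ ∨
        o * (g * a * g⁻¹) * o⁻¹ = g * a * g⁻¹ * v i := by
      intro o hoo
      have h2 : g⁻¹ * o * g ∈ o2 R := (mem_normalizer_iff''.1 (le_normalizer_o2 _ hg) o).1 hoo
      have e1 : o * (g * a * g⁻¹) * o⁻¹ = g * ((g⁻¹ * o * g) * a * (g⁻¹ * o * g)⁻¹) * g⁻¹ := by group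
      rw [e1]
      have h3 := D.comm_VQ i ha (hoT h2)
      set s := g⁻¹ * o * g with hs
      have e2 : s * a * s⁻¹ = a * (a * s * a⁻¹ * s⁻¹)⁻¹ * 1 := by
        have haa : a * a = 1 := by rw [← pow_two]; exact D.sqV i a ha
        have hai : a⁻¹ = a := inv_eq_of_mul_eq_one_left haa
        -- `[a,s]⁻¹ = s a s⁻¹ a⁻¹` and it commutes with `a`
        have h4 : (a * s * a⁻¹ * s⁻¹)⁻¹ = s * a * s⁻¹ * a⁻¹ := by group
        have h5 : s * a * s⁻¹ ∈ V i := (mem_normalizer_iff.1 (D.T_le_N i (hoT h2)) a).1 ha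
        have h6 := D.V_comm ha h5
        rw [mul_one, h4]
        calc s * a * s⁻¹ = s * a * s⁻¹ * a * a⁻¹ := by group
          _ = a * (s * a * s⁻¹) * a⁻¹ := by rw [h6]
          _ = a * (s * a * s⁻¹ * a⁻¹) := by group
      rw [mul_one] at e2
      rcases mem_zpow_cases D i (inv_mem h3) with h4 | h4
      · left; rw [e2, h4, mul_one]
      · right
        rw [e2, h4]
        calc g * (a * v i) * g⁻¹ = g * a * (v i * g⁻¹) := by group
          _ = g * a * (g⁻¹ * v i) := by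
            have : v i * g⁻¹ = g⁻¹ * v i := by
              calc v i * g⁻¹ = g⁻¹ * (g * v i) * g⁻¹ := by group
                _ = g⁻¹ * (v i * g) * g⁻¹ := by rw [hgi]
                _ = g⁻¹ * v i := by group
            rw [this]
          _ = g * a * g⁻¹ * v i := by group
    -- `g a g⁻¹` centralises `V i`: it commutes with `V i` up to ..
    have hK : g * a * g⁻¹ ∈ centralizer (K : Set G) := by
      refine mem_centralizer_iff.2 fun k hk => ?_
      have h2 : g⁻¹ * k * g ∈ K := (mem_normalizer_iff''.1 (hRK hg) k).1 hk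
      have h3 := mem_centralizer_iff.1 ((mem_OO.1 (h.KO h2)).2 i) a ha
      calc k * (g * a * g⁻¹) = g * (g⁻¹ * k * g * a) * g⁻¹ := by group
        _ = g * (a * (g⁻¹ * k * g)) * g⁻¹ := by rw [← h3]
        _ = g * a * g⁻¹ * k := by group
    have hW : g * a * g⁻¹ ∈ WU V v i := (mem_normalizer_iff.1 (D.C_le_N_W i (hRi hg)) a).1 (D.V_le_W i ha)
    have hO : g * a * g⁻¹ ∈ OO T V := by
      refine (mem_OO' hij).2 ⟨h1T, ?_, h1j⟩
      exact centralizer_le (D.V_le_W i) (D.W_comm i hW)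
    have h2 : g * a * g⁻¹ * (g * a * g⁻¹) = 1 := by
      have haa : a * a = 1 := by rw [← pow_two]; exact D.sqV i a ha
      calc g * a * g⁻¹ * (g * a * g⁻¹) = g * (a * a) * g⁻¹ := by group
        _ = 1 := by rw [haa]; group
    have h3 := OffK.fix D h hO h2 hK fun o ho => hcomm o (hOR ho)
    exact OffK.zc_OO D h (mem_zc.2 ⟨hO, h3, by rw [pow_two]; exact h2⟩)
  intro g hg
  apply ZN.ChoiceBase.mem_normalizer_of_cj_le
  have e : ZN.ChoiceBase.cj g (V 0 ⊔ V 1) = ZN.ChoiceBase.cj g (V i) ⊔ ZN.ChoiceBase.cj g (V j) := by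
    rw [sup_eq_of V hij]
    exact Subgroup.map_sup _ _ _
  rw [e]
  refine sup_le ?_ ?_
  · rintro _ ⟨a, ha, rfl⟩
    exact key g hg a ha
  · rintro _ ⟨a, ha, rfl⟩
    exact V_le_sup V j ((mem_normalizer_iff.1 (hN hg) a).1 ha)

omit h in
/-- stage `-1` -/
theorem offK_of_hJ (hJ : ∀ i, ¬ jj T ≤ o2 (P i)) : OffK T V ⊥ where
  KO := bot_le
  nrm := fun H _ _ x _ => by
    rw [mem_normalizer_iff]
    intro y
    rw [mem_bot, mem_bot]
    exact conj_eq_one_iff.symm
  off := by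
    intro i j hij
    obtain ⟨A, hA, hAj, τ, hτ, hτo⟩ := FixEL.exists_A D hJ hij
    have hAi : ¬ A ≤ centralizer (V i : Set G) := fun hh => hτo (by rw [o2_P D i]; exact ⟨hA.1 hτ, hh hτ⟩)
    refine ⟨A, hA.1, hAj, hAi, fun F hF _ hVF hFc hFs hAF => ?_⟩
    have hAc := (isElementaryAbelian_iff.1 hA.2.1).1
    have hAs := (isElementaryAbelian_iff.1 hA.2.1).2
    refine { sq := fun a ha => by rw [hAs a ha]; exact one_mem _
             comm := fun a ha b hb => by
              rw [hAc a ha b hb, mul_inv_cancel_right, mul_inv_cancel]; exact one_mem _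
             ne := fun hh => hAi (hh.trans (centralizer_le ((V_le_sup V i).trans hVF)))
             le := ?_ }
    have hFe : IsElementaryAbelian 2 F := isElementaryAbelian_iff.2 ⟨hFc, fun x hx => by rw [pow_two]; exact hFs x hx⟩
    have hFT : F ≤ T := hF.trans fun x hx => (mem_OO.1 hx).1
    have hc : A ⊓ centralizer (F : Set G) ≤ centralizer (F : Set G) := inf_le_right
    have h1 := card_sup_mul_card_inf hc
    have h2 : Nat.card (F ⊔ (A ⊓ centralizer (F : Set G)) : Subgroup G) ≤ Nat.card A :=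
      hA.2.2 _ (sup_le hFT (inf_le_left.trans hA.1))
        (isElementaryAbelian_sup hFe (isElementaryAbelian_mono hA.2.1 inf_le_left) hc)
    have h3 : Nat.card (F ⊓ (A ⊓ centralizer (F : Set G)) : Subgroup G) ≤ Nat.card ↥(F ⊓ centralizer (A : Set G)) := by
      refine Subgroup.card_le_of_le (inf_le_inf_left _ (inf_le_left.trans ?_))
      intro a ha
      exact mem_centralizer_iff.2 fun b hb => hAc b hb a ha
    rw [← h1]
    exact Nat.mul_le_mul h2 h3

end

section mul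

open Cfsg.Agent.Omega.OM
open Cfsg.Agent.Omega.Node.MultiOf
open Cfsg.Agent.Omega.NO3S.Level (lev nxt BO)

variable [Finite G] {S : Sylow 2 G} {P' K B ZJ : Subgroup G} {L W Z C R : Fin 2 → Subgroup G} {v : Fin 2 → G}

/-- `O = C_T(V 0 V 1) = O₂(P)` -/
theorem OO_eq (D : KTwo.Sit S P' ((S : Subgroup G) ⊓ normalizer (Z 0 : Set G)) W v) :
    OO ((S : Subgroup G) ⊓ normalizer (Z 0 : Set G)) W = o2 P' := by
  set T := (S : Subgroup G) ⊓ normalizer (Z 0 : Set G) with hT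
  have h1 := IsParS.inf_centralizer S D.hyp.ctx.char2 D.hyp.star
  apply le_antisymm
  · rw [← h1]
    intro x hx
    obtain ⟨hxT, hx⟩ := mem_OO.1 hx
    refine ⟨hxT.1, ?_⟩
    have h2 : W 0 ⊔ W 1 ≤ centralizer ({x} : Set G) := by
      refine sup_le ?_ ?_ <;>
        exact fun y hy => mem_centralizer_singleton_iff.2 (mem_centralizer_iff.1 (hx _) y hy)
    exact mem_centralizer_iff.2 fun y hy => mem_centralizer_singleton_iff.1 (h2 (D.sup 0 1 (by decide) hy))
  · intro x hx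
    rw [← h1] at hx
    have h2 : ∀ i, x ∈ centralizer (W i : Set G) := fun i => centralizer_le (D.le i) hx.2
    refine mem_OO.2 ⟨?_, h2⟩
    rw [D.T_eq 0]
    exact ⟨hx.1, centralizer_le_normalizer _ (h2 0)⟩

/-- best offenders with smaller image -/
theorem best_inf {X V A : Subgroup G} (hb : Best X A) (hV : V ≤ X) (hX : ∀ x ∈ X, ∀ y ∈ X, x * y = y * x)
    (hA2 : Nat.card A ≤ 2 * Nat.card ↥(A ⊓ centralizer (V : Set G))) (hne : ¬ A ≤ centralizer (V : Set G)) :
    Best X (A ⊓ centralizer (V : Set G)) := by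
  refine { toElemM := NO1.BestOff.ElemM.mono hb.toElemM inf_le_left, max := fun Y hY hYc => ?_ }
  have h1 : A ⊓ centralizer (X : Set G) ≤ Y :=
    le_trans (le_inf (le_inf inf_le_left (inf_le_right.trans (centralizer_le hV))) inf_le_right) hYc
  refine (hb.max Y (hY.trans inf_le_left) h1).trans ?_
  obtain ⟨a, ha, haV⟩ := SetLike.not_le_iff_exists.1 hne
  obtain ⟨x, hx, hax⟩ : ∃ x ∈ V, a * x ≠ x * a := by
    by_contra hcon
    push Not at hcon
    exact haV (mem_centralizer_iff.2 fun y hy => (hcon y hy).symm)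
  have h2 : 2 * Nat.card ↥(X ⊓ centralizer (A : Set G)) ≤
      Nat.card ↥(X ⊓ centralizer ((A ⊓ centralizer (V : Set G) : Subgroup G) : Set G)) := by
    refine LevFix.two_mul_le (inf_le_inf_left _ (centralizer_le inf_le_left)) (x := x) ⟨hV hx, ?_⟩ ?_
    · exact mem_centralizer_iff.2 fun b hb => (mem_centralizer_iff.1 hb.2 x hx).symm
    · intro hh
      exact hax (mem_centralizer_iff.1 hh.2 a ha)
  calc Nat.card A * Nat.card ↥(X ⊓ centralizer (A : Set G))
      ≤ (2 * Nat.card ↥(A ⊓ centralizer (V : Set G))) * Nat.card ↥(X ⊓ centralizer (A : Set G)) :=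
        Nat.mul_le_mul_right _ hA2
    _ = Nat.card ↥(A ⊓ centralizer (V : Set G)) * (2 * Nat.card ↥(X ⊓ centralizer (A : Set G))) := by ring
    _ ≤ _ := Nat.mul_le_mul_left _ h2

/-- **stage `n`** -/
theorem offK_of_lev (hF : Fr ((S : Subgroup G) ⊓ normalizer (Z 0 : Set G)) W R v)
    (D : KTwo.Sit S P' ((S : Subgroup G) ⊓ normalizer (Z 0 : Set G)) W v) {n : ℕ}
    (hn : lev (S : Subgroup G) n ≤ o2 P') (hn1 : ¬ lev (S : Subgroup G) (n + 1) ≤ o2 P')
    (hT : lev (S : Subgroup G) (n + 1) ≤ (S : Subgroup G) ⊓ normalizer (Z 0 : Set G)) :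
    OffK ((S : Subgroup G) ⊓ normalizer (Z 0 : Set G)) W (lev (S : Subgroup G) n) := by
  set T := (S : Subgroup G) ⊓ normalizer (Z 0 : Set G) with hTdef
  have hOO := OO_eq D
  have hlev := NO3S.Level.lev_isLev (S : Subgroup G) n
  have hTS : T ≤ (S : Subgroup G) := inf_le_left
  have hKO : lev (S : Subgroup G) n ≤ OO T W := by rw [hOO]; exact hn
  have hOOS : OO T W ≤ (S : Subgroup G) := fun x hx => hTS (mem_OO.1 hx).1
  set X := zc (lev (S : Subgroup G) n) with hX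
  have hVX : ∀ i, W i ≤ X := by
    intro i x hx
    have h1 : x ∈ zc (OO T W) := mem_zc.2 ⟨V_le_OO hF i hx, fun o ho => OO_comm hF ho (V_le_sup W i hx), hF.sqV i x hx⟩
    exact hlev.zc_le_zc hKO hOOS h1
  have hXc : ∀ x ∈ X, ∀ y ∈ X, x * y = y * x := fun x hx y hy => NO3S.Level.Lev.zc_comm hx hy
  -- a best offender which moves `W 0 W 1`
  obtain ⟨A, hA, hAQ⟩ := NO3S.exists_BO D.hyp.ctx.char2 D.hyp.star hn hn1
  have hAT : A ≤ T := (NO3S.Level.BO.le_nxt hA).trans hT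
  have hAX : Best X A := hA.2
  -- the family of best offenders in `T` on `X`
  have key : ∃ i j : Fin 2, i ≠ j ∧ ∃ A' ≤ T, A' ≤ centralizer (W j : Set G) ∧ ¬ A' ≤ centralizer (W i : Set G) ∧
      Best X A' := by
    have h01 : (0 : Fin 2) ≠ 1 := by decide
    by_cases h1 : A ≤ centralizer (W 1 : Set G)
    · refine ⟨0, 1, h01, A, hAT, h1, fun h0 => hAQ ?_, hAX⟩
      rw [← hOO]
      exact fun a ha => (mem_OO' h01).2 ⟨hAT ha, h0 ha, h1 ha⟩
    by_cases h0 : A ≤ centralizer (W 0 : Set G)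
    · exact ⟨1, 0, h01.symm, A, hAT, h0, h1, hAX⟩
    -- `A` moves both
    obtain ⟨τ, hτ, hτ1⟩ := SetLike.not_le_iff_exists.1 h1
    have hτo : τ ∉ o2 (R 1) := fun hh => hτ1 (by rw [o2_P hF] at hh; exact hh.2)
    have hA2 : Nat.card A ≤ 2 * Nat.card ↥(A ⊓ centralizer (W 1 : Set G)) := by
      refine LevFix.le_two_mul hτ inf_le_left fun a ha => ?_
      by_cases hao : a ∈ o2 (R 1)
      · rw [o2_P hF] at hao
        exact Or.inl ⟨ha, hao.2⟩
      · have h2 := mul_mem_o2 hF (hAT hτ) hτo (hAT ha) hao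
        rw [o2_P hF] at h2
        exact Or.inr ⟨mul_mem hτ ha, h2.2⟩
    have hb := best_inf hAX (hVX 1) hXc hA2 h1
    refine ⟨0, 1, h01, A ⊓ centralizer (W 1 : Set G), inf_le_left.trans hAT, inf_le_right, fun hcon => ?_, hb⟩
    -- otherwise `A` induces on `W 0 W 1` a group of order 2, `|W 0 W 1 : C(A)| = 4`
    have hoff := hAX.offM (W := W 0 ⊔ W 1) (sup_le (hVX 0) (hVX 1))
      (fun hh => h1 (hh.trans (centralizer_le (V_le_sup W 1))))
    have hle := hoff.le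
    have hcC : Nat.card ↥(A ⊓ centralizer (W 1 : Set G)) ≤
        Nat.card ↥(A ⊓ centralizer ((W 0 ⊔ W 1 : Subgroup G) : Set G)) := by
      refine Subgroup.card_le_of_le (le_inf inf_le_left fun a ha => ?_)
      have hc0 := hcon ha
      have h2 : W 0 ⊔ W 1 ≤ centralizer ({a} : Set G) := by
        refine sup_le ?_ ?_
        · exact fun y hy => mem_centralizer_singleton_iff.2 (mem_centralizer_iff.1 hc0 y hy)
        · exact fun y hy => mem_centralizer_singleton_iff.2 (mem_centralizer_iff.1 ha.2 y hy)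
      exact mem_centralizer_iff.2 fun y hy => mem_centralizer_singleton_iff.1 (h2 hy)
    have hfix : Nat.card ↥((W 0 ⊔ W 1) ⊓ centralizer (A : Set G)) ≤ 4 := by
      refine (Subgroup.card_le_of_le ?_).trans (card_zc_le hF)
      rintro x ⟨hx, hxA⟩
      obtain ⟨a, ha, b, hb', rfl⟩ := FixEL.mem_sup hF hx
      obtain ⟨σ, hσ, hσ0⟩ := SetLike.not_le_iff_exists.1 h0
      -- an element moving both
      have hσ1 : σ ∉ centralizer (W 1 : Set G) := fun hh => hσ0 (hcon ⟨hσ, hh⟩)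
      have h4 : σ * (a * b) * σ⁻¹ = a * b := by
        have := mem_centralizer_iff.1 hxA σ hσ
        rw [this, mul_inv_cancel_right]
      have h5 : σ * a * σ⁻¹ ∈ W 0 := (mem_normalizer_iff.1 (hF.T_le_N 0 (hAT hσ)) a).1 ha
      have h6 : σ * b * σ⁻¹ ∈ W 1 := (mem_normalizer_iff.1 (hF.T_le_N 1 (hAT hσ)) b).1 hb'
      have h7 : a⁻¹ * (σ * a * σ⁻¹) = b * (σ * b * σ⁻¹)⁻¹ := by
        have e : σ * (a * b) * σ⁻¹ = (σ * a * σ⁻¹) * (σ * b * σ⁻¹) := by group
        rw [e] at h4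
        calc a⁻¹ * (σ * a * σ⁻¹) = a⁻¹ * ((σ * a * σ⁻¹) * (σ * b * σ⁻¹)) * (σ * b * σ⁻¹)⁻¹ := by group
          _ = b * (σ * b * σ⁻¹)⁻¹ := by rw [h4]; group
      have h8 : a⁻¹ * (σ * a * σ⁻¹) ∈ W 0 ⊓ W 1 :=
        mem_inf.2 ⟨mul_mem (inv_mem ha) h5, by rw [h7]; exact mul_mem hb' (inv_mem h6)⟩
      rw [FixEL.V_inf hF h01, mem_bot] at h8
      have h9 : σ * a * σ⁻¹ = a := by rw [inv_mul_eq_one] at h8; exact h8.symm
      have h10 : σ * b * σ⁻¹ = b := by
        rw [h8, eq_comm, mul_inv_eq_one] at h7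
        exact h7.symm
      refine mul_mem ?_ ?_
      · rcases FixEL.eq_of_fix hF (hAT hσ) hσ0 ha h9 with h | h
        · rw [h]; exact one_mem _
        · rw [h]; exact hF.v_mem_zc 0
      · rcases FixEL.eq_of_fix hF (hAT hσ) hσ1 hb' h10 with h | h
        · rw [h]; exact one_mem _
        · rw [h]; exact hF.v_mem_zc 1
    rw [FixEL.card_V_sup hF h01] at hle
    have hpos : 0 < Nat.card ↥(A ⊓ centralizer ((W 0 ⊔ W 1 : Subgroup G) : Set G)) := Nat.card_pos
    have h11 : Nat.card A * Nat.card ↥((W 0 ⊔ W 1) ⊓ centralizer (A : Set G)) ≤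
        (2 * Nat.card ↥(A ⊓ centralizer ((W 0 ⊔ W 1 : Subgroup G) : Set G))) * 4 :=
      Nat.mul_le_mul (hA2.trans (Nat.mul_le_mul_left _ hcC)) hfix
    omega
  -- the swap
  have all : ∀ i j : Fin 2, i ≠ j → ∃ A' ≤ T, A' ≤ centralizer (W j : Set G) ∧ ¬ A' ≤ centralizer (W i : Set G) ∧
      Best X A' := by
    obtain ⟨i₀, j₀, hij₀, A', hA'T, hA'j, hA'i, hA'b⟩ := key
    intro i j hij
    by_cases hi : i = i₀
    · have hj : j = j₀ := by rw [eq_add_one hij, hi, ← eq_add_one hij₀]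
      rw [hi, hj]
      exact ⟨A', hA'T, hA'j, hA'i, hA'b⟩
    · have hi' : i = j₀ := by
        have := eq_add_one (i := i₀) (j := i) (Ne.symm hi)
        rw [this, ← eq_add_one hij₀]
      have hj' : j = i₀ := by
        have h1 := eq_add_one hij
        rw [hi'] at h1
        have h2 := eq_add_one hij₀.symm
        rw [h1, ← h2]
      obtain ⟨s, hs, -, hsw⟩ := D.swap
      have hsT : MulAut.conj s • T = T := by
        refine Subgroup.eq_of_le_of_card_ge ?_ (ZN.ChoiceBase.card_cj s T).ge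
        rintro _ ⟨t, ht, rfl⟩
        change s * t * s⁻¹ ∈ T
        have h2 : t ∈ (S : Subgroup G) ⊓ normalizer (W 0 : Set G) := by
          have h1 : t ∈ T := ht
          rwa [D.T_eq 0] at h1
        rw [D.T_eq 1]
        refine mem_inf.2 ⟨mul_mem (mul_mem hs h2.1) (inv_mem hs), ?_⟩
        have h3 : t ∈ normalizer (W 0 : Set G) := h2.2
        rw [ZN.ChoiceBase.mem_normalizer_iff_cj] at h3 ⊢
        have e : ∀ (g : G) (Y : Subgroup G), ZN.ChoiceBase.cj g Y = MulAut.conj g • Y := fun g Y => rfl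
        rw [e] at h3 ⊢
        rw [← (hsw 0 1 (by decide)).1, ← mul_smul, ← map_mul]
        have e2 : s * t * s⁻¹ * s = s * t := by group
        rw [e2, map_mul, mul_smul, h3]
      have hsK : s ∈ normalizer (lev (S : Subgroup G) n : Set G) := hlev.S_norm hs
      have hsX : s ∈ normalizer (X : Set G) := NO3S.Level.normalizer_le_zc _ hsK
      have cc : ∀ (Y Y' : Subgroup G), Y ≤ centralizer (Y' : Set G) ↔
          MulAut.conj s • Y ≤ centralizer ((MulAut.conj s • Y' : Subgroup G) : Set G) := by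
        intro Y Y'
        have e : MulAut.conj s • centralizer (Y' : Set G) = centralizer ((MulAut.conj s • Y' : Subgroup G) : Set G) :=
          ZN.ChoiceBase.cj_centralizer s _
        rw [← e, NoFF.Basic.conj_le_iff]
      refine ⟨MulAut.conj s • A', ?_, ?_, ?_, hA'b.conj_smul hsX⟩
      · rw [← hsT]; exact NoFF.Basic.conj_le_iff.2 hA'T
      · rw [hj', ← (hsw j₀ i₀ hij₀.symm).1]
        exact (cc _ _).1 hA'j
      · rw [hi', ← (hsw i₀ j₀ hij₀).1]
        exact fun hh => hA'i ((cc _ _).2 hh)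
  refine ⟨hKO, fun H h1 h2 => hlev.le_norm_of_o2 (hKO.trans h1) (h2.trans hTS), fun i j hij => ?_⟩
  obtain ⟨A', h1, h2, h3, h4⟩ := all i j hij
  refine ⟨A', h1, h2, h3, fun F hFO hFK hVF hFc hFs _ => h4.offM ?_ fun hh =>
    h3 (hh.trans (centralizer_le ((V_le_sup W i).trans hVF)))⟩
  -- `F ≤ X`
  intro x hx
  refine hlev.mem_of_comm (hOOS (hFO hx)) (by rw [pow_two]; exact hFs x hx) fun y hy => ?_
  exact (mem_centralizer_iff.1 (hFK hx) y hy)

end mul

end Cfsg.Agent.Omega.TC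

end

section


/-!
# CARD #18791 (`k = 2`, `q = 2`), the end over every frame `TC.Fr` (helper836)

No `VBang` / `VOff` / `WOff`, no swap, no stage: the inputs are THEOREM KL (`KL.Quo.NoInp`), `MLK`, `IsKGroup (C_i)` and
`HU` ("a minimal parabolic `R ≤ C_i` over `T` which moves `v_j` normalises `V_i`").

* `oneB` : (1b) of #21425, from `KL.EndR.no_1b`;
* **`false_of`** : no frame `Fr T V P v` with `HU T V v`;
* **`false_of_offK`** : no frame with `OffK T V K` for some `K`; `RIn` and card [A] are consequences.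
-/

set_option autoImplicit false
set_option linter.unusedSectionVars false

namespace Cfsg.Agent.Omega.TC.EndKL

open Subgroup Cfsg Cfsg.Agent.ZN Cfsg.Agent.Omega.MinPar
open Cfsg.Agent.Omega.OM.KTwo (CC QQ WU NU EU)

universe u

variable {G : Type u} [Group G] [Finite G] {T : Subgroup G} {V P : Fin 2 → Subgroup G} {v : Fin 2 → G}
  (D : Fr T V P v) (hML : ML.Final.MLK.{u, u}) (hKL : KL.Quo.NoInp.{u, u}) (hK : ∀ i, IsKGroup (CC v i))

include D hML hKL hK

/-- (1b) of #21425 -/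
theorem oneB (hU : KL.EndR.HU T V v) : RSix.OneB T V v := fun _ _ hA hm => KL.EndR.no_1b D hML hKL hK hU hA hm

/-- **There is no frame.** -/
theorem false_of (hU : KL.EndR.HU T V v) : False :=
  RSix.six D hML hK (KL.EndR.not_le D hML hKL hK hU) (oneB D hML hKL hK hU)

/-- **There is no frame with `OffK`.** -/
theorem false_of_offK {K : Subgroup G} (h : OffK T V K) : False :=
  false_of D hML hKL hK fun i _ hR hRi hRj => OffK.hU D h (OM.KTwo.ne_add_one i) hR hRi hRj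

end Cfsg.Agent.Omega.TC.EndKL

end

section


/-!
# CARD #18791, variant (MT), `k = 2 = q`: the reduction to `V i ≤ N_i` (card [A])

`D : Fr T V P v`, `Swap T V v`, `¬ J(T) ≤ O₂(P i)`, (ML) and all proper subgroups `K`-groups. If `V 0 ≰ N_0`:
* `Fr.fixE_of` : LEMMA FIX on `E_i` from COROLLARY PHI; `Fr.hmv_of` : a member of `AA T` moves `V i`;
* `Fr.not_pt` : `v 0 * v 1` is not a point; `Fr.inter_mt` : `E_0 ∩ E_1 ≤ Ω₁Z(T)` (THEOREM I);
* `Fr.mt_one` : `[N_0, N_1] ≠ 1` (THEOREM G, EXACTNESS, PEELING, R4 (5));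
* `Fr.V_le_N_of` : `V 0 ≤ N_0` if `EndOne T V v` (the ending for `1 ≠ [N_0, N_1] ≤ Ω₁Z(T)`).
-/

set_option autoImplicit false
set_option linter.unusedSectionVars false

namespace Cfsg.Agent.Omega.TC

open Subgroup Cfsg Cfsg.Agent.ZN Cfsg.Agent.Omega.MinPar
open Cfsg.Agent.Omega.OM.KTwo (CC QQ WU NU EU FF ne_add_one eq_add_one add_one_add_one le_normalizer_V le_V)
open Cfsg.Agent.Omega.NoFF.Basic (conj_conj mem_conj conj_le_iff conj_le_centralizer comm_symm comm_mono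
  Z_le_V V_le conj_V_mul)
open Cfsg.Agent.ZN.ChoiceSit (Syl exists_syl syl_conj o2_le_syl syl_not_dvd)
open Cfsg.Agent.ZN.ChoiceBase (AA mem_AA_iff mem_normalizer_iff_cj cj_mono cj_eq_of_mem_normalizer cj_centralizer)
open Cfsg.Agent.Omega.NO3S.EThree.ExactA (NoP eab_iff)
open Cfsg.Agent.Omega.OM
open Cfsg.Agent.Omega.TC.DOne (FixE)
open scoped Pointwise commutatorElement

universe u

variable {G : Type u} [Group G]

/-- the ending of case (E), `d = 1`: `[N_0, N_1] ≤ Ω₁Z(T)` implies `[N_0, N_1] = 1` -/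
def EndOne (T : Subgroup G) (V : Fin 2 → Subgroup G) (v : Fin 2 → G) : Prop :=
  (∀ i, FixE T v i) → ⁅NU V v 0, NU V v 1⁆ ≤ zc T → NU V v 0 ≤ centralizer (NU V v 1 : Set G)

namespace Fr

variable [Finite G] {T : Subgroup G} {V P : Fin 2 → Subgroup G} {v : Fin 2 → G} (D : Fr T V P v)

include D

theorem conj_WU {s : G} (w : Sw V v s) {i j : Fin 2} (hij : i ≠ j) : MulAut.conj s • WU V v i = WU V v j := by
  have key : ∀ {s : G}, Sw V v s → ∀ {i j : Fin 2}, i ≠ j → MulAut.conj s • WU V v i ≤ WU V v j := by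
    intro s w i j hij
    obtain ⟨h1, h2, h3, h4⟩ := w.side hij
    unfold WU
    refine NoFF.Basic.conj_V_le fun p hp => ?_
    have e : s * p = (s * p * s⁻¹) * s := by group
    rw [e, ← conj_conj, h3]
    refine Z_le_V ?_
    rw [mem_centralizer_singleton_iff] at hp ⊢
    rw [← h1]
    calc s * p * s⁻¹ * (s * v i * s⁻¹) = s * (p * v i) * s⁻¹ := by group
      _ = s * (v i * p) * s⁻¹ := by rw [hp]
      _ = s * v i * s⁻¹ * (s * p * s⁻¹) := by group
  apply le_antisymm (key w hij)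
  have w' : Sw V v s⁻¹ := by
    refine ⟨?_, ?_, ?_, ?_⟩
    · rw [← w.v10]; group
    · rw [← w.v01]; group
    · rw [← w.V10, conj_conj, inv_mul_cancel, map_one, one_smul]
    · rw [← w.V01, conj_conj, inv_mul_cancel, map_one, one_smul]
  have h1 := key w' hij.symm
  have h2 := (conj_le_iff (g := s)).2 h1
  rwa [conj_conj, mul_inv_cancel, map_one, one_smul] at h2

theorem XW_eq_one {s : G} (w : Sw V v s) : PG.Peel.XW (ZZ v) V (ZZ v 1) = NU V v 1 ⊔ WU V v 1 := by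
  have h1 : PG.Peel.XW (ZZ v) V (MulAut.conj s • ZZ v 0) = _ := PG.Peel.XW_conj s (ZZ v 0)
  rw [conj_ZZ w.v01, D.XW_eq w, Subgroup.smul_sup, D.conj_NU w (by decide : (0 : Fin 2) ≠ 1),
    D.conj_WU w (by decide : (0 : Fin 2) ≠ 1)] at h1
  exact h1

/-- LEMMA FIX on `E_i`, from COROLLARY PHI. -/
theorem fixE_of {i : Fin 2} (hJ : ¬ jj T ≤ o2 (P i)) (hV : ¬ V i ≤ NU V v i) : FixE T v i := by
  intro n hn h
  have hij := ne_add_one i
  rw [D.E_eq] at hn
  have hN : NU V v i ≤ normalizer ((zpowers (v i) : Subgroup G) : Set G) := by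
    refine (D.N_le_C i i).trans ?_
    rw [← D.HH_eq i]
    exact le_rfl
  obtain ⟨a, ha, z, hz, rfl⟩ := OM.KTwo.exists_mul_of_mem_sup
    (show zpowers (v i) ≤ normalizer (NU V v i : Set G) from
      (zpowers_le.2 (mem_centralizer_singleton_iff.2 rfl)).trans (D.C_le_N_N i)) hn
  have hzT : z ∈ zc T := (zpowers_le.2 (D.v_mem_zc i)) hz
  refine mul_mem ?_ hzT
  refine Phi.phi_N_zc D hij hJ hV ha fun o ho => ?_
  have hoT : o ∈ T := by
    rw [Phi.o2_P D i] at ho
    exact ho.1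
  have h1 := inv_mem (h o hoT)
  have hoz : o * z = z * o := by
    rcases D.mem_ZZ.1 (show z ∈ ZZ v i from hz) with rfl | rfl
    · group
    · exact D.comm_v i hoT
  have e : (o * (a * z) * o⁻¹ * (a * z)⁻¹)⁻¹ = a * o * a⁻¹ * o⁻¹ := by
    have e1 : o * (a * z) * o⁻¹ = o * a * o⁻¹ * z := by
      calc o * (a * z) * o⁻¹ = o * a * (z * o⁻¹) := by group
        _ = o * a * (o⁻¹ * z) := by
          have : z * o⁻¹ = o⁻¹ * z := by
            calc z * o⁻¹ = o⁻¹ * (o * z) * o⁻¹ := by group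
              _ = o⁻¹ * (z * o) * o⁻¹ := by rw [hoz]
              _ = o⁻¹ * z := by group
          rw [this]
        _ = _ := by group
    rw [e1]
    group
  rwa [e] at h1

/-- A member of `AA T` moves `V i`. -/
theorem hmv_of {i : Fin 2} (hJ : ¬ jj T ≤ o2 (P i)) : ∃ A ∈ AA T, ¬ A ≤ centralizer (V i : Set G) := by
  by_contra hcon
  push Not at hcon
  apply hJ
  rw [Phi.o2_P D i]
  refine le_inf (ChoiceBase.jj_le _) ?_
  rw [ChoiceBase.jj_eq]
  have h1 : ∀ A ∈ AA T, A ≤ T ⊓ centralizer (V i : Set G) := fun A hA => le_inf hA.2.1 (hcon A hA)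
  exact (sSup_le h1).trans inf_le_right

/-- With the swap: `v 0 * v 1` is not a point. -/
theorem not_pt (hs : Swap T V v) {g : G} : g * v 0 * g⁻¹ ≠ v 0 * v 1 := by
  intro hg
  obtain ⟨s, hsT, hsv⟩ := hs
  have h01 : (0 : Fin 2) ≠ 1 := by decide
  have s0 : s * v 0 * s⁻¹ = v 1 := (hsv 0).2
  have s1 : s * v 1 * s⁻¹ = v 0 := (hsv 1).2
  set z : G := v 0 * v 1 with hz
  have hcomm : v 0 * v 1 = v 1 * v 0 := (D.comm_v 0 (D.v_mem_T 1)).symm
  set C : Subgroup G := centralizer ({z} : Set G) with hC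
  have hsC : s ∈ C := by
    rw [hC, mem_centralizer_singleton_iff]
    calc s * z = (s * v 0 * s⁻¹) * (s * v 1 * s⁻¹) * s := by rw [hz]; group
      _ = z * s := by rw [s0, s1, hz, hcomm]
  -- `|T : C_G(z)|` is odd
  have hTC : T ≤ C := by
    intro t ht
    rw [hC, mem_centralizer_singleton_iff]
    have h0 := D.comm_v 0 ht
    have h1 := D.comm_v 1 ht
    calc t * z = (t * v 0) * v 1 := by rw [hz]; group
      _ = v 0 * (t * v 1) := by rw [h0]; group
      _ = z * t := by rw [h1, hz]; group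
  have hcard : Nat.card C = Nat.card (CC v 0) := by
    have e : C = MulAut.conj g • CC v 0 := by
      rw [hC, ← hg]
      ext x
      rw [mem_conj, mem_centralizer_singleton_iff, mem_centralizer_singleton_iff]
      constructor
      · intro h
        calc g⁻¹ * x * g * v 0 = g⁻¹ * (x * (g * v 0 * g⁻¹)) * g := by group
          _ = g⁻¹ * (g * v 0 * g⁻¹ * x) * g := by rw [h]
          _ = v 0 * (g⁻¹ * x * g) := by group
      · intro h
        calc x * (g * v 0 * g⁻¹) = g * (g⁻¹ * x * g * v 0) * g⁻¹ := by group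
          _ = g * (v 0 * (g⁻¹ * x * g)) * g⁻¹ := by rw [h]
          _ = g * v 0 * g⁻¹ * x := by group
    rw [e]
    exact ChoiceBase.card_cj g _
  have hodd : ¬ 2 ∣ T.relIndex C := by
    have h1 : Nat.card T * T.relIndex C = Nat.card C := PG.card_mul_relIndex' hTC
    have h2 : Nat.card T * T.relIndex (CC v 0) = Nat.card (CC v 0) := PG.card_mul_relIndex' (D.T_le_C 0)
    have h3 : T.relIndex C = T.relIndex (CC v 0) :=
      Nat.eq_of_mul_eq_mul_left (Nat.card_pos (α := T)) (by rw [h1, h2, hcard])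
    rw [h3]
    exact syl_not_dvd (D.syl 0)
  -- the stabiliser of `{v 0, v 1}`
  let K : Subgroup G :=
    { carrier := {c | c ∈ C ∧ (c * v 0 * c⁻¹ = v 0 ∨ c * v 0 * c⁻¹ = v 1)}
      one_mem' := ⟨one_mem _, Or.inl (by group)⟩
      mul_mem' := by
        rintro a b ⟨ha, ha'⟩ ⟨hb, hb'⟩
        refine ⟨mul_mem ha hb, ?_⟩
        have haz : a * z * a⁻¹ = z := by
          rw [mem_centralizer_singleton_iff.1 ha]; group
        have ha1 : (a * v 0 * a⁻¹) * (a * v 1 * a⁻¹) = v 0 * v 1 := by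
          rw [← hz]
          calc (a * v 0 * a⁻¹) * (a * v 1 * a⁻¹) = a * z * a⁻¹ := by rw [hz]; group
            _ = z := haz
        have e : a * b * v 0 * (a * b)⁻¹ = a * (b * v 0 * b⁻¹) * a⁻¹ := by group
        rw [e]
        rcases hb' with h1 | h1
        · rw [h1]; exact ha'
        · rw [h1]
          rcases ha' with h2 | h2
          · right
            rw [h2] at ha1
            exact mul_left_cancel ha1
          · left
            rw [h2, hcomm] at ha1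
            exact mul_left_cancel ha1
      inv_mem' := by
        rintro a ⟨ha, ha'⟩
        refine ⟨inv_mem ha, ?_⟩
        rcases ha' with h1 | h1
        · left
          calc a⁻¹ * v 0 * a⁻¹⁻¹ = a⁻¹ * (a * v 0 * a⁻¹) * a := by rw [h1]; group
            _ = v 0 := by group
        · right
          have haz : a * z * a⁻¹ = z := by
            rw [mem_centralizer_singleton_iff.1 ha]; group
          have ha1 : (a * v 0 * a⁻¹) * (a * v 1 * a⁻¹) = v 0 * v 1 := by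
            rw [← hz]
            calc (a * v 0 * a⁻¹) * (a * v 1 * a⁻¹) = a * z * a⁻¹ := by rw [hz]; group
              _ = z := haz
          rw [h1, hcomm] at ha1
          have h2 : a * v 1 * a⁻¹ = v 0 := mul_left_cancel ha1
          calc a⁻¹ * v 0 * a⁻¹⁻¹ = a⁻¹ * (a * v 1 * a⁻¹) * a := by rw [h2]; group
            _ = v 1 := by group }
  set D' : Subgroup G := centralizer (zc T : Set G) with hD'
  have hDK : D' ≤ K := by
    intro d hd
    have h0 := mem_centralizer_singleton_iff.1 (D.cent_zc_le 0 hd)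
    have h1 := mem_centralizer_singleton_iff.1 (D.cent_zc_le 1 hd)
    refine ⟨?_, Or.inl (by rw [h0]; group)⟩
    rw [hC, mem_centralizer_singleton_iff]
    calc d * z = (d * v 0) * v 1 := by rw [hz]; group
      _ = v 0 * (d * v 1) := by rw [h0]; group
      _ = z * d := by rw [h1, hz]; group
  have hmem : ∀ c ∈ K, c * v 0 * c⁻¹ = v 0 → c ∈ D' := by
    intro c hc h1
    have h2 : c ∈ CC v 0 := by
      rw [mem_centralizer_singleton_iff]
      calc c * v 0 = c * v 0 * c⁻¹ * c := by group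
        _ = v 0 * c := by rw [h1]
    refine (D.mem_D_iff h01).2 ⟨h2, ?_⟩
    have haz : c * z * c⁻¹ = z := by
      rw [mem_centralizer_singleton_iff.1 hc.1]; group
    have h3 : (c * v 0 * c⁻¹) * (c * v 1 * c⁻¹) = v 0 * v 1 := by
      rw [← hz]
      calc (c * v 0 * c⁻¹) * (c * v 1 * c⁻¹) = c * z * c⁻¹ := by rw [hz]; group
        _ = z := haz
    rw [h1] at h3
    have h4 : c * v 1 * c⁻¹ = v 1 := mul_left_cancel h3
    rw [mem_centralizer_singleton_iff]
    calc c * v 1 = c * v 1 * c⁻¹ * c := by group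
      _ = v 1 * c := by rw [h4]
  have hsK : s ∈ K := ⟨hsC, Or.inr s0⟩
  have hne : v 1 ≠ v 0 := (D.v_ne h01).symm
  have hDj : ∀ c ∈ D', c * v 0 * c⁻¹ = v 0 := fun c hc => by
    rw [mem_centralizer_singleton_iff.1 (D.cent_zc_le 0 hc)]; group
  have hDj1 : ∀ c ∈ D', c * v 1 * c⁻¹ = v 1 := fun c hc => by
    rw [mem_centralizer_singleton_iff.1 (D.cent_zc_le 1 hc)]; group
  have hidx : D'.relIndex K = 2 := by
    rw [relIndex_eq_two_iff]
    refine ⟨s, hsK, fun b hb => ?_⟩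
    have e : b * s * v 0 * (b * s)⁻¹ = b * v 1 * b⁻¹ := by
      calc b * s * v 0 * (b * s)⁻¹ = b * (s * v 0 * s⁻¹) * b⁻¹ := by group
        _ = _ := by rw [s0]
    by_cases hbD : b ∈ D'
    · right
      refine ⟨hbD, fun h1 => hne ?_⟩
      rw [hDj1 b hbD] at e
      rw [← e]
      exact hDj _ h1
    · left
      refine ⟨hmem _ (mul_mem hb hsK) ?_, hbD⟩
      have hbv : b * v 0 * b⁻¹ = v 1 := hb.2.resolve_left fun e => hbD (hmem b hb e)
      have haz : b * z * b⁻¹ = z := by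
        rw [mem_centralizer_singleton_iff.1 hb.1]; group
      have h3 : (b * v 0 * b⁻¹) * (b * v 1 * b⁻¹) = v 0 * v 1 := by
        rw [← hz]
        calc (b * v 0 * b⁻¹) * (b * v 1 * b⁻¹) = b * z * b⁻¹ := by rw [hz]; group
          _ = z := haz
      rw [hbv, hcomm] at h3
      rw [e]
      exact mul_left_cancel h3
  have h1 : T.relIndex D' * D'.relIndex K = T.relIndex K := relIndex_mul_relIndex _ _ _ D.T_le_D hDK
  have h2 : T.relIndex K * K.relIndex C = T.relIndex C :=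
    relIndex_mul_relIndex _ _ _ (D.T_le_D.trans hDK) fun x hx => hx.1
  apply hodd
  rw [← h2, ← h1, hidx]
  exact Dvd.intro_left _ rfl |>.mul_right _

/-- `E_0 ∩ E_1 ≤ Ω₁Z(T)` -/
theorem inter_mt (hML : ML.Final.MLK.{u, u}) (hK : IsKProper G) (hs : Swap T V v)
    (hJ : ∀ i, ¬ jj T ≤ o2 (P i)) (hV : ∀ i, ¬ V i ≤ NU V v i) : EU T v 0 ⊓ EU T v 1 ≤ zc T := by
  have hG : ThmG V v := D.thmG (fun i => D.fixE_of (hJ i) (hV i)) hV fun i => D.hmv_of (hJ i)
  refine D.thmI hML (fun i => hK _ (D.CC_ne_top i)) (Qs := o2 (centralizer (zc T : Set G)))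
    (MinSimple.VModule.le_normalizer_o2 _) le_rfl (fun i => (D.E_le_Q i).trans (D.Q_le_o2D i)) fun i => ?_
  exact D.exists_mv hs (D.noD hML hK) hG i

/-- **If `V i ≰ N_i`, then `[N_0, N_1] ≠ 1`.** -/
theorem mt_one (hML : ML.Final.MLK.{u, u}) (hK : IsKProper G) (hs : Swap T V v)
    (hJ : ∀ i, ¬ jj T ≤ o2 (P i)) (hV : ∀ i, ¬ V i ≤ NU V v i) : ¬ NU V v 0 ≤ centralizer (NU V v 1 : Set G) := by
  intro hcom
  obtain ⟨s, w⟩ := Sw.of_swap hs
  have hfix : ∀ i, FixE T v i := fun i => D.fixE_of (hJ i) (hV i)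
  have h01 : (0 : Fin 2) ≠ 1 := by decide
  have hG : PG.Peel.ThmG (ZZ v) (PG.Peel.XW (ZZ v) V) := D.thmG_XW w (hfix 0) (hV 0) (D.hmv_of (hJ 1))
  have hI : NU V v 0 ⊓ NU V v 1 ≤ zc T :=
    (inf_le_inf (D.N_le_E 0) (D.N_le_E 1)).trans (D.inter_mt hML hK hs hJ hV)
  have PP' := D.pp w
  have hpt0 : PG.IsPt (ZZ v) (ZZ v 0) := ⟨1, by rw [map_one, one_smul]⟩
  obtain ⟨d, a, b, hd, hc⟩ := D.far hML hK w hG
  have hd' : d = 0 ∨ d = 1 := by omega
  rcases hd' with rfl | rfl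
  · -- distance 1
    have hc' : PG.CX (ZZ v) (PG.Peel.XW (ZZ v) V) 0 (ZZ v 0) (ZZ v 1) := by
      have h0 := hc.pth
      have hne := hc.ne
      cases h0 with
      | @succ _ _ u _ h1 h2 =>
        cases h1 with
        | zero h3 =>
          obtain ⟨k, rfl, rfl⟩ := h2
          refine ⟨PG.PP.pth_one ⟨1, by rw [map_one, one_smul], by rw [map_one, one_smul]⟩, fun h4 => hne ?_, hc.com⟩
          rw [PG.Peel.XW_conj, PG.Peel.XW_conj]
          exact conj_le_centralizer h4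
    have hW0 : ¬ WU V v 0 ≤ centralizer (NU V v 1 : Set G) := by
      intro hW
      obtain ⟨-, x, hx, y, hy, hxy, -⟩ := D.red hML hK w hG hc'
      rw [D.XW_eq w] at hx
      rw [D.NN_eq w, D.NN_eq w] at hy
      have h1 : NU V v 0 ⊔ WU V v 0 ≤ centralizer ({y} : Set G) := by
        refine sup_le (fun n hn => ?_) fun n hn => ?_
        · rw [mem_centralizer_singleton_iff]; exact mem_centralizer_iff.1 hy.2 n hn
        · rw [mem_centralizer_singleton_iff]; exact (mem_centralizer_iff.1 (hW hn) y hy.1).symm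
      exact hxy (commutatorElement_eq_one_iff_mul_comm.2 (mem_centralizer_singleton_iff.1 (h1 hx)))
    have hW1 : ¬ WU V v 1 ≤ centralizer (NU V v 0 : Set G) := by
      intro hW
      obtain ⟨-, x, hx, y, hy, hxy, -⟩ := D.red hML hK w hG (hc'.symm PP')
      rw [D.XW_eq_one w] at hx
      rw [D.NN_eq w, D.NN_eq w] at hy
      have h1 : NU V v 1 ⊔ WU V v 1 ≤ centralizer ({y} : Set G) := by
        refine sup_le (fun n hn => ?_) fun n hn => ?_
        · rw [mem_centralizer_singleton_iff]; exact mem_centralizer_iff.1 hy.2 n hn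
        · rw [mem_centralizer_singleton_iff]; exact (mem_centralizer_iff.1 (hW hn) y hy.1).symm
      exact hxy (commutatorElement_eq_one_iff_mul_comm.2 (mem_centralizer_singleton_iff.1 (h1 hx)))
    refine DOne.false_of D (fun i => ?_) (fun i => ?_) hfix
    · have h0 : i = 0 ∨ i = 1 := by clear * -; revert i; decide
      rcases h0 with rfl | rfl
      · exact hcom
      · exact comm_symm hcom
    · have h0 : i = 0 ∨ i = 1 := by clear * -; revert i; decide
      rcases h0 with rfl | rfl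
      · exact hW1
      · exact hW0
  · -- distance 2
    have h1 := (D.red hML hK w hG hc).1
    have h2 := hc.pth
    have hne := hc.ne
    have hab : a ≠ b := by
      rintro rfl
      exact hne (eab_iff.1 ((D.xf w).eab a (PG.PP.pth_pt h2))).1
    cases h2 with
    | @succ _ _ u _ h3 h4 =>
      cases h3 with
      | @succ _ _ t _ h5 h6 =>
        cases h5 with
        | zero h7 =>
          have hau : a ≠ u := by
            rintro rfl
            obtain ⟨k, e1, e2⟩ := h6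
            have e3 : ZZ v 0 = ZZ v 1 := smul_left_cancel _ (e1.symm.trans e2)
            have e4 : v 0 ∈ ZZ v 1 := e3 ▸ mem_zpowers _
            rcases D.mem_ZZ.1 e4 with e | e
            · exact D.ne 0 e
            · exact D.v_ne h01 e
          have h8 : a ≤ PG.NN (ZZ v) u ⊓ PG.NN (ZZ v) b := le_inf (PP'.adj_symm h6).le_NN h1
          obtain ⟨k, rfl, rfl⟩ := h4
          rw [PG.NN_conj, PG.NN_conj, ← Subgroup.smul_inf, D.NN_eq w, D.NN_eq w] at h8
          obtain ⟨g, rfl⟩ := h7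
          have hx : g * v 0 * g⁻¹ ∈ MulAut.conj g • ZZ v 0 := ⟨v 0, mem_zpowers _, rfl⟩
          have h9 : k⁻¹ * (g * v 0 * g⁻¹) * k ∈ zc T := hI (mem_conj.1 (h8 hx))
          have hkey : ∀ j : Fin 2, k⁻¹ * (g * v 0 * g⁻¹) * k = v j → MulAut.conj g • ZZ v 0 = MulAut.conj k • ZZ v j := by
            intro j e
            have e1 : (k⁻¹ * g) * v 0 * (k⁻¹ * g)⁻¹ = v j := by rw [← e]; group
            have e2 := conj_ZZ e1
            rw [← e2, conj_conj, mul_inv_cancel_left]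
          rcases (D.zT _).1 h9 with e | e | e | e
          · have e1 : g * v 0 * g⁻¹ = 1 := by
              calc g * v 0 * g⁻¹ = k * (k⁻¹ * (g * v 0 * g⁻¹) * k) * k⁻¹ := by group
                _ = 1 := by rw [e]; group
            exact D.ne 0 (conj_eq_one_iff.1 e1)
          · exact hau (hkey 0 e)
          · exact hab (hkey 1 e)
          · refine D.not_pt hs (g := k⁻¹ * g) ?_
            rw [← e]; group

/-- `V 0 ≤ N_0` iff `V 1 ≤ N_1` -/
theorem V_le_N_iff (hs : Swap T V v) (i : Fin 2) : V i ≤ NU V v i ↔ V 0 ≤ NU V v 0 := by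
  obtain ⟨s, w⟩ := Sw.of_swap hs
  have h01 : (0 : Fin 2) ≠ 1 := by decide
  have h0 : i = 0 ∨ i = 1 := by revert i; decide
  rcases h0 with rfl | rfl
  · exact Iff.rfl
  · rw [← w.V01, ← D.conj_NU w h01]
    exact conj_le_iff

/-- **(E), `k = 2 = q`, (MT): `V i ≤ N_i`.** -/
theorem V_le_N_of (hML : ML.Final.MLK.{u, u}) (hK : IsKProper G) (hs : Swap T V v)
    (hJ : ∀ i, ¬ jj T ≤ o2 (P i)) (hEnd : EndOne T V v) (i : Fin 2) : V i ≤ NU V v i := by
  rw [D.V_le_N_iff hs i]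
  by_contra hV0
  have hV : ∀ i, ¬ V i ≤ NU V v i := fun i h => hV0 ((D.V_le_N_iff hs i).1 h)
  refine D.mt_one hML hK hs hJ hV (hEnd (fun i => D.fixE_of (hJ i) (hV i)) ?_)
  refine le_trans ?_ ((inf_le_inf (D.N_le_E 0) (D.N_le_E 1)).trans (D.inter_mt hML hK hs hJ hV))
  have h1 : NU V v 1 ≤ normalizer (NU V v 0 : Set G) := (D.N_le_C 1 0).trans (D.C_le_N_N 0)
  have h2 : NU V v 0 ≤ normalizer (NU V v 1 : Set G) := (D.N_le_C 0 1).trans (D.C_le_N_N 1)
  have key : ∀ {A B : Subgroup G}, A ≤ normalizer (B : Set G) → ⁅A, B⁆ ≤ B := by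
    intro A B h
    rw [commutator_le]
    intro x hx y hy
    exact mul_mem ((mem_normalizer_iff.1 (h hx) y).1 hy) (inv_mem hy)
  refine le_inf ?_ (key h2)
  rw [commutator_comm]
  exact key h1

end Fr

end Cfsg.Agent.Omega.TC

end

section


/-!
# CARD #18791, variant (MT), `k = 2 = q`: `V i ≤ N_i`

* `Fr.endOne` : the ending (`OneEnd.false_of`);
* `Fr.V_le_N_mt` : (ML), all proper subgroups `K`-groups, swap, `¬ J(T) ≤ O₂(P i)` imply `V i ≤ N_i` (the only case left: card [A]).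
-/

set_option autoImplicit false
set_option linter.unusedSectionVars false

namespace Cfsg.Agent.Omega.TC

open Subgroup Cfsg Cfsg.Agent.ZN
open Cfsg.Agent.Omega.OM.KTwo (CC QQ WU NU EU FF)
open Cfsg.Agent.Omega.OM
open scoped Pointwise commutatorElement

universe u

variable {G : Type u} [Group G]

namespace Fr

variable [Finite G] {T : Subgroup G} {V P : Fin 2 → Subgroup G} {v : Fin 2 → G} (D : Fr T V P v)

include D

/-- the ending of case (E), `d = 1` -/
theorem endOne : EndOne T V v := by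
  intro hfix hcomm
  by_contra hne
  refine OneEnd.false_of D (fun x hx e he => ?_) hne hfix
  have h1 : ⁅x, e⁆ ∈ ⁅NU V v 1, NU V v 0⁆ := commutator_mem_commutator hx he
  rw [commutator_comm] at h1
  exact hcomm h1

/-- **Variant (MT): only `V i ≤ N_i` is left.** -/
theorem V_le_N_mt (hML : ML.Final.MLK.{u, u}) (hK : IsKProper G) (hs : Swap T V v)
    (hJ : ∀ i, ¬ jj T ≤ o2 (P i)) (i : Fin 2) : V i ≤ NU V v i :=
  D.V_le_N_of hML hK hs hJ D.endOne i

end Fr

end Cfsg.Agent.Omega.TC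

end

section


/-!
# CARD #18791, box R: `V^!(T) ≤ Ω₁(Z(T))` from (RC'), level-free (#23475)

`D : Fr T V P v`, `B := V^!(T)`, `R` a `T`-minimal subgroup of `C(v j)` which moves `v i` and does not normalise `B`:

* `Sd T V v i R a` : `a ∈ T` moves `V i`, centralises `B`, and acts on `W := V^!(O₂(R)) ≥ B V_i` as a transvection with
  centre `v i`;
* `exists_sd` : such an `a` exists;
* `Sd.two` : `x ∈ C_R(V i)`, `b ∈ B`, `b^x = b n`, `n ∈ V i` implies `n ∈ ⟨v i⟩`;
* `Sd.exists_fix` : `b` or `b v_i` is centralised by all conjugates of `a` under `R`;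
* **`vbang_of_rc`** : both `i`: `V^!(T) ≤ Ω₁(Z(T))`.
-/

set_option autoImplicit false
set_option linter.unusedSectionVars false

namespace Cfsg.Agent.Omega.TC.VBangRC

open Subgroup Cfsg Cfsg.Agent.ZN
open Cfsg.Agent.Omega.MinPar
open Cfsg.Agent.Omega.OM.KTwo (CC QQ WU NU EU FF ne_add_one eq_add_one add_one_add_one le_normalizer_V le_V)
open Cfsg.Agent.ZN.ChoiceSit (Syl o2_le_syl syl_not_dvd exists_syl syl_conj)
open Cfsg.Agent.ZN.ChoiceBase (cj mem_cj cj_mono)
open Cfsg.Agent.MinSimple.VModule (mem_zc zc_le normalizer_le_normalizer_zc le_normalizer_o2 le_o2 o2_le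
  o2_isPGroup zc_le_centralizer le_centralizer_zc)
open Cfsg.Agent.Omega.FFThm (OffM ElemM)
open Cfsg.Agent.Omega.NO1.BestOff (Best exists_best)
open Cfsg.Agent.Omega.NO3b.Bang
open Cfsg.Agent.MinSimple.MinParabolic (IsMinPar)
open Cfsg.Agent.Omega.TC.ThmI (rel_le_two two_le_rel)
open Phi
open scoped Pointwise

universe u

variable {G : Type u} [Group G]

theorem card_eq_rel [Finite G] (H K : Subgroup G) : Nat.card H = K.relIndex H * Nat.card ↥(H ⊓ K) := by
  have e := relIndex_inf_mul_relIndex (⊥ : Subgroup G) K H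
  rw [relIndex_bot_left, bot_inf_eq, relIndex_bot_left, mul_comm, inf_comm] at e
  exact e.symm

/-- the transvection `a` -/
structure Sd [Finite G] (T : Subgroup G) (V : Fin 2 → Subgroup G) (v : Fin 2 → G) (i : Fin 2) (R : Subgroup G) (a : G) :
    Prop where
  aT : a ∈ T
  aV : a ∉ centralizer (V i : Set G)
  cB : ∀ b ∈ bang T, a * b = b * a
  tv : ∀ w ∈ bang (T ⊓ centralizer (V i : Set G)), a * w * a⁻¹ = w ∨ a * w * a⁻¹ = w * v i

section

variable [Finite G] {T : Subgroup G} {V P : Fin 2 → Subgroup G} {v : Fin 2 → G} (D : Fr T V P v)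

include D

/-- `V^!(T)` centralises `V i`. -/
theorem bang_le_cent (i : Fin 2) : bang T ≤ centralizer (V i : Set G) := by
  by_contra hne
  have hn := nn_bang T
  have hcV : V i ≤ centralizer (V i : Set G) := fun x hx => mem_centralizer_iff.2 fun y hy => D.V_comm hy hx
  have hne' : ¬ V i ≤ centralizer (bang T : Set G) := fun h => hne (cent_symm h)
  refine hn.nff (V i) (D.V_le_T i) ⟨offM_of_abel hcV (D.sqV i), hne', ?_⟩
  have h1 : (centralizer (V i : Set G)).relIndex (bang T) ≤ 2 := by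
    refine rel_le_two fun x hx y hy hxK hyK => ?_
    have hx' : x ∉ o2 (P i) := by rw [o2_P D i]; exact fun h => hxK h.2
    have hy' : y ∉ o2 (P i) := by rw [o2_P D i]; exact fun h => hyK h.2
    have h2 := mul_mem_o2 D (hn.le hx) hx' (hn.le hy) hy'
    rw [o2_P D i] at h2
    exact h2.2
  have h2 := card_eq_rel (bang T) (centralizer (V i : Set G))
  obtain ⟨x, hx, hxB⟩ := SetLike.not_le_iff_exists.1 hne'
  have h3 := two_le_rel hx hxB
  have h4 := card_eq_rel (V i) (centralizer (bang T : Set G))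
  have h5 := D.four i
  rw [h5] at h4
  rw [h5, h2]
  have h6 : Nat.card ↥(V i ⊓ centralizer (bang T : Set G)) ≤ 2 := by nlinarith
  calc (centralizer (V i : Set G)).relIndex (bang T) * Nat.card ↥(bang T ⊓ centralizer (V i : Set G)) *
        Nat.card ↥(V i ⊓ centralizer (bang T : Set G))
      ≤ 2 * Nat.card ↥(bang T ⊓ centralizer (V i : Set G)) * 2 :=
        Nat.mul_le_mul (Nat.mul_le_mul_right _ h1) h6
    _ = 4 * Nat.card ↥(bang T ⊓ centralizer (V i : Set G)) := by ring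

/-- **the transvection exists** -/
theorem exists_sd {i j : Fin 2} (hij : i ≠ j) {R : Subgroup G} (hR : IsMinPar T R) (hRj : R ≤ CC v j)
    (hRi : ¬ R ≤ CC v i) (hRB : ¬ R ≤ normalizer (bang T : Set G)) : ∃ a, Sd T V v i R a := by
  have hQ : o2 R = T ⊓ centralizer (V i : Set G) := o2_eq D hij hR hRj hRi
  set Q : Subgroup G := T ⊓ centralizer (V i : Set G) with hQd
  have hRQ : R ≤ normalizer (Q : Set G) := by rw [← hQ]; exact MinSimple.VModule.le_normalizer_o2 R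
  have hn := nn_bang T
  have hBQ : bang T ≤ Q := le_inf hn.le (bang_le_cent D i)
  have hQT : Q ≤ T := inf_le_left
  set W := bang Q with hW
  have hnW : NN Q W := nn_bang Q
  have hBW : bang T ≤ W := (hn.mono hBQ hQT).le_bang
  have hcV : V i ≤ centralizer (V i : Set G) := fun x hx => mem_centralizer_iff.2 fun y hy => D.V_comm hy hx
  have hVQ : V i ≤ Q := le_inf (D.V_le_T i) hcV
  have hVW : V i ≤ W := (NN.of_le_centralizer hVQ inf_le_right (D.sqV i)).le_bang
  have hRW : R ≤ normalizer (W : Set G) := hRQ.trans (normalizer_le_bang Q)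
  -- `W` is not in `NN(T)`
  obtain ⟨A', hA'T, hA'⟩ : ∃ A' : Subgroup G, A' ≤ T ∧ OffM W A' := by
    by_contra hcon
    push Not at hcon
    have h1 : NN T W := ⟨hnW.le.trans hQT, hR.le.trans hRW, hnW.comm, hnW.sq, hcon⟩
    have h2 : W = bang T := le_antisymm h1.le_bang hBW
    exact hRB (h2 ▸ hRW)
  obtain ⟨A, hAA', hb, hne⟩ := exists_best hA'
  have hAT : A ≤ T := hAA'.trans hA'T
  have hAB : A ≤ centralizer (bang T : Set G) := hn.best hAT hBW hb
  have hAQ : ¬ A ≤ centralizer (V i : Set G) := fun h => hne (hnW.best (le_inf hAT h) le_rfl hb)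
  -- `A₀ = A ⊓ C(V i)`
  set A₀ : Subgroup G := A ⊓ centralizer (V i : Set G) with hA₀
  have hA₀A : A₀ ≤ A := inf_le_left
  have c1 : Nat.card A ≤ 2 * Nat.card A₀ := by
    have h1 : (centralizer (V i : Set G)).relIndex A ≤ 2 := by
      refine rel_le_two fun x hx y hy hxK hyK => ?_
      have hx' : x ∉ o2 (P i) := by rw [o2_P D i]; exact fun h => hxK h.2
      have hy' : y ∉ o2 (P i) := by rw [o2_P D i]; exact fun h => hyK h.2
      have h2 := mul_mem_o2 D (hAT hx) hx' (hAT hy) hy'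
      rw [o2_P D i] at h2
      exact h2.2
    rw [card_eq_rel A (centralizer (V i : Set G))]
    exact Nat.mul_le_mul_right _ h1
  have c2 : 2 * Nat.card ↥(W ⊓ centralizer (A : Set G)) ≤ Nat.card ↥(W ⊓ centralizer (A₀ : Set G)) := by
    have hle : W ⊓ centralizer (A : Set G) ≤ W ⊓ centralizer (A₀ : Set G) :=
      inf_le_inf_left _ (centralizer_le hA₀A)
    obtain ⟨x, hx, hxA⟩ := SetLike.not_le_iff_exists.1 (fun h => hAQ (cent_symm h) : ¬ V i ≤ centralizer (A : Set G))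
    have hxx : x ∈ W ⊓ centralizer (A₀ : Set G) := by
      refine ⟨hVW hx, mem_centralizer_iff.2 fun a ha => ?_⟩
      exact (mem_centralizer_iff.1 ha.2 x hx).symm
    have h1 := two_le_rel hxx (K := W ⊓ centralizer (A : Set G)) fun h => hxA h.2
    rw [card_eq_rel (W ⊓ centralizer (A₀ : Set G)) (W ⊓ centralizer (A : Set G)), inf_eq_right.2 hle]
    exact Nat.mul_le_mul_right _ h1
  have hb0 : Best W A₀ := by
    refine { toElemM := NO1.BestOff.ElemM.mono hb.toElemM hA₀A, max := fun Y hY hYc => ?_ }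
    have h1 := hb.max Y (hY.trans hA₀A) ((le_inf (le_inf inf_le_left (inf_le_right.trans (centralizer_le hVW)))
      inf_le_right).trans hYc)
    refine h1.trans ?_
    calc Nat.card A * Nat.card ↥(W ⊓ centralizer (A : Set G))
        ≤ 2 * Nat.card A₀ * Nat.card ↥(W ⊓ centralizer (A : Set G)) := Nat.mul_le_mul_right _ c1
      _ = Nat.card A₀ * (2 * Nat.card ↥(W ⊓ centralizer (A : Set G))) := by ring
      _ ≤ Nat.card A₀ * Nat.card ↥(W ⊓ centralizer (A₀ : Set G)) := Nat.mul_le_mul_left _ c2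
  have hA₀W : A₀ ≤ centralizer (W : Set G) := hnW.best (le_inf (hA₀A.trans hAT) inf_le_right) le_rfl hb0
  have c3 : Nat.card W ≤ 2 * Nat.card ↥(W ⊓ centralizer (A : Set G)) := by
    have h1 := hb.max A₀ hA₀A (le_inf inf_le_left (inf_le_right.trans (centralizer_le hVW)))
    rw [inf_eq_left.2 (cent_symm hA₀W)] at h1
    have h2 : Nat.card A₀ * Nat.card W ≤ Nat.card A₀ * (2 * Nat.card ↥(W ⊓ centralizer (A : Set G))) := by
      calc Nat.card A₀ * Nat.card W ≤ Nat.card A * Nat.card ↥(W ⊓ centralizer (A : Set G)) := h1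
        _ ≤ 2 * Nat.card A₀ * Nat.card ↥(W ⊓ centralizer (A : Set G)) := Nat.mul_le_mul_right _ c1
        _ = Nat.card A₀ * (2 * Nat.card ↥(W ⊓ centralizer (A : Set G))) := by ring
    exact Nat.le_of_mul_le_mul_left h2 Nat.card_pos
  obtain ⟨a, haA, haV⟩ := SetLike.not_le_iff_exists.1 hAQ
  obtain ⟨x, hx, hxA⟩ := SetLike.not_le_iff_exists.1 (fun h => hAQ (cent_symm h) : ¬ V i ≤ centralizer (A : Set G))
  refine ⟨a, hAT haA, haV, fun b hb' => (mem_centralizer_iff.1 (hAB haA) b hb').symm, fun w hw => ?_⟩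
  have hi2 : (centralizer (A : Set G)).relIndex W = 2 := by
    have h1 := two_le_rel (hVW hx) hxA
    have h2 := card_eq_rel W (centralizer (A : Set G))
    have h3 : 0 < Nat.card ↥(W ⊓ centralizer (A : Set G)) := Nat.card_pos
    have h4 : (centralizer (A : Set G)).relIndex W ≤ 2 := by
      rw [h2] at c3
      exact Nat.le_of_mul_le_mul_right c3 h3
    omega
  by_cases hwA : w ∈ centralizer (A : Set G)
  · left
    have h1 := mem_centralizer_iff.1 hwA a haA
    rw [h1]; group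
  · have h1 : x * w ∈ centralizer (A : Set G) := by
      have h2 : ((centralizer (A : Set G)).subgroupOf W).index = 2 := hi2
      have h3 := mul_mem_iff_of_index_two h2 (a := ⟨x, hVW hx⟩) (b := ⟨w, hw⟩)
      rw [mem_subgroupOf, mem_subgroupOf, mem_subgroupOf] at h3
      exact h3.2 ⟨fun h => absurd h hxA, fun h => absurd h hwA⟩
    have h2 := mem_centralizer_iff.1 h1 a haA
    have h2' : a * (x * w) * a⁻¹ = x * w := by rw [h2]; group
    have h3 : a * x⁻¹ * a⁻¹ ∈ V i := (mem_normalizer_iff.1 (D.T_le_N i (hAT haA)) _).1 (inv_mem hx)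
    have h4 : a * w * a⁻¹ = a * x⁻¹ * a⁻¹ * x * w := by
      calc a * w * a⁻¹ = (a * x⁻¹ * a⁻¹) * (a * (x * w) * a⁻¹) := by group
        _ = a * x⁻¹ * a⁻¹ * x * w := by rw [h2']; group
    have h5 : x * a * x⁻¹ * a⁻¹ ∈ zpowers (v i) := D.comm_VQ i hx (hAT haA)
    have h6 : a * x⁻¹ * a⁻¹ * x = x * a * x⁻¹ * a⁻¹ := by
      calc a * x⁻¹ * a⁻¹ * x = x * (a * x⁻¹ * a⁻¹) := D.V_comm h3 hx
        _ = x * a * x⁻¹ * a⁻¹ := by group
    rw [h4, h6]
    have h7 : ∀ y ∈ V i, y * w = w * y := fun y hy => mem_centralizer_iff.1 (hnW.comm hw) y (hVW hy)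
    rcases mem_zpow_cases D i h5 with h8 | h8
    · left; rw [h8, one_mul]
    · right; rw [h8]; exact h7 _ (D.mem i)

namespace Sd

variable {i j : Fin 2} {R : Subgroup G} {a : G}

theorem N_V {i j : Fin 2} (hij : i ≠ j) {R : Subgroup G} (hR : IsMinPar T R) (hRj : R ≤ CC v j)
    (hRi : ¬ R ≤ CC v i) : R ≤ normalizer (V i : Set G) := D.uni i j hij R hR hRj hRi

theorem N_Q {i j : Fin 2} (hij : i ≠ j) {R : Subgroup G} (hR : IsMinPar T R) (hRj : R ≤ CC v j)
    (hRi : ¬ R ≤ CC v i) : R ≤ normalizer ((T ⊓ centralizer (V i : Set G) : Subgroup G) : Set G) := by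
  rw [← o2_eq D hij hR hRj hRi]; exact MinSimple.VModule.le_normalizer_o2 R

/-- conjugates of `a` are transvections -/
theorem tv' (hij : i ≠ j) (hR : IsMinPar T R) (hRj : R ≤ CC v j) (hRi : ¬ R ≤ CC v i) (h : Sd T V v i R a) {r : G}
    (hr : r ∈ R) {w : G} (hw : w ∈ bang (T ⊓ centralizer (V i : Set G))) :
    (r * a * r⁻¹) * w * (r * a * r⁻¹)⁻¹ = w ∨ (r * a * r⁻¹) * w * (r * a * r⁻¹)⁻¹ = w * (r * v i * r⁻¹) := by
  have hRW : R ≤ normalizer (bang (T ⊓ centralizer (V i : Set G)) : Set G) :=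
    (N_Q D hij hR hRj hRi).trans (normalizer_le_bang _)
  have h1 : r⁻¹ * w * r ∈ bang (T ⊓ centralizer (V i : Set G)) := by
    have := (mem_normalizer_iff.1 (hRW (inv_mem hr)) w).1 hw
    rwa [inv_inv] at this
  have e : (r * a * r⁻¹) * w * (r * a * r⁻¹)⁻¹ = r * (a * (r⁻¹ * w * r) * a⁻¹) * r⁻¹ := by group
  rw [e]
  rcases h.tv _ h1 with h2 | h2
  · left; rw [h2]; group
  · right; rw [h2]; group

theorem bang_le_W (i : Fin 2) : bang T ≤ bang (T ⊓ centralizer (V i : Set G)) :=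
  ((nn_bang T).mono (le_inf (nn_bang T).le (bang_le_cent D i)) inf_le_left).le_bang

theorem V_le_W' (i : Fin 2) : V i ≤ bang (T ⊓ centralizer (V i : Set G)) := by
  have hcV : V i ≤ centralizer (V i : Set G) := fun x hx => mem_centralizer_iff.2 fun y hy => D.V_comm hy hx
  exact (NN.of_le_centralizer (le_inf (D.V_le_T i) hcV) inf_le_right (D.sqV i)).le_bang

/-- `a^r` moves the elements of `V i` outside `⟨v i^r⟩` -/
theorem mvV (hij : i ≠ j) (hR : IsMinPar T R) (hRj : R ≤ CC v j) (hRi : ¬ R ≤ CC v i) (h : Sd T V v i R a) {r : G}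
    (hr : r ∈ R) {x : G} (hx : x ∈ V i) (hx1 : x ≠ 1) (hxv : x ≠ r * v i * r⁻¹) :
    (r * a * r⁻¹) * x * (r * a * r⁻¹)⁻¹ = x * (r * v i * r⁻¹) := by
  have hRN := N_V D hij hR hRj hRi
  have h1 : r⁻¹ * x * r ∈ V i := by
    have := (mem_normalizer_iff.1 (hRN (inv_mem hr)) x).1 hx
    rwa [inv_inv] at this
  have hao : a ∉ o2 (P i) := by rw [o2_P D i]; exact fun h2 => h.aV h2.2
  have h2 := moves D h.aT hao h1 (fun h3 => hx1 (by
    have e : x = r * (r⁻¹ * x * r) * r⁻¹ := by group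
    rw [e, h3]; group)) (fun h3 => hxv (by rw [← h3]; group))
  have e : (r * a * r⁻¹) * x * (r * a * r⁻¹)⁻¹ = r * (a * (r⁻¹ * x * r) * a⁻¹) * r⁻¹ := by group
  rw [e, h2]; group

theorem fixV (h : Sd T V v i R a) (r : G) : (r * a * r⁻¹) * (r * v i * r⁻¹) * (r * a * r⁻¹)⁻¹ = r * v i * r⁻¹ := by
  have h1 := D.cen i h.aT
  calc (r * a * r⁻¹) * (r * v i * r⁻¹) * (r * a * r⁻¹)⁻¹ = r * (a * v i * a⁻¹) * r⁻¹ := by group
    _ = r * v i * r⁻¹ := by rw [h1]

/-- the same centre: the same action on `V i` -/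
theorem same (hij : i ≠ j) (hR : IsMinPar T R) (hRj : R ≤ CC v j) (hRi : ¬ R ≤ CC v i) (h : Sd T V v i R a) {r s : G}
    (hr : r ∈ R) (hs : s ∈ R) (e : r * v i * r⁻¹ = s * v i * s⁻¹) :
    (s * a * s⁻¹)⁻¹ * (r * a * r⁻¹) ∈ centralizer (V i : Set G) := by
  have key : ∀ x ∈ V i, (r * a * r⁻¹) * x * (r * a * r⁻¹)⁻¹ = (s * a * s⁻¹) * x * (s * a * s⁻¹)⁻¹ := by
    intro x hx
    by_cases hx1 : x = 1
    · rw [hx1]; group
    by_cases hxv : x = r * v i * r⁻¹
    · have h1 := fixV D h r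
      have h2 := fixV D h s
      rw [← e] at h2
      rw [hxv, h1, h2]
    · rw [mvV D hij hR hRj hRi h hr hx hx1 hxv, mvV D hij hR hRj hRi h hs hx hx1 (by rw [← e]; exact hxv), e]
  refine mem_centralizer_iff.2 fun x hx => ?_
  have h1 := key x hx
  calc x * ((s * a * s⁻¹)⁻¹ * (r * a * r⁻¹))
      = (s * a * s⁻¹)⁻¹ * ((s * a * s⁻¹) * x * (s * a * s⁻¹)⁻¹) * (r * a * r⁻¹) := by group
    _ = (s * a * s⁻¹)⁻¹ * ((r * a * r⁻¹) * x * (r * a * r⁻¹)⁻¹) * (r * a * r⁻¹) := by rw [h1]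
    _ = (s * a * s⁻¹)⁻¹ * (r * a * r⁻¹) * x := by group

/-- an odd power of `x ∈ C_R(V i)` lies in `O₂(R)` -/
theorem exists_odd (hij : i ≠ j) (hR : IsMinPar T R) (hRj : R ≤ CC v j) (hRi : ¬ R ≤ CC v i) {x : G} (hx : x ∈ R)
    (hxV : x ∈ centralizer (V i : Set G)) : ∃ m : ℕ, Odd m ∧ x ^ m ∈ T ⊓ centralizer (V i : Set G) := by
  have hf : Fact (Nat.Prime 2) := ⟨Nat.prime_two⟩
  have hRN := N_V D hij hR hRj hRi
  have hsyl : Syl T R := ⟨hR.le, D.T_isPGroup, fun Q hQ hQ2 hTQ => (D.syl j).2.2 Q (hQ.trans hRj) hQ2 hTQ⟩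
  obtain ⟨c, m, hm, hord⟩ := Nat.exists_eq_two_pow_mul_odd (orderOf_pos x).ne'
  refine ⟨m, hm, ?_⟩
  have h2 : IsPGroup 2 (zpowers (x ^ m)) := by
    refine IsPGroup.of_card (n := c) ?_
    rw [Nat.card_zpowers, orderOf_pow, hord, Nat.gcd_eq_right (Dvd.intro_left _ rfl),
      Nat.mul_div_cancel _ (Nat.pos_of_ne_zero (by rintro rfl; simp at hm))]
  obtain ⟨T', hT', hle⟩ := exists_syl (X := R) h2 (by rw [zpowers_le]; exact pow_mem hx m)
  obtain ⟨r, hr, e⟩ := syl_conj hT' hsyl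
  have h3 : r * x ^ m * r⁻¹ ∈ T := by
    rw [← e, mem_cj]
    have e2 : r⁻¹ * (r * x ^ m * r⁻¹) * r = x ^ m := by group
    rw [e2]
    exact hle (mem_zpowers _)
  have h4 : r * x ^ m * r⁻¹ ∈ centralizer (V i : Set G) := by
    refine mem_centralizer_iff.2 fun y hy => ?_
    have h5 : r⁻¹ * y * r ∈ V i := by
      have := (mem_normalizer_iff.1 (hRN (inv_mem hr)) y).1 hy
      rwa [inv_inv] at this
    have h6 := mem_centralizer_iff.1 (pow_mem hxV m) _ h5
    calc y * (r * x ^ m * r⁻¹) = r * (r⁻¹ * y * r * x ^ m) * r⁻¹ := by group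
      _ = r * (x ^ m * (r⁻¹ * y * r)) * r⁻¹ := by rw [h6]
      _ = r * x ^ m * r⁻¹ * y := by group
  have h7 := (mem_normalizer_iff''.1 (N_Q D hij hR hRj hRi hr) _).1 (⟨h3, h4⟩ : r * x ^ m * r⁻¹ ∈ T ⊓ centralizer (V i : Set G))
  have e2 : r⁻¹ * (r * x ^ m * r⁻¹) * r = x ^ m := by group
  rwa [e2] at h7

/-- `b^x = b n` -/
theorem two (hij : i ≠ j) (hR : IsMinPar T R) (hRj : R ≤ CC v j) (hRi : ¬ R ≤ CC v i) (h : Sd T V v i R a) {x b n : G}
    (hx : x ∈ R) (hxV : x ∈ centralizer (V i : Set G)) (hb : b ∈ bang T) (hn : n ∈ V i)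
    (e : x * b * x⁻¹ = b * n) : n = 1 ∨ n = v i := by
  obtain ⟨m, hm, hmQ⟩ := exists_odd D hij hR hRj hRi hx hxV
  have hxn : x * n = n * x := (mem_centralizer_iff.1 hxV n hn).symm
  have hpow : ∀ k : ℕ, x ^ k * b * (x ^ k)⁻¹ = b * n ^ k := by
    intro k
    induction k with
    | zero => simp
    | succ k ih =>
      have h1 : Commute x (n ^ k) := (show Commute x n from hxn).pow_right k
      calc x ^ (k + 1) * b * (x ^ (k + 1))⁻¹ = x * (x ^ k * b * (x ^ k)⁻¹) * x⁻¹ := by rw [pow_succ']; group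
        _ = x * b * (n ^ k * x⁻¹) := by rw [ih]; group
        _ = (x * b * x⁻¹) * n ^ k := by rw [← h1.inv_left.eq]; group
        _ = b * n ^ (k + 1) := by rw [e, pow_succ']; group
  obtain ⟨k, rfl⟩ := hm
  have h1 := hpow (2 * k + 1)
  have hnn : n ^ (2 * k + 1) = n := by rw [pow_succ, pow_mul, D.sqV i n hn, one_pow, one_mul]
  rw [hnn] at h1
  have h2 : x ^ (2 * k + 1) * b * (x ^ (2 * k + 1))⁻¹ ∈ bang T :=
    (mem_normalizer_iff.1 ((nn_bang T).norm hmQ.1) b).1 hb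
  rw [h1] at h2
  have h3 : n ∈ bang T := by
    have := mul_mem (inv_mem hb) h2
    rwa [inv_mul_cancel_left] at this
  have h4 := h.cB n h3
  by_contra hcon
  push Not at hcon
  have hao : a ∉ o2 (P i) := by rw [o2_P D i]; exact fun h2 => h.aV h2.2
  have h5 := moves D h.aT hao hn hcon.1 hcon.2
  rw [h4, mul_inv_cancel_right] at h5
  exact D.ne i (by simpa using h5.symm)

/-- **`b` or `b v_i` is centralised by all conjugates of `a`** -/
theorem exists_fix (hij : i ≠ j) (hR : IsMinPar T R) (hRj : R ≤ CC v j) (hRi : ¬ R ≤ CC v i) (h : Sd T V v i R a) {b : G}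
    (hb : b ∈ bang T) : ∃ e, (e = 1 ∨ e = v i) ∧ ∀ r ∈ R, (r * a * r⁻¹) * (b * e) * (r * a * r⁻¹)⁻¹ = b * e := by
  have hRN := N_V D hij hR hRj hRi
  have hvB : v i ∈ bang T := zc_le_bang T (D.v_mem_zc i)
  have hTW := bang_le_W D i
  -- a second conjugate
  obtain ⟨s, hs, hsv⟩ : ∃ s ∈ R, s * v i * s⁻¹ ≠ v i := by
    by_contra hcon
    push Not at hcon
    apply hRi
    intro r hr
    rw [mem_centralizer_singleton_iff]
    calc r * v i = r * v i * r⁻¹ * r := by group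
      _ = v i * r := by rw [hcon r hr]
  set w := s * v i * s⁻¹ with hw
  have hwV : w ∈ V i := (mem_normalizer_iff.1 (hRN hs) _).1 (D.mem i)
  have hw1 : w ≠ 1 := fun h1 => D.ne i (conj_eq_one_iff.1 h1)
  set a' := s * a * s⁻¹ with ha'
  have haR : a ∈ R := hR.le h.aT
  have ha'R : a' ∈ R := mul_mem (mul_mem hs haR) (inv_mem hs)
  have m1 : a' * v i * a'⁻¹ = v i * w := mvV D hij hR hRj hRi h hs (D.mem i) (D.ne i) (Ne.symm hsv)
  have m2 : a * w * a⁻¹ = w * v i := by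
    have h1 := mvV D hij hR hRj hRi h (one_mem R) hwV hw1 (by simpa using hsv)
    simpa using h1
  have hcomm : ∀ x ∈ bang T, x * w = w * x := fun x hx =>
    mem_centralizer_iff.1 (bang_le_cent D i hx) w hwV |>.symm
  -- `b e` is fixed by `a` and `a'`
  obtain ⟨e, he, hfix⟩ : ∃ e, (e = 1 ∨ e = v i) ∧ a' * (b * e) * a'⁻¹ = b * e := by
    rcases tv' D hij hR hRj hRi h hs (hTW hb) with h1 | h1
    · exact ⟨1, Or.inl rfl, by rw [mul_one]; exact h1⟩
    · refine ⟨v i, Or.inr rfl, ?_⟩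
      have h2 : w * w = 1 := by rw [← pow_two]; exact D.sqV i w hwV
      calc a' * (b * v i) * a'⁻¹ = (a' * b * a'⁻¹) * (a' * v i * a'⁻¹) := by group
        _ = b * w * (v i * w) := by rw [h1, m1]
        _ = b * (w * (v i * w)) := by group
        _ = b * (w * (w * v i)) := by rw [hcomm _ hvB]
        _ = b * v i := by rw [← mul_assoc w w, h2, one_mul]
  refine ⟨e, he, ?_⟩
  have heB : e ∈ bang T := by
    rcases he with rfl | rfl
    · exact one_mem _
    · exact hvB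
  set b' := b * e with hb'
  have hb'B : b' ∈ bang T := mul_mem hb heB
  have f1 : a * b' * a⁻¹ = b' := by rw [h.cB b' hb'B]; group
  -- a conjugate with centre `w` fixes `b'`
  have k1 : ∀ r ∈ R, r * v i * r⁻¹ = w → (r * a * r⁻¹) * b' * (r * a * r⁻¹)⁻¹ = b' := by
    intro r hr hrw
    rcases tv' D hij hR hRj hRi h hr (hTW hb'B) with h1 | h1
    · exact h1
    · exfalso
      have h2 := same D hij hR hRj hRi h hr hs hrw
      have h3 : (a'⁻¹ * (r * a * r⁻¹)) * b' * (a'⁻¹ * (r * a * r⁻¹))⁻¹ = b' * w := by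
        have h4 : a'⁻¹ * b' * a' = b' := by
          calc a'⁻¹ * b' * a' = a'⁻¹ * (a' * b' * a'⁻¹) * a' := by rw [hfix]
            _ = b' := by group
        have h5 : a'⁻¹ * w * a' = w := by
          have h6 := fixV D h s
          rw [← hw, ← ha'] at h6
          calc a'⁻¹ * w * a' = a'⁻¹ * (a' * w * a'⁻¹) * a' := by rw [h6]
            _ = w := by group
        calc (a'⁻¹ * (r * a * r⁻¹)) * b' * (a'⁻¹ * (r * a * r⁻¹))⁻¹
            = a'⁻¹ * ((r * a * r⁻¹) * b' * (r * a * r⁻¹)⁻¹) * a' := by group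
          _ = (a'⁻¹ * b' * a') * (a'⁻¹ * w * a') := by rw [h1, hrw]; group
          _ = b' * w := by rw [h4, h5]
      rcases two D hij hR hRj hRi h (mul_mem (inv_mem ha'R) (mul_mem (mul_mem hr haR) (inv_mem hr))) h2 hb'B hwV h3 with h6 | h6
      · exact hw1 h6
      · exact hsv h6
  -- conjugation by an element which fixes `b'`
  have k2 : ∀ g ∈ R, g * b' * g⁻¹ = b' → ∀ r ∈ R, g * (r * v i * r⁻¹) * g⁻¹ = w →
      (r * a * r⁻¹) * b' * (r * a * r⁻¹)⁻¹ = b' := by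
    intro g hg hgb r hr hgw
    have h1 := k1 (g * r) (mul_mem hg hr) (by rw [← hgw]; group)
    have h2 : g⁻¹ * b' * g = b' := by
      calc g⁻¹ * b' * g = g⁻¹ * (g * b' * g⁻¹) * g := by rw [hgb]
        _ = b' := by group
    calc (r * a * r⁻¹) * b' * (r * a * r⁻¹)⁻¹
        = (r * a * r⁻¹) * (g⁻¹ * b' * g) * (r * a * r⁻¹)⁻¹ := by rw [h2]
      _ = g⁻¹ * ((g * r * a * (g * r)⁻¹) * b' * (g * r * a * (g * r)⁻¹)⁻¹) * g := by group
      _ = g⁻¹ * b' * g := by rw [h1]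
      _ = b' := h2
  intro r hr
  have hrV : r * v i * r⁻¹ ∈ V i := (mem_normalizer_iff.1 (hRN hr) _).1 (D.mem i)
  have hr1 : r * v i * r⁻¹ ≠ 1 := fun h1 => D.ne i (conj_eq_one_iff.1 h1)
  have m3 : a * (v i * w) * a⁻¹ = w := by
    have h1 := D.cen i h.aT
    calc a * (v i * w) * a⁻¹ = (a * v i * a⁻¹) * (a * w * a⁻¹) := by group
      _ = v i * (w * v i) := by rw [h1, m2]
      _ = v i * (v i * w) := by rw [hcomm _ hvB]
      _ = w := by rw [← mul_assoc, D.v_sq, one_mul]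
  rcases D.eq_of_V (D.mem i) (D.ne i) hwV hw1 (Ne.symm hsv) hrV hr1 with h1 | h1 | h1
  · refine k2 (a * a') (mul_mem haR ha'R) ?_ r hr ?_
    · calc a * a' * b' * (a * a')⁻¹ = a * (a' * b' * a'⁻¹) * a⁻¹ := by group
        _ = b' := by rw [hfix, f1]
    · rw [h1]
      calc a * a' * v i * (a * a')⁻¹ = a * (a' * v i * a'⁻¹) * a⁻¹ := by group
        _ = w := by rw [m1, m3]
  · exact k1 r hr h1
  · exact k2 a haR f1 r hr (by rw [h1]; exact m3)

end Sd

/-- **`V^!(T) ≤ Ω₁(Z(T))`** -/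
theorem vbang_of_rc (h : ∀ i : Fin 2, ∃ R : Subgroup G, IsMinPar T R ∧ R ≤ CC v (i + 1) ∧ ¬ R ≤ CC v i ∧
    ¬ R ≤ normalizer (bang T : Set G)) : VBang T := by
  choose R hR hRj hRi hRB using h
  choose a ha using fun i => exists_sd D (ne_add_one i) (hR i) (hRj i) (hRi i) (hRB i)
  set X : Fin 2 → Set G := fun i => {x | ∃ r ∈ R i, x = r * a i * r⁻¹} with hX
  have haR : ∀ i, a i ∈ R i := fun i => (hR i).le (ha i).aT
  have hXC : ∀ i, ∀ x ∈ X i, x * v (i + 1) = v (i + 1) * x := by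
    rintro i _ ⟨r, hr, rfl⟩
    exact mem_centralizer_singleton_iff.1 (hRj i (mul_mem (mul_mem hr (haR i)) (inv_mem hr)))
  have hn := nn_bang T
  have h2 : ∀ i : Fin 2, i = 0 ∨ i = 1 := by decide
  -- `B'`
  set B' : Subgroup G := bang T ⊓ (centralizer (X 0) ⊓ centralizer (X 1)) with hB'
  have hTX : ∀ i, ∀ t ∈ T, ∀ b ∈ centralizer (X i), t * b * t⁻¹ ∈ centralizer (X i) := by
    intro i t ht b hb
    refine mem_centralizer_iff.2 ?_
    rintro _ ⟨r, hr, rfl⟩
    have h1 := mem_centralizer_iff.1 hb _ ⟨t⁻¹ * r, mul_mem (inv_mem ((hR i).le ht)) hr, rfl⟩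
    calc r * a i * r⁻¹ * (t * b * t⁻¹) = t * (t⁻¹ * r * a i * (t⁻¹ * r)⁻¹ * b) * t⁻¹ := by group
      _ = t * (b * (t⁻¹ * r * a i * (t⁻¹ * r)⁻¹)) * t⁻¹ := by rw [h1]
      _ = t * b * t⁻¹ * (r * a i * r⁻¹) := by group
  have hTB : ∀ t ∈ T, ∀ b ∈ B', t * b * t⁻¹ ∈ B' := by
    intro t ht b hb
    exact ⟨(mem_normalizer_iff.1 (hn.norm ht) b).1 hb.1, hTX 0 t ht b hb.2.1, hTX 1 t ht b hb.2.2⟩
  have hTN : T ≤ normalizer (B' : Set G) := by
    intro t ht
    rw [mem_normalizer_iff]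
    intro b
    refine ⟨hTB t ht b, fun hb => ?_⟩
    have h1 := hTB t⁻¹ (inv_mem ht) _ hb
    have e : t⁻¹ * (t * b * t⁻¹) * t⁻¹⁻¹ = b := by group
    rwa [e] at h1
  -- every `v i`, and `v 0 * v 1`, is moved by a conjugate of `a i`
  have hmv : ∀ i, ∃ x ∈ X i, x * v i ≠ v i * x := by
    intro i
    obtain ⟨s, hs, hsv⟩ : ∃ s ∈ R i, s * v i * s⁻¹ ≠ v i := by
      by_contra hcon
      push Not at hcon
      apply hRi i
      intro r hr
      rw [mem_centralizer_singleton_iff]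
      calc r * v i = r * v i * r⁻¹ * r := by group
        _ = v i * r := by rw [hcon r hr]
    refine ⟨s * a i * s⁻¹, ⟨s, hs, rfl⟩, fun h3 => ?_⟩
    have h4 := Sd.mvV D (ne_add_one i) (hR i) (hRj i) (hRi i) (ha i) hs (D.mem i) (D.ne i) (Ne.symm hsv)
    rw [h3, mul_inv_cancel_right] at h4
    exact D.ne i (conj_eq_one_iff.1 (mul_eq_left.1 h4.symm))
  have hB1 : B' = ⊥ := by
    by_contra hne
    obtain ⟨z, hz, hz1, hzc⟩ := NoFF.LinesPlug.exists_fixed D.T_isPGroup (inf_le_left.trans hn.le) hTN hne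
    have hzT : z ∈ zc T := ZN.mem_zc.2 ⟨hn.le hz.1, hzc, hn.sq z hz.1⟩
    obtain ⟨x, hx, hxv⟩ := hmv 0
    obtain ⟨y, hy, hyv⟩ := hmv 1
    have h3 := mem_centralizer_iff.1 hz.2.1 x hx
    have h4 := mem_centralizer_iff.1 hz.2.2 y hy
    rcases (D.zT z).1 hzT with h5 | h5 | h5 | h5
    · exact hz1 h5
    · exact hxv (by rw [← h5]; exact h3)
    · exact hyv (by rw [← h5]; exact h4)
    · have h6 : x * v 1 = v 1 * x := hXC 0 x hx
      apply hxv
      rw [h5] at h3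
      have h7 : x * v 0 * v 1 = v 0 * x * v 1 := by
        calc x * v 0 * v 1 = x * (v 0 * v 1) := by group
          _ = v 0 * (v 1 * x) := by rw [h3]; group
          _ = v 0 * x * v 1 := by rw [← h6]; group
      exact mul_right_cancel h7
  intro b hb
  obtain ⟨e₀, he₀, h3⟩ := Sd.exists_fix D (ne_add_one 0) (hR 0) (hRj 0) (hRi 0) (ha 0) hb
  obtain ⟨e₁, he₁, h4⟩ := Sd.exists_fix D (ne_add_one 1) (hR 1) (hRj 1) (hRi 1) (ha 1) hb
  have z0 : e₀ ∈ zc T := by
    rcases he₀ with rfl | rfl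
    · exact one_mem _
    · exact D.v_mem_zc 0
  have z1 : e₁ ∈ zc T := by
    rcases he₁ with rfl | rfl
    · exact one_mem _
    · exact D.v_mem_zc 1
  have c0 : ∀ x ∈ X 0, x * (b * e₀) = b * e₀ * x := by
    rintro _ ⟨r, hr, rfl⟩
    exact mul_inv_eq_iff_eq_mul.1 (h3 r hr)
  have c1 : ∀ x ∈ X 1, x * (b * e₁) = b * e₁ * x := by
    rintro _ ⟨r, hr, rfl⟩
    exact mul_inv_eq_iff_eq_mul.1 (h4 r hr)
  have c2 : ∀ x ∈ X 0, x * e₁ = e₁ * x := by
    intro x hx
    rcases he₁ with h5 | h5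
    · rw [h5, mul_one, one_mul]
    · rw [h5]; exact hXC 0 x hx
  have c3 : ∀ x ∈ X 1, x * e₀ = e₀ * x := by
    intro x hx
    rcases he₀ with h5 | h5
    · rw [h5, mul_one, one_mul]
    · rw [h5]; exact hXC 1 x hx
  have hee : e₀ * e₁ = e₁ * e₀ := (ZN.mem_zc.1 z1).2.1 e₀ (ZN.zc_le _ z0)
  have h5 : b * e₀ * e₁ ∈ B' := by
    refine ⟨mul_mem (mul_mem hb (zc_le_bang T z0)) (zc_le_bang T z1), mem_centralizer_iff.2 fun x hx => ?_,
      mem_centralizer_iff.2 fun x hx => ?_⟩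
    · calc x * (b * e₀ * e₁) = x * (b * e₀) * e₁ := by group
        _ = b * e₀ * (x * e₁) := by rw [c0 x hx]; group
        _ = b * e₀ * e₁ * x := by rw [c2 x hx]; group
    · calc x * (b * e₀ * e₁) = x * (b * e₁) * e₀ := by rw [mul_assoc b, hee]; group
        _ = b * e₁ * (x * e₀) := by rw [c1 x hx]; group
        _ = b * (e₁ * e₀) * x := by rw [c3 x hx]; group
        _ = b * e₀ * e₁ * x := by rw [← hee]; group
  rw [hB1, mem_bot] at h5
  have h6 : b = (e₀ * e₁)⁻¹ := by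
    rw [eq_inv_iff_mul_eq_one, ← h5]; group
  rw [h6]
  exact inv_mem (mul_mem z0 z1)

end

end Cfsg.Agent.Omega.TC.VBangRC

end

end

-- merged: Cfsg.Agent.Mrg.Omega.TC.DTwo
section

section


/-!
# LEMMA D2 (#21730; CARD #18791 TWO CENTRES, all variants): an exact group in `O₂(D) ∩ O₂(N_G(V j))` for `d ≥ 2`

`ZV V v j = ⟨v (j+1) ^ C_G(V j)⟩ ≤ N_j`.  The critical distance is `n + 1 ≥ 2`.

* `lemZ'` : `B ≤ O₂(D)` elementary abelian, exact on `N_j` ⟹ `C_B(ZV j)` is exact on `N_j`;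
* `ex_near` : `N_i^h` at distance `≤ n` of `v (j+1)`, `[N_i^h, N_j] ≠ 1` ⟹ `N_i^h` is exact on `N_j`;
* `exists_flag` : for some `c ∈ C_{j+1}` the group `C_{N_i^(c⁻¹h)}(ZV j)` does not centralise `N_j`;
* `exists_at` : **LEMMA D2** at a vertex of the type of the end of a critical pair;
* `exists_ex` : **LEMMA D2**: `[N_0, N_1] = 1` ⟹ for some `j` there is an elementary abelian `B ≤ Q_{j+1}`, exact on
  `N_j`, `[B, N_j] ≠ 1`, which centralises `N_{j+1}` and `ZV j`, and `B ≤ O₂(N_G(V j))`.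
-/

set_option autoImplicit false
set_option linter.unusedSectionVars false

namespace Cfsg.Agent.Omega.TC.DTwo

open Subgroup Cfsg Cfsg.Agent.ZN Cfsg.Agent.Omega.MinPar
open Cfsg.Agent.Omega.OM.KTwo (CC QQ WU NU EU ne_add_one eq_add_one add_one_add_one le_normalizer_V le_V)
open Cfsg.Agent.Omega.NoFF.Basic (conj_conj mem_conj conj_le_iff comm_symm comm_mono Z_le_V V_le)
open Cfsg.Agent.Omega.NOThreeL.Pair (conj_eq_of_mem conj_le_normalizer)
open Cfsg.Agent.Omega.NO3L.LemP (Near Same Adj Comm vx vx_eq vx_same vx_mono vx_mk conj_comm_iff)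
open Cfsg.Agent.ZN.ChoiceSit (Syl syl_conj syl_not_dvd)
open Cfsg.Agent.Omega.TC.LemZ (ZV card_eq norm_cent norm_inf le_norm_of)
open scoped Pointwise commutatorElement

universe u

variable {G : Type u} [Group G]

theorem conj_cent (g : G) (N : Subgroup G) :
    MulAut.conj g • centralizer (N : Set G) = centralizer ((MulAut.conj g • N : Subgroup G) : Set G) := by
  ext x
  rw [mem_conj, mem_centralizer_iff, mem_centralizer_iff]
  constructor
  · intro h y hy
    have hy' : y ∈ MulAut.conj g • N := hy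
    rw [mem_conj] at hy'
    have h1 := h _ hy'
    have h2 := congrArg (fun t => g * t * g⁻¹) h1
    simpa [mul_assoc] using h2
  · intro h y hy
    have h1 := h (g * y * g⁻¹) (by
      change _ ∈ MulAut.conj g • N
      rw [mem_conj]
      simpa [mul_assoc] using hy)
    have h2 := congrArg (fun t => g⁻¹ * t * g) h1
    simpa [mul_assoc] using h2

theorem conj_le_centralizer' {g : G} {A B : Subgroup G} (h : A ≤ centralizer (B : Set G)) :
    MulAut.conj g • A ≤ centralizer ((MulAut.conj g • B : Subgroup G) : Set G) := by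
  rw [← conj_cent]; exact conj_le_iff.2 h

variable [Finite G] {T : Subgroup G} {V P : Fin 2 → Subgroup G} {v : Fin 2 → G} (D : Fr T V P v)

include D

/-- **LEMMA Z** for any exact `B` -/
theorem lemZ' (hML : ML.Final.MLK.{u, u}) (hK : ∀ i, IsKGroup (CC v i)) (i : Fin 2) {B : Subgroup G}
    (hBO : B ≤ o2 (centralizer (zc T : Set G))) (hB2 : ∀ b ∈ B, b ^ 2 = 1) (h3 : OM.PG.Int.Ex B (NU V v i)) :
    OM.PG.Int.Ex (B ⊓ centralizer (ZV V v i : Set G)) (NU V v i) := by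
  set N := NU V v i with hN
  set Z := ZV V v i with hZ
  set Y := N ⊓ centralizer (B : Set G) with hY
  set A := B ⊓ centralizer (Z : Set G) with hA
  have hZN : Z ≤ N := LemZ.ZV_le D i
  have hBT : B ≤ T := hBO.trans D.o2D_le_T
  have hAB : A ≤ B := inf_le_left
  have hHC : centralizer (V i : Set G) ⊔ T ≤ CC v i := sup_le (LemZ.cent_V_le D i) (D.T_le_C i)
  -- (NO) for `Z`
  have h1 : (centralizer (Z : Set G)).relIndex B ≤ (centralizer (B : Set G)).relIndex Z := by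
    have h := D.no_H hML (A := B) (hK i) (le_sup_right : T ≤ centralizer (V i : Set G) ⊔ T) hHC hBO
      (hBT.trans le_sup_right) hB2
    rwa [LemZ.NH_eq D i] at h
  -- (NO) for `A` on `N`
  have h2 : (centralizer (N : Set G)).relIndex A ≤ (centralizer (A : Set G)).relIndex N :=
    D.no_N hML (hK i) (hAB.trans hBO) fun a ha => hB2 a (hAB ha)
  have h3 : (centralizer (N : Set G)).relIndex B = (centralizer (B : Set G)).relIndex N := h3
  -- cards
  have c1 : Nat.card B = Nat.card A * (centralizer (Z : Set G)).relIndex B := card_eq B _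
  have c2 : Nat.card B = Nat.card (B ⊓ centralizer (N : Set G) : Subgroup G) * (centralizer (N : Set G)).relIndex B :=
    card_eq B _
  have hAN : A ⊓ centralizer (N : Set G) = B ⊓ centralizer (N : Set G) := by
    apply le_antisymm
    · exact inf_le_inf_right _ hAB
    · exact le_inf (le_inf inf_le_left (inf_le_right.trans (centralizer_le hZN))) inf_le_right
  have c3 : Nat.card A = Nat.card (B ⊓ centralizer (N : Set G) : Subgroup G) * (centralizer (N : Set G)).relIndex A := by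
    rw [← hAN]; exact card_eq A _
  have c4 : Nat.card N = Nat.card Y * (centralizer (B : Set G)).relIndex N := card_eq N _
  have c5 : Nat.card N = Nat.card (N ⊓ centralizer (A : Set G) : Subgroup G) * (centralizer (A : Set G)).relIndex N :=
    card_eq N _
  have hNc : N ≤ centralizer (N : Set G) := D.N_comm i
  have hYZ : Y ≤ centralizer (Z : Set G) := (inf_le_left.trans hNc).trans (centralizer_le hZN)
  have c6 : Nat.card (Z ⊔ Y : Subgroup G) = (centralizer (B : Set G)).relIndex Z * Nat.card Y := by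
    have h4 := PLocal.ElemAbSup.card_sup_mul_card_inf hYZ
    have h5 : Z ⊓ Y = Z ⊓ centralizer (B : Set G) := by
      rw [hY, ← inf_assoc, inf_eq_left.2 hZN]
    rw [h5] at h4
    have h6 : Nat.card Z = Nat.card (Z ⊓ centralizer (B : Set G) : Subgroup G) * (centralizer (B : Set G)).relIndex Z :=
      card_eq Z _
    have hpos : 0 < Nat.card (Z ⊓ centralizer (B : Set G) : Subgroup G) := Nat.card_pos
    have h7 : Nat.card (Z ⊔ Y : Subgroup G) * Nat.card (Z ⊓ centralizer (B : Set G) : Subgroup G) =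
        ((centralizer (B : Set G)).relIndex Z * Nat.card Y) * Nat.card (Z ⊓ centralizer (B : Set G) : Subgroup G) := by
      rw [h4, h6]; ring
    exact Nat.eq_of_mul_eq_mul_right hpos h7
  have hle : Z ⊔ Y ≤ N ⊓ centralizer (A : Set G) := by
    refine sup_le (le_inf hZN (comm_symm inf_le_right)) (le_inf inf_le_left ?_)
    exact inf_le_right.trans (centralizer_le hAB)
  set a := (centralizer (Z : Set G)).relIndex B
  set b := (centralizer (B : Set G)).relIndex Z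
  set r := (centralizer (N : Set G)).relIndex B
  set s := (centralizer (N : Set G)).relIndex A with hs'
  set t := (centralizer (A : Set G)).relIndex N with ht'
  set y' := Nat.card (B ⊓ centralizer (N : Set G) : Subgroup G)
  set y := Nat.card Y
  set c := Nat.card (N ⊓ centralizer (A : Set G) : Subgroup G)
  have hy' : 0 < y' := Nat.card_pos
  have hy : 0 < y := Nat.card_pos
  have hc : 0 < c := Nat.card_pos
  have hs : 0 < s := Nat.pos_of_ne_zero (OM.PG.Int.rix_ne _ _)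
  have hra : r = a * s := by
    have h4 : y' * r = y' * (a * s) := by
      calc y' * r = Nat.card B := c2.symm
        _ = y' * (a * s) := by rw [c1, c3]; ring
    exact Nat.eq_of_mul_eq_mul_left hy' h4
  have hyb : b * y ≤ c := by
    rw [← c6]; exact Subgroup.card_le_of_le hle
  have hyr : y * r = c * t := by rw [← c5, c4, h3]
  have e1 : y * (a * s) = c * t := by rw [← hra]; exact hyr
  have l1 : y * (a * s) ≤ (b * y) * s := by
    calc y * (a * s) = a * (y * s) := by ring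
      _ ≤ b * (y * s) := Nat.mul_le_mul_right _ h1
      _ = (b * y) * s := by ring
  have l2 : (b * y) * s ≤ c * s := Nat.mul_le_mul_right _ hyb
  have l3 : c * s ≤ c * t := Nat.mul_le_mul_left _ h2
  have e2 : c * s = c * t := le_antisymm l3 (by rw [← e1]; exact l1.trans l2)
  have hst : s = t := Nat.eq_of_mul_eq_mul_left hc e2
  exact hst

/-- `Q_{i+1} ∩ C_G(ZV i) ≤ O₂(N_G(V i))` -/
theorem Q_inf_le_o2 (i : Fin 2) :
    QQ v (i + 1) ⊓ centralizer (ZV V v i : Set G) ≤ o2 (normalizer (V i : Set G)) := by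
  set N := normalizer (V i : Set G) with hN
  set K := N ⊓ centralizer (ZV V v i : Set G) with hK
  have hKC : K ≤ CC v (i + 1) :=
    inf_le_right.trans (centralizer_le (Set.singleton_subset_iff.2 (LemZ.v_mem_ZV D i)))
  have hQK : QQ v (i + 1) ⊓ centralizer (ZV V v i : Set G) ≤ K :=
    le_inf (inf_le_left.trans ((D.Q_le_T (i + 1)).trans (D.T_le_N i))) inf_le_right
  have h1 : QQ v (i + 1) ⊓ centralizer (ZV V v i : Set G) ≤ o2 K := by
    refine ZN.le_o2 hQK ((D.T_isPGroup.to_le (D.Q_le_T (i + 1))).to_le inf_le_left) ?_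
    refine norm_inf (hKC.trans ?_) (norm_cent ?_)
    · exact Cfsg.Agent.MinSimple.VModule.le_normalizer_o2 _
    · exact inf_le_left.trans (LemZ.N_V_le D i)
  have hNK : N ≤ normalizer (K : Set G) := norm_inf le_normalizer (norm_cent (LemZ.N_V_le D i))
  refine h1.trans ?_
  refine ZN.le_o2 ((Cfsg.Agent.MinSimple.VModule.o2_le K).trans inf_le_left) (isPGroup_o2 K) ?_
  exact hNK.trans (normalizer_le_normalizer_o2 K)

/-! ### distance `≤ n` from `v (j+1)` -/

/-- the last vertex but one -/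
theorem exists_prev {n : ℕ} {a : Fin 2 × G} {j : Fin 2} (hn : 1 ≤ n) (h : Near (CC v) n a (j + 1, 1)) :
    Near (CC v) n a (j, 1) ∨ ∃ c ∈ CC v (j + 1), Near (CC v) n a (j, c) := by
  obtain ⟨m, rfl⟩ : ∃ m, n = m + 1 := ⟨n - 1, by omega⟩
  obtain ⟨e, he, x, hx, hx'⟩ := h
  have hx'' : x ∈ CC v (j + 1) := by simpa using hx'
  rcases eq_or_ne e.1 j with h1 | h1
  · right
    refine ⟨x, hx'', NO3L.LemP.Near.mono_succ ?_⟩
    exact near_same_right he ⟨h1, hx⟩
  · left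
    have h2 : e.1 = j + 1 := eq_add_one (Ne.symm h1)
    refine ⟨e, he, ?_⟩
    refine ⟨1, ?_, by simp⟩
    have h3 : Same (CC v) e (j + 1, 1) := NO3L.LemP.Adj.same ⟨x, hx, hx'⟩ h2
    exact h3.2

/-- a first vertex on the way from `(i, h)` to `v j` -/
theorem exists_first {n : ℕ} (hC : Comm (CC v) (EU T v) (n + 1)) (hn : 1 ≤ n) {i j : Fin 2} {h : G}
    (hnear : Near (CC v) n (i, h) (j + 1, 1)) (hne : ¬ MulAut.conj h • NU V v i ≤ centralizer (NU V v j : Set G)) :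
    ∃ y : G, h⁻¹ * y ∈ CC v i ∧ Near (CC v) n (i + 1, y) (j, 1) := by
  obtain ⟨m, rfl⟩ : ∃ m, n = m + 1 := ⟨n - 1, by omega⟩
  obtain ⟨e, he, x, hx, hx'⟩ := hnear.symm
  have hadj : Near (CC v) 1 (j, 1) (j + 1, (1 : G)) := near_adj j (j + 1) 1
  have hej : Near (CC v) (m + 1) (j, 1) e := by
    refine NO3L.LemP.Near.cons ?_ he
    exact ⟨1, by simp, by simp⟩
  rcases eq_or_ne e.1 i with h1 | h1
  · exfalso
    apply hne
    have h2 : Same (CC v) e (i, h) := NO3L.LemP.Adj.same ⟨x, hx, hx'⟩ h1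
    have h3 : Near (CC v) (m + 1) (i, h) (j, 1) := (near_same_right hej h2).symm
    have h4 := D.comm_N hC le_rfl h3
    rwa [map_one, one_smul] at h4
  · have h2 : e.1 = i + 1 := eq_add_one (Ne.symm h1)
    refine ⟨x, hx', (near_same_right hej ⟨h2, hx⟩).symm⟩

/-- `N_i^h ≤ Q_{j+1}`, `N_i^h` centralises `N_{j+1}` -/
theorem le_Q {n : ℕ} (hC : Comm (CC v) (EU T v) (n + 1)) {i j : Fin 2} {h : G}
    (hnear : Near (CC v) n (i, h) (j, 1)) : MulAut.conj h • NU V v i ≤ QQ v j := by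
  have h1 := D.data.le_R hC n (Nat.lt_succ_self n) _ _ hnear
  rw [vx_mk, vx_mk, map_one, one_smul] at h1
  exact (conj_le_iff.2 (D.N_le_E i)).trans h1

/-- **exactness** of `N_i^h` on `N_j` -/
theorem ex_near (hML : ML.Final.MLK.{u, u}) (hK : ∀ i, IsKGroup (CC v i)) {n : ℕ}
    (hC : Comm (CC v) (EU T v) (n + 1)) (hn : 1 ≤ n) {i j : Fin 2} {h : G}
    (hnear : Near (CC v) n (i, h) (j + 1, 1)) (hne : ¬ MulAut.conj h • NU V v i ≤ centralizer (NU V v j : Set G)) :
    OM.PG.Int.Ex (MulAut.conj h • NU V v i) (NU V v j) := by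
  obtain ⟨y, hy, hy2⟩ := exists_first D hC hn hnear hne
  have hNy : MulAut.conj h • NU V v i = MulAut.conj y • NU V v i := (conj_congr (D.C_le_N_N i) hy).symm
  have h1 : MulAut.conj h • NU V v i ≤ o2 (centralizer (zc T : Set G)) := (le_Q D hC hnear).trans (D.Q_le_o2D _)
  have hsq : ∀ x ∈ MulAut.conj h • NU V v i, x ^ 2 = 1 := by
    intro x hx
    rw [mem_conj] at hx
    have h2 := D.N_sq i _ hx
    have e : x ^ 2 = h * (h⁻¹ * x * h) ^ 2 * h⁻¹ := by simp only [pow_two]; group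
    rw [e, h2]; group
  have h2 := D.no_N hML (hK j) h1 hsq
  -- the other side: `N_j^(y⁻¹)` acts on `N_i`
  have h3 : MulAut.conj y⁻¹ • NU V v j ≤ o2 (centralizer (zc T : Set G)) := by
    have h4 : NU V v j ≤ vx (QQ v) (i + 1, y) := by
      have h5 := D.data.le_R hC n (Nat.lt_succ_self n) _ _ hy2.symm
      rw [vx_mk, map_one, one_smul] at h5
      exact (D.N_le_E j).trans h5
    rw [vx_mk] at h4
    have h6 := conj_le_iff (g := y⁻¹) |>.2 h4
    rw [conj_conj, inv_mul_cancel, map_one, one_smul] at h6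
    exact h6.trans (D.Q_le_o2D _)
  have hsq' : ∀ x ∈ MulAut.conj y⁻¹ • NU V v j, x ^ 2 = 1 := by
    intro x hx
    rw [mem_conj, inv_inv] at hx
    have h2 := D.N_sq j _ hx
    have e : x ^ 2 = y⁻¹ * (y * x * y⁻¹) ^ 2 * y := by simp only [pow_two]; group
    rw [e, h2]; group
  have h4 := D.no_N hML (hK i) h3 hsq'
  have e1 : (centralizer (NU V v i : Set G)).relIndex (MulAut.conj y⁻¹ • NU V v j) =
      (centralizer ((MulAut.conj h • NU V v i : Subgroup G) : Set G)).relIndex (NU V v j) := by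
    rw [hNy, ← relIndex_pointwise_smul (MulAut.conj y), smul_smul, ← map_mul, mul_inv_cancel, map_one, one_smul]
    congr 1
    exact Cfsg.Agent.Omega.TC.DTwo.conj_cent y _
  have e2 : (centralizer ((MulAut.conj y⁻¹ • NU V v j : Subgroup G) : Set G)).relIndex (NU V v i) =
      (centralizer (NU V v j : Set G)).relIndex (MulAut.conj h • NU V v i) := by
    rw [hNy, ← relIndex_pointwise_smul (MulAut.conj y)]
    congr 1
    rw [Cfsg.Agent.Omega.TC.DTwo.conj_cent, smul_smul, ← map_mul, mul_inv_cancel, map_one, one_smul]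
  rw [e1, e2] at h4
  exact le_antisymm h2 h4

/-! ### LEMMA D2 (2): some flag -/

/-- `N_{v_j^c}` is moved, `c ∈ C_{j+1}` -/
def Mv (V : Fin 2 → Subgroup G) (v : Fin 2 → G) (j : Fin 2) (A : Subgroup G) (c : G) : Prop :=
  ¬ MulAut.conj c⁻¹ • A ≤ centralizer (NU V v j : Set G)

theorem mv_iff {j : Fin 2} {A : Subgroup G} {c : G} :
    Mv V v j A c ↔ ¬ A ≤ centralizer ((MulAut.conj c • NU V v j : Subgroup G) : Set G) := by
  rw [Mv, not_iff_not]
  constructor
  · intro h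
    have h1 := conj_le_centralizer' (g := c) h
    rwa [conj_conj, mul_inv_cancel, map_one, one_smul] at h1
  · intro h
    have h1 := conj_le_centralizer' (g := c⁻¹) h
    rwa [conj_conj, inv_mul_cancel, map_one, one_smul] at h1

/-- If at every flag `(v_j^c, V_j^c)` with `[A, N_j^c] ≠ 1` the group `C_A(Z_j^c)` centralises `N_j^c`, then `A` moves
`N_j^c` for all `c ∈ C_{j+1}` (if for one). -/
theorem mv_all {j : Fin 2} {A : Subgroup G}
    (hall : ∀ c ∈ CC v (j + 1), Mv V v j A c →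
      MulAut.conj c⁻¹ • A ⊓ centralizer (ZV V v j : Set G) ≤ centralizer (NU V v j : Set G))
    (h1 : Mv V v j A 1) : ∀ c ∈ CC v (j + 1), Mv V v j A c := by
  -- the set of good right multiplications
  have stepD : ∀ c ∈ CC v (j + 1), Mv V v j A c → ∀ d ∈ centralizer (zc T : Set G), Mv V v j A (c * d) := by
    intro c _ hm d hd
    rw [mv_iff D] at hm ⊢
    rwa [← conj_conj, conj_eq_of_mem (D.C_le_N_N j (D.cent_zc_le j hd))]
  have stepP : ∀ c ∈ CC v (j + 1), Mv V v j A c → ∀ p ∈ P j, Mv V v j A (c * p) := by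
    intro c hc hm p hp
    have h2 := hall c hc hm
    intro hcon
    -- `A^(c⁻¹)` centralises `N_j^p ≥ Z_j`
    have h3 : MulAut.conj c⁻¹ • A ≤ centralizer ((MulAut.conj p • NU V v j : Subgroup G) : Set G) := by
      have h4 := conj_le_centralizer' (g := p) hcon
      rw [conj_conj] at h4
      have e : p * (c * p)⁻¹ = c⁻¹ := by group
      rwa [e] at h4
    have h5 : ZV V v j ≤ MulAut.conj p • NU V v j := by
      have h6 := conj_le_iff (g := p) |>.2 (LemZ.ZV_le D j)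
      rwa [conj_eq_of_mem (LemZ.P_le_N_ZV D j hp)] at h6
    have h7 : MulAut.conj c⁻¹ • A ≤ centralizer (ZV V v j : Set G) := h3.trans (centralizer_le h5)
    exact hm ((le_inf le_rfl h7).trans h2)
  -- `C_{j+1} = ⟨P j, D⟩`
  have hgen : CC v (j + 1) ≤ P j ⊔ centralizer (zc T : Set G) := D.gen (ne_add_one j)
  have hP : P j ≤ CC v (j + 1) := D.PC j (j + 1) (ne_add_one j)
  have hDc : centralizer (zc T : Set G) ≤ CC v (j + 1) := D.cent_zc_le (j + 1)
  let K : Subgroup G :=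
    { carrier := {x | x ∈ CC v (j + 1) ∧ ∀ c ∈ CC v (j + 1), (Mv V v j A c ↔ Mv V v j A (c * x))}
      one_mem' := ⟨one_mem _, fun c _ => by rw [mul_one]⟩
      mul_mem' := by
        rintro x y ⟨hx, hx'⟩ ⟨hy, hy'⟩
        refine ⟨mul_mem hx hy, fun c hc => ?_⟩
        rw [hx' c hc, hy' (c * x) (mul_mem hc hx), mul_assoc]
      inv_mem' := by
        rintro x ⟨hx, hx'⟩
        refine ⟨inv_mem hx, fun c hc => ?_⟩
        have h2 := hx' (c * x⁻¹) (mul_mem hc (inv_mem hx))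
        rw [inv_mul_cancel_right] at h2
        exact h2.symm }
  have hPK : P j ≤ K := by
    intro p hp
    refine ⟨hP hp, fun c hc => ⟨fun h => stepP c hc h p hp, fun h => ?_⟩⟩
    have h2 := stepP (c * p) (mul_mem hc (hP hp)) h p⁻¹ (inv_mem hp)
    rwa [mul_inv_cancel_right] at h2
  have hDK : centralizer (zc T : Set G) ≤ K := by
    intro d hd
    refine ⟨hDc hd, fun c hc => ⟨fun h => stepD c hc h d hd, fun h => ?_⟩⟩
    have h2 := stepD (c * d) (mul_mem hc (hDc hd)) h d⁻¹ (inv_mem hd)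
    rwa [mul_inv_cancel_right] at h2
  intro c hc
  have h2 := (sup_le hPK hDK (hgen hc)).2 1 (one_mem _)
  rw [one_mul] at h2
  exact h2.1 h1

/-- **LEMMA D2 (2)** -/
theorem exists_flag {n : ℕ} (hC : Comm (CC v) (EU T v) (n + 1)) (hn : 1 ≤ n) {i j : Fin 2} {h : G}
    (hnear : Near (CC v) n (i, h) (j + 1, 1)) (hne : ¬ MulAut.conj h • NU V v i ≤ centralizer (NU V v j : Set G)) :
    ∃ c ∈ CC v (j + 1), ¬ MulAut.conj (c⁻¹ * h) • NU V v i ⊓ centralizer (ZV V v j : Set G) ≤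
      centralizer (NU V v j : Set G) := by
  by_contra hcon
  push Not at hcon
  have h1 : Mv V v j (MulAut.conj h • NU V v i) 1 := by
    rw [mv_iff D, map_one, one_smul]; exact hne
  have h2 := mv_all D (j := j) (A := MulAut.conj h • NU V v i)
    (fun c hc _ => by rw [conj_conj]; exact hcon c hc) h1
  rcases exists_prev D hn hnear with h3 | ⟨c, hc, h3⟩
  · have h4 := D.comm_N hC le_rfl h3
    rw [map_one, one_smul] at h4
    exact hne h4
  · exact (mv_iff D).1 (h2 c hc) (D.comm_N hC le_rfl h3)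

/-! ### LEMMA D2 -/

/-- **LEMMA D2** at `j` = the type of the end of a critical pair at distance `n + 1 ≥ 2` -/
theorem exists_at (hML : ML.Final.MLK.{u, u}) (hK : ∀ i, IsKGroup (CC v i)) {n : ℕ}
    (hC : Comm (CC v) (EU T v) (n + 1)) (hn : 1 ≤ n) {i j : Fin 2} {h : G}
    (hnear : Near (CC v) n (i, h) (j + 1, 1)) (hne : ¬ MulAut.conj h • NU V v i ≤ centralizer (NU V v j : Set G)) :
    ∃ B : Subgroup G, B ≤ QQ v (j + 1) ∧ B ≤ centralizer (NU V v (j + 1) : Set G) ∧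
      B ≤ centralizer (ZV V v j : Set G) ∧ B ≤ o2 (normalizer (V j : Set G)) ∧ (∀ b ∈ B, b ^ 2 = 1) ∧
      OM.PG.Int.Ex B (NU V v j) ∧ ¬ B ≤ centralizer (NU V v j : Set G) := by
  obtain ⟨c, hc, hc'⟩ := exists_flag D hC hn hnear hne
  have hnear' : Near (CC v) n (i, c⁻¹ * h) (j + 1, 1) := by
    have h1 := hnear.smul c⁻¹
    refine near_same_right h1 ⟨rfl, ?_⟩
    simpa using hc
  have hne' : ¬ MulAut.conj (c⁻¹ * h) • NU V v i ≤ centralizer (NU V v j : Set G) := fun h1 =>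
    hc' (inf_le_left.trans h1)
  have hQ := le_Q D hC hnear'
  have hsq : ∀ x ∈ MulAut.conj (c⁻¹ * h) • NU V v i, x ^ 2 = 1 := by
    intro x hx
    rw [mem_conj] at hx
    have h2 := D.N_sq i _ hx
    have e : x ^ 2 = (c⁻¹ * h) * ((c⁻¹ * h)⁻¹ * x * (c⁻¹ * h)) ^ 2 * (c⁻¹ * h)⁻¹ := by simp only [pow_two]; group
    rw [e, h2]; group
  refine ⟨MulAut.conj (c⁻¹ * h) • NU V v i ⊓ centralizer (ZV V v j : Set G), inf_le_left.trans hQ, ?_, inf_le_right,
    ?_, fun b hb => hsq b hb.1, ?_, hc'⟩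
  · refine inf_le_left.trans ?_
    have h1 := D.comm_N hC le_rfl hnear'
    rwa [map_one, one_smul] at h1
  · exact (inf_le_inf_right _ hQ).trans (Q_inf_le_o2 D j)
  · exact lemZ' D hML hK j (hQ.trans (D.Q_le_o2D _)) hsq (ex_near D hML hK hC hn hnear' hne')

/-- **LEMMA D2** (#21730): `d ≥ 2` ⟹ an exact group in `O₂(D) ∩ O₂(N_G(V j))` -/
theorem exists_ex (hML : ML.Final.MLK.{u, u}) (hK : ∀ i, IsKGroup (CC v i))
    (hd : NU V v 0 ≤ centralizer (NU V v 1 : Set G)) :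
    ∃ (j : Fin 2) (B : Subgroup G), B ≤ QQ v (j + 1) ∧ B ≤ centralizer (NU V v (j + 1) : Set G) ∧
      B ≤ centralizer (ZV V v j : Set G) ∧ B ≤ o2 (normalizer (V j : Set G)) ∧ (∀ b ∈ B, b ^ 2 = 1) ∧
      OM.PG.Int.Ex B (NU V v j) ∧ ¬ B ≤ centralizer (NU V v j : Set G) := by
  obtain ⟨n, hC, -, i, j, h, hnear, hnear2, hne⟩ := D.crit2
  have hcomm : ∀ i j : Fin 2, NU V v i ≤ centralizer (NU V v j : Set G) := by
    intro i j
    rcases Fin.exists_fin_two.1 ⟨i, rfl⟩ with hi | hi <;> rcases Fin.exists_fin_two.1 ⟨j, rfl⟩ with hj | hj <;>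
      rw [hi, hj]
    · exact D.N_comm 0
    · exact hd
    · exact comm_symm hd
    · exact D.N_comm 1
  have hn : 1 ≤ n := by
    by_contra hcon
    have h0 : n = 0 := by omega
    subst h0
    apply hne
    have hs : Same (CC v) (i, h) (j + 1, 1) := hnear
    obtain ⟨e1, e2⟩ := hs
    have hh : h ∈ CC v i := by
      have h1 := (CC v i).inv_mem e2
      simpa using h1
    rw [conj_eq_of_mem (D.C_le_N_N i hh)]
    exact hcomm i j
  exact ⟨j, exists_at D hML hK hC hn hnear hne⟩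

/-- `B ≤ T`, `B ≤ O₂(N_G(V j))` ⟹ `B ≤ O₂(N_{C_j}(V j))` -/
theorem le_o2_inf {j : Fin 2} {B : Subgroup G} (hB : B ≤ T) (h : B ≤ o2 (normalizer (V j : Set G))) :
    B ≤ o2 (normalizer (V j : Set G) ⊓ CC v j) := by
  have h1 : B ≤ o2 (normalizer (V j : Set G)) ⊓ CC v j := le_inf h (hB.trans (D.T_le_C j))
  refine h1.trans (ZN.le_o2 ?_ ((isPGroup_o2 _).to_le inf_le_left) ?_)
  · exact inf_le_inf_right _ (Cfsg.Agent.MinSimple.VModule.o2_le _)
  · exact norm_inf (inf_le_left.trans (Cfsg.Agent.ZN.le_normalizer_o2 _)) (inf_le_right.trans le_normalizer)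

/-- **LEMMA D2**, literal input of the plug of THEOREM KL -/
theorem exists_kl (hML : ML.Final.MLK.{u, u}) (hK : ∀ i, IsKGroup (CC v i))
    (hd : NU V v 0 ≤ centralizer (NU V v 1 : Set G)) :
    ∃ (j : Fin 2) (B : Subgroup G), (∀ b ∈ B, b ^ 2 = 1) ∧ (∀ a ∈ B, ∀ b ∈ B, a * b = b * a) ∧
      B ≤ o2 (centralizer (zc T : Set G)) ∧ B ≤ o2 (normalizer (V j : Set G) ⊓ CC v j) ∧
      OM.PG.Int.Ex B (NU V v j) ∧ ¬ B ≤ centralizer (NU V v j : Set G) := by
  obtain ⟨j, B, h1, -, -, h2, h3, h4, h5⟩ := exists_ex D hML hK hd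
  refine ⟨j, B, h3, fun a ha b hb => ?_, h1.trans (D.Q_le_o2D _), le_o2_inf D (h1.trans (D.Q_le_T _)) h2, h4, h5⟩
  have k : ∀ x ∈ B, x⁻¹ = x := fun x hx => by
    have h6 := h3 x hx
    rw [pow_two] at h6
    exact inv_eq_of_mul_eq_one_left h6
  have h6 := k _ (mul_mem ha hb)
  rw [mul_inv_rev, k a ha, k b hb] at h6
  exact h6.symm

end Cfsg.Agent.Omega.TC.DTwo

end

section


/-!
# CARD #18791 `[A]` (`V i ≤ N_i`), all variants, all `d`, from THEOREM KL

* `aKill_at` : `[N_0, N_1] ≠ 1`, one `i` with `V i ≤ N_i` (and `hU` at `i`): contradiction (LEMMA Z);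
* **`aKill`** : `V i ≤ N_i` for both `i` and `hU`: contradiction (`d = 1`: LEMMA Z, `d ≥ 2`: LEMMA D2).
-/

set_option autoImplicit false
set_option linter.unusedSectionVars false

namespace Cfsg.Agent.Omega.TC.AKill

open Subgroup Cfsg Cfsg.Agent.ZN Cfsg.Agent.Omega.MinPar
open Cfsg.Agent.Omega.OM.KTwo (CC QQ WU NU EU ne_add_one eq_add_one add_one_add_one le_normalizer_V le_V)
open Cfsg.Agent.MinSimple.MinParabolic (IsMinPar)
open Cfsg.Agent.Omega.NoFF.Basic (comm_symm)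
open Cfsg.Agent.Omega.TC.LemZ (ZV AZ FZ)
open scoped Pointwise

universe u

variable {G : Type u} [Group G]

variable [Finite G] {T : Subgroup G} {V P : Fin 2 → Subgroup G} {v : Fin 2 → G} (D : Fr T V P v)

include D

/-- `d = 1`, at one `i` with `V i ≤ N_i` -/
theorem aKill_at (hML : ML.Final.MLK.{u, u}) (hKL : KL.Quo.NoInp.{u, u}) (hK : ∀ i, IsKGroup (CC v i)) {i : Fin 2}
    (hV : V i ≤ NU V v i)
    (hU : ∀ R : Subgroup G, IsMinPar T R → R ≤ CC v i → ¬ R ≤ CC v (i + 1) → R ≤ normalizer (V i : Set G))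
    (hd : ¬ NU V v (i + 1) ≤ centralizer (NU V v i : Set G)) : False := by
  have hAN : AZ V v i ≤ NU V v (i + 1) := LemZ.AZ_le D i
  refine KL.Plug.false_of D hML hKL (hK i) hV hU (A := AZ V v i) (fun a ha => D.N_sq (i + 1) a (hAN ha))
    (hAN.trans (D.N_le_oD (i + 1))) ?_ (LemZ.lemZ D hML hK i).1 (LemZ.AZ_not D hML hK hd)
  refine DTwo.le_o2_inf D (hAN.trans (D.N_le_T (i + 1))) ?_
  exact (LemZ.AZ_le_FZ D i).trans (LemZ.FZ_le_o2 D i)

/-- **card `[A]`** -/
theorem aKill (hML : ML.Final.MLK.{u, u}) (hKL : KL.Quo.NoInp.{u, u}) (hK : ∀ i, IsKGroup (CC v i))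
    (hV : ∀ i, V i ≤ NU V v i)
    (hU : ∀ (i : Fin 2) (R : Subgroup G), IsMinPar T R → R ≤ CC v i → ¬ R ≤ CC v (i + 1) →
      R ≤ normalizer (V i : Set G)) : False := by
  by_cases hd : NU V v 0 ≤ centralizer (NU V v 1 : Set G)
  · obtain ⟨j, B, h1, -, h2, h3, h4, h5⟩ := DTwo.exists_kl D hML hK hd
    exact KL.Plug.false_of D hML hKL (hK j) (hV j) (hU j) h1 h2 h3 h4 h5
  · refine aKill_at D hML hKL hK (hV 0) (hU 0) fun h => hd ?_
    exact comm_symm h

end Cfsg.Agent.Omega.TC.AKill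

end

section


/-!
# THEOREM EX-R (helper909 #21924, helper788 #21952; helper254 #21690 without the swap), CARD #18791

`OO T = O₂(D)`, `sh X A = C_A(X) X`, `Fail V v i` : `C_A(Z_{i+1}) = C_A(N_{i+1})` for all `A ∈ AA(Q_i)`,
`Z_{i+1} = ZV V v (i+1) = ⟨v i ^ C_G(V (i+1))⟩`, `M_i = RR V v (i+1) i = ⟨N_{i+1} ^ C_i⟩`.

`Rk T V v` : the facts about ranks (R6 (1) of #20647, no swap).

* `SS_conj` : under `Fail`, `{A♯ : A ∈ AA(Q_i)}` is `C_i`-invariant; `N_le_Q`, `M_le` : `N_{i+1} ≤ Q_i`, `M_i ≤ A♯`;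
* `cent_M` : `C_A(N_{i+1}) = C_A(M_i)` for `A ∈ AA(Q_i)`;
* `exists_mv` : some `A ∈ AA(Q_{i+1})` moves `N_i`;
* `eff` : such an `A` satisfies `C_A(N_i) ≤ C(M_i)`, `[M_i, A] ≤ N_i`; `W_le_M` : `W_i ≤ M_i`;
* `exR` : with (1b) of #21425 at `i` : `Fail V v i` is false;
* `exA` : `Fail V v 0` and `Fail V v 1` are not both true.
-/

set_option autoImplicit false
set_option linter.unusedSectionVars false

namespace Cfsg.Agent.Omega.TC.ExR

open Subgroup Cfsg Cfsg.Agent.ZN Cfsg.Agent.Omega.MinPar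
open Cfsg.Agent.Omega.OM.KTwo (CC QQ WU NU EU ne_add_one eq_add_one add_one_add_one le_normalizer_V le_V)
open Cfsg.Agent.Omega.NoFF.Basic (conj_conj mem_conj conj_le_iff comm_symm comm_mono Z_le_V V_le
  conj_le_centralizer)
open Cfsg.Agent.Omega.NOThreeL.Pair (conj_eq_of_mem conj_le_normalizer)
open Cfsg.Agent.Omega.OM.ThreeCore (cj_mem_AA' elem_sup)
open ChoiceBase (AA cj)
open LemZ (ZV le_norm_of)
open scoped Pointwise

universe u

variable {G : Type u} [Group G]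

/-- `O₂(D)` -/
abbrev OO (T : Subgroup G) : Subgroup G := o2 (centralizer (zc T : Set G))

/-- `A♯ = C_A(X) X` -/
def sh (X A : Subgroup G) : Subgroup G := (A ⊓ centralizer (X : Set G)) ⊔ X

/-- ranks: R6 (1) of #20647 (no swap) -/
structure Rk (T : Subgroup G) (V : Fin 2 → Subgroup G) (v : Fin 2 → G) : Prop where
  sub : ∀ i, ∀ A ∈ AA (QQ v i), A ∈ AA (OO T)
  num : ∀ i, ∀ A ∈ AA (OO T), sh (NU V v i) A ∈ AA (OO T)
  zum : ∀ i, ∀ A ∈ AA (OO T), sh (ZV V v i) A ∈ AA (OO T)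

/-- `C_A(Z_{i+1}) = C_A(N_{i+1})` for all `A ∈ AA(Q_i)` -/
def Fail (V : Fin 2 → Subgroup G) (v : Fin 2 → G) (i : Fin 2) : Prop :=
  ∀ A ∈ AA (QQ v i), A ⊓ centralizer (ZV V v (i + 1) : Set G) ≤ centralizer (NU V v (i + 1) : Set G)

/-- `{A♯ : A ∈ AA(Q_i)}` -/
def SS (V : Fin 2 → Subgroup G) (v : Fin 2 → G) (i : Fin 2) : Set (Subgroup G) :=
  {B | ∃ A ∈ AA (QQ v i), B = sh (NU V v (i + 1)) A}

theorem sh_cj (g : G) (X A : Subgroup G) : cj g (sh X A) = sh (cj g X) (cj g A) := by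
  unfold sh
  have h1 : cj g (A ⊓ centralizer (X : Set G)) = cj g A ⊓ cj g (centralizer (X : Set G)) :=
    Subgroup.map_inf _ _ _ (MulAut.conj g).injective
  change ((A ⊓ centralizer (X : Set G)) ⊔ X).map (MulAut.conj g).toMonoidHom = _
  rw [Subgroup.map_sup]
  change cj g (A ⊓ centralizer (X : Set G)) ⊔ cj g X = _
  rw [h1, ChoiceBase.cj_centralizer]

theorem eq_of_AA [Finite G] {Q A B : Subgroup G} (hA : A ∈ AA Q) (hB : B ∈ AA Q) (h : A ≤ B) : A = B :=
  Subgroup.eq_of_le_of_card_ge h (hA.2.2 B hB.1 hB.2.1)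

theorem cj_eq {g : G} {X : Subgroup G} (h : g ∈ normalizer (X : Set G)) : cj g X = X := conj_eq_of_mem h

theorem cj_AA {Q A : Subgroup G} {g : G} (hA : A ∈ AA Q) (hg : g ∈ normalizer (Q : Set G)) : cj g A ∈ AA Q := by
  refine cj_mem_AA' hA ?_
  have h1 := ChoiceBase.cj_mono g hA.2.1
  rwa [cj_eq hg] at h1

theorem AA_le_cent {Q A : Subgroup G} (hA : A ∈ AA Q) : A ≤ centralizer (A : Set G) := fun a ha =>
  mem_centralizer_iff.2 fun b hb => (PLocal.ThompsonJ.isElementaryAbelian_iff.1 hA.1).1 b hb a ha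

/-- `|C_A(Y) Y| = |A|` for `A ∈ AA(O)` which is not over-offending on `Y ≤ O` -/
theorem sh_AA [Finite G] {O A Y : Subgroup G} (hA : A ∈ AA O) (hY : IsElementaryAbelian 2 Y) (hYO : Y ≤ O)
    (hno : (centralizer (Y : Set G)).relIndex A ≤ (centralizer (A : Set G)).relIndex Y) :
    sh Y A ∈ AA O ∧ OM.PG.Int.Ex A Y := by
  have h1 : (centralizer (A : Set G)).relIndex Y ≤ (centralizer (Y : Set G)).relIndex A :=
    OM.ThreeCore.off_le hA hY hYO
  have hEx : (centralizer (Y : Set G)).relIndex A = (centralizer (A : Set G)).relIndex Y := le_antisymm hno h1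
  have hc : A ⊓ centralizer (Y : Set G) ≤ centralizer (Y : Set G) := inf_le_right
  have hE : IsElementaryAbelian 2 (sh Y A : Subgroup G) :=
    OM.ThreeCore.elem_sup (PLocal.ThompsonJ.isElementaryAbelian_mono hA.1 inf_le_left) hY hc
  have hle : sh Y A ≤ O := sup_le (inf_le_left.trans hA.2.1) hYO
  -- `C_A(Y) ∩ Y = C_Y(A)`
  have hinf : (A ⊓ centralizer (Y : Set G)) ⊓ Y = Y ⊓ centralizer (A : Set G) := by
    apply le_antisymm
    · rintro x ⟨⟨hxA, -⟩, hxY⟩
      exact ⟨hxY, AA_le_cent hA hxA⟩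
    · rintro x ⟨hxY, hxA⟩
      refine ⟨⟨?_, ?_⟩, hxY⟩
      · refine OM.ThreeCore.AA.mem_of_comm hA (hYO hxY) ((PLocal.ThompsonJ.isElementaryAbelian_iff.1 hY).2 x hxY) ?_
        exact fun a ha => mem_centralizer_iff.1 hxA a ha
      · exact mem_centralizer_iff.2 fun b hb => (PLocal.ThompsonJ.isElementaryAbelian_iff.1 hY).1 b hb x hxY
  have h2 := PLocal.ElemAbSup.card_sup_mul_card_inf (comm_symm hc)
  rw [hinf] at h2
  have c1 : Nat.card A = Nat.card (A ⊓ centralizer (Y : Set G) : Subgroup G) * (centralizer (Y : Set G)).relIndex A :=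
    LemZ.card_eq A _
  have c2 : Nat.card Y = Nat.card (Y ⊓ centralizer (A : Set G) : Subgroup G) * (centralizer (A : Set G)).relIndex Y :=
    LemZ.card_eq Y _
  have hcard : Nat.card (sh Y A : Subgroup G) = Nat.card A := by
    have hpos : 0 < Nat.card (Y ⊓ centralizer (A : Set G) : Subgroup G) := Nat.card_pos
    refine Nat.eq_of_mul_eq_mul_right hpos ?_
    change Nat.card ((A ⊓ centralizer (Y : Set G)) ⊔ Y : Subgroup G) * _ = _
    rw [h2, c1, hEx]
    nth_rewrite 1 [c2]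
    ring
  exact ⟨⟨hE, hle, fun B hB hBO => by rw [hcard]; exact hA.2.2 B hB hBO⟩, hEx⟩

variable [Finite G] {T : Subgroup G} {V P : Fin 2 → Subgroup G} {v : Fin 2 → G} (D : Fr T V P v) (R : Rk T V v)

include D

/-! ### Ranks -/

theorem elem_N (i : Fin 2) : IsElementaryAbelian 2 (NU V v i) :=
  PLocal.ThompsonJ.isElementaryAbelian_iff.2
    ⟨fun _ ha b hb => (mem_centralizer_iff.1 (D.N_comm i ha) b hb).symm, D.N_sq i⟩

/-- `A ∈ AA(O₂(D))` is exact on `N_i` -/
theorem num (hML : ML.Final.MLK.{u, u}) (hK : ∀ i, IsKGroup (CC v i)) (i : Fin 2) {A : Subgroup G} (hA : A ∈ AA (OO T)) :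
    sh (NU V v i) A ∈ AA (OO T) ∧ OM.PG.Int.Ex A (NU V v i) :=
  sh_AA hA (elem_N D i) (D.N_le_oD i)
    (D.no_N hML (hK i) hA.2.1 (PLocal.ThompsonJ.isElementaryAbelian_iff.1 hA.1).2)

theorem zum (hML : ML.Final.MLK.{u, u}) (hK : ∀ i, IsKGroup (CC v i)) (i : Fin 2) {A : Subgroup G} (hA : A ∈ AA (OO T)) :
    sh (ZV V v i) A ∈ AA (OO T) ∧ OM.PG.Int.Ex A (ZV V v i) := by
  have hHC : centralizer (V i : Set G) ⊔ T ≤ CC v i := sup_le (LemZ.cent_V_le D i) (D.T_le_C i)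
  have h := D.no_H hML (A := A) (hK i) (le_sup_right : T ≤ centralizer (V i : Set G) ⊔ T) hHC hA.2.1
    ((hA.2.1.trans D.o2D_le_T).trans le_sup_right) (PLocal.ThompsonJ.isElementaryAbelian_iff.1 hA.1).2
  rw [LemZ.NH_eq D i] at h
  refine sh_AA hA ?_ ((LemZ.ZV_le D i).trans (D.N_le_oD i)) h
  exact PLocal.ThompsonJ.isElementaryAbelian_mono (elem_N D i) (LemZ.ZV_le D i)

/-- **ranks** (R6 (1) of #20647) -/
theorem rk (hML : ML.Final.MLK.{u, u}) (hK : ∀ i, IsKGroup (CC v i)) : Rk T V v where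
  num i A hA := (num D hML hK i hA).1
  zum i A hA := (zum D hML hK i hA).1
  sub i A hA := by
    obtain ⟨B, hB⟩ := ChoiceBase.AA_nonempty (OO T)
    have h1 := (num D hML hK i hB).1
    have h2 : sh (NU V v i) B ≤ QQ v i :=
      (le_inf h1.2.1 (sup_le inf_le_right (D.N_comm i))).trans (D.f3 i)
    refine ⟨hA.1, hA.2.1.trans (D.Q_le_o2D i), fun C hC hCO => ?_⟩
    exact (h1.2.2 C hC hCO).trans (hA.2.2 _ h1.1 h2)

theorem N_ne_bot (i : Fin 2) : NU V v i ≠ ⊥ := by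
  intro h
  have h1 := D.mem_N i
  rw [h, mem_bot] at h1
  exact D.ne _ h1

include R

/-- `C_A(Z) Z = C_A(N) N` -/
theorem sh_eq {i : Fin 2} (F : Fail V v i) {A : Subgroup G} (hA : A ∈ AA (QQ v i)) :
    sh (ZV V v (i + 1)) A = sh (NU V v (i + 1)) A := by
  have hO := R.sub i A hA
  refine eq_of_AA (R.zum (i + 1) A hO) (R.num (i + 1) A hO) ?_
  refine sup_le (le_sup_of_le_left (le_inf inf_le_left (F A hA))) (le_sup_of_le_right ?_)
  exact LemZ.ZV_le D (i + 1)

/-- `A♯` for `A ≤ C(N)` -/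
theorem mem_SS {i : Fin 2} {A : Subgroup G} (hA : A ∈ AA (QQ v i))
    (hc : A ≤ centralizer (NU V v (i + 1) : Set G)) : A ∈ SS V v i := by
  refine ⟨A, hA, eq_of_AA (R.sub i A hA) (R.num (i + 1) A (R.sub i A hA)) ?_⟩
  exact le_sup_of_le_left (le_inf le_rfl hc)

/-- `SS` is `C_i`-invariant -/
theorem SS_conj {i : Fin 2} (F : Fail V v i) : ∀ c ∈ CC v i, ∀ B ∈ SS V v i, cj c B ∈ SS V v i := by
  have hij := (ne_add_one i).symm
  have hDD : ∀ d ∈ centralizer (zc T : Set G), ∀ B ∈ SS V v i, cj d B ∈ SS V v i := by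
    rintro d hd _ ⟨A, hA, rfl⟩
    refine ⟨cj d A, cj_AA hA (MinSimple.VModule.le_normalizer_o2 _ (D.cent_zc_le i hd)), ?_⟩
    rw [sh_cj, cj_eq (D.C_le_N_N (i + 1) (D.cent_zc_le (i + 1) hd))]
  have hPP : ∀ p ∈ P (i + 1), ∀ B ∈ SS V v i, cj p B ∈ SS V v i := by
    rintro p hp _ ⟨A, hA, rfl⟩
    have hpC : p ∈ CC v i := D.PC (i + 1) i hij hp
    have hA' := cj_AA hA (MinSimple.VModule.le_normalizer_o2 _ hpC)
    refine ⟨cj p A, hA', ?_⟩
    rw [← sh_eq D R F hA, sh_cj, cj_eq (LemZ.P_le_N_ZV D (i + 1) hp), sh_eq D R F hA']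
  intro c hc
  have hc' := D.gen hij hc
  rw [← closure_eq (P (i + 1)), ← closure_eq (centralizer (zc T : Set G)), ← Subgroup.closure_union] at hc'
  clear hc
  induction hc' using closure_induction'' with
  | mem x hx =>
    rcases hx with hx | hx
    · exact hPP x hx
    · exact hDD x hx
  | inv_mem x hx =>
    rcases hx with hx | hx
    · exact hPP x⁻¹ (inv_mem hx)
    · exact hDD x⁻¹ (inv_mem hx)
  | one => intro B hB; rwa [ChoiceBase.cj_one]
  | mul x y _ _ h1 h2 =>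
    intro B hB
    rw [← ChoiceBase.cj_cj]
    exact h1 _ (h2 _ hB)

theorem SS_AA {i : Fin 2} {B : Subgroup G} (hB : B ∈ SS V v i) : B ∈ AA (OO T) := by
  obtain ⟨A, hA, rfl⟩ := hB
  exact R.num (i + 1) A (R.sub i A hA)

theorem SS_cent {i : Fin 2} {B : Subgroup G} (hB : B ∈ SS V v i) : B ≤ centralizer (NU V v (i + 1) : Set G) := by
  obtain ⟨A, hA, rfl⟩ := hB
  exact sup_le inf_le_right (D.N_comm (i + 1))

theorem SS_ge {i : Fin 2} {B : Subgroup G} (hB : B ∈ SS V v i) : NU V v (i + 1) ≤ B := by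
  obtain ⟨A, hA, rfl⟩ := hB
  exact le_sup_right

theorem SS_le_Q {i : Fin 2} {B : Subgroup G} (hB : B ∈ SS V v i) : B ≤ QQ v (i + 1) :=
  (le_inf (SS_AA D R hB).2.1 (SS_cent D R hB)).trans (D.f3 (i + 1))

theorem SS_nonempty (i : Fin 2) : (SS V v i).Nonempty := by
  obtain ⟨A, hA⟩ := ChoiceBase.AA_nonempty (QQ v i)
  exact ⟨_, A, hA, rfl⟩

/-- the elements of `SS` are in `Q_i` -/
theorem SS_le_Q' {i : Fin 2} (F : Fail V v i) {B : Subgroup G} (hB : B ∈ SS V v i) : B ≤ QQ v i := by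
  set X : Subgroup G := NoFF.Basic.V B (CC v i) with hX
  have hXT : X ≤ T := V_le fun c hc => (SS_AA D R (SS_conj D R F c hc B hB)).2.1.trans D.o2D_le_T
  have h1 : X ≤ o2 (CC v i) :=
    ZN.le_o2 (hXT.trans (D.T_le_C i)) (D.T_isPGroup.to_le hXT) (le_normalizer_V _ _)
  exact (le_V _ _).trans h1

/-- `N_{i+1} ≤ Q_i` -/
theorem N_le_Q {i : Fin 2} (F : Fail V v i) : NU V v (i + 1) ≤ QQ v i := by
  obtain ⟨B, hB⟩ := SS_nonempty D R i
  exact (SS_ge D R hB).trans (SS_le_Q' D R F hB)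

theorem M_le_cent {i : Fin 2} (F : Fail V v i) {B : Subgroup G} (hB : B ∈ SS V v i) :
    RR V v (i + 1) i ≤ centralizer (B : Set G) := by
  refine V_le fun c hc => ?_
  have h1 := comm_symm (SS_cent D R (SS_conj D R F c⁻¹ (inv_mem hc) B hB))
  have h2 := conj_le_centralizer (g := c) h1
  have h3 : (MulAut.conj c • (cj c⁻¹ B : Subgroup G) : Subgroup G) = B := ChoiceBase.cj_cj_inv c B
  rwa [h3] at h2

theorem M_le_Q {i : Fin 2} (F : Fail V v i) : RR V v (i + 1) i ≤ QQ v i := by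
  refine V_le fun c hc => ?_
  rw [← D.conj_QQ hc]
  exact conj_le_iff.2 (N_le_Q D R F)

theorem M_comm {i : Fin 2} (F : Fail V v i) :
    RR V v (i + 1) i ≤ centralizer (RR V v (i + 1) i : Set G) := by
  obtain ⟨B, hB⟩ := SS_nonempty D R i
  have h1 : NU V v (i + 1) ≤ centralizer (RR V v (i + 1) i : Set G) :=
    (SS_ge D R hB).trans (comm_symm (M_le_cent D R F hB))
  refine V_le fun c hc => ?_
  have h2 := conj_le_centralizer (g := c) h1
  rwa [conj_eq_of_mem (D.C_le_N_RR (i + 1) i hc)] at h2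

theorem M_sq {i : Fin 2} (F : Fail V v i) : ∀ x ∈ RR V v (i + 1) i, x ^ 2 = 1 :=
  NoFF.Lines.Geo.sq_of_comm (M_comm D R F) (ι := CC v i)
    (B := fun j => MulAut.conj (j : G) • NU V v (i + 1)) (fun j => Z_le_V j.2)
    (V_le fun c hc => le_iSup (fun j : CC v i => MulAut.conj (j : G) • NU V v (i + 1)) ⟨c, hc⟩)
    fun _ => NoFF.Lines.Geo.conj_sq (D.N_sq (i + 1)) _

/-- `M_i ≤ A♯` -/
theorem M_le {i : Fin 2} (F : Fail V v i) {B : Subgroup G} (hB : B ∈ SS V v i) : RR V v (i + 1) i ≤ B := by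
  intro x hx
  refine OM.ThreeCore.AA.mem_of_comm (SS_AA D R hB) (D.Q_le_o2D i (M_le_Q D R F hx)) (M_sq D R F x hx) ?_
  exact fun a ha => mem_centralizer_iff.1 (M_le_cent D R F hB hx) a ha

/-- `C_A(N_{i+1}) = C_A(M_i)` for `A ∈ AA(Q_i)` -/
theorem cent_M {i : Fin 2} (F : Fail V v i) {A : Subgroup G} (hA : A ∈ AA (QQ v i)) :
    A ⊓ centralizer (NU V v (i + 1) : Set G) ≤ centralizer (RR V v (i + 1) i : Set G) :=
  (le_sup_left : _ ≤ sh (NU V v (i + 1)) A).trans (comm_symm (M_le_cent D R F ⟨A, hA, rfl⟩))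

theorem Q_mem {i : Fin 2} {A : Subgroup G} (hA : A ∈ AA (OO T)) (h : A ≤ QQ v i) : A ∈ AA (QQ v i) :=
  ⟨hA.1, h, fun B hB hBQ => hA.2.2 B hB (hBQ.trans (D.Q_le_o2D i))⟩

theorem false_of_norm {X : Subgroup G} (hX : X ≤ T) (hne : X ≠ ⊥) {i : Fin 2} (h1 : CC v i ≤ normalizer (X : Set G))
    (h2 : CC v (i + 1) ≤ normalizer (X : Set G)) : False := by
  apply hne
  refine D.nonloc _ (D.T_isPGroup.to_le hX) ?_ ?_
  · rcases Fin.exists_fin_two.1 ⟨i, rfl⟩ with h | h
    · rw [h] at h1; exact h1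
    · rw [h] at h2; exact h2
  · rcases Fin.exists_fin_two.1 ⟨i, rfl⟩ with h | h
    · rw [h] at h2; exact h2
    · rw [h] at h1; exact h1

/-- **`J(Q_{i+1})` moves `N_i`** -/
theorem exists_mv {i : Fin 2} (F : Fail V v i) :
    ∃ A ∈ AA (QQ v (i + 1)), ¬ A ≤ centralizer (NU V v i : Set G) := by
  by_contra hcon
  push Not at hcon
  have h1 : ∀ A, A ∈ AA (QQ v (i + 1)) ↔ A ∈ SS V v i := by
    intro A
    constructor
    · intro hA
      have hO := R.sub (i + 1) A hA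
      have hAQ : A ≤ QQ v i := (le_inf hO.2.1 (hcon A hA)).trans (D.f3 i)
      exact mem_SS D R (Q_mem D R hO hAQ) (hA.2.1.trans (D.Q_le_cent_N (i + 1)))
    · intro hA
      exact Q_mem D R (SS_AA D R hA) (SS_le_Q D R hA)
  set J : Subgroup G := sSup (SS V v i) with hJ
  have hJT : J ≤ T := sSup_le fun A hA => (SS_AA D R hA).2.1.trans D.o2D_le_T
  have hcj : ∀ {C : Subgroup G}, (∀ c ∈ C, ∀ B ∈ SS V v i, cj c B ∈ SS V v i) → C ≤ normalizer (J : Set G) := by
    intro C hC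
    refine le_norm_of fun c hc x hx => ?_
    have h2 : cj c J ≤ J := by
      change J.map _ ≤ J
      rw [Subgroup.map_le_iff_le_comap]
      refine sSup_le fun B hB => ?_
      rw [← Subgroup.map_le_iff_le_comap]
      exact le_sSup (hC c hc B hB)
    apply h2
    rw [ChoiceBase.mem_cj]
    have e : c⁻¹ * (c * x * c⁻¹) * c = x := by group
    rwa [e]
  refine false_of_norm D R hJT ?_ (i := i) (hcj (SS_conj D R F)) (hcj fun c hc B hB => ?_)
  · intro h0
    obtain ⟨B, hB⟩ := SS_nonempty D R i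
    apply N_ne_bot D (i + 1)
    rw [eq_bot_iff, ← h0]
    exact (SS_ge D R hB).trans (le_sSup hB)
  · rw [← h1] at hB ⊢
    exact cj_AA hB (MinSimple.VModule.le_normalizer_o2 _ hc)

/-- a member of `AA(Q_{i+1})`: `C_A(N_i) N_i ∈ SS` -/
theorem sh_mem_SS {i : Fin 2} (F : Fail V v i) {A : Subgroup G} (hA : A ∈ AA (QQ v (i + 1))) :
    sh (NU V v i) A ∈ SS V v i := by
  have hO := R.sub (i + 1) A hA
  have h1 := R.num i A hO
  have h2 : sh (NU V v i) A ≤ QQ v i := by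
    refine (le_inf h1.2.1 ?_).trans (D.f3 i)
    exact sup_le inf_le_right (D.N_comm i)
  refine mem_SS D R (Q_mem D R h1 h2) (sup_le (inf_le_left.trans (hA.2.1.trans (D.Q_le_cent_N (i + 1)))) ?_)
  exact comm_symm ((N_le_Q D R F).trans (D.Q_le_cent_N i))

/-- **(E4)** -/
theorem eff {i : Fin 2} (F : Fail V v i) {A : Subgroup G} (hA : A ∈ AA (QQ v (i + 1))) :
    A ⊓ centralizer (NU V v i : Set G) ≤ centralizer (RR V v (i + 1) i : Set G) ∧
      ∀ x ∈ A, ∀ m ∈ RR V v (i + 1) i, x * m * x⁻¹ * m⁻¹ ∈ NU V v i := by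
  have h1 := sh_mem_SS D R F hA
  refine ⟨(le_sup_left : _ ≤ sh (NU V v i) A).trans (comm_symm (M_le_cent D R F h1)), fun x hx m hm => ?_⟩
  have h2 := M_le D R F h1 hm
  have hc : A ⊓ centralizer (NU V v i : Set G) ≤ centralizer (NU V v i : Set G) := inf_le_right
  have h3 : m ∈ (((A ⊓ centralizer (NU V v i : Set G)) ⊔ NU V v i : Subgroup G) : Set G) := h2
  rw [PLocal.ElemAbSup.coe_sup_of_le_centralizer (comm_symm hc)] at h3
  obtain ⟨a, ha, n, hn, hm'⟩ := h3
  have hm' : m = a * n := hm'.symm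
  have hxC : x ∈ CC v i := (D.o2D_le_T.trans (D.T_le_C i)) ((R.sub (i + 1) A hA).2.1 hx)
  have h4 : x * n * x⁻¹ ∈ NU V v i := (mem_normalizer_iff.1 (D.C_le_N_N i hxC) n).1 hn
  have h5 : x * n * x⁻¹ * n⁻¹ ∈ NU V v i := mul_mem h4 (inv_mem hn)
  have h6 : x * a = a * x := mem_centralizer_iff.1 (AA_le_cent hA ha.1) x hx
  have h7 : (x * n * x⁻¹ * n⁻¹) * a = a * (x * n * x⁻¹ * n⁻¹) := mem_centralizer_iff.1 ha.2 _ h5
  have e : x * m * x⁻¹ * m⁻¹ = x * n * x⁻¹ * n⁻¹ := by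
    rw [hm']
    calc x * (a * n) * x⁻¹ * (a * n)⁻¹ = (x * a) * n * x⁻¹ * n⁻¹ * a⁻¹ := by group
      _ = (a * (x * n * x⁻¹ * n⁻¹)) * a⁻¹ := by rw [h6]; group
      _ = x * n * x⁻¹ * n⁻¹ := by rw [← h7]; group
  rw [e]
  exact h5

omit R in
/-- `W_i ≤ M_i` -/
theorem W_le_M (i : Fin 2) : WU V v i ≤ RR V v (i + 1) i := by
  have h1 : V i ≤ NU V v (i + 1) := by
    have := D.V_le_N (i + 1)
    rwa [add_one_add_one] at this
  exact V_le fun c hc => (conj_le_iff.2 h1).trans (Z_le_V hc)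

/-- **THEOREM EX-R, [B]**: (1b) of #21425 at `i` implies that `Fail V v i` is false -/
theorem exR {i : Fin 2}
    (h1b : ∀ A ∈ AA (OO T), ¬ A ≤ centralizer (NU V v i : Set G) →
      A ⊓ centralizer (NU V v i : Set G) ≤ centralizer ((WU V v i ⊔ NU V v i : Subgroup G) : Set G) → False) :
    ∃ A ∈ AA (QQ v i), ¬ A ⊓ centralizer (ZV V v (i + 1) : Set G) ≤ centralizer (NU V v (i + 1) : Set G) := by
  by_contra hcon
  push Not at hcon
  have F : Fail V v i := hcon
  obtain ⟨A, hA, hAN⟩ := exists_mv D R F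
  obtain ⟨h1, h2⟩ := eff D R F hA
  refine h1b A (R.sub (i + 1) A hA) hAN ?_
  refine comm_symm (sup_le ?_ (comm_symm inf_le_right))
  exact comm_symm (h1.trans (centralizer_le (W_le_M D i)))

/-- under `Fail V v i` : `N_0 N_1` is normal in `C_i` -/
theorem norm_NN {i : Fin 2} (F : Fail V v i) :
    CC v i ≤ normalizer ((NU V v i ⊔ NU V v (i + 1) : Subgroup G) : Set G) := by
  obtain ⟨A, hA, hAN⟩ := exists_mv D R F
  let K : Subgroup G :=
    { carrier := {c | c ∈ CC v i ∧ ∀ m ∈ RR V v (i + 1) i, c * m * c⁻¹ * m⁻¹ ∈ NU V v i}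
      one_mem' := ⟨one_mem _, fun m _ => by
        have e : (1 : G) * m * 1⁻¹ * m⁻¹ = 1 := by group
        rw [e]; exact one_mem _⟩
      mul_mem' := by
        rintro x y ⟨hx, hx'⟩ ⟨hy, hy'⟩
        refine ⟨mul_mem hx hy, fun m hm => ?_⟩
        have h3 := (mem_normalizer_iff.1 (D.C_le_N_N i hx) _).1 (hy' m hm)
        have e : x * y * m * (x * y)⁻¹ * m⁻¹ = (x * (y * m * y⁻¹ * m⁻¹) * x⁻¹) * (x * m * x⁻¹ * m⁻¹) := by group
        rw [e]; exact mul_mem h3 (hx' m hm)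
      inv_mem' := by
        rintro x ⟨hx, hx'⟩
        refine ⟨inv_mem hx, fun m hm => ?_⟩
        have h3 : x⁻¹ * m * x ∈ RR V v (i + 1) i := by
          have := (mem_normalizer_iff.1 (D.C_le_N_RR (i + 1) i (inv_mem hx)) m).1 hm
          rwa [inv_inv] at this
        have h4 := inv_mem (hx' _ h3)
        have e : x⁻¹ * m * x⁻¹⁻¹ * m⁻¹ = (x * (x⁻¹ * m * x) * x⁻¹ * (x⁻¹ * m * x)⁻¹)⁻¹ := by group
        rw [e]; exact h4 }
  have hKC : K ≤ CC v i := fun k hk => hk.1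
  have hKn : CC v i ≤ normalizer (K : Set G) := by
    apply le_norm_of
    rintro c hc x ⟨hx, hx'⟩
    refine ⟨(CC v i).mul_mem ((CC v i).mul_mem hc hx) ((CC v i).inv_mem hc), fun m hm => ?_⟩
    have h3 : c⁻¹ * m * c ∈ RR V v (i + 1) i := by
      have := (mem_normalizer_iff.1 (D.C_le_N_RR (i + 1) i (inv_mem hc)) m).1 hm
      rwa [inv_inv] at this
    have h4 := (mem_normalizer_iff.1 (D.C_le_N_N i hc) _).1 (hx' _ h3)
    have e : c * x * c⁻¹ * m * (c * x * c⁻¹)⁻¹ * m⁻¹ = c * (x * (c⁻¹ * m * c) * x⁻¹ * (c⁻¹ * m * c)⁻¹) * c⁻¹ := by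
      group
    rw [e]; exact h4
  have hAK : A ≤ K := fun x hx =>
    ⟨(D.o2D_le_T.trans (D.T_le_C i)) ((R.sub (i + 1) A hA).2.1 hx), (eff D R F hA).2 x hx⟩
  have h0 := D.lem0 hKC hKn fun h => hAN (hAK.trans h)
  have hM : RR V v (i + 1) i ≤ NU V v i ⊔ NU V v (i + 1) := by
    refine V_le fun c hc => ?_
    obtain ⟨x, hx, d, hd, rfl⟩ := h0 c hc
    rw [← conj_conj, conj_eq_of_mem (D.C_le_N_N (i + 1) (D.cent_zc_le (i + 1) hd))]
    intro y hy
    rw [mem_conj] at hy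
    have h1 := hx.2 _ (D.N_le_RR (i + 1) i hy)
    have e : y = (x * (x⁻¹ * y * x) * x⁻¹ * (x⁻¹ * y * x)⁻¹) * (x⁻¹ * y * x) := by group
    rw [e]
    exact mul_mem (mem_sup_left h1) (mem_sup_right hy)
  have heq : NU V v i ⊔ NU V v (i + 1) = NU V v i ⊔ RR V v (i + 1) i :=
    le_antisymm (sup_le_sup_left (D.N_le_RR (i + 1) i) _) (sup_le le_sup_left hM)
  rw [heq]
  refine le_norm_of fun c hc x hx => ?_
  have h1 : cj c (NU V v i ⊔ RR V v (i + 1) i) = NU V v i ⊔ RR V v (i + 1) i := by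
    change (NU V v i ⊔ RR V v (i + 1) i).map _ = _
    rw [Subgroup.map_sup]
    change cj c (NU V v i) ⊔ cj c (RR V v (i + 1) i) = _
    rw [cj_eq (D.C_le_N_N i hc), cj_eq (D.C_le_N_RR (i + 1) i hc)]
  rw [← h1, ChoiceBase.mem_cj]
  have e : c⁻¹ * (c * x * c⁻¹) * c = x := by group
  rwa [e]

/-- **THEOREM EX-R, [A]** (no hypothesis) -/
theorem exA : ∃ i : Fin 2, ∃ A ∈ AA (QQ v i),
    ¬ A ⊓ centralizer (ZV V v (i + 1) : Set G) ≤ centralizer (NU V v (i + 1) : Set G) := by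
  by_contra hcon
  push Not at hcon
  have F : ∀ i, Fail V v i := hcon
  have h0 := norm_NN D R (F 0)
  have h1 := norm_NN D R (F (0 + 1))
  rw [add_one_add_one, sup_comm] at h1
  refine false_of_norm D R (X := NU V v 0 ⊔ NU V v (0 + 1)) (sup_le (D.N_le_T _) (D.N_le_T _)) ?_ h0 h1
  intro h
  apply N_ne_bot D 0
  rw [eq_bot_iff, ← h]
  exact le_sup_left

omit R in
/-- the literal input of the plug of THEOREM KL at the side `j` -/
theorem kl_of (hML : ML.Final.MLK.{u, u}) (hK : ∀ i, IsKGroup (CC v i)) {j : Fin 2} {A : Subgroup G}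
    (hA : A ∈ AA (QQ v (j + 1)))
    (hn : ¬ A ⊓ centralizer (ZV V v j : Set G) ≤ centralizer (NU V v j : Set G)) :
    ∃ B : Subgroup G, B ≤ QQ v (j + 1) ∧ B ≤ centralizer (ZV V v j : Set G) ∧ B ≤ o2 (normalizer (V j : Set G)) ∧
      (∀ b ∈ B, b ^ 2 = 1) ∧ (∀ a ∈ B, ∀ b ∈ B, a * b = b * a) ∧
      B ≤ o2 (centralizer (zc T : Set G)) ∧ B ≤ o2 (normalizer (V j : Set G) ⊓ CC v j) ∧
      OM.PG.Int.Ex B (NU V v j) ∧ ¬ B ≤ centralizer (NU V v j : Set G) := by
  have hO := (rk D hML hK).sub (j + 1) A hA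
  have hE := PLocal.ThompsonJ.isElementaryAbelian_iff.1 hO.1
  have h1 := (DTwo.Q_inf_le_o2 D j).trans' (inf_le_inf_right (centralizer (ZV V v j : Set G)) hA.2.1)
  refine ⟨A ⊓ centralizer (ZV V v j : Set G), inf_le_left.trans hA.2.1, inf_le_right, h1,
    fun b hb => hE.2 b hb.1, fun a ha b hb => hE.1 a ha.1 b hb.1, inf_le_left.trans hO.2.1, ?_, ?_, hn⟩
  · exact DTwo.le_o2_inf D (inf_le_left.trans (hO.2.1.trans D.o2D_le_T)) h1
  · exact DTwo.lemZ' D hML hK j hO.2.1 hE.2 (num D hML hK j hO).2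

omit R in
/-- **EX-R, any frame**: the literal input of the plug of THEOREM KL on some side (no hypothesis on `d`) -/
theorem exists_kl (hML : ML.Final.MLK.{u, u}) (hK : ∀ i, IsKGroup (CC v i)) :
    ∃ (j : Fin 2) (B : Subgroup G), B ≤ QQ v (j + 1) ∧ B ≤ centralizer (ZV V v j : Set G) ∧
      B ≤ o2 (normalizer (V j : Set G)) ∧ (∀ b ∈ B, b ^ 2 = 1) ∧ (∀ a ∈ B, ∀ b ∈ B, a * b = b * a) ∧
      B ≤ o2 (centralizer (zc T : Set G)) ∧ B ≤ o2 (normalizer (V j : Set G) ⊓ CC v j) ∧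
      OM.PG.Int.Ex B (NU V v j) ∧ ¬ B ≤ centralizer (NU V v j : Set G) := by
  obtain ⟨i, A, hA, hn⟩ := exA D (rk D hML hK)
  refine ⟨i + 1, kl_of D hML hK (A := A) ?_ hn⟩
  rwa [add_one_add_one]

omit R in
/-- **EX-R, [B]**: (1b) of #21425 at `j + 1` gives the literal input of the plug of THEOREM KL at the side `j` -/
theorem exists_kl_of (hML : ML.Final.MLK.{u, u}) (hK : ∀ i, IsKGroup (CC v i)) {j : Fin 2}
    (h1b : ∀ A ∈ AA (OO T), ¬ A ≤ centralizer (NU V v (j + 1) : Set G) →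
      A ⊓ centralizer (NU V v (j + 1) : Set G) ≤
        centralizer ((WU V v (j + 1) ⊔ NU V v (j + 1) : Subgroup G) : Set G) → False) :
    ∃ B : Subgroup G, B ≤ QQ v (j + 1) ∧ B ≤ centralizer (ZV V v j : Set G) ∧
      B ≤ o2 (normalizer (V j : Set G)) ∧ (∀ b ∈ B, b ^ 2 = 1) ∧ (∀ a ∈ B, ∀ b ∈ B, a * b = b * a) ∧
      B ≤ o2 (centralizer (zc T : Set G)) ∧ B ≤ o2 (normalizer (V j : Set G) ⊓ CC v j) ∧
      OM.PG.Int.Ex B (NU V v j) ∧ ¬ B ≤ centralizer (NU V v j : Set G) := by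
  obtain ⟨A, hA, hn⟩ := exR D (rk D hML hK) h1b
  rw [add_one_add_one] at hn
  exact kl_of D hML hK hA hn

end Cfsg.Agent.Omega.TC.ExR

end

end

-- merged: Cfsg.Agent.Mrg.Omega.TC.EFrOf
section

section


/-!
# CARD #18791: `EFr K` (case (E), `k = 2 = q`, all stages) from its last two inputs

* `swap_of` : the swap, from `KTwo.Sit`; `hJ_of` : stage `-1`: `J(T) ≰ O₂(P i)`;
* `RIn` : THEOREM R (`V 0 ≰ N_0`, `V 1 ≰ N_1`, (V!) is impossible); needed only for the stages `n ≥ 0`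
  (stage `-1` is `Fr.V_le_N_mt`);
* `AIn` : `V i ≤ N_i` for both `i` is impossible (card [A]);
* `eFr_of` : `EFr K`.
-/

set_option autoImplicit false
set_option linter.unusedSectionVars false

namespace Cfsg.Agent.Omega.TC

open Subgroup Cfsg Cfsg.Agent.ZN.ChoiceBase
open Cfsg.Agent.ZN (jj zj bau zc zl o2)
open Cfsg.Agent.Omega.OM
open Cfsg.Agent.Omega.OM.KTwo (NU)
open Cfsg.Agent.Omega.Node.MultiOf
open Cfsg.Agent.Omega.MinPar
open Cfsg.Agent.Omega.Frame (Cls)
open Cfsg.Agent.Omega.TC.OfMul (EFr)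
open scoped Pointwise

universe u

section

variable {G : Type u} [Group G] [Finite G] {S : Sylow 2 G} {P' T : Subgroup G} {U P : Fin 2 → Subgroup G}
  {v : Fin 2 → G}

/-- The swap. -/
theorem swap_of (D : KTwo.Sit S P' T U v) : Swap T U v := by
  obtain ⟨s, hs, -, h⟩ := D.swap
  refine ⟨s, ?_, fun i => h i (i + 1) (KTwo.ne_add_one i)⟩
  have h01 := (h 0 1 (by decide)).1
  refine Subgroup.eq_of_le_of_card_ge ?_ ?_
  · rintro _ ⟨t, ht, rfl⟩
    have htS : t ∈ (S : Subgroup G) := by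
      have h1 : t ∈ T := ht
      rw [D.T_eq 0] at h1
      exact h1.1
    have htN : t ∈ normalizer (U 0 : Set G) := by
      have h1 : t ∈ T := ht
      rw [D.T_eq 0] at h1
      exact h1.2
    show s * t * s⁻¹ ∈ T
    rw [D.T_eq 1]
    refine mem_inf.2 ⟨mul_mem (mul_mem hs htS) (inv_mem hs), ?_⟩
    rw [mem_normalizer_iff_cj] at htN ⊢
    have e : ∀ (g : G) (X : Subgroup G), cj g X = MulAut.conj g • X := fun g X => rfl
    rw [e] at htN ⊢
    rw [← h01, ← mul_smul, ← map_mul]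
    have e2 : s * t * s⁻¹ * s = s * t := by group
    rw [e2, map_mul, mul_smul, htN]
  · exact (card_cj s T).ge

/-- Stage `-1`: `J(T) ≰ O₂(P i)`. -/
theorem hJ_of (D : KTwo.Sit S P' T U v) (E : Fr T U P v) (hJT : jj (S : Subgroup G) ≤ T)
    (hj : ¬ jj (S : Subgroup G) ≤ o2 P') (i : Fin 2) : ¬ jj T ≤ o2 (P i) := by
  intro hcon
  apply hj
  have hTS : T ≤ (S : Subgroup G) := (D.T_eq 0).le.trans inf_le_left
  have hJJ := jj_eq_of_jj_le hJT hTS
  have hc : jj T ≤ centralizer (U i : Set G) := by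
    refine hcon.trans ?_
    rw [Phi.o2_P E i]
    exact inf_le_right
  obtain ⟨s, hs, h⟩ := swap_of D
  have hsJ : MulAut.conj s • jj T = jj T := by
    have h1 := jj_cj s T
    have e : ∀ (g : G) (X : Subgroup G), cj g X = MulAut.conj g • X := fun g X => rfl
    rw [e, e, hs] at h1
    exact h1.symm
  have hc' : jj T ≤ centralizer (U (i + 1) : Set G) := by
    have h1 : MulAut.conj s • jj T ≤ MulAut.conj s • centralizer (U i : Set G) :=
      NoFF.Basic.conj_le_iff.2 hc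
    have e : MulAut.conj s • centralizer (U i : Set G) = centralizer ((MulAut.conj s • U i : Subgroup G) : Set G) :=
      cj_centralizer s _
    rwa [hsJ, e, (h i).1] at h1
  rw [← IsParS.inf_centralizer S D.hyp.ctx.char2 D.hyp.star]
  refine le_inf (jj_le _) ?_
  rw [← hJJ]
  have h2 : jj T ≤ centralizer ((U i ⊔ U (i + 1) : Subgroup G) : Set G) :=
    NO3b.Bang.cent_symm (sup_le (NO3b.Bang.cent_symm hc) (NO3b.Bang.cent_symm hc'))
  exact h2.trans (centralizer_le (D.sup i (i + 1) (KTwo.ne_add_one i)))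

end

/-- Offenders over the level below `P`, at every stage. -/
theorem exists_offK {G : Type u} [Group G] [Finite G] {S : Sylow 2 G} {P' K B ZJ : Subgroup G}
    {L W Z C R : Fin 2 → Subgroup G} {v : Fin 2 → G} (hM : Mul S P' K B ZJ L W Z C 2)
    (hD : KTwo.Sit S P' ((S : Subgroup G) ⊓ normalizer (Z 0 : Set G)) W v)
    (hF : Fr ((S : Subgroup G) ⊓ normalizer (Z 0 : Set G)) W R v) :
    ∃ K₀, OffK ((S : Subgroup G) ⊓ normalizer (Z 0 : Set G)) W K₀ := by
  have hKT := hM.lb.KB.trans (B_le_T hM)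
  cases hM.stg with
  | neg hj => exact ⟨_, offK_of_hJ hF (hJ_of hD hF hKT hj)⟩
  | lev n hall hn hn1 => exact ⟨_, offK_of_lev hF hD hn hn1 hKT⟩

/-- **THEOREM R** as input (all stages). -/
def RIn : Prop :=
  ∀ (G : Type u) [Group G] [Finite G], IsKProper G → ∀ (T : Subgroup G) (V P : Fin 2 → Subgroup G) (v : Fin 2 → G),
    Fr T V P v → VBang T → Swap T V v → ∀ K : Subgroup G, OffK T V K → (∀ i, ¬ V i ≤ NU V v i) → False

/-- **card [A]** as input (all stages). -/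
def AIn : Prop :=
  ∀ (G : Type u) [Group G] [Finite G], IsKProper G → ∀ (T : Subgroup G) (V P : Fin 2 → Subgroup G) (v : Fin 2 → G),
    Fr T V P v → VBang T → Swap T V v → ∀ K : Subgroup G, OffK T V K → (∀ i, V i ≤ NU V v i) → False

/-- `C(v i)` is a `K`-group. -/
theorem kC_of {G : Type u} [Group G] [Finite G] {T : Subgroup G} {V P : Fin 2 → Subgroup G} {v : Fin 2 → G}
    (D : Fr T V P v) (hK : IsKProper G) (i : Fin 2) : IsKGroup (KTwo.CC v i) :=
  hK _ fun h => D.mv i (le_top.trans h.ge)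

/-- (V!), index form (349's `VOff`) -/
theorem VBang.voff {G : Type u} [Group G] [Finite G] {T : Subgroup G} (h : VBang T) : VOff T := by
  intro X hXT hn hc h2 hX
  obtain ⟨A, hAT, hA⟩ := h.exists_off hXT hn hc h2 hX
  exact ⟨A, hAT, hA.ne, FFThm.relIndex_le_iff.1 hA.le⟩

/-- **card [A]**, all stages, from THEOREM KL. -/
theorem aIn_of (hML : ML.Final.MLK.{u, u}) (hKL : KL.Quo.NoInp.{u, u}) : AIn.{u} := by
  intro G _ _ hK T V P v D _ _ K hO hV
  exact AKill.aKill D hML hKL (kC_of D hK) hV fun i R hR hRi hRj =>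
    OffK.hU D hO (KTwo.ne_add_one i) hR hRi hRj

/-- **Case (E), `k = 2`, `q = 2`, all stages.** -/
theorem eFr_of {K : Cls.{u}} (hML : ML.Final.MLK.{u, u}) (hR : RIn.{u}) (hA : AIn.{u}) : EFr K := by
  intro G _ _ _ S P K' B ZJ L W Z C R v hM _ hv hD hF
  exfalso
  have hK : IsKProper G := hM.hyp.ctx.kproper
  have hV := vbang_of hM hv hD
  have hs := swap_of hD
  obtain ⟨K₀, hO⟩ := exists_offK hM hD hF
  refine hA G hK _ W R v hF hV hs K₀ hO ?_
  have key : ∀ i, W i ≤ NU W v i ∨ ∀ i, ¬ W i ≤ NU W v i := by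
    intro i
    by_cases h : W i ≤ NU W v i
    · exact Or.inl h
    · exact Or.inr fun j hj => h ((hF.V_le_N_iff hs i).2 ((hF.V_le_N_iff hs j).1 hj))
  have hKT := hM.lb.KB.trans (B_le_T hM)
  cases hM.stg with
  | neg hj => exact fun i => hF.V_le_N_mt hML hK hs (hJ_of hD hF hKT hj) i
  | lev n hall hn hn1 =>
    intro i
    rcases key i with h | h
    · exact h
    · exact (hR G hK _ W R v hF hV hs K₀ hO h).elim

/-- `EFr K` from THEOREM KL and THEOREM R. -/
theorem eFr_of_kl {K : Cls.{u}} (hML : ML.Final.MLK.{u, u}) (hKL : KL.Quo.NoInp.{u, u}) (hR : RIn.{u}) : EFr K :=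
  eFr_of hML hR (aIn_of hML hKL)

end Cfsg.Agent.Omega.TC

end

section


/-!
# CARD #18791 (`k = 2`, `q = 2`), all stages, from `MLK` and THEOREM KL (helper836)

* `rIn : MLK → NoInp → RIn`; **`eFr : MLK → NoInp → EFr K`**;
* **`no_frame`** : `IsKProper G`, `Fr T V P v`, `OffK T V K` is impossible (the literal socket for `CaseL` / `MulG`).
-/

set_option autoImplicit false

namespace Cfsg.Agent.Omega.TC.EndKL

open Subgroup Cfsg Cfsg.Agent.Omega.MinPar
open Cfsg.Agent.Omega.Frame (Cls)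
open Cfsg.Agent.Omega.TC.OfMul (EFr)

universe u

/-- **There is no frame with `OffK` in a `K`-proper group.** -/
theorem no_frame (hML : ML.Final.MLK.{u, u}) (hKL : KL.Quo.NoInp.{u, u}) {G : Type u} [Group G] [Finite G]
    (hK : IsKProper G) {T : Subgroup G} {V P : Fin 2 → Subgroup G} {v : Fin 2 → G} (D : Fr T V P v)
    {K : Subgroup G} (h : OffK T V K) : False :=
  false_of_offK D hML hKL (kC_of D hK) h

/-- THEOREM R, all stages. -/
theorem rIn (hML : ML.Final.MLK.{u, u}) (hKL : KL.Quo.NoInp.{u, u}) : RIn.{u} :=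
  fun _ _ _ hK _ _ _ _ D _ _ _ h _ => no_frame hML hKL hK D h

/-- **Case (E), `k = 2`, `q = 2`, all stages.** -/
theorem eFr {K : Cls.{u}} (hML : ML.Final.MLK.{u, u}) (hKL : KL.Quo.NoInp.{u, u}) : EFr K :=
  eFr_of_kl hML hKL (rIn hML hKL)

end Cfsg.Agent.Omega.TC.EndKL

end

end

-- merged: Cfsg.Agent.Mrg.Omega.TC.R.DOneR
section

/-!
# CARD #18791, THEOREM R (helper691 #21425), (6) (c): distance 1, without LEMMA FIX

`d_one (D : Fr T V P v) (h01 : [N_1, N_0] ≤ Ω₁Z(T)) : [N_0, N_1] = 1`.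

* `In0` : `1 ≠ [N_i, N_j] ≤ Ω₁Z(T)`;
* `bd`, `ln` : helper925's data `Big.Bd`, `Big.Ln` for `E_i / ⟨v_i⟩`, so `N_j` induces exactly one transvection (`same`);
* `comm_eq` : `[N_i, N_j] = ⟨v_0 v_1⟩`; `fixE` : LEMMA FIX from section 0 of #19487 (`Fr.sec0`).
-/

set_option autoImplicit false
set_option linter.unusedSectionVars false

namespace Cfsg.Agent.Omega.TC.R.DOneR

open Subgroup Cfsg Cfsg.Agent.ZN Cfsg.Agent.Omega.MinPar
open Cfsg.Agent.Omega.OM.KTwo (CC QQ WU NU EU FF ne_add_one eq_add_one add_one_add_one le_normalizer_V le_V)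
open Cfsg.Agent.Omega.NoFF.Basic (conj_conj mem_conj conj_le_iff conj_le_centralizer comm_symm comm_mono
  Z_le_V V_le conj_V_mul)
open Cfsg.Agent.MinSimple.VModule (mem_zc zc_le)
open Cfsg.Agent.Omega.TC.DOne Cfsg.Agent.Omega.TC.OneEnd
open Cfsg.Agent.Omega.NO3S.EThree
open scoped Pointwise

universe u

variable {G : Type u} [Group G] [Finite G] {T : Subgroup G} {V P : Fin 2 → Subgroup G} {v : Fin 2 → G}

section side

variable (D : Fr T V P v) {i : Fin 2}
  (hc : ∀ x ∈ NU V v (i + 1), ∀ e ∈ NU V v i, x * e * x⁻¹ * e⁻¹ ∈ zc T)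
  (hne : ¬ NU V v (i + 1) ≤ centralizer (NU V v i : Set G))
  {M : Type u} [AddCommGroup M] [DistribMulAction (CC v i) M] {p : G → M}
  (s : Sec (EU T v i) (zpowers (v i)) (CC v i) M p)

include D s

theorem madd (m : M) : m + m = 0 := s.add_self (fun x hx => by
    rw [← pow_two, D.E_sq i x hx]
    exact one_mem _) m

theorem mneg (m : M) : -m = m := neg_eq_of_add_eq_zero_left (madd D s m)

/-- the points -/
def pt (_s : Sec (EU T v i) (zpowers (v i)) (CC v i) M p) (c : CC v i) : AddSubgroup M :=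
  AddSubgroup.zmultiples (c • p (v (i + 1)))

theorem mem_pt {c : CC v i} {m : M} : m ∈ pt s c ↔ m = 0 ∨ m = c • p (v (i + 1)) := by
  have h2 := madd D s (c • p (v (i + 1)))
  constructor
  · intro h
    obtain ⟨k, rfl⟩ := AddSubgroup.mem_zmultiples_iff.1 h
    rcases Int.even_or_odd' k with ⟨l, hl | hl⟩
    · left
      rw [hl, mul_comm, mul_zsmul, two_zsmul, h2, zsmul_zero]
    · right
      rw [hl, add_zsmul, one_zsmul, mul_comm, mul_zsmul, two_zsmul, h2, zsmul_zero, zero_add]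
  · rintro (rfl | rfl)
    · exact zero_mem _
    · exact AddSubgroup.mem_zmultiples _

theorem pt_ne (c : CC v i) : c • p (v (i + 1)) ≠ 0 := by
  intro h
  exact p_vj D s (by rwa [smul_eq_zero_iff_eq] at h)

theorem pt_eq {c d : CC v i} (h : pt s c = pt s d) : c • p (v (i + 1)) = d • p (v (i + 1)) := by
  have h1 : c • p (v (i + 1)) ∈ pt s d := by
    rw [← h, mem_pt D s]
    exact Or.inr rfl
  exact ((mem_pt D s).1 h1).resolve_left (pt_ne D s c)

theorem pt_congr {c d : CC v i} (h : c • p (v (i + 1)) = d • p (v (i + 1))) : pt s c = pt s d := by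
  unfold pt
  rw [h]

theorem card_pt (c : CC v i) : Nat.card (pt s c) = 2 := by
  unfold pt
  rw [Nat.card_zmultiples]
  refine addOrderOf_eq_prime ?_ (pt_ne D s c)
  rw [two_nsmul]
  exact madd D s _

/-- conjugation with the stabiliser of `p (v (i+1))` -/
theorem conj_N {c d t : CC v i} (h : c • p (v (i + 1)) = d • p (v (i + 1)))
    (ht : ((c⁻¹ * t * c : CC v i) : G) ∈ NU V v (i + 1)) : ((d⁻¹ * t * d : CC v i) : G) ∈ NU V v (i + 1) := by
  have h1 : (d⁻¹ * c) • p (v (i + 1)) = p (v (i + 1)) := by rw [mul_smul, h, inv_smul_smul]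
  have h2 := stab D s h1
  have h3 := (mem_normalizer_iff.1 (D.C_le_N_N (i + 1) (D.cent_zc_le (i + 1) h2)) _).1 ht
  have e : ((d⁻¹ * c : CC v i) : G) * ((c⁻¹ * t * c : CC v i) : G) * (((d⁻¹ * c : CC v i) : G))⁻¹ =
      ((d⁻¹ * t * d : CC v i) : G) := by
    push_cast; group
  rwa [e] at h3

/-- `N_j ≤ C_i` fixes `p (v j)` -/
theorem fix_u {t : CC v i} (ht : (t : G) ∈ NU V v (i + 1)) : t • p (v (i + 1)) = p (v (i + 1)) := by
  rw [s.act t _ (D.v_mem_E i (i + 1))]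
  congr 1
  have h1 : (t : G) * v (i + 1) = v (i + 1) * t := mem_centralizer_singleton_iff.1 (D.N_le_C (i + 1) (i + 1) ht)
  rw [h1, mul_inv_cancel_right]

theorem fix_c {c t : CC v i} (ht : ((c⁻¹ * t * c : CC v i) : G) ∈ NU V v (i + 1)) :
    t • c • p (v (i + 1)) = c • p (v (i + 1)) := by
  have h1 := fix_u D s ht
  rw [mul_smul, mul_smul, inv_smul_eq_iff] at h1
  exact h1

include hc

theorem act_u {t : CC v i} (ht : (t : G) ∈ NU V v (i + 1)) (m : M) : t • m = m ∨ t • m = m + p (v (i + 1)) := by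
  have hE : ∀ e ∈ EU T v i, (t : G) * e * (t : G)⁻¹ * e⁻¹ ∈ zc T := by
    intro e he
    obtain ⟨n, hn, y, hy, rfl⟩ := OneEnd.In.exists_mul D he
    have h1 := hc _ ht _ hn
    have h2 : (t : G) * y * (t : G)⁻¹ = y := cz_comm i t.2 hy
    have e1 : (t : G) * (n * y) * (t : G)⁻¹ * (n * y)⁻¹ =
        (t : G) * n * (t : G)⁻¹ * n⁻¹ * (n * ((t : G) * y * (t : G)⁻¹ * y⁻¹) * n⁻¹) := by group
    rw [e1, h2, mul_inv_cancel, mul_one, mul_inv_cancel, mul_one]
    exact h1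
  obtain ⟨e, he, rfl⟩ := s.surj m
  rw [s.act t _ he]
  have h1 := hE e he
  have h2 : (t : G) * e * (t : G)⁻¹ = (t : G) * e * (t : G)⁻¹ * e⁻¹ * e := by group
  have h3 : zc T ≤ EU T v i := le_V _ _
  rw [h2, s.mul _ (h3 h1) _ he]
  rcases p_zc D s h1 with h4 | h4
  · rw [h4, zero_add]
    exact Or.inl rfl
  · rw [h4, add_comm]
    exact Or.inr rfl

theorem act_c {c t : CC v i} (ht : ((c⁻¹ * t * c : CC v i) : G) ∈ NU V v (i + 1)) (m : M) :
    t • m = m ∨ t • m = m + c • p (v (i + 1)) := by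
  rcases act_u D hc s ht (c⁻¹ • m) with h | h
  · left
    rw [mul_smul, mul_smul, smul_inv_smul] at h
    exact (smul_left_cancel_iff c⁻¹).1 h
  · right
    rw [mul_smul, mul_smul, smul_inv_smul] at h
    have h1 := congrArg (fun y => c • y) h
    simp only [smul_add, smul_inv_smul] at h1
    exact h1

theorem act_c' {c t : CC v i} (ht : ((c⁻¹ * t * c : CC v i) : G) ∈ NU V v (i + 1)) (m : M) :
    t • m - m ∈ pt s c := by
  rw [mem_pt D s]
  rcases act_c D hc s ht m with h | h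
  · left; rw [h, sub_self]
  · right; rw [h, add_sub_cancel_left]

/-- `t` fixes the vectors of `pt s c` -/
theorem fix_pt {c t : CC v i} (ht : ((c⁻¹ * t * c : CC v i) : G) ∈ NU V v (i + 1)) {m : M} (hm : m ∈ pt s c) :
    t • m = m := by
  rcases (mem_pt D s).1 hm with h | h
  · rw [h, smul_zero]
  · rw [h, fix_c D s ht]

/-- the endomorphisms of the point `p` -/
def Te : AddSubgroup M → AddSubgroup (M →+ M) := fun q =>
  { carrier := {η | ∀ c : CC v i, q = pt s c → ∃ t : CC v i, ((c⁻¹ * t * c : CC v i) : G) ∈ NU V v (i + 1) ∧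
      ∀ m, η m = t • m - m}
    zero_mem' := fun c hq => ⟨1, by simp, fun m => by rw [one_smul, sub_self]; rfl⟩
    add_mem' := by
      intro η η' hη hη' c hq
      obtain ⟨t, ht, h1⟩ := hη c hq
      obtain ⟨t', ht', h2⟩ := hη' c hq
      refine ⟨t * t', ?_, fun m => ?_⟩
      · have e : c⁻¹ * (t * t') * c = (c⁻¹ * t * c) * (c⁻¹ * t' * c) := by group
        rw [e]
        exact mul_mem ht ht'
      · have h3 := fix_pt D hc s ht (act_c' D hc s ht' m)
        rw [smul_sub] at h3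
        rw [AddMonoidHom.add_apply, h1, h2, mul_smul]
        have h4 : t • t' • m = t • m + (t' • m - m) := by rw [← h3]; abel
        rw [h4]; abel
    neg_mem' := by
      intro η hη c hq
      obtain ⟨t, ht, h1⟩ := hη c hq
      refine ⟨t⁻¹, ?_, fun m => ?_⟩
      · have e : c⁻¹ * t⁻¹ * c = (c⁻¹ * t * c)⁻¹ := by group
        rw [e]
        exact inv_mem ht
      · have h3 := fix_pt D hc s ht (act_c' D hc s ht m)
        have h4 : t • (m - (t • m - m)) = m := by rw [smul_sub, h3]; abel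
        have h5 : t⁻¹ • m = m - (t • m - m) := by rw [inv_smul_eq_iff, h4]
        rw [AddMonoidHom.neg_apply, h1, h5]; abel }

theorem mem_Te {c : CC v i} {η : M →+ M} :
    η ∈ Te D hc s (pt s c) ↔ ∃ t : CC v i, ((c⁻¹ * t * c : CC v i) : G) ∈ NU V v (i + 1) ∧ ∀ m, η m = t • m - m := by
  constructor
  · intro h
    exact h c rfl
  · rintro ⟨t, ht, h⟩ d hd
    exact ⟨t, conj_N D s (pt_eq D s hd) ht, h⟩

/-- the endomorphism of `t` -/
def eta (t : CC v i) : M →+ M := DistribSMul.toAddMonoidHom M t - AddMonoidHom.id M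

omit D s hc in
theorem eta_apply (t : CC v i) (m : M) : eta (M := M) t m = t • m - m := rfl

omit hc in
theorem span {η : M →+ M} (h : ∀ c : CC v i, η (c • p (v (i + 1))) = 0) : η = 0 := by
  have h1 : ∀ e ∈ EU T v i, e ∈ EU T v i ∧ η (p e) = 0 := by
    let K : Subgroup G :=
      { carrier := {e | e ∈ EU T v i ∧ η (p e) = 0}
        one_mem' := ⟨one_mem _, by rw [s.one, map_zero]⟩
        mul_mem' := by
          rintro a b ⟨ha, ha'⟩ ⟨hb, hb'⟩
          exact ⟨mul_mem ha hb, by rw [s.mul _ ha _ hb, map_add, ha', hb', add_zero]⟩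
        inv_mem' := by
          rintro a ⟨ha, ha'⟩
          exact ⟨inv_mem ha, by rw [s.inv ha, map_neg, ha', neg_zero]⟩ }
    have h2 : EU T v i ≤ K := by
      refine V_le fun c hc x hx => ?_
      rw [mem_conj] at hx
      have hE : c⁻¹ * x * c ∈ EU T v i := le_V _ _ hx
      have e : x = c * (c⁻¹ * x * c) * c⁻¹ := by group
      have h3 : c * (c⁻¹ * x * c) * c⁻¹ ∈ EU T v i := (mem_normalizer_iff.1 (D.C_le_N_E i hc) _).1 hE
      refine ⟨by rw [e]; exact h3, ?_⟩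
      have h4 := s.act ⟨c, hc⟩ _ hE
      have h5 : p x = (⟨c, hc⟩ : CC v i) • p (c⁻¹ * x * c) := by
        rw [h4]
        congr 1
      rw [h5]
      rcases p_zc D s hx with h6 | h6
      · rw [h6, smul_zero, map_zero]
      · rw [h6]; exact h ⟨c, hc⟩
    exact fun e he => h2 he
  ext m
  obtain ⟨e, he, rfl⟩ := s.surj m
  exact (h1 e he).2

theorem card_Te_le (c d : CC v i) : Nat.card (Te D hc s (pt s c)) ≤ Nat.card (Te D hc s (pt s d)) := by
  have := s.finite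
  have : Finite (M →+ M) := Big.Bd.finite_hom
  set g : CC v i := d * c⁻¹ with hg
  let F : (M →+ M) → (M →+ M) := fun η =>
    ((DistribSMul.toAddMonoidHom M g).comp η).comp (DistribSMul.toAddMonoidHom M g⁻¹)
  have hFa : ∀ η m, F η m = g • η (g⁻¹ • m) := fun _ _ => rfl
  have hF : ∀ η ∈ Te D hc s (pt s c), F η ∈ Te D hc s (pt s d) := by
    intro η hη
    obtain ⟨t, ht, h⟩ := (mem_Te D hc s).1 hη
    refine (mem_Te D hc s).2 ⟨g * t * g⁻¹, ?_, fun m => ?_⟩
    · have e : d⁻¹ * (g * t * g⁻¹) * d = c⁻¹ * t * c := by rw [hg]; group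
      rw [e]
      exact ht
    · rw [hFa, h, smul_sub, smul_inv_smul]
      congr 1
      rw [mul_smul (g * t) g⁻¹ m, mul_smul g t (g⁻¹ • m)]
  refine Nat.card_le_card_of_injective (fun η : Te D hc s (pt s c) => (⟨F η.1, hF η.1 η.2⟩ : Te D hc s (pt s d))) ?_
  intro η η' e
  apply Subtype.ext
  have h1 : F η.1 = F η'.1 := congrArg Subtype.val e
  ext m
  have h2 : F η.1 (g • m) = F η'.1 (g • m) := by rw [h1]
  rw [hFa, hFa, inv_smul_smul, smul_left_cancel_iff] at h2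
  exact h2

include hne

theorem bd : Big.Bd (Set.range (pt s)) (Te D hc s) where
  ne := by
    rintro _ ⟨c, rfl⟩
    exact ⟨_, (mem_pt D s).2 (Or.inr rfl), pt_ne D s c⟩
  ti := by
    rintro _ ⟨c, rfl⟩ _ ⟨d, rfl⟩ m h1 h2 h0
    have k1 := ((mem_pt D s).1 h1).resolve_left h0
    have k2 := ((mem_pt D s).1 h2).resolve_left h0
    exact pt_congr D s (k1.symm.trans k2)
  im := by
    rintro _ ⟨c, rfl⟩ η hη m
    obtain ⟨t, ht, h1⟩ := (mem_Te D hc s).1 hη
    rw [h1]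
    exact act_c' D hc s ht m
  ker := by
    rintro _ ⟨c, rfl⟩ η hη m hm
    obtain ⟨t, ht, h1⟩ := (mem_Te D hc s).1 hη
    rw [h1, fix_pt D hc s ht hm, sub_self]
  one := by
    rintro _ ⟨c, rfl⟩ _ ⟨d, rfl⟩ η hη b hb hb0 h0 w hw
    have k1 := ((mem_pt D s).1 hb).resolve_left hb0
    rcases (mem_pt D s).1 hw with k2 | k2
    · rw [k2, map_zero]
    · rw [k2, ← k1, h0]
  cl := by
    rintro _ ⟨c, rfl⟩ _ ⟨d, rfl⟩ φ hφ ψ hψ hk
    obtain ⟨x, hx, h1⟩ := (mem_Te D hc s).1 hφ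
    obtain ⟨t, ht, h2⟩ := (mem_Te D hc s).1 hψ
    have kφ : ∀ m, φ (φ m) = 0 := by
      intro m
      rw [h1 (φ m), fix_pt D hc s hx (by rw [h1]; exact act_c' D hc s hx m), sub_self]
    have kψ : ∀ m, ψ (ψ m) = 0 := by
      intro m
      rw [h2 (ψ m), fix_pt D hc s ht (by rw [h2]; exact act_c' D hc s ht m), sub_self]
    have kk : ∀ m, ψ (φ m) = 0 := fun m => hk _ (by rw [h1]; exact act_c' D hc s hx m)
    have htc : t • c • p (v (i + 1)) = c • p (v (i + 1)) := by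
      have h3 := hk _ ((mem_pt D s).2 (Or.inr rfl))
      rw [h2, sub_eq_zero] at h3
      exact h3
    have inv1 : ∀ m, x⁻¹ • m = m - φ m := by
      intro m
      rw [inv_smul_eq_iff]
      have h3 := h1 (m - φ m)
      rw [map_sub, kφ, sub_zero] at h3
      have h4 : x • (m - φ m) = (x • (m - φ m) - (m - φ m)) + (m - φ m) := by abel
      rw [h4, ← h3]; abel
    have inv2 : ∀ m, t⁻¹ • m = m - ψ m := by
      intro m
      rw [inv_smul_eq_iff]
      have h3 := h2 (m - ψ m)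
      rw [map_sub, kψ, sub_zero] at h3
      have h4 : t • (m - ψ m) = (t • (m - ψ m) - (m - ψ m)) + (m - ψ m) := by abel
      rw [h4, ← h3]; abel
    have a1 : ∀ m, x • m = m + φ m := fun m => by rw [h1]; abel
    have a2 : ∀ m, t • m = m + ψ m := fun m => by rw [h2]; abel
    refine (mem_Te D hc s).2 ⟨x * (t * x⁻¹ * t⁻¹), ?_, fun m => ?_⟩
    · have e : c⁻¹ * (x * (t * x⁻¹ * t⁻¹)) * c = (c⁻¹ * x * c) * (c⁻¹ * (t * x⁻¹ * t⁻¹) * c) := by group
      rw [e]
      refine mul_mem hx ?_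
      have h5 : (t⁻¹ * c) • p (v (i + 1)) = c • p (v (i + 1)) := by
        rw [mul_smul, inv_smul_eq_iff]
        exact htc.symm
      have h6 : ((c⁻¹ * x⁻¹ * c : CC v i) : G) ∈ NU V v (i + 1) := by
        have e : c⁻¹ * x⁻¹ * c = (c⁻¹ * x * c)⁻¹ := by group
        rw [e]
        exact inv_mem hx
      have h7 := conj_N D s (c := c) (d := t⁻¹ * c) (t := x⁻¹) h5.symm h6
      have e2 : c⁻¹ * (t * x⁻¹ * t⁻¹) * c = (t⁻¹ * c)⁻¹ * x⁻¹ * (t⁻¹ * c) := by group
      rw [e2]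
      exact h7
    · show φ (ψ m) = _
      rw [mul_smul, mul_smul, mul_smul, inv2, inv1, a2, a1]
      simp only [map_sub, map_add, kφ, kψ, kk, map_zero]
      abel
  sur := by
    rintro _ ⟨c, rfl⟩ _ ⟨d, rfl⟩ ⟨η, hη, w, hw, h0⟩ b hb hb0 a ha
    have hw0 : w ≠ 0 := by
      rintro rfl
      exact h0 (map_zero _)
    have k1 := ((mem_pt D s).1 hb).resolve_left hb0
    have k2 := ((mem_pt D s).1 hw).resolve_left hw0
    rcases (mem_pt D s).1 ha with k3 | k3
    · exact ⟨0, zero_mem _, k3.symm⟩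
    · refine ⟨η, hη, ?_⟩
      obtain ⟨t, ht, h1⟩ := (mem_Te D hc s).1 hη
      have h2 : η b ∈ pt s c := by
        rw [h1]
        exact act_c' D hc s ht b
      have h3 : η b ≠ 0 := by rw [k1, ← k2]; exact h0
      rw [k3]
      exact ((mem_pt D s).1 h2).resolve_left h3
  cardP := by
    rintro _ ⟨c, rfl⟩ _ ⟨d, rfl⟩
    rw [card_pt D s, card_pt D s]
  cardT := by
    rintro _ ⟨c, rfl⟩ _ ⟨d, rfl⟩
    exact le_antisymm (card_Te_le D hc s c d) (card_Te_le D hc s d c)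
  span := by
    intro η h
    exact span D s fun c => h _ ⟨c, rfl⟩ _ ((mem_pt D s).2 (Or.inr rfl))
  nbr := by
    rintro _ ⟨c, rfl⟩
    by_contra hcon
    push Not at hcon
    apply hne
    intro x hx
    have hxC : x ∈ CC v i := D.N_le_C (i + 1) i hx
    have h1 : eta (M := M) (c * ⟨x, hxC⟩ * c⁻¹) ∈ Te D hc s (pt s c) := by
      refine (mem_Te D hc s).2 ⟨c * ⟨x, hxC⟩ * c⁻¹, ?_, fun m => rfl⟩
      have e : c⁻¹ * (c * ⟨x, hxC⟩ * c⁻¹) * c = ⟨x, hxC⟩ := by group
      rw [e]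
      exact hx
    have h2 : eta (M := M) (c * ⟨x, hxC⟩ * c⁻¹) = 0 := by
      refine span D s fun d => ?_
      by_contra h3
      exact hcon _ ⟨d, rfl⟩ ⟨_, h1, _, (mem_pt D s).2 (Or.inr rfl), h3⟩
    refine cent_of_triv D s hxC fun m => ?_
    have h3 : eta (M := M) (c * ⟨x, hxC⟩ * c⁻¹) (c • m) = 0 := by rw [h2]; rfl
    rw [eta_apply, mul_smul, mul_smul, inv_smul_smul, ← smul_sub, smul_eq_zero_iff_eq, sub_eq_zero] at h3
    exact h3

theorem ln : Big.Ln (Set.range (pt s)) (Te D hc s) (s.im (V (i + 1)) (D.V_le_E i)) where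
  cov := by
    rintro _ ⟨x, hx, rfl⟩ h0
    have hx1 : x ≠ 1 := by
      rintro rfl
      exact h0 s.one
    obtain ⟨l, hl, -, hlx⟩ := D.tr (ne_add_one i).symm hx hx1
    have hlC : l ∈ CC v i := D.PC (i + 1) i (ne_add_one i).symm hl
    have e : (⟨l, hlC⟩ : CC v i) • p (v (i + 1)) = p x := by
      rw [s.act ⟨l, hlC⟩ _ (D.v_mem_E i (i + 1))]
      exact congrArg p hlx
    refine ⟨pt s ⟨l, hlC⟩, ⟨_, rfl⟩, fun m hm => ?_, (mem_pt D s).2 (Or.inr e.symm)⟩
    rcases (mem_pt D s).1 hm with h | h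
    · rw [h]; exact zero_mem _
    · rw [h, e]; exact ⟨x, hx, rfl⟩
  perp := by
    rintro _ ⟨c, rfl⟩ hcV _ ⟨d, rfl⟩ hdV ⟨η, hη, w, hw, h0⟩
    obtain ⟨x, hx, hxe⟩ := hcV ((mem_pt D s).2 (Or.inr rfl))
    have hx1 : x ≠ 1 := by
      rintro rfl
      exact pt_ne D s c (hxe.symm.trans s.one)
    obtain ⟨l, hl, -, hlx⟩ := D.tr (ne_add_one i).symm hx hx1
    have hlC : l ∈ CC v i := D.PC (i + 1) i (ne_add_one i).symm hl
    have e : (⟨l, hlC⟩ : CC v i) • p (v (i + 1)) = c • p (v (i + 1)) := by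
      rw [s.act ⟨l, hlC⟩ _ (D.v_mem_E i (i + 1)), ← hxe]
      exact congrArg p hlx
    obtain ⟨t, ht, h1⟩ := (mem_Te D hc s).1 hη
    have ht' := conj_N D s e.symm ht
    obtain ⟨y, hy, rfl⟩ := hdV hw
    apply h0
    rw [h1, s.act t _ (D.V_le_E i hy), sub_eq_zero]
    congr 1
    -- `t` centralises `V j`
    have hy' : l⁻¹ * y * l ∈ V (i + 1) := (mem_normalizer_iff''.1 (D.PN (i + 1) (i + 1) hl) y).1 hy
    have h2 : l⁻¹ * y * l * ((((⟨l, hlC⟩ : CC v i)⁻¹ * t * ⟨l, hlC⟩ : CC v i)) : G) =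
        ((((⟨l, hlC⟩ : CC v i)⁻¹ * t * ⟨l, hlC⟩ : CC v i)) : G) * (l⁻¹ * y * l) := by
      have h3 := D.WN_comm (i + 1) (mem_sup_right ht')
      exact (mem_centralizer_iff.1 h3) _ (mem_sup_left (D.V_le_W (i + 1) hy'))
    have h4 : y * (t : G) = t * y := by
      have h5 := congrArg (fun g => l * g * l⁻¹) h2
      push_cast at h5
      simpa [mul_assoc] using h5
    rw [← h4, mul_inv_cancel_right]
  gen := by
    rintro _ ⟨c, rfl⟩ hcV _ ⟨d, rfl⟩ hdV hne'
    obtain ⟨x, hx, hxe⟩ := hcV ((mem_pt D s).2 (Or.inr rfl))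
    obtain ⟨y, hy, hye⟩ := hdV ((mem_pt D s).2 (Or.inr rfl))
    have hx1 : x ≠ 1 := by
      rintro rfl
      exact pt_ne D s c (hxe.symm.trans s.one)
    have hy1 : y ≠ 1 := by
      rintro rfl
      exact pt_ne D s d (hye.symm.trans s.one)
    have hxy : x ≠ y := by
      rintro rfl
      exact hne' (pt_congr D s (hxe.symm.trans hye))
    rintro _ ⟨w, hw, rfl⟩
    have hcm : p x ∈ pt s c ⊔ pt s d := AddSubgroup.mem_sup_left ((mem_pt D s).2 (Or.inr hxe))
    have hdm : p y ∈ pt s c ⊔ pt s d := AddSubgroup.mem_sup_right ((mem_pt D s).2 (Or.inr hye))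
    by_cases hw1 : w = 1
    · rw [hw1, s.one]; exact zero_mem _
    · rcases D.eq_of_V hx hx1 hy hy1 hxy hw hw1 with h | h | h
      · rw [h]; exact hcm
      · rw [h]; exact hdm
      · rw [h, s.mul _ (D.V_le_E i hx) _ (D.V_le_E i hy)]
        exact add_mem hcm hdm
  two := by
    rintro _ ⟨c, rfl⟩ hcV
    obtain ⟨x, hx, hxe⟩ := hcV ((mem_pt D s).2 (Or.inr rfl))
    obtain ⟨a, ha, ha1, hav⟩ := D.exists_ne_v (i + 1)
    have key : ∀ y ∈ V (i + 1), y ≠ 1 → y ≠ x → ∃ q ∈ Set.range (pt s), q ≤ s.im (V (i + 1)) (D.V_le_E i) ∧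
        q ≠ pt s c := by
      intro y hy hy1 hyx
      obtain ⟨l, hl, -, hlx⟩ := D.tr (ne_add_one i).symm hy hy1
      have hlC : l ∈ CC v i := D.PC (i + 1) i (ne_add_one i).symm hl
      have e : (⟨l, hlC⟩ : CC v i) • p (v (i + 1)) = p y := by
        rw [s.act ⟨l, hlC⟩ _ (D.v_mem_E i (i + 1))]
        exact congrArg p hlx
      refine ⟨pt s ⟨l, hlC⟩, ⟨_, rfl⟩, fun m hm => ?_, fun h => ?_⟩
      · rcases (mem_pt D s).1 hm with h | h
        · rw [h]; exact zero_mem _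
        · rw [h, e]; exact ⟨y, hy, rfl⟩
      · have h1 := pt_eq D s h
        rw [e, ← hxe, s.eq_iff (D.V_le_E i hy) (D.V_le_E i hx)] at h1
        exact hyx (mul_inv_eq_one.1 (notin_V D (mul_mem hy (inv_mem hx)) h1))
    by_cases h : x = a
    · exact key (v (i + 1)) (D.mem _) (D.ne _) (by rw [h]; exact hav.symm)
    · exact key a ha ha1 (Ne.symm h)
  ex := ⟨pt s 1, ⟨_, rfl⟩, fun m hm => by
    rcases (mem_pt D s).1 hm with h | h
    · rw [h]; exact zero_mem _
    · rw [h, one_smul]; exact ⟨v (i + 1), D.mem _, rfl⟩⟩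

/-- only one transvection -/
theorem card_le : Nat.card (Te D hc s (pt s 1)) ≤ 2 := by
  have := s.finite
  by_contra hcon
  push Not at hcon
  refine (bd D hc hne s).false_of_line ?_ (ln D hc hne s)
  rintro _ ⟨c, rfl⟩
  rw [card_pt D s, (bd D hc hne s).cardT _ ⟨c, rfl⟩ _ ⟨1, rfl⟩]
  exact hcon

theorem same' {x y : CC v i} (hx : (x : G) ∈ NU V v (i + 1)) (hy : (y : G) ∈ NU V v (i + 1))
    (hx' : (x : G) ∉ centralizer (NU V v i : Set G)) (hy' : (y : G) ∉ centralizer (NU V v i : Set G)) (m : M) :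
    x • m = y • m := by
  have := s.finite
  have : Finite (M →+ M) := Big.Bd.finite_hom
  have hmem : ∀ z : CC v i, (z : G) ∈ NU V v (i + 1) → eta (M := M) z ∈ Te D hc s (pt s 1) := by
    intro z hz
    refine (mem_Te D hc s).2 ⟨z, ?_, fun m => rfl⟩
    rw [inv_one, one_mul, mul_one]
    exact hz
  have hn0 : ∀ z : CC v i, (z : G) ∉ centralizer (NU V v i : Set G) → eta (M := M) z ≠ 0 := by
    intro z hz h0
    apply hz
    refine cent_of_triv D s z.2 fun m => ?_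
    have h1 : eta (M := M) z m = 0 := by rw [h0]; rfl
    rw [eta_apply, sub_eq_zero] at h1
    exact h1
  have h2 : eta (M := M) x = eta y := by
    by_contra hne'
    have h3 := card_le D hc hne s
    have : Finite (Te D hc s (pt s 1)) := inferInstance
    have h4 : ({⟨eta x, hmem x hx⟩, ⟨eta y, hmem y hy⟩, 0} : Set (Te D hc s (pt s 1))).ncard = 3 := by
      apply Set.ncard_eq_three.2
      refine ⟨_, _, _, ?_, ?_, ?_, rfl⟩
      · intro h; exact hne' (congrArg Subtype.val h)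
      · intro h; exact hn0 x hx' (congrArg Subtype.val h)
      · intro h; exact hn0 y hy' (congrArg Subtype.val h)
    have h5 := Set.ncard_le_card ({⟨eta x, hmem x hx⟩, ⟨eta y, hmem y hy⟩, 0} : Set (Te D hc s (pt s 1)))
    omega
  have h3 : eta (M := M) x m = eta y m := by rw [h2]
  rw [eta_apply, eta_apply] at h3
  exact sub_left_injective h3

end side

/-- the situation -/
structure In0 (T : Subgroup G) (V P : Fin 2 → Subgroup G) (v : Fin 2 → G) : Prop where
  fr : Fr T V P v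
  comm : ∀ i j, i ≠ j → ∀ x ∈ NU V v j, ∀ e ∈ NU V v i, x * e * x⁻¹ * e⁻¹ ∈ zc T
  ne : ∀ i j, i ≠ j → ¬ NU V v j ≤ centralizer (NU V v i : Set G)

namespace In0

variable (h : In0 T V P v)
include h

theorem same {i j : Fin 2} (hij : i ≠ j) {x y : G} (hx : x ∈ NU V v j) (hy : y ∈ NU V v j)
    (hx' : x ∉ centralizer (NU V v i : Set G)) (hy' : y ∉ centralizer (NU V v i : Set G)) :
    x * y⁻¹ ∈ centralizer (NU V v i : Set G) := by
  obtain rfl := eq_add_one hij
  obtain ⟨M, _, _, p, s⟩ := exists_M h.fr i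
  have hxC := h.fr.N_le_C (i + 1) i hx
  have hyC := h.fr.N_le_C (i + 1) i hy
  refine cent_of_triv h.fr s (h.fr.N_le_C (i + 1) i (mul_mem hx (inv_mem hy))) (fun m => ?_)
  have e : (⟨x * y⁻¹, h.fr.N_le_C (i + 1) i (mul_mem hx (inv_mem hy))⟩ : CC v i)
      = ⟨x, hxC⟩ * (⟨y, hyC⟩ : CC v i)⁻¹ := Subtype.ext rfl
  rw [e, mul_smul, same' h.fr (h.comm i (i + 1) hij) (h.ne i (i + 1) hij) s (x := ⟨x, hxC⟩) (y := ⟨y, hyC⟩) hx hy
    hx' hy', smul_inv_smul]

theorem z_eq {i j : Fin 2} (hij : i ≠ j) : v j * v i = v 0 * v 1 := by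
  have h1 : v 0 * v 1 = v 1 * v 0 := (h.fr.comm_v 1 (h.fr.v_mem_T 0))
  rcases Fin.exists_fin_two.1 ⟨i, rfl⟩ with hi | hi
  · have hj : j = 1 := by rw [hi] at hij; revert hij; revert j; decide
    rw [hi, hj, h1]
  · have hj : j = 0 := by rw [hi] at hij; revert hij; revert j; decide
    rw [hi, hj]

theorem zc_cases {i j : Fin 2} (hij : i ≠ j) {x : G} (hx : x ∈ zc T) : x = 1 ∨ x = v i ∨ x = v j ∨ x = v j * v i := by
  rw [h.z_eq hij]
  rcases (h.fr.zT x).1 hx with hx | hx | hx | hx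
  · exact Or.inl hx
  · rcases eq_or_ne i 0 with hi | hi
    · exact Or.inr (Or.inl (by rw [hx, hi]))
    · have hj : j = 0 := by revert hij hi; revert i j; decide
      exact Or.inr (Or.inr (Or.inl (by rw [hx, hj])))
  · rcases eq_or_ne i 1 with hi | hi
    · exact Or.inr (Or.inl (by rw [hx, hi]))
    · have hj : j = 1 := by revert hij hi; revert i j; decide
      exact Or.inr (Or.inr (Or.inl (by rw [hx, hj])))
  · exact Or.inr (Or.inr (Or.inr hx))

theorem mv {i j : Fin 2} (hij : i ≠ j) {x e : G} (hx : x ∈ NU V v j) (he : e ∈ NU V v i)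
    (hx' : x ∉ centralizer (NU V v i : Set G)) (he' : e ∉ centralizer (NU V v j : Set G)) : x * e ≠ e * x := by
  intro h1
  have he0 := he'
  rw [mem_centralizer_iff] at he0
  push Not at he0
  obtain ⟨y, hy, h2⟩ := he0
  have hy' : y ∉ centralizer (NU V v i : Set G) := fun h3 => h2 ((mem_centralizer_iff.1 h3) e he).symm
  have h3 := h.same hij hx hy hx' hy'
  have h4 := (mem_centralizer_iff.1 h3) e he
  apply h2
  have h5 : y = (x * y⁻¹)⁻¹ * x := by group
  have h6 : Commute (x * y⁻¹) e := h4.symm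
  have h7 : Commute x e := h1
  rw [h5]
  exact (h6.inv_left.mul_left h7)

theorem comm_eq {i j : Fin 2} (hij : i ≠ j) {x e : G} (hx : x ∈ NU V v j) (he : e ∈ NU V v i)
    (hx' : x ∉ centralizer (NU V v i : Set G)) (he' : e ∉ centralizer (NU V v j : Set G)) :
    x * e * x⁻¹ = e * (v j * v i) := by
  -- a lemma for one side
  have key : ∀ i j : Fin 2, i ≠ j → ∀ x ∈ NU V v j, ∀ e ∈ NU V v i, x ∉ centralizer (NU V v i : Set G) →
      e ∉ centralizer (NU V v j : Set G) → x * e * x⁻¹ * e⁻¹ ∉ zpowers (v i) := by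
    intro i j hij x hx e he hx' he' hz
    obtain rfl := eq_add_one hij
    obtain ⟨M, _, _, p, s⟩ := exists_M h.fr i
    refine hx' (cent_of_triv h.fr s (h.fr.N_le_C (i + 1) i hx) (fun m => ?_))
    -- all of `N_i`
    have hall : ∀ n ∈ NU V v i, x * n * x⁻¹ * n⁻¹ ∈ zpowers (v i) := by
      intro n hn
      by_cases hn' : n ∈ centralizer (NU V v (i + 1) : Set G)
      · have h1 := (mem_centralizer_iff.1 hn') x hx
        rw [h1, mul_inv_cancel_right, mul_inv_cancel]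
        exact one_mem _
      · have h1 := h.same hij.symm hn he hn' he'
        have h2 := (mem_centralizer_iff.1 h1) x hx
        have h3 : x * n * x⁻¹ * n⁻¹ = (n * e⁻¹) * (x * e * x⁻¹ * e⁻¹) * (n * e⁻¹)⁻¹ := by
          calc x * n * x⁻¹ * n⁻¹ = x * (n * e⁻¹) * e * x⁻¹ * n⁻¹ := by group
            _ = (n * e⁻¹) * x * e * x⁻¹ * n⁻¹ := by rw [h2]
            _ = _ := by group
        have h4 : n * e⁻¹ ∈ CC v i := mul_mem (h.fr.N_le_C i i hn) (inv_mem (h.fr.N_le_C i i he))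
        rw [h3, cz_comm i h4 hz]
        exact hz
    obtain ⟨e', he', rfl⟩ := s.surj m
    rw [act_p h.fr s _ he', s.eq_iff (conj_E h.fr s (h.fr.N_le_C (i + 1) i hx) he') he']
    obtain ⟨n, hn, y, hy, rfl⟩ := OneEnd.In.exists_mul h.fr he'
    have h1 := hall n hn
    have h2 : x * y * x⁻¹ = y := cz_comm i (h.fr.N_le_C (i + 1) i hx) hy
    have e1 : x * (n * y) * x⁻¹ * (n * y)⁻¹ = x * n * x⁻¹ * n⁻¹ * (n * (x * y * x⁻¹ * y⁻¹) * n⁻¹) := by group
    rw [e1, h2, mul_inv_cancel, mul_one, mul_inv_cancel, mul_one]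
    exact h1
  have h1 := h.comm i j hij x hx e he
  have h2 := key i j hij x hx e he hx' he'
  have h3 := key j i hij.symm e he x hx he' hx'
  have h4 : x * e * x⁻¹ * e⁻¹ = v j * v i := by
    rcases h.zc_cases hij h1 with h5 | h5 | h5 | h5
    · exact absurd (mul_inv_eq_iff_eq_mul.1 (mul_inv_eq_one.1 h5)) (h.mv hij hx he hx' he')
    · exact absurd (h5 ▸ mem_zpowers (v i)) h2
    · exfalso
      apply h3
      have h6 : e * x * e⁻¹ * x⁻¹ = (x * e * x⁻¹ * e⁻¹)⁻¹ := by group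
      rw [h6, h5]
      exact inv_mem (mem_zpowers _)
    · exact h5
  have h5 : x * e * x⁻¹ = v j * v i * e := mul_inv_eq_iff_eq_mul.1 h4
  have h6 : e * (v j * v i) = v j * v i * e := by
    have k1 : e * v j = v j * e := mem_centralizer_singleton_iff.1 (h.fr.N_le_C i j he)
    have k2 : e * v i = v i * e := mem_centralizer_singleton_iff.1 (h.fr.N_le_C i i he)
    rw [← mul_assoc, k1, mul_assoc, k2, mul_assoc]
  rw [h5, h6]

/-- LEMMA FIX from section 0 of #19487 -/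
theorem fixE (i : Fin 2) : FixE T v i := by
  have hij : i ≠ i + 1 := ne_add_one i
  obtain ⟨x, hx, hxN⟩ := SetLike.not_le_iff_exists.1 (h.ne i (i + 1) hij)
  have hxC := h.fr.N_le_C (i + 1) i hx
  have hxr : ∀ n ∈ NU V v i, n * x * n⁻¹ * x⁻¹ ∈ zpowers (v (i + 1) * v i) := by
    intro n hn
    by_cases hn' : n ∈ centralizer (NU V v (i + 1) : Set G)
    · have h1 := (mem_centralizer_iff.1 hn') x hx
      rw [← h1, mul_inv_cancel_right, mul_inv_cancel]
      exact one_mem _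
    · have h1 := h.comm_eq hij hx hn hxN hn'
      have e : n * x * n⁻¹ * x⁻¹ = n * (x * n * x⁻¹)⁻¹ := by group
      rw [e, h1]
      have h2 : n * (n * (v (i + 1) * v i))⁻¹ = n * (v (i + 1) * v i)⁻¹ * n⁻¹ := by group
      rw [h2]
      have h3 : n * (v (i + 1) * v i)⁻¹ * n⁻¹ = (v (i + 1) * v i)⁻¹ := by
        have k1 : n * v (i + 1) = v (i + 1) * n := mem_centralizer_singleton_iff.1 (h.fr.N_le_C i (i + 1) hn)
        have k2 : n * v i = v i * n := mem_centralizer_singleton_iff.1 (h.fr.N_le_C i i hn)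
        have k3 : Commute n (v (i + 1) * v i) := Commute.mul_right k1 k2
        rw [k3.inv_right.eq, mul_inv_cancel_right]
      rw [h3]
      exact inv_mem (mem_zpowers _)
  rcases h.fr.sec0 i (Or.inr rfl) hxC hxN hxr with ⟨h1, -⟩ | ⟨h1, -⟩
  · exfalso
    apply h.ne i (i + 1) hij
    rw [h1]
    refine comm_symm ((h.fr.H_le_W i).trans ?_)
    exact le_sup_left.trans ((h.fr.WN_comm (i + 1)).trans (centralizer_le (le_sup_right :
      NU V v (i + 1) ≤ WU V v (i + 1) ⊔ NU V v (i + 1))))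
  · intro n hn hT
    refine h1.fixT n hn fun t ht => ?_
    have h2 := hT t ht
    have h3 : n⁻¹ * t * n * t⁻¹ = n⁻¹ * (t * n * t⁻¹ * n⁻¹) * n⁻¹⁻¹ := by group
    rw [h3, cz_comm i (inv_mem ((h.fr.E_le_Q i).trans ((h.fr.Q_le_T i).trans (h.fr.T_le_C i)) hn)) h2]
    exact h2

theorem false : False := by
  refine OneEnd.false_of h.fr (h.comm 0 1 (by decide)) (fun h1 => h.ne 1 0 (by decide) h1) h.fixE

end In0

/-- **(6) (c)**: `[N_0, N_1] ≤ Ω₁Z(T)` implies `[N_0, N_1] = 1`. -/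
theorem comm_of (D : Fr T V P v) (h01 : ∀ x ∈ NU V v 1, ∀ e ∈ NU V v 0, x * e * x⁻¹ * e⁻¹ ∈ zc T) :
    NU V v 0 ≤ centralizer (NU V v 1 : Set G) := by
  by_contra hne
  have h10 : ∀ x ∈ NU V v 0, ∀ e ∈ NU V v 1, x * e * x⁻¹ * e⁻¹ ∈ zc T := by
    intro x hx e he
    have e1 : x * e * x⁻¹ * e⁻¹ = (e * x * e⁻¹ * x⁻¹)⁻¹ := by group
    rw [e1]
    exact inv_mem (h01 e he x hx)
  refine In0.false (T := T) (V := V) (P := P) (v := v) ⟨D, ?_, ?_⟩
  · intro i j hij
    rcases Fin.exists_fin_two.1 ⟨i, rfl⟩ with hi | hi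
    · have hj : j = 1 := by rw [hi] at hij; revert hij; revert j; decide
      rw [hi, hj]; exact h01
    · have hj : j = 0 := by rw [hi] at hij; revert hij; revert j; decide
      rw [hi, hj]; exact h10
  · intro i j hij
    rcases Fin.exists_fin_two.1 ⟨i, rfl⟩ with hi | hi
    · have hj : j = 1 := by rw [hi] at hij; revert hij; revert j; decide
      rw [hi, hj]
      exact fun h1 => hne (comm_symm h1)
    · have hj : j = 0 := by rw [hi] at hij; revert hij; revert j; decide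
      rw [hi, hj]; exact hne

/-- **(6) (c)**: THEOREM I (`E_0 ∩ E_1 ≤ Ω₁Z(T)`) implies `[N_0, N_1] = 1`. -/
theorem d_one (D : Fr T V P v) (h01 : EU T v 0 ⊓ EU T v 1 ≤ zc T) : NU V v 0 ≤ centralizer (NU V v 1 : Set G) := by
  refine comm_of D fun x hx e he => h01 (mem_inf.2 ⟨?_, ?_⟩)
  · have hxC := D.N_le_C 1 0 hx
    have h1 := (mem_normalizer_iff.1 (D.C_le_N_E 0 hxC) e).1 (D.N_le_E 0 he)
    exact mul_mem h1 (inv_mem (D.N_le_E 0 he))
  · have heC := D.N_le_C 0 1 he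
    have h1 := (mem_normalizer_iff.1 (D.C_le_N_E 1 heC) x⁻¹).1 (inv_mem (D.N_le_E 1 hx))
    have e1 : x * e * x⁻¹ * e⁻¹ = x * (e * x⁻¹ * e⁻¹) := by group
    rw [e1]
    exact mul_mem (D.N_le_E 1 hx) h1

end Cfsg.Agent.Omega.TC.R.DOneR

end

-- merged: Cfsg.Agent.Mrg.Omega.TC.RSwap
section

section


/-!
# CARD #18791: THEOREM R with the swap (`RIn`, all stages), from THEOREM KL

* `Fr.peelG` : THEOREM G in the form of `Peel`, from `ThmG V v`;
* `Fr.inter_g` : `E_0 ∩ E_1 ≤ Ω₁Z(T)`; **`Fr.one_g`** : `[N_0, N_1] ≠ 1` (any stage; `ThmG`, PEELING, THEOREM PC);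
* **`Fr.false_swap`** : MLK, THEOREM KL, swap and `HU` are a contradiction (no `VBang`, no hypothesis on `V i ≤ N_i`);
* `Fr.false_offK` : the same with `OffK` for `HU`; **`rIn_kl`**, **`eFr_kl : MLK → NoInp → EFr K`**.
-/

set_option autoImplicit false
set_option linter.unusedSectionVars false

namespace Cfsg.Agent.Omega.TC

open Subgroup Cfsg Cfsg.Agent.ZN Cfsg.Agent.Omega.MinPar
open Cfsg.Agent.Omega.OM.KTwo (CC QQ WU NU EU FF ne_add_one eq_add_one add_one_add_one le_normalizer_V le_V)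
open Cfsg.Agent.Omega.NoFF.Basic (conj_conj mem_conj conj_le_iff conj_le_centralizer comm_symm comm_mono
  Z_le_V V_le conj_V_mul)
open Cfsg.Agent.Omega.OM
open Cfsg.Agent.Omega.NO3S.EThree.ExactA (NoP eab_iff)
open scoped Pointwise commutatorElement

universe u

variable {G : Type u} [Group G]

namespace Fr

variable [Finite G] {T : Subgroup G} {V P : Fin 2 → Subgroup G} {v : Fin 2 → G} (D : Fr T V P v)

include D

/-- THEOREM G in the form of `Peel` -/
theorem peelG {s : G} (w : Sw V v s) (hG : ThmG V v) : PG.Peel.ThmG (ZZ v) (PG.Peel.XW (ZZ v) V) := by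
  rintro _ ⟨k, rfl⟩ g hg h
  rw [PG.HH_conj, mem_conj, D.HH_eq] at hg
  rw [PG.NN_conj, D.NN_eq w] at h ⊢
  rw [PG.Peel.XW_conj, D.XW_eq w] at h
  have h1 : k⁻¹ * g * k ∈ centralizer (NU V v 0 : Set G) := by
    refine hG 0 _ hg fun x hx => ?_
    have h2 : k * x * k⁻¹ ∈ MulAut.conj k • (NU V v 0 ⊔ WU V v 0) := by
      rw [mem_conj]
      have e : k⁻¹ * (k * x * k⁻¹) * k = x := by group
      rw [e, sup_comm]
      exact hx
    have h3 := h _ h2
    rw [mem_conj] at h3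
    have e : k⁻¹ * (k * x * k⁻¹ * g * (k * x * k⁻¹)⁻¹ * g⁻¹) * k =
        x * (k⁻¹ * g * k) * x⁻¹ * (k⁻¹ * g * k)⁻¹ := by group
    rwa [e] at h3
  refine mem_centralizer_iff.2 fun y hy => ?_
  have hy' : y ∈ MulAut.conj k • NU V v 0 := hy
  rw [mem_conj] at hy'
  have h4 := mem_centralizer_iff.1 h1 _ hy'
  calc y * g = k * ((k⁻¹ * y * k) * (k⁻¹ * g * k)) * k⁻¹ := by group
    _ = k * ((k⁻¹ * g * k) * (k⁻¹ * y * k)) * k⁻¹ := by rw [h4]
    _ = g * y := by group

/-- `E_0 ∩ E_1 ≤ Ω₁Z(T)` -/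
theorem inter_g (hML : ML.Final.MLK.{u, u}) (hK : IsKProper G) (hs : Swap T V v) (hG : ThmG V v) :
    EU T v 0 ⊓ EU T v 1 ≤ zc T :=
  D.thmI hML (fun i => hK _ (D.CC_ne_top i)) (Qs := o2 (centralizer (zc T : Set G)))
    (MinSimple.VModule.le_normalizer_o2 _) le_rfl (fun i => (D.E_le_Q i).trans (D.Q_le_o2D i)) fun i =>
    D.exists_mv hs (D.noD hML hK) hG i

/-- **`[N_0, N_1] ≠ 1`** -/
theorem one_g (hML : ML.Final.MLK.{u, u}) (hK : IsKProper G) (hs : Swap T V v) (hG' : ThmG V v) :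
    ¬ NU V v 0 ≤ centralizer (NU V v 1 : Set G) := by
  intro hcom
  obtain ⟨s, w⟩ := Sw.of_swap hs
  have h01 : (0 : Fin 2) ≠ 1 := by decide
  have hG : PG.Peel.ThmG (ZZ v) (PG.Peel.XW (ZZ v) V) := D.peelG w hG'
  have hI : NU V v 0 ⊓ NU V v 1 ≤ zc T :=
    (inf_le_inf (D.N_le_E 0) (D.N_le_E 1)).trans (D.inter_g hML hK hs hG')
  have PP' := D.pp w
  have hpt0 : PG.IsPt (ZZ v) (ZZ v 0) := ⟨1, by rw [map_one, one_smul]⟩
  obtain ⟨d, a, b, hd, hc⟩ := D.far hML hK w hG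
  have hd' : d = 0 ∨ d = 1 := by omega
  rcases hd' with rfl | rfl
  · -- distance 1
    have hc' : PG.CX (ZZ v) (PG.Peel.XW (ZZ v) V) 0 (ZZ v 0) (ZZ v 1) := by
      have h0 := hc.pth
      have hne := hc.ne
      cases h0 with
      | @succ _ _ u _ h1 h2 =>
        cases h1 with
        | zero h3 =>
          obtain ⟨k, rfl, rfl⟩ := h2
          refine ⟨PG.PP.pth_one ⟨1, by rw [map_one, one_smul], by rw [map_one, one_smul]⟩, fun h4 => hne ?_, hc.com⟩
          rw [PG.Peel.XW_conj, PG.Peel.XW_conj]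
          exact conj_le_centralizer h4
    obtain ⟨-, x, hx, y, hy, hxy, -⟩ := D.red hML hK w hG hc'
    rw [D.XW_eq w] at hx
    rw [D.NN_eq w, D.NN_eq w] at hy
    have hW : WU V v 0 ≤ centralizer (NU V v 1 : Set G) := by
      refine D.pcF (fun k => ?_) 0
      refine le_trans (le_inf (D.N_le_O k) ?_) (D.f3 (k + 1))
      have h0 : k = 0 ∨ k = 1 := by clear * -; revert k; decide
      rcases h0 with rfl | rfl
      · exact hcom
      · exact comm_symm hcom
    have h1 : NU V v 0 ⊔ WU V v 0 ≤ centralizer ({y} : Set G) := by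
      refine sup_le (fun n hn => ?_) fun n hn => ?_
      · rw [mem_centralizer_singleton_iff]; exact mem_centralizer_iff.1 hy.2 n hn
      · rw [mem_centralizer_singleton_iff]; exact (mem_centralizer_iff.1 (hW hn) y hy.1).symm
    exact hxy (commutatorElement_eq_one_iff_mul_comm.2 (mem_centralizer_singleton_iff.1 (h1 hx)))
  · -- distance 2
    have h1 := (D.red hML hK w hG hc).1
    have h2 := hc.pth
    have hne := hc.ne
    have hab : a ≠ b := by
      rintro rfl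
      exact hne (eab_iff.1 ((D.xf w).eab a (PG.PP.pth_pt h2))).1
    cases h2 with
    | @succ _ _ u _ h3 h4 =>
      cases h3 with
      | @succ _ _ t _ h5 h6 =>
        cases h5 with
        | zero h7 =>
          have hau : a ≠ u := by
            rintro rfl
            obtain ⟨k, e1, e2⟩ := h6
            have e3 : ZZ v 0 = ZZ v 1 := smul_left_cancel _ (e1.symm.trans e2)
            have e4 : v 0 ∈ ZZ v 1 := e3 ▸ mem_zpowers _
            rcases D.mem_ZZ.1 e4 with e | e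
            · exact D.ne 0 e
            · exact D.v_ne h01 e
          have h8 : a ≤ PG.NN (ZZ v) u ⊓ PG.NN (ZZ v) b := le_inf (PP'.adj_symm h6).le_NN h1
          obtain ⟨k, rfl, rfl⟩ := h4
          rw [PG.NN_conj, PG.NN_conj, ← Subgroup.smul_inf, D.NN_eq w, D.NN_eq w] at h8
          obtain ⟨g, rfl⟩ := h7
          have hx : g * v 0 * g⁻¹ ∈ MulAut.conj g • ZZ v 0 := ⟨v 0, mem_zpowers _, rfl⟩
          have h9 : k⁻¹ * (g * v 0 * g⁻¹) * k ∈ zc T := hI (mem_conj.1 (h8 hx))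
          have hkey : ∀ j : Fin 2, k⁻¹ * (g * v 0 * g⁻¹) * k = v j → MulAut.conj g • ZZ v 0 = MulAut.conj k • ZZ v j := by
            intro j e
            have e1 : (k⁻¹ * g) * v 0 * (k⁻¹ * g)⁻¹ = v j := by rw [← e]; group
            have e2 := conj_ZZ e1
            rw [← e2, conj_conj, mul_inv_cancel_left]
          rcases (D.zT _).1 h9 with e | e | e | e
          · have e1 : g * v 0 * g⁻¹ = 1 := by
              calc g * v 0 * g⁻¹ = k * (k⁻¹ * (g * v 0 * g⁻¹) * k) * k⁻¹ := by group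
                _ = 1 := by rw [e]; group
            exact D.ne 0 (conj_eq_one_iff.1 e1)
          · exact hau (hkey 0 e)
          · exact hab (hkey 1 e)
          · refine D.not_pt hs (g := k⁻¹ * g) ?_
            rw [← e]; group

/-- **(E), `k = 2 = q`, with the swap, is impossible** (THEOREM KL; any stage) -/
theorem false_swap (hML : ML.Final.MLK.{u, u}) (hKL : KL.Quo.NoInp.{u, u}) (hK : IsKProper G) (hs : Swap T V v)
    (hU : KL.EndR.HU T V v) : False := by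
  have hG : ThmG V v := KL.EndR.thmG D hML hKL (kC_of D hK) hU
  exact D.one_g hML hK hs hG (R.DOneR.d_one D (D.inter_g hML hK hs hG))

/-- the same with `OffK` -/
theorem false_offK (hML : ML.Final.MLK.{u, u}) (hKL : KL.Quo.NoInp.{u, u}) (hK : IsKProper G) (hs : Swap T V v)
    {K : Subgroup G} (hO : OffK T V K) : False :=
  D.false_swap hML hKL hK hs fun _ _ hR hRi hRj => OffK.hU D hO (ne_add_one _) hR hRi hRj

end Fr

/-- **THEOREM R with the swap, all stages.** -/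
theorem rIn_kl (hML : ML.Final.MLK.{u, u}) (hKL : KL.Quo.NoInp.{u, u}) : RIn.{u} :=
  fun _ _ _ hK _ _ _ _ D _ hs _ hO _ => D.false_offK hML hKL hK hs hO

/-- **`EFr K` from THEOREM KL** -/
theorem eFr_kl {K : Cfsg.Agent.Omega.Frame.Cls.{u}} (hML : ML.Final.MLK.{u, u}) (hKL : KL.Quo.NoInp.{u, u}) :
    OfMul.EFr K :=
  eFr_of_kl hML hKL (rIn_kl hML hKL)

end Cfsg.Agent.Omega.TC

end

section


/-!
# CARD #18791 over the general frame `MulG` (`HypL` and the case (L) of GammaFF)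

* `exists_BO_top`, **`offK_of_top`** : `OffK` over a weakly closed level `K₀` (`Top S P K₀`);
* **`false_of_uni`** : (E), `k = 2 = q`, over `MulG` with the field `uni` and the nonlocal case only; `nonloc_of_gen`;
* **`eEndTwo_kl : MLK → NoInp → MulC.EEndTwo K`** : the end of (E), `k = 2 = q`, over `MulG`, UNI+ and block generation.
-/

set_option autoImplicit false
set_option linter.unusedSectionVars false

namespace Cfsg.Agent.Omega.TC.LevTop

open Subgroup Cfsg Cfsg.Agent.ZN Cfsg.Agent.PLocal.ThompsonJ Cfsg.Agent.PLocal.ElemAbSup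
open Cfsg.Agent.Omega.MinPar
open Cfsg.Agent.Omega.OM.KTwo (CC QQ WU NU EU FF ne_add_one eq_add_one add_one_add_one le_normalizer_V le_V)
open Cfsg.Agent.ZN.ChoiceSit (Syl o2_le_syl syl_not_dvd)
open Cfsg.Agent.Omega.FFThm (OffM ElemM)
open Cfsg.Agent.Omega.NO1.BestOff (Best)
open Cfsg.Agent.MinSimple.MinParabolic (IsMinPar)
open Phi FixEL
open scoped Pointwise

universe u

section mul

open Cfsg.Agent.Omega.OM
open Cfsg.Agent.Omega.Node.MultiOf
open Cfsg.Agent.Omega.NO3S.Level (lev nxt BO Lev)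

variable {G : Type u} [Group G] [Finite G] {S : Sylow 2 G} {P' K B ZJ : Subgroup G}
  {L W Z C R : Fin 2 → Subgroup G} {v : Fin 2 → G}

/-- a best offender over `K₀` outside `O₂(P)` -/
theorem exists_BO_top (hG : IsCharacteristicTwoType G) (hP : IsParS (S : Subgroup G) P') {K₀ : Subgroup G}
    (hl : Lev (S : Subgroup G) K₀) (h1 : K₀ ≤ o2 P') (h2 : ¬ nxt (S : Subgroup G) K₀ ≤ o2 P') :
    ∃ A ∈ BO (S : Subgroup G) K₀, ¬ A ≤ o2 P' := by
  by_contra hcon
  push Not at hcon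
  apply h2
  refine sup_le ?_ (sSup_le hcon)
  have h3 : zl (S : Subgroup G) P' ≤ zc K₀ :=
    (hP.isLoc.zl_le S hG).trans (hl.zc_o2_le h1 (hP.isLoc.o2_le S))
  have h4 := IsParS.inf_centralizer S hG hP
  rw [← h4]
  exact inf_le_inf_left _ (centralizer_le h3)

/-- **`OffK` over a weakly closed level `K₀`** -/
theorem offK_of_top (hF : Fr ((S : Subgroup G) ⊓ normalizer (Z 0 : Set G)) W R v)
    (D : KTwo.Sit S P' ((S : Subgroup G) ⊓ normalizer (Z 0 : Set G)) W v) {K₀ : Subgroup G}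
    (hlev : Lev (S : Subgroup G) K₀) (hn : K₀ ≤ o2 P') (hn1 : ¬ nxt (S : Subgroup G) K₀ ≤ o2 P')
    (hT : nxt (S : Subgroup G) K₀ ≤ (S : Subgroup G) ⊓ normalizer (Z 0 : Set G)) :
    OffK ((S : Subgroup G) ⊓ normalizer (Z 0 : Set G)) W (K₀) := by
  set T := (S : Subgroup G) ⊓ normalizer (Z 0 : Set G) with hTdef
  have hOO := OO_eq D
  have hTS : T ≤ (S : Subgroup G) := inf_le_left
  have hKO : K₀ ≤ OO T W := by rw [hOO]; exact hn
  have hOOS : OO T W ≤ (S : Subgroup G) := fun x hx => hTS (mem_OO.1 hx).1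
  set X := zc (K₀) with hX
  have hVX : ∀ i, W i ≤ X := by
    intro i x hx
    have h1 : x ∈ zc (OO T W) := mem_zc.2 ⟨V_le_OO hF i hx, fun o ho => OO_comm hF ho (V_le_sup W i hx), hF.sqV i x hx⟩
    exact hlev.zc_le_zc hKO hOOS h1
  have hXc : ∀ x ∈ X, ∀ y ∈ X, x * y = y * x := fun x hx y hy => NO3S.Level.Lev.zc_comm hx hy
  -- a best offender which moves `W 0 W 1`
  obtain ⟨A, hA, hAQ⟩ := exists_BO_top D.hyp.ctx.char2 D.hyp.star hlev hn hn1
  have hAT : A ≤ T := (NO3S.Level.BO.le_nxt hA).trans hT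
  have hAX : Best X A := hA.2
  -- the family of best offenders in `T` on `X`
  have key : ∃ i j : Fin 2, i ≠ j ∧ ∃ A' ≤ T, A' ≤ centralizer (W j : Set G) ∧ ¬ A' ≤ centralizer (W i : Set G) ∧
      Best X A' := by
    have h01 : (0 : Fin 2) ≠ 1 := by decide
    by_cases h1 : A ≤ centralizer (W 1 : Set G)
    · refine ⟨0, 1, h01, A, hAT, h1, fun h0 => hAQ ?_, hAX⟩
      rw [← hOO]
      exact fun a ha => (mem_OO' h01).2 ⟨hAT ha, h0 ha, h1 ha⟩
    by_cases h0 : A ≤ centralizer (W 0 : Set G)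
    · exact ⟨1, 0, h01.symm, A, hAT, h0, h1, hAX⟩
    -- `A` moves both
    obtain ⟨τ, hτ, hτ1⟩ := SetLike.not_le_iff_exists.1 h1
    have hτo : τ ∉ o2 (R 1) := fun hh => hτ1 (by rw [o2_P hF] at hh; exact hh.2)
    have hA2 : Nat.card A ≤ 2 * Nat.card ↥(A ⊓ centralizer (W 1 : Set G)) := by
      refine LevFix.le_two_mul hτ inf_le_left fun a ha => ?_
      by_cases hao : a ∈ o2 (R 1)
      · rw [o2_P hF] at hao
        exact Or.inl ⟨ha, hao.2⟩
      · have h2 := mul_mem_o2 hF (hAT hτ) hτo (hAT ha) hao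
        rw [o2_P hF] at h2
        exact Or.inr ⟨mul_mem hτ ha, h2.2⟩
    have hb := best_inf hAX (hVX 1) hXc hA2 h1
    refine ⟨0, 1, h01, A ⊓ centralizer (W 1 : Set G), inf_le_left.trans hAT, inf_le_right, fun hcon => ?_, hb⟩
    -- otherwise `A` induces on `W 0 W 1` a group of order 2, `|W 0 W 1 : C(A)| = 4`
    have hoff := hAX.offM (W := W 0 ⊔ W 1) (sup_le (hVX 0) (hVX 1))
      (fun hh => h1 (hh.trans (centralizer_le (V_le_sup W 1))))
    have hle := hoff.le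
    have hcC : Nat.card ↥(A ⊓ centralizer (W 1 : Set G)) ≤
        Nat.card ↥(A ⊓ centralizer ((W 0 ⊔ W 1 : Subgroup G) : Set G)) := by
      refine Subgroup.card_le_of_le (le_inf inf_le_left fun a ha => ?_)
      have hc0 := hcon ha
      have h2 : W 0 ⊔ W 1 ≤ centralizer ({a} : Set G) := by
        refine sup_le ?_ ?_
        · exact fun y hy => mem_centralizer_singleton_iff.2 (mem_centralizer_iff.1 hc0 y hy)
        · exact fun y hy => mem_centralizer_singleton_iff.2 (mem_centralizer_iff.1 ha.2 y hy)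
      exact mem_centralizer_iff.2 fun y hy => mem_centralizer_singleton_iff.1 (h2 hy)
    have hfix : Nat.card ↥((W 0 ⊔ W 1) ⊓ centralizer (A : Set G)) ≤ 4 := by
      refine (Subgroup.card_le_of_le ?_).trans (card_zc_le hF)
      rintro x ⟨hx, hxA⟩
      obtain ⟨a, ha, b, hb', rfl⟩ := FixEL.mem_sup hF hx
      obtain ⟨σ, hσ, hσ0⟩ := SetLike.not_le_iff_exists.1 h0
      -- an element moving both
      have hσ1 : σ ∉ centralizer (W 1 : Set G) := fun hh => hσ0 (hcon ⟨hσ, hh⟩)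
      have h4 : σ * (a * b) * σ⁻¹ = a * b := by
        have := mem_centralizer_iff.1 hxA σ hσ
        rw [this, mul_inv_cancel_right]
      have h5 : σ * a * σ⁻¹ ∈ W 0 := (mem_normalizer_iff.1 (hF.T_le_N 0 (hAT hσ)) a).1 ha
      have h6 : σ * b * σ⁻¹ ∈ W 1 := (mem_normalizer_iff.1 (hF.T_le_N 1 (hAT hσ)) b).1 hb'
      have h7 : a⁻¹ * (σ * a * σ⁻¹) = b * (σ * b * σ⁻¹)⁻¹ := by
        have e : σ * (a * b) * σ⁻¹ = (σ * a * σ⁻¹) * (σ * b * σ⁻¹) := by group
        rw [e] at h4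
        calc a⁻¹ * (σ * a * σ⁻¹) = a⁻¹ * ((σ * a * σ⁻¹) * (σ * b * σ⁻¹)) * (σ * b * σ⁻¹)⁻¹ := by group
          _ = b * (σ * b * σ⁻¹)⁻¹ := by rw [h4]; group
      have h8 : a⁻¹ * (σ * a * σ⁻¹) ∈ W 0 ⊓ W 1 :=
        mem_inf.2 ⟨mul_mem (inv_mem ha) h5, by rw [h7]; exact mul_mem hb' (inv_mem h6)⟩
      rw [FixEL.V_inf hF h01, mem_bot] at h8
      have h9 : σ * a * σ⁻¹ = a := by rw [inv_mul_eq_one] at h8; exact h8.symm
      have h10 : σ * b * σ⁻¹ = b := by
        rw [h8, eq_comm, mul_inv_eq_one] at h7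
        exact h7.symm
      refine mul_mem ?_ ?_
      · rcases FixEL.eq_of_fix hF (hAT hσ) hσ0 ha h9 with h | h
        · rw [h]; exact one_mem _
        · rw [h]; exact hF.v_mem_zc 0
      · rcases FixEL.eq_of_fix hF (hAT hσ) hσ1 hb' h10 with h | h
        · rw [h]; exact one_mem _
        · rw [h]; exact hF.v_mem_zc 1
    rw [FixEL.card_V_sup hF h01] at hle
    have hpos : 0 < Nat.card ↥(A ⊓ centralizer ((W 0 ⊔ W 1 : Subgroup G) : Set G)) := Nat.card_pos
    have h11 : Nat.card A * Nat.card ↥((W 0 ⊔ W 1) ⊓ centralizer (A : Set G)) ≤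
        (2 * Nat.card ↥(A ⊓ centralizer ((W 0 ⊔ W 1 : Subgroup G) : Set G))) * 4 :=
      Nat.mul_le_mul (hA2.trans (Nat.mul_le_mul_left _ hcC)) hfix
    omega
  -- the swap
  have all : ∀ i j : Fin 2, i ≠ j → ∃ A' ≤ T, A' ≤ centralizer (W j : Set G) ∧ ¬ A' ≤ centralizer (W i : Set G) ∧
      Best X A' := by
    obtain ⟨i₀, j₀, hij₀, A', hA'T, hA'j, hA'i, hA'b⟩ := key
    intro i j hij
    by_cases hi : i = i₀
    · have hj : j = j₀ := by rw [eq_add_one hij, hi, ← eq_add_one hij₀]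
      rw [hi, hj]
      exact ⟨A', hA'T, hA'j, hA'i, hA'b⟩
    · have hi' : i = j₀ := by
        have := eq_add_one (i := i₀) (j := i) (Ne.symm hi)
        rw [this, ← eq_add_one hij₀]
      have hj' : j = i₀ := by
        have h1 := eq_add_one hij
        rw [hi'] at h1
        have h2 := eq_add_one hij₀.symm
        rw [h1, ← h2]
      obtain ⟨s, hs, -, hsw⟩ := D.swap
      have hsT : MulAut.conj s • T = T := by
        refine Subgroup.eq_of_le_of_card_ge ?_ (ZN.ChoiceBase.card_cj s T).ge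
        rintro _ ⟨t, ht, rfl⟩
        change s * t * s⁻¹ ∈ T
        have h2 : t ∈ (S : Subgroup G) ⊓ normalizer (W 0 : Set G) := by
          have h1 : t ∈ T := ht
          rwa [D.T_eq 0] at h1
        rw [D.T_eq 1]
        refine mem_inf.2 ⟨mul_mem (mul_mem hs h2.1) (inv_mem hs), ?_⟩
        have h3 : t ∈ normalizer (W 0 : Set G) := h2.2
        rw [ZN.ChoiceBase.mem_normalizer_iff_cj] at h3 ⊢
        have e : ∀ (g : G) (Y : Subgroup G), ZN.ChoiceBase.cj g Y = MulAut.conj g • Y := fun g Y => rfl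
        rw [e] at h3 ⊢
        rw [← (hsw 0 1 (by decide)).1, ← mul_smul, ← map_mul]
        have e2 : s * t * s⁻¹ * s = s * t := by group
        rw [e2, map_mul, mul_smul, h3]
      have hsK : s ∈ normalizer (K₀ : Set G) := hlev.S_norm hs
      have hsX : s ∈ normalizer (X : Set G) := NO3S.Level.normalizer_le_zc _ hsK
      have cc : ∀ (Y Y' : Subgroup G), Y ≤ centralizer (Y' : Set G) ↔
          MulAut.conj s • Y ≤ centralizer ((MulAut.conj s • Y' : Subgroup G) : Set G) := by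
        intro Y Y'
        have e : MulAut.conj s • centralizer (Y' : Set G) = centralizer ((MulAut.conj s • Y' : Subgroup G) : Set G) :=
          ZN.ChoiceBase.cj_centralizer s _
        rw [← e, NoFF.Basic.conj_le_iff]
      refine ⟨MulAut.conj s • A', ?_, ?_, ?_, hA'b.conj_smul hsX⟩
      · rw [← hsT]; exact NoFF.Basic.conj_le_iff.2 hA'T
      · rw [hj', ← (hsw j₀ i₀ hij₀.symm).1]
        exact (cc _ _).1 hA'j
      · rw [hi', ← (hsw i₀ j₀ hij₀).1]
        exact fun hh => hA'i ((cc _ _).2 hh)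
  refine ⟨hKO, fun H h1 h2 => hlev.le_norm_of_o2 (hKO.trans h1) (h2.trans hTS), fun i j hij => ?_⟩
  obtain ⟨A', h1, h2, h3, h4⟩ := all i j hij
  refine ⟨A', h1, h2, h3, fun F hFO hFK hVF hFc hFs _ => h4.offM ?_ fun hh =>
    h3 (hh.trans (centralizer_le ((V_le_sup W i).trans hVF)))⟩
  -- `F ≤ X`
  intro x hx
  refine hlev.mem_of_comm (hOOS (hFO hx)) (by rw [pow_two]; exact hFs x hx) fun y hy => ?_
  exact (mem_centralizer_iff.1 (hFK hx) y hy)

end mul

section plug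

open Cfsg.Agent.Omega.Node.MulG Cfsg.Agent.Omega.Node.MulC Cfsg.Agent.Omega.Node.MultiOf
open Cfsg.Agent.Omega.Frame (Cls)
open Cfsg.Agent.Omega.OM
open Cfsg.Agent.Omega.NO3S

/-- **(E), `k = 2 = q`, over `MulG`**: the only inputs are the field `uni` and the nonlocal case. -/
theorem false_of_uni {G : Type u} [Group G] [Finite G] {S : Sylow 2 G} {P K' B ZJ : Subgroup G}
    {L W Z C : Fin 2 → Subgroup G} (hML : ML.Final.MLK.{u, u}) (hKL : KL.Quo.NoInp.{u, u})
    (hM : MulG S P K' B ZJ L W Z C 2)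
    (uni : ∀ i j, i ≠ j → ∀ R : Subgroup G, IsMinPar ((S : Subgroup G) ⊓ normalizer (Z 0 : Set G)) R →
      R ≤ normalizer (Z j : Set G) → ¬ R ≤ normalizer (Z i : Set G) → R ≤ normalizer (W i : Set G))
    (nonloc : NonLoc (normalizer (Z 0 : Set G)) (normalizer (Z 1 : Set G))) : False := by
  obtain ⟨v, R, hv, hD, hF⟩ := OfBg.exists_fr hM.bg uni nonloc
  have hK : IsKProper G := hM.hyp.ctx.kproper
  have hKT : K' ≤ (S : Subgroup G) ⊓ normalizer (Z 0 : Set G) :=
    hM.lb.KB.trans (le_inf hM.lb.BS ((hM.lb.Bc.trans (centralizer_le (hM.bg.fr.Z_le 0))).trans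
      (centralizer_le_normalizer _)))
  have hO : ∃ K₀, OffK ((S : Subgroup G) ⊓ normalizer (Z 0 : Set G)) W K₀ := by
    cases hM.stg with
    | neg hj => exact ⟨_, offK_of_hJ hF (hJ_of hD hF hKT hj)⟩
    | lev K₀ h => exact ⟨_, offK_of_top hF hD h.lev h.le h.nxt hKT⟩
  obtain ⟨K₀, hO⟩ := hO
  exact hF.false_offK hML hKL hK (swap_of hD) hO

/-- The nonlocal case from `⟨C_G(Z_J), L_0, L_1⟩`. -/
theorem nonloc_of_gen {G : Type u} [Group G] [Finite G] {S : Sylow 2 G} {P B ZJ : Subgroup G}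
    {L W Z C : Fin 2 → Subgroup G} (h : EThree.Frame.Bg S P B ZJ L W Z C 2)
    (hE : NLoc (centralizer (ZJ : Set G) ⊔ ⨆ i, L i)) :
    NonLoc (normalizer (Z 0 : Set G)) (normalizer (Z 1 : Set G)) := by
  have hL : ∀ i, L i ≤ normalizer (Z 0 : Set G) ∨ L i ≤ normalizer (Z 1 : Set G) := by
    intro i
    have h2 : ∀ a : Fin 2, a = 0 ∨ a = 1 := by decide
    rcases h2 i with rfl | rfl
    · exact Or.inr (h.L_norm (i := 1) (j := 0) (by decide))
    · exact Or.inl (h.L_norm (i := 0) (j := 1) (by decide))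
  have hc : centralizer (ZJ : Set G) ≤ normalizer (Z 0 : Set G) :=
    (centralizer_le (h.fr.Z_le 0)).trans (centralizer_le_normalizer _)
  intro U hU h0 h1
  refine hE U hU (sup_le (hc.trans h0) (iSup_le fun i => ?_))
  rcases hL i with h3 | h3
  · exact h3.trans h0
  · exact h3.trans h1

/-- **The end of (E), `k = 2 = q`, over `MulG`.** -/
theorem eEndTwo_kl {K : Cls.{u}} (hML : ML.Final.MLK.{u, u}) (hKL : KL.Quo.NoInp.{u, u}) : EEndTwo K := by
  intro G _ _ _ S P K' B ZJ L W Z C hM hN hu hb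
  exfalso
  obtain ⟨v, R, hv, hD, hF⟩ := OfMul.exists_fr hM.bg hM.lb hu hb hN
  have hK : IsKProper G := hM.hyp.ctx.kproper
  have hKT : K' ≤ (S : Subgroup G) ⊓ normalizer (Z 0 : Set G) :=
    hM.lb.KB.trans (le_inf hM.lb.BS ((hM.lb.Bc.trans (centralizer_le (hM.bg.fr.Z_le 0))).trans
      (centralizer_le_normalizer _)))
  have hO : ∃ K₀, OffK ((S : Subgroup G) ⊓ normalizer (Z 0 : Set G)) W K₀ := by
    cases hM.stg with
    | neg hj => exact ⟨_, offK_of_hJ hF (hJ_of hD hF hKT hj)⟩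
    | lev K₀ h => exact ⟨_, offK_of_top hF hD h.lev h.le h.nxt hKT⟩
  obtain ⟨K₀, hO⟩ := hO
  exact hF.false_offK hML hKL hK (swap_of hD) hO

end plug

end Cfsg.Agent.Omega.TC.LevTop

end

end

-- merged: Cfsg.Agent.Mrg.Omega.Node.MulXTwo
section

/-!
# The case (L) of GammaFF, case (E), `k = 2 = q`, over `MulX.MulL`

* `NoW K` : no weird minimal parabolic `Y` over `B` centralises all `Z l`, `l ≠ j`, and moves `Z_J` (`q = 2`, any `k ≥ 2`);
* `exists_fbx` : a minimal parabolic `R` over `T ≥ B` with `O₂(P) ≤ O₂(R)`, `nxt S (O₂(P)) ≰ O₂(R)`, which moves `Ω₁(Z(T))`, is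
  generated by `T` and an FF-block over `B` with module in `V_P`;
* `uni_of_noW` : the field `uni` of `TC.Fr`;
* **`eX_two : MLK → NoInp → NoW K → EX K (k = 2 ∧ q = 2)`**.
-/

set_option autoImplicit false
set_option linter.unusedSectionVars false

namespace Cfsg.Agent.Omega.Node.MulXTwo

open Subgroup Cfsg Cfsg.Agent.ZN.ChoiceBase
open Cfsg.Agent.ZN.ChoiceSit (Syl o2_le_syl)
open Cfsg.Agent.ZN (jj zj bau zc zl o2)
open Cfsg.Agent.MinSimple.MinParabolic (IsMinPar)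
open Cfsg.Agent.MinSimple.VModule (le_normalizer_o2 o2_isPGroup le_o2 o2_le mem_zc)
open Cfsg.Agent.PLocal.ThompsonJ (isElementaryAbelian_iff)
open Cfsg.Agent.Omega.MinPar (NonLoc)
open Cfsg.Agent.Omega.NO3S.Level (lev nxt Lev BO CaseL)
open Cfsg.Agent.Omega.Frame (Cls)
open Cfsg.Agent.Omega.OM
open Cfsg.Agent.Omega.OM.Uni (FB)
open Cfsg.Agent.Omega.Node.MultiOf Cfsg.Agent.Omega.Node.MulG Cfsg.Agent.Omega.Node.MulX
open Cfsg.Agent.Omega.TC

universe u

/-- **No weird `Y ≤ C_G(Z_l : l ≠ j)`**, `q = 2`. -/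
def NoW (K : Cls.{u}) : Prop :=
  ∀ (G : Type u) [Group G] [Finite G], K G → ∀ (S : Sylow 2 G) (P B ZJ : Subgroup G) (k : ℕ)
    (L W Z C A : Fin k → Subgroup G), 2 ≤ k → MulL S P B ZJ L W Z C A 2 →
      NLoc (KX B ZJ (zl (S : Subgroup G) P)) → ∀ (j : Fin k) (Y : Subgroup G), IsMinPar B Y → Syl B Y →
        Y ⊓ centralizer (o2 Y : Set G) ≤ o2 Y → (∀ l, l ≠ j → Y ≤ centralizer (Z l : Set G)) → ¬ o2 P ≤ o2 Y →
          Y ≤ centralizer (ZJ : Set G)

section

variable {G : Type u} [Group G] [Finite G] {S : Sylow 2 G} {P B ZJ : Subgroup G} {k : ℕ}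
  {L W Z C A : Fin k → Subgroup G} {q : ℕ}

/-- a block `(L', V')` over `B` with `V' ≤ V_P` and `H = ⟨T, L'⟩` -/
theorem exists_fbx (h : MulL S P B ZJ L W Z C A q) {T H : Subgroup G} (hT : Syl T H) (hB : B ≤ T) (hP : IsMinPar T H)
    (hc : H ⊓ centralizer (o2 H : Set G) ≤ o2 H) (hK : o2 P ≤ o2 H)
    (hn : ¬ nxt (S : Subgroup G) (o2 P) ≤ o2 H) (hZ : ¬ H ≤ centralizer (zc T : Set G)) :
    ∃ L' V' : Subgroup G, L' ≤ H ∧ FBX B (zl (S : Subgroup G) P) L' V' ∧ H ≤ T ⊔ L' := by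
  have hwl : SwapK.WL S (o2 P) := SwapK.WL.of_top (top_caseL h.cl)
  have hBK : SwapK.BK (S : Subgroup G) (o2 P) = B := h.eqB.symm
  have hZK : SwapK.ZK (S : Subgroup G) (o2 P) = ZJ := h.eZ.symm
  obtain ⟨L', V', h1, h2, h3⟩ := hwl.exists_fblk hT (by rw [hBK]; exact hB) hP hc hK hn hZ
  have hzB := hwl.zc_B
  rw [hBK] at h2 hzB
  rw [hZK] at hzB
  refine ⟨L', V', h1, ⟨⟨h2.fb, h2.blk⟩, ?_⟩, h3⟩
  obtain ⟨Z', q', hF⟩ := h2.fb
  -- `L' ≤ N(V_P)`
  have hN : H ≤ normalizer (zl (S : Subgroup G) P : Set G) := by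
    have h4 : H ≤ normalizer (o2 P : Set G) := (le_normalizer_o2 H).trans (hwl.norm_T (o2_isPGroup H) hK)
    rw [← h.cl.zc_eq]
    exact h4.trans (NO3S.Level.normalizer_le_zc _)
  have hZ' : Z' ≤ zl (S : Subgroup G) P := by
    refine le_trans ?_ h.fr.ZJV
    intro z hz
    rw [← hzB]
    exact mem_zc.2 ⟨hF.VB (hF.ZV hz), (isElementaryAbelian_iff.1 hF.el).2 z (hF.ZV hz),
      fun y hy => hF.cZ y hy z hz⟩
  obtain ⟨l, hl, hsup⟩ := hF.sup
  have h5 : ⁅V', B⁆ ≤ zl (S : Subgroup G) P := (hF.toMd.comm_le le_rfl).trans hZ'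
  refine hsup.trans (sup_le h5 ?_)
  rw [← cj_eq_of_mem_normalizer (hN (h1 hl))]
  exact cj_mono l h5

end

section two

variable {G : Type u} [Group G] [Finite G] {S : Sylow 2 G} {P B ZJ : Subgroup G}
  {L W Z C A : Fin 2 → Subgroup G}

/-- **The field `uni` of `TC.Fr`.** -/
theorem uni_of_noW (h : MulL S P B ZJ L W Z C A 2)
    (hW : ∀ (j : Fin 2) (Y : Subgroup G), IsMinPar B Y → Syl B Y →
        Y ⊓ centralizer (o2 Y : Set G) ≤ o2 Y → (∀ l, l ≠ j → Y ≤ centralizer (Z l : Set G)) → ¬ o2 P ≤ o2 Y →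
          Y ≤ centralizer (ZJ : Set G)) :
    ∀ i j, i ≠ j → ∀ R : Subgroup G, IsMinPar ((S : Subgroup G) ⊓ normalizer (Z 0 : Set G)) R →
      R ≤ normalizer (Z j : Set G) → ¬ R ≤ normalizer (Z i : Set G) → R ≤ normalizer (W i : Set G) := by
  have hbg := h.bg
  have hlb := h.lb
  obtain ⟨v, hv1, hv, D⟩ := OfBg.exists_sit hbg
  have hN : ∀ i, normalizer (Z i : Set G) = centralizer ({v i} : Set G) := fun i =>
    OfBg.normalizer_eq (hv i) (hv1 i)
  have hTB : (S : Subgroup G) ⊓ normalizer (Z 0 : Set G) = B := UniLev.T_eq hbg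
  intro i j hij R hR hRj hRi
  rw [hTB] at hR D
  have h2' : ∀ a b c : Fin 2, a ≠ b → c ≠ a → c = b := by decide
  have hsyl : Syl B R := by
    have h1 := D.syl j
    rw [← hN j] at h1
    exact ⟨hR.le, h1.2.1, fun Q hQ h2 hle => h1.2.2 Q (hQ.trans hRj) h2 hle⟩
  have hcR : R ⊓ centralizer (o2 R : Set G) ≤ o2 R := by
    have h1 := D.char2 j
    rw [← hN j] at h1
    have h2 : o2 (normalizer (Z j : Set G)) ≤ B := by
      have h3 := D.syl j
      rw [← hN j] at h3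
      exact o2_le_syl h3
    have h4 : o2 (normalizer (Z j : Set G)) ≤ o2 R :=
      le_o2 (h2.trans hR.le) (o2_isPGroup _) (hRj.trans (le_normalizer_o2 _))
    rintro x ⟨hx, hxc⟩
    exact h4 (h1 ⟨hRj hx, centralizer_le (by exact_mod_cast h4) hxc⟩)
  have hvT : ∀ l, v l ∈ zc B := fun l => (D.zT _).2 (by
    have h2 : ∀ a : Fin 2, a = 0 ∨ a = 1 := by decide
    rcases h2 l with rfl | rfl <;> simp)
  have hZJ : ∀ x, x ∈ ZJ ↔ x ∈ zc B := fun x => by rw [D.zT, OfBg.mem_ZJ_iff hbg hv]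
  have hvZJ : ∀ l, v l ∈ ZJ := fun l => (hZJ _).2 (hvT l)
  by_cases hQ : o2 P ≤ o2 R
  · by_cases hKR : nxt (S : Subgroup G) (o2 P) ≤ o2 R
    · -- `R` normalises `ZJ`
      exfalso
      apply hRi
      have h1 : R ≤ normalizer (ZJ : Set G) :=
        (le_normalizer_o2 R).trans (hlb.nrm _ (o2_isPGroup R) hKR)
      rw [hN i]
      intro r hr
      have h2 : r * v i * r⁻¹ ∈ ZJ := (mem_normalizer_iff.1 (h1 hr) _).1 (hvZJ i)
      obtain ⟨l, hl⟩ := hbg.fus (i := i) (g := r) h2 (by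
        have e : r⁻¹ * (r * v i * r⁻¹) * r = v i := by group
        rw [e, hv i]; exact Or.inr rfl)
      rcases (hv l _).1 hl with h3 | h3
      · exact absurd (conj_eq_one_iff.1 h3) (hv1 i)
      · by_cases hli : l = i
        · rw [hli] at h3
          rw [mem_centralizer_singleton_iff]
          exact mul_inv_eq_iff_eq_mul.1 h3
        · exfalso
          rw [h2' i j l hij hli] at h3
          have h4 := hRj hr
          rw [hN j] at h4
          have h5 := mem_centralizer_singleton_iff.1 h4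
          have h6 : v i = v j := by
            have h7 : r * v i = r * v j := by
              rw [h5]
              exact mul_inv_eq_iff_eq_mul.1 h3
            exact mul_left_cancel h7
          have h8 : v i ∈ W i ⊓ W j := ⟨D.mem i, h6 ▸ D.mem j⟩
          rw [D.inf i j hij, mem_bot] at h8
          exact hv1 i h8
    · have hRc : ¬ R ≤ centralizer (zc B : Set G) := fun hc => hRi (by
        rw [hN i]
        exact hc.trans (centralizer_le (Set.singleton_subset_iff.2 (hvT i))))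
      obtain ⟨L', V', h1, hX, h2⟩ := exists_fbx h hsyl le_rfl hR hcR hQ hKR hRc
      obtain ⟨l, rfl, -⟩ := uniTwoX S h.cl.levQ h.cl.zc_eq.symm h.eqB h.fr hX
      obtain ⟨⟨Z', q', hF⟩, -⟩ := hX.1
      have h3 : L' ≤ normalizer (W l : Set G) := fun x hx => by
        rw [mem_normalizer_iff_cj]
        refine Subgroup.eq_of_le_of_card_ge ?_ (by rw [card_cj])
        rintro _ ⟨w, hw, rfl⟩
        exact hF.nV x hx w hw
      have h4 : ¬ L' ≤ normalizer (Z l : Set G) := fun hcon => by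
        obtain ⟨x, hx, hne, -⟩ := hF.exists_mv
        apply hne
        have hZ' : Z' = Z l := by
          ext x
          rw [hF.toMd.mem_Z_iff, (hbg.fr.blk l).toMd.mem_Z_iff]
        rw [hZ']
        exact mem_normalizer_iff_cj.1 (hcon hx)
      have hli : l = i := by
        by_contra hli
        rw [h2' i j l hij hli] at h4
        exact h4 (h1.trans hRj)
      rw [hli] at h3
      refine h2.trans (sup_le ?_ h3)
      rw [D.T_eq i]
      exact inf_le_right
  · exfalso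
    apply hRi
    rw [hN i]
    refine (hW i R hR hsyl hcR (fun l hl => ?_) hQ).trans
      (centralizer_le (Set.singleton_subset_iff.2 (hvZJ i)))
    rw [h2' i j l hij hl]
    intro r hr
    have h4 := hRj hr
    rw [hN j] at h4
    refine mem_centralizer_iff.2 fun x hx => ?_
    rcases (hv j x).1 hx with rfl | rfl
    · simp
    · exact (mem_centralizer_singleton_iff.1 h4).symm

end two

/-- **(E), case (L), `k = 2 = q`.** -/
theorem eX_two {K : Cls.{u}} (hML : ML.Final.MLK.{u, u}) (hKL : KL.Quo.NoInp.{u, u}) (hW : NoW K) :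
    EX K fun k q => k = 2 ∧ q = 2 := by
  rintro G _ _ hK S P B ZJ k L W Z C A q hk ⟨rfl, rfl⟩ h hN
  exfalso
  refine LevTop.false_of_uni hML hKL h.toG (uni_of_noW h fun j Y => hW G hK S P B ZJ 2 L W Z C A hk h hN j Y) ?_
  refine LevTop.nonloc_of_gen h.bg ?_
  rw [← h.KX_eq]
  exact hN

end Cfsg.Agent.Omega.Node.MulXTwo

end
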