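import Cfsg.Agent.Mrg.Omega.NO3S.RedC.Nff
import Cfsg.Agent.Mrg.Omega.NO3b.CTwoFF.End
import Cfsg.Agent.Mrg.Omega.NO3S.RedC.MaxMin
import Cfsg.Agent.Mrg.Omega.NO3S.Fld.LOne
import Cfsg.Agent.Mrg.Omega.NO3S.Fld.LLessA
import Cfsg.Agent.Mrg.Omega.NO3S.Fld.LevEnd
import Cfsg.Agent.Mrg.Omega.Node.SymG
import Cfsg.Agent.Mrg.Omega.Node.NO3SWF
import Cfsg.Agent.Mrg.Omega.NO3S.Sym.Light

-- merged: Cfsg.Agent.Mrg.Omega.NO3S.RedC.Root
section

/-!
# RED in the case (L) (helper284 #23199), (5), first half: bad subgroups exist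

`Rx.exists_bad` : if `⟨Z^GX⟩` is not FF, then `Ω₁(Z(DX))` has a bad subgroup: otherwise `Ω₁(Z(DX)) ≤ O₂(C_G(Z))`, `GX` is
a root of the NotFF frame (`NFRoot`), and `CTwoFF.false_of_nfRoot` applies.
-/

set_option autoImplicit false

namespace Cfsg.Agent.Omega.NO3S.RedC

open Subgroup Cfsg Cfsg.Agent.ZN Cfsg.Agent.ZN.ChoiceBase Cfsg.Agent.Omega.MinPar Cfsg.Agent.Omega.Frame
open Cfsg.Agent.Omega.FrameNOFF (CZ)

open Cfsg.Agent.Omega.NOThreeL.MergeNF (NFRoot)
open Cfsg.Agent.Omega.NO3S.Level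
open Cfsg.Agent.Omega.NO3S.Fld (Crd)

universe u

variable {G : Type u} [Group G] [Finite G] {S : Sylow 2 G} {P X : Subgroup G} {F : Type*} [Field F]

namespace Rx

variable {M : Crd F (S : Subgroup G) P (zl (S : Subgroup G) P)} (h : Rx S P X M)
include h

theorem zc_ne : zc (S : Subgroup G) ≠ ⊥ := MinSimple.Basic.zc_ne_bot S.isPGroup' (h.cl.ctx.sylow_ne_bot S)

theorem DX_ne : DX (S : Subgroup G) P X ≠ ⊥ := by
  intro h1
  apply h.zc_ne
  have h2 : zc (S : Subgroup G) ≤ DX (S : Subgroup G) P X := h.Z_le.trans (ZN.zc_le _)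
  rw [h1] at h2
  exact le_bot_iff.1 h2

theorem DX_le_o2 : DX (S : Subgroup G) P X ≤ o2 (GX (S : Subgroup G) P X) :=
  MinSimple.VModule.le_o2 le_normalizer (S.isPGroup'.to_le (DX_le _ _ _)) le_rfl

theorem isLoc_GX : IsLoc (S : Subgroup G) (GX (S : Subgroup G) P X) := by
  refine ⟨S_le_GX _ _ _, fun h1 => h.DX_ne ?_⟩
  have h2 := h.DX_le_o2
  rw [h1] at h2
  exact le_bot_iff.1 h2

/-- Without bad subgroups of `Ω₁(Z(DX))`, `GX` is a root. -/
theorem nfRoot (hn : NO3b.EZero.NotFF (zl (S : Subgroup G) (GX (S : Subgroup G) P X)))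
    (hb : ¬ ∃ F₀, NOne.Flat.Bad (zc (DX (S : Subgroup G) P X)) F₀) :
    NFRoot (S : Subgroup G) (GX (S : Subgroup G) P X) where
  loc := h.isLoc_GX
  cs := by
    rw [h.cs_zl]
    exact h.DX_le_o2
  low := by
    refine h.zl_GX_le.trans ?_
    by_contra hcon
    exact hb ⟨_, h.zc_ne, h.Z_le, hcon⟩
  nff := hn
  nonloc := fun U hU h1 h2 => h.cl.pss.nonLoc U hU (h.P_le.trans h1) h2

/-- **bad subgroups exist** -/
theorem exists_bad (hn : NO3b.EZero.NotFF (zl (S : Subgroup G) (GX (S : Subgroup G) P X))) :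
    ∃ F₀, NOne.Flat.Bad (zc (DX (S : Subgroup G) P X)) F₀ := by
  by_contra hb
  exact NO3b.CTwoFF.false_of_nfRoot h.hG h.zc_ne (h.nfRoot hn hb) h.cl.pss.par h.cl.pss.nonLoc h.P_le
    (fun P' hP' => h.cl.par_le hP') (h.cl.ff P h.cl.pss)

end Rx

end Cfsg.Agent.Omega.NO3S.RedC

end

-- merged: Cfsg.Agent.Mrg.Omega.NO3S.Fld.LEnd
section

/-!
# Fld, `q = 4`: THEOREM RED at every level

`P₂ ∈ P(S)` in `C_G(Z)` moves `R`.

* `B4.false_jj` : `J(S) ≤ O₂(P)`, `J(S) ≰ O₂(P₂)` is impossible (level `-1` of `P₂`);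
* `false_lv4` : `HypL S P`, `LevF M (lev n)`, `Lv4` at a level `lev j`, `j ≤ n`: impossible;
* **`redFourL` : `RedFourL`**, `redL_all : RedL K`.
-/

set_option autoImplicit false
set_option linter.unusedSectionVars false

namespace Cfsg.Agent.Omega.NO3S.Fld

open Subgroup Cfsg Cfsg.Agent.ZN Cfsg.Agent.ZN.ChoiceBase Cfsg.Agent.Omega.MinPar Cfsg.Agent.Omega.FrameNOFF
open Cfsg.Agent.ZN.ChoiceSit (Syl)
open Cfsg.Agent.Omega.NO3b.EZero (cl cj_le_cl le_cl cl_le le_normalizer_cl)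
open Cfsg.Agent.Omega.NO3b.K0 (cj_self)
open Cfsg.Agent.Omega.NO3S.Level
open Cfsg.Agent.Omega.Frame

universe u

namespace B4

variable {G : Type u} [Group G] [Finite G] {S : Sylow 2 G} {P P2 R V3 : Subgroup G} {z : G}
  (h : B4 S P P2 R V3 z)
include h

/-- the normal closure of `S` in `P₂` moves `R` -/
theorem moves : ∃ g ∈ P2, ∃ s ∈ (S : Subgroup G), g * s * g⁻¹ ∉ normalizer (R : Set G) := by
  by_contra hcon
  push Not at hcon
  have h1 : cl (S : Subgroup G) P2 ≤ normalizer (R : Set G) := by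
    refine cl_le fun p hp => ?_
    rintro _ ⟨s, hs, rfl⟩
    exact hcon p hp s hs
  have h2 : cl (S : Subgroup G) P2 ≤ P2 := cl_le fun p hp => by
    have h3 := cj_mono p h.S_le
    rwa [cj_self hp] at h3
  rcases h.min_or h2 (le_normalizer_cl _ _) with h3 | h3
  · exact h.E_R (h3.trans h1)
  · exact h.not_S_le ((le_inf le_rfl (le_cl _ _)).trans h3)

theorem sit (hidx : (o2 P2).relIndex (S : Subgroup G) = 2) :
    Dih.Sit (S : Subgroup G) P2 (o2 P2) (cl (zl (S : Subgroup G) P) P2) (zl (S : Subgroup G) P) R V3 z where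
  mod := h.mod
  syl := h.syl
  Q_le := h.Q_le
  norm := MinSimple.VModule.le_normalizer_o2 P2
  idx := hidx
  cz := fun _ hg => h.z_comm hg
  U_le := h.U_le_S
  U_comm := h.U_comm
  conj_le := fun _ hg => cj_le_cl hg
  moves := h.moves

/-- **`J(S) ≤ O₂(P)`, `J(S) ≰ O₂(P₂)` is impossible.** -/
theorem false_jj (hAS : FFBr.AStmt.{u}) (hJ : jj (S : Subgroup G) ≤ o2 P)
    (hJQ : ¬ jj (S : Subgroup G) ≤ o2 P2) : False := by
  apply hJQ
  rw [jj_eq]
  refine sSup_le fun A hA => ?_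
  by_contra hcon
  exact (h.sit (h.two_of_jj hAS hJ hJQ)).false hA (fun a ha => (h.mem_L_iff (hA.2.1 ha)).1 (hJ (le_jj hA ha))) hcon

end B4

variable {G : Type u} [Group G] [Finite G] {S : Sylow 2 G} {P P2 : Subgroup G}
variable {F : Type*} [Field F] [Finite F] [CharP F 2]

/-- `Lv4` at a level is impossible. -/
theorem false_lv4 (h : HypL S P) (M : Crd F (S : Subgroup G) P (zl (S : Subgroup G) P)) (hF : Nat.card F = 4)
    {n : ℕ} (hL : LevF M (lev (S : Subgroup G) n)) {j : ℕ} (hjn : j ≤ n) {V3 : Subgroup G} {z : G}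
    (h4 : Lv4 S P P2 M.R V3 (lev (S : Subgroup G) j) z) : False := by
  have hAS := FF.Glob.aStmt.{u}
  have h1 := h4.nxt_not_le hAS
  have hj : j = n := by
    rcases Nat.lt_or_ge j n with h2 | h2
    · exfalso
      apply h1
      exact le_trans (lev_mono (S : Subgroup G) (Nat.succ_le_of_lt h2)) hL.le
    · omega
  subst hj
  obtain ⟨P1, h2, -, h3, h5⟩ := h4.exists_four M hF rfl (h4.norm_V_of hAS hL.nxt)
  exact h.four P1 ⟨h2, h3⟩ h5

/-- **THEOREM RED, `q = 4`, `|Z| = 2`, at every level.** -/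
theorem redFourL : RedFourL.{u} := by
  intro G _ _ S P h F _ _ _ hF hZ M n hn hn1
  have hAS := FF.Glob.aStmt.{u}
  have hG := h.ctx.char2
  have hL : LevF M (lev (S : Subgroup G) n) := levF_of hG h.star M (hn P h.star) hn1
  refine (isLoc_centralizer_zc S h.toHyp.ne).le_of_forall S (inf_le_right.trans hL.NS) fun P2 par le => ?_
  by_contra mv
  by_cases hJ : jj (S : Subgroup G) ≤ o2 P2
  · obtain ⟨j, V3, z, hj, h4⟩ := exists_lv4 h.toHyp M hF hZ hL par le mv hJ
    exact false_lv4 h M hF hL hj h4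
  · obtain ⟨V3, z, hmod, hfix, hzS⟩ := exists_mod h.toHyp M hF hZ
    have hb : B4 S P P2 M.R V3 z :=
      { hyp := h.toHyp
        mod := hmod
        fix4 := hfix
        zS := hzS
        par := par
        le := le
        mv := mv
        soc := hL.zo
        ff := ff_of hAS par le hJ }
    exact hb.false_jj hAS (((lev_mono (S : Subgroup G) (Nat.zero_le n)).trans hL.le)) hJ

/-- **THE SOCKET `RedL`.** -/
theorem redL_all (K : Cls.{u}) : RedL K := redL redFourL K

end Cfsg.Agent.Omega.NO3S.Fld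

end

-- merged: Cfsg.Agent.Mrg.Omega.NO3S.BetaFF.USix
section

section


/-!
# `P*(S)` normalises the natural line `V_P` (frame (U6) of helper781 #21519)

`HypN S P`, `M : Crd K S P V_P` (fields allowed), `B = M.B = C_S(R)`, `R = M.R`.

* `wcB` : `g ∈ N(V_P)`, `B^g ≤ S` ⟹ `B^g = B` and `g ∈ N(R)`; so `N_G(S) ≤ N_G(V_P)` ⟹ `N_G(S) ≤ N_G(R)`;
* `norm_or` : `R' ∈ P*(S)`, `R' ≤ N(V_P)` ⟹ `R' ≤ N(R)`, or `V_{R'} = V_P` and `C_{V_{R'}}(O²(R')) = 1`;
* `frB_of_norm` : `FrB K S P B R` from (T6), `P*(S) ≤ N(V_P)`, `N(S), N(B) ≤ N(V_P)` and `C_G(Z) ≤ N(R)`;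
* `frB_of_norm_card` : `|Z| = |K|`: (T6) and `P*(S) ≤ N(V_P)` are enough;
* `norm_B_of_wc` : `O₂(P)` weakly closed in `S` and (T6) ⟹ `N(B) ≤ N(V_P)`.
-/

set_option autoImplicit false
set_option linter.unusedVariables false
set_option linter.unusedSectionVars false

namespace Cfsg.Agent.Omega.BetaFF

open Subgroup Cfsg Cfsg.Agent.Omega.NO3S.Fld Cfsg.Agent.Omega.MinPar
open Cfsg.Agent.ZN (o2 zl zc)
open Cfsg.Agent.MinSimple.VModule (zc_le zc_le_zl zl_le le_o2 le_normalizer_zl le_normalizer_o2 oddGen oddGen_le)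
open Cfsg.Agent.Omega.FFThm (OffM ElemM NoOverM StmtM)
open Cfsg.Agent.Omega.FrameNOFF (CZ)
open Cfsg.Agent.Omega.FrameFF (cv)
open Cfsg.Agent.Omega.NO3S (HypN Uniq FrB)
open Cfsg.Agent.Omega.NO3S.BetaFF (FSR fsr_of)
open scoped Pointwise

universe u

variable {G : Type u} [Group G] [Finite G] {S : Sylow 2 G} {P Q : Subgroup G}

theorem mem_norm_of_conj_eq {g : G} {X : Subgroup G} (h : MulAut.conj g • X = X) :
    g ∈ normalizer (X : Set G) := by
  rw [mem_normalizer_iff]
  intro x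
  have e : g⁻¹ * (g * x * g⁻¹) * g = x := by group
  constructor
  · intro hx
    have h1 := cj_mem_cj (g := g) hx
    rwa [h] at h1
  · intro hx
    rw [← h] at hx
    have h1 := mem_cj.1 hx
    rwa [e] at h1

section crd

variable {K : Type*} [Field K] {T P V : Subgroup G} (M : Crd K T P V)

/-- `C_V(B) = R` -/
theorem crd_centB (A : Subgroup G) (hA : A ≤ M.B) (hne : ¬ A ≤ centralizer (V : Set G)) :
    V ⊓ centralizer (A : Set G) = M.R := by
  obtain ⟨a, ha, haV⟩ := SetLike.not_le_iff_exists.1 hne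
  apply le_antisymm
  · rintro v ⟨hv, hvA⟩
    exact M.fix (hA ha).1 (hA ha).2 haV hv (mem_centralizer_iff.1 hvA a ha)
  · refine le_inf M.R_le ?_
    rw [Subgroup.le_centralizer_iff]
    exact hA.trans inf_le_right

theorem crd_B_ne : ¬ M.B ≤ centralizer (V : Set G) := by
  intro h
  obtain ⟨s, hs, hsR, h1⟩ := M.exists_full 1
  exact one_ne_zero (h1.mem_centV.1 (h ⟨hs, hsR⟩)).2

theorem crd_elemB [CharP K 2] : ElemM V M.B where
  sq := fun b hb => by
    obtain ⟨c, hc⟩ := M.exists_root hb.1 hb.2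
    have h1 := hc.mul hc
    rw [pow_two, h1.mem_centV]
    refine ⟨rfl, ?_⟩
    simp [CharTwo.add_self_eq_zero]
  comm := fun a ha b hb => by
    obtain ⟨c, hc⟩ := M.exists_root ha.1 ha.2
    obtain ⟨d, hd⟩ := M.exists_root hb.1 hb.2
    have h1 := ((hc.mul hd).mul hc.inv).mul hd.inv
    rw [h1.mem_centV]
    refine ⟨rfl, ?_⟩
    simp

/-- `|V : C_V(B)| = |K| = |B : C_B(V)|` -/
theorem crd_exactB : (centralizer (M.B : Set G)).relIndex V = Nat.card K := by
  have h1 := crd_centB M M.B le_rfl (crd_B_ne M)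
  rw [← inf_relIndex_left, h1]
  have h2 := NOne.Flat.card_mul_relIndex' M.R_le
  rw [M.card_R, M.card_V] at h2
  have h3 : 0 < Nat.card K := by
    have := crd_finite M
    exact Nat.card_pos
  exact Nat.eq_of_mul_eq_mul_left h3 h2

end crd

section wc

variable {K : Type*} [Field K] [Finite K] [CharP K 2] {T P V : Subgroup G} (M : Crd K T P V)

/-- **`B` is weakly closed in `S` with respect to `N(V)`.** -/
theorem wcB {g : G} (hg : g ∈ normalizer (V : Set G)) (hgB : MulAut.conj g • M.B ≤ T) :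
    MulAut.conj g • M.B = M.B ∧ g ∈ normalizer (M.R : Set G) := by
  have hgV : MulAut.conj g • V = V := NOne.Flat.conj_eq_of_norm hg
  have hC : MulAut.conj g • centralizer (V : Set G) = centralizer (V : Set G) := by
    have h1 := NOne.Flat.conj_centralizer g V
    rw [h1]
    exact congrArg (fun X : Subgroup G => centralizer (X : Set G)) hgV
  have hE : ElemM V (MulAut.conj g • M.B) := by
    have h0 := crd_elemB M
    constructor
    · intro a ha
      have h1 := h0.sq _ (mem_cj.1 ha)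
      have h2 := cj_mem_cj (g := g) h1
      rw [hC] at h2
      have e : g * (g⁻¹ * a * g) ^ 2 * g⁻¹ = a ^ 2 := by rw [pow_two, pow_two]; group
      rwa [e] at h2
    · intro a ha b hb
      have h1 := h0.comm _ (mem_cj.1 ha) _ (mem_cj.1 hb)
      have h2 := cj_mem_cj (g := g) h1
      rw [hC] at h2
      have e : g * (g⁻¹ * a * g * (g⁻¹ * b * g) * (g⁻¹ * a * g)⁻¹ * (g⁻¹ * b * g)⁻¹) * g⁻¹ =
          a * b * a⁻¹ * b⁻¹ := by group
      rwa [e] at h2
  have h1 : (centralizer ((MulAut.conj g • M.B : Subgroup G) : Set G)).relIndex V = Nat.card K := by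
    have e := Subgroup.relIndex_pointwise_smul (MulAut.conj g) (centralizer (M.B : Set G)) V
    rw [hgV, NOne.Flat.conj_centralizer, crd_exactB] at e
    exact e
  have h2 : (centralizer (V : Set G)).relIndex (MulAut.conj g • M.B) = Nat.card K := by
    have e := Subgroup.relIndex_pointwise_smul (MulAut.conj g) (centralizer (V : Set G)) M.B
    rw [hC, M.relIndex_B] at e
    exact e
  have hoff : MulAut.conj g • M.B ≤ centralizer (M.R : Set G) :=
    M.off_le_centR hgB hE (FFThm.relIndex_le_iff.2 (by rw [h1, h2]))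
  have h3 : MulAut.conj g • M.B = M.B :=
    Subgroup.eq_of_le_of_card_ge (le_inf hgB hoff) (card_cj _ _).ge
  refine ⟨h3, ?_⟩
  have h4 := crd_centB M M.B le_rfl (crd_B_ne M)
  have h5 : MulAut.conj g • M.R = M.R := by
    have h6 : MulAut.conj g • (V ⊓ centralizer (M.B : Set G)) = V ⊓ centralizer (M.B : Set G) := by
      rw [Subgroup.smul_inf, hgV, NOne.Flat.conj_centralizer]
      exact congrArg (fun X : Subgroup G => V ⊓ centralizer (X : Set G)) h3
    have h7 : MulAut.conj g • M.R = MulAut.conj g • (V ⊓ centralizer (M.B : Set G)) :=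
      congrArg (fun X : Subgroup G => MulAut.conj g • X) h4.symm
    rw [h7, h6, h4]
  exact mem_norm_of_conj_eq h5

end wc

section main

variable {K : Type*} [Field K] [Finite K] [CharP K 2] (M : Crd K (S : Subgroup G) P (zl (S : Subgroup G) P))

/-- `N_G(S) ≤ N_G(V_P)` ⟹ `N_G(S) ≤ N_G(R)` -/
theorem ns_R (hns : normalizer ((S : Subgroup G) : Set G) ≤ normalizer (zl (S : Subgroup G) P : Set G)) :
    normalizer ((S : Subgroup G) : Set G) ≤ normalizer (M.R : Set G) := by
  intro g hg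
  refine (wcB M (hns hg) ?_).2
  have h1 : MulAut.conj g • (S : Subgroup G) = S := NOne.Flat.conj_eq_of_norm hg
  calc MulAut.conj g • M.B ≤ MulAut.conj g • (S : Subgroup G) :=
        Subgroup.pointwise_smul_le_pointwise_smul_iff.2 inf_le_left
    _ = S := h1

/-- **UNIQ over `R`** if `R' ∈ P*(S)` normalises `V_P`. -/
theorem norm_or (hFF : StmtM.{u}) (hG : IsCharacteristicTwoType G) {R' : Subgroup G}
    (hR' : IsParS (S : Subgroup G) R') (hn : R' ≤ normalizer (zl (S : Subgroup G) P : Set G)) :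
    R' ≤ normalizer (M.R : Set G) ∨
      (zl (S : Subgroup G) R' = zl (S : Subgroup G) P ∧ cv (S : Subgroup G) R' = ⊥) := by
  have hle : zl (S : Subgroup G) R' ≤ zl (S : Subgroup G) P := ZN.zl_le (zc_le_zl _ _) hn
  have hZR : zc (S : Subgroup G) ≤ M.R := fun z hz =>
    M.mem_R_of_comm (zc_le_zl _ _ hz) fun b hb _ => (ZN.mem_zc.1 hz).2.1 b hb
  by_cases hR : zl (S : Subgroup G) R' ≤ M.R
  · left
    -- `B ≤ O₂(R')`
    have h1 : M.B ≤ o2 R' := by
      rw [← hR'.inf_centralizer S hG]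
      exact le_inf inf_le_left (inf_le_right.trans (centralizer_le hR))
    intro g hg
    refine (wcB M (hn hg) ?_).2
    have h2 : MulAut.conj g • o2 R' = o2 R' := NOne.Flat.conj_eq_of_norm (le_normalizer_o2 R' hg)
    calc MulAut.conj g • M.B ≤ MulAut.conj g • o2 R' := Subgroup.pointwise_smul_le_pointwise_smul_iff.2 h1
      _ = o2 R' := h2
      _ ≤ S := hR'.isLoc.o2_le S
  · right
    obtain ⟨v, hv, hvR⟩ := SetLike.not_le_iff_exists.1 hR
    have hvL := hle hv
    have hne : ¬ M.B ≤ centralizer (zl (S : Subgroup G) R' : Set G) := by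
      intro hc
      apply hvR
      have h1 := crd_centB M M.B le_rfl (crd_B_ne M)
      rw [← h1]
      exact ⟨hvL, mem_centralizer_iff.2 fun b hb => (mem_centralizer_iff.1 (hc hb) v hv).symm⟩
    have hE := crd_elemB M
    have hoff : OffM (zl (S : Subgroup G) R') M.B :=
      { sq := fun a ha => centralizer_le hle (hE.sq a ha)
        comm := fun a ha b hb => centralizer_le hle (hE.comm a ha b hb)
        ne := hne
        le := by
          rw [FFThm.relIndex_le_iff]
          have h1 : (centralizer (M.B : Set G)).relIndex (zl (S : Subgroup G) R') ≤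
              (centralizer (M.B : Set G)).relIndex (zl (S : Subgroup G) P) :=
            relIndex_le_of_le_right hle index_ne_zero_of_finite
          rw [crd_exactB M, ← M.relIndex_B] at h1
          refine h1.trans ?_
          rw [← inf_relIndex_left M.B (centralizer (zl (S : Subgroup G) R' : Set G))]
          refine relIndex_le_of_le_left ?_ index_ne_zero_of_finite
          rintro b ⟨hb, hbc⟩
          by_contra hbL
          exact hvR (M.fix hb.1 hb.2 hbL hvL (mem_centralizer_iff.1 hbc v hv).symm) }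
    have f := fsr_of hFF hG hR' (inf_le_left : M.B ≤ (S : Subgroup G)) hoff hv
      (fun z hz => M.full' hvL hvR hz) (fun a ha => M.act_mem ha hvL) hZR
    exact ⟨Subgroup.eq_of_le_of_card_ge hle (by rw [f.cardV, M.card_V_R]), f.cv⟩

include M in
/-- **UNIQ**, no fields. -/
theorem uniq_of_norm (hFF : StmtM.{u}) (hG : IsCharacteristicTwoType G)
    (hZ : Nat.card (zc (S : Subgroup G)) = Nat.card K)
    (hpar : ∀ R, IsParS (S : Subgroup G) R → R ≤ normalizer (zl (S : Subgroup G) P : Set G)) :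
    Uniq (S : Subgroup G) P := by
  have hR : M.R = zc (S : Subgroup G) := by
    refine (Subgroup.eq_of_le_of_card_ge (fun z hz => ?_) (by rw [M.card_R, hZ])).symm
    exact M.mem_R_of_comm (zc_le_zl _ _ hz) fun b hb _ => (ZN.mem_zc.1 hz).2.1 b hb
  have key : ∀ R' : Subgroup G, IsParS (S : Subgroup G) R' →
      zl (S : Subgroup G) R' = zl (S : Subgroup G) P ∧ cv (S : Subgroup G) R' = ⊥ := by
    intro R' hR'
    rcases norm_or M hFF hG hR' (hpar R' hR') with h1 | h1
    · rw [hR] at h1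
      exact absurd h1 hR'.not_zc
    · exact h1
  refine ⟨fun R' hR' => (key R' hR').1, fun R' hR' => ?_⟩
  rw [eq_bot_iff, ← (key R' hR').2]
  exact inf_le_inf (zc_le_zl _ _) (centralizer_le (oddGen_le R'))

end main

section frame

variable {K : Type} [Field K] [Finite K] [CharP K 2] (M : Crd K (S : Subgroup G) P (zl (S : Subgroup G) P))

/-- **The frame `FrB`**, fields allowed. -/
theorem frB_of_norm (hFF : StmtM.{u}) (h : HypN S P) (hT6 : zc (o2 P) = zl (S : Subgroup G) P)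
    (hpar : ∀ R, IsParS (S : Subgroup G) R → R ≤ normalizer (zl (S : Subgroup G) P : Set G))
    (hns : normalizer ((S : Subgroup G) : Set G) ≤ normalizer (zl (S : Subgroup G) P : Set G))
    (hNB : normalizer (M.B : Set G) ≤ normalizer (zl (S : Subgroup G) P : Set G))
    (hCZ : CZ (S : Subgroup G) ≤ normalizer (M.R : Set G)) : FrB K S P M.B M.R := by
  have hG := h.ctx.char2
  refine ⟨pb' h.toHyp M (ns_R M hns) hNB (fun R' hR' => ?_) hCZ, omB_of' h.toHyp M hT6, M.card_R,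
    fun R' hR' => (norm_or M hFF hG hR' (hpar R' hR')).imp id fun e => e.1⟩
  refine (norm_or M hFF hG hR' (hpar R' hR')).imp id fun e => ?_
  rw [eq_bot_iff, ← e.2]
  exact inf_le_inf (zc_le_zl _ _) (centralizer_le (oddGen_le R'))

/-- **The frame `FrB`**, no fields. -/
theorem frB_of_norm_card (hFF : StmtM.{u}) (h : HypN S P) (hZ : Nat.card (zc (S : Subgroup G)) = Nat.card K)
    (hT6 : zc (o2 P) = zl (S : Subgroup G) P)
    (hpar : ∀ R, IsParS (S : Subgroup G) R → R ≤ normalizer (zl (S : Subgroup G) P : Set G)) : FrB K S P M.B M.R :=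
  frB_of_uniq h M hZ (uniq_of_norm M hFF h.ctx.char2 hZ hpar) hT6

/-- `O₂(P)` weakly closed and (T6) ⟹ `N(B) ≤ N(V_P)`. -/
theorem norm_B_of_wc (hG : IsCharacteristicTwoType G) (hP : IsParS (S : Subgroup G) P)
    (hT6 : zc (o2 P) = zl (S : Subgroup G) P)
    (hwc : ∀ g : G, MulAut.conj g • o2 P ≤ (S : Subgroup G) → MulAut.conj g • o2 P = o2 P) :
    normalizer (M.B : Set G) ≤ normalizer (zl (S : Subgroup G) P : Set G) := by
  intro g hg
  have h1 : o2 P ≤ M.B := by
    rw [← hP.inf_centralizer S hG]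
    exact inf_le_inf_left _ (centralizer_le M.R_le)
  have h2 : MulAut.conj g • M.B = M.B := NOne.Flat.conj_eq_of_norm hg
  have h3 : MulAut.conj g • o2 P ≤ (S : Subgroup G) := by
    have h4 : MulAut.conj g • o2 P ≤ MulAut.conj g • M.B := Subgroup.pointwise_smul_le_pointwise_smul_iff.2 h1
    rw [h2] at h4
    exact h4.trans inf_le_left
  have h5 := hwc g h3
  rw [← hT6]
  refine NO3S.Level.normalizer_le_zc (o2 P) ?_
  exact mem_norm_of_conj_eq h5

end frame

end Cfsg.Agent.Omega.BetaFF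

end

section


/-!
# RED in the case (L) (helper284 #23199): the reduction to `Rx`

* `ns_R` : `N_G(S) ≤ N_G(R)` in the case (L);
* `jj_le` : `X ∈ P(S)`, `X ≤ C_G(Z)` moves `R` ⟹ `J(S) ≤ O₂(X)`;
* `cz_le_of` : `C_G(Z) ≤ N_G(R)` if there is no `Rx S P X M`.
-/

set_option autoImplicit false
set_option linter.unusedSectionVars false

namespace Cfsg.Agent.Omega.NO3S.RedC

open Subgroup Cfsg Cfsg.Agent.ZN Cfsg.Agent.ZN.ChoiceBase Cfsg.Agent.Omega.MinPar Cfsg.Agent.Omega.Frame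
open Cfsg.Agent.ZN.ChoiceSit (Syl)
open Cfsg.Agent.Omega.FrameNOFF
open Cfsg.Agent.MinSimple.VModule (oddGen oddGen_le zc_le_zl)
open Cfsg.Agent.Omega.NO3S.Level
open Cfsg.Agent.Omega.NO3S.Fld (Crd)

universe u

variable {G : Type u} [Group G] [Finite G] {S : Sylow 2 G} {P X : Subgroup G}
variable {F : Type*} [Field F] [Finite F] [CharP F 2]

theorem ns_R (h : CaseL S P) (M : Crd F (S : Subgroup G) P (zl (S : Subgroup G) P)) :
    normalizer ((S : Subgroup G) : Set G) ≤ normalizer (M.R : Set G) :=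
  Omega.BetaFF.ns_R M (h.norm_le (h.pss.par.isLoc.o2_le S) le_rfl)

theorem jj_le (h : CaseL S P) (M : Crd F (S : Subgroup G) P (zl (S : Subgroup G) P))
    (hZ : Nat.card (zc (S : Subgroup G)) ≠ Nat.card F) (par : IsPar (S : Subgroup G) X)
    (le : X ≤ CZ (S : Subgroup G)) (mv : ¬ X ≤ normalizer (M.R : Set G)) : jj (S : Subgroup G) ≤ o2 X := by
  by_contra hJ
  have hy := h.hypN.toHyp
  have hsyl : Syl (S : Subgroup G) X := ⟨par.le, S.isPGroup', fun _ _ hT hST => S.is_maximal' hT hST⟩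
  rcases Fld.card_four_or' hy M hZ with h4 | h16
  · obtain ⟨V3, z, hmod, hfix, hzS⟩ := Fld.exists_mod hy M h4 (by rwa [h4] at hZ)
    have hb : Fld.B4 S P X M.R V3 z :=
      { hyp := hy
        mod := hmod
        fix4 := hfix
        zS := hzS
        par := par
        le := le
        mv := mv
        soc := h.zc_eq
        ff := Fld.ff_of FF.Glob.aStmt par le hJ }
    exact hb.false_jj FF.Glob.aStmt (h.hj P h.pss.par) hJ
  · exact mv (Crd.norm_R hy M h16 (NO3b.K0.noOv FF.Glob.aStmt hsyl par.toIsMinPar) par.toIsMinPar le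
      (NO3b.K0.ff_lemma_syl par.toIsMinPar hJ le) hJ)

theorem cz_le_of (h : CaseL S P) (M : Crd F (S : Subgroup G) P (zl (S : Subgroup G) P))
    (hZ : Nat.card (zc (S : Subgroup G)) ≠ Nat.card F) (hX : ∀ X : Subgroup G, ¬ Rx S P X M) :
    CZ (S : Subgroup G) ≤ normalizer (M.R : Set G) := by
  refine (isLoc_centralizer_zc S h.hypN.toHyp.ne).le_of_forall S (inf_le_right.trans (ns_R h M))
    fun X par le => ?_
  by_contra mv
  exact hX X ⟨h, par, le, mv, jj_le h M hZ par le mv⟩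

end Cfsg.Agent.Omega.NO3S.RedC

end

end

-- merged: Cfsg.Agent.Mrg.Omega.NO3S.RedC.Main
section

/-!
# RED in the case (L) (helper284 #23199): `RedCZL K`

* `Rx.false` : there is no `X ∈ P(S)` in `C_G(Z)` which moves `R`;
* **`redCZL : RedCZL K`**, `redH_caseL' : RedH K CaseLP`.
-/

set_option autoImplicit false

namespace Cfsg.Agent.Omega.NO3S.RedC

open Subgroup Cfsg Cfsg.Agent.ZN Cfsg.Agent.Omega.MinPar Cfsg.Agent.Omega.Frame
open Cfsg.Agent.Omega.NO3S.Level
open Cfsg.Agent.Omega.NO3S.Fld (Crd)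

universe u

section

variable {G : Type u} [Group G] [Finite G] {S : Sylow 2 G} {P X : Subgroup G} {F : Type*} [Field F] [Finite F]
  [CharP F 2] {M : Crd F (S : Subgroup G) P (zl (S : Subgroup G) P)}

theorem Rx.false (h : Rx S P X M) (hF : 4 ≤ Nat.card F) (hZ : Nat.card (zc (S : Subgroup G)) ≠ Nat.card F) :
    False := by
  obtain ⟨F₀, hb⟩ := h.exists_bad (h.nff_zl hZ)
  exact h.false_of_bad hF hZ (h.nff_V hZ) hb

/-- **`C_G(Z) ≤ N_G(R)` in the case (L).** -/
theorem cz_le (h : CaseL S P) (hF : 4 ≤ Nat.card F) (hZ : Nat.card (zc (S : Subgroup G)) ≠ Nat.card F)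
    (M : Crd F (S : Subgroup G) P (zl (S : Subgroup G) P)) :
    FrameNOFF.CZ (S : Subgroup G) ≤ normalizer (M.R : Set G) :=
  cz_le_of h M hZ fun _ hX => hX.false hF hZ

end

/-- **THE SOCKET `RedCZL`.** -/
theorem redCZL (K : Cls.{u}) : RedCZL K := fun _ _ _ _ _ _ h _ _ _ _ hF hZ M => Or.inl (cz_le h hF hZ M)

/-- `Ends.red` in the case (L). -/
theorem redH_caseL' (K : Cls.{u}) : RedH K CaseLP := redH_caseL (redCZL K)

end Cfsg.Agent.Omega.NO3S.RedC

end

-- merged: Cfsg.Agent.Mrg.Omega.Node.CaseLPEnds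
section

/-!
# The final plug for the case (L) of GammaFF

`CaseIn K` = the open inputs of the FF-ends over `CaseLP`, over the dichotomy `KX` (`Node/MulX.lean`, helper388);
`CaseIn.ends : Two K → WF K → CaseIn K → Ends K CaseLP`.  `red` is closed (`RedC.redH_caseL'`, helper284).

* `ELX K` : (E), `V_P` = even subsets of `{1..5}`, light vectors not 2-central (`FiveL`); `eSX_of_light`.
-/

set_option autoImplicit false

namespace Cfsg.Agent.Omega.Node.CaseLPEnds

open Subgroup Cfsg Cfsg.Agent.ZN Cfsg.Agent.Omega.MinPar Cfsg.Agent.Omega.Frame Cfsg.Agent.Omega.FrameNOFF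
open Cfsg.Agent.Omega.NO3S Cfsg.Agent.Omega.NO3S.Level
open Cfsg.Agent.Omega.Node.MultiOf Cfsg.Agent.Omega.Node.MulX
open Cfsg.Agent.Omega.NOThreeL.Merge (MZ)

universe u

/-- **(E)**, case (L), `V_P` = even subsets of `{1..5}`, light vectors not 2-central. -/
def ELX (K : Cls.{u}) : Prop :=
  ∀ (G : Type u) [Group G] [Finite G], K G → ∀ (S : Sylow 2 G) (P B ZJ : Subgroup G) (ι : Type)
    (L W Z C A : ι → Subgroup G), SymL S P B ZJ L W Z C A 1 2 → NLoc (centralizer (ZJ : Set G) ⊔ ⨆ i, L i) →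
      ∀ p : Fin 5 → G, NO3S.Sym.Light.FiveL S P p → IsKnownSimple' G

/-- **The open inputs of the FF-ends over `CaseLP`.** -/
structure CaseIn (K : Cls.{u}) : Prop where
  /-- (Om), natural, `q = 2` -/
  omTwo : OmX K fun _ q => q = 2
  /-- (E), natural, `k = 2 = q` -/
  eTwo : EX K fun k q => k = 2 ∧ q = 2
  /-- (E), natural, `k ≥ 3`, `q = 2` -/
  eMany : EX K fun k q => 3 ≤ k ∧ q = 2
  /-- (Om), natural, `q ≥ 4` -/
  omQ : OmX K fun _ q => 4 ≤ q
  /-- (E), natural, `k = 2`, `q ≥ 4` -/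
  eTwoQ : EX K fun k q => k = 2 ∧ 4 ≤ q
  /-- (E), natural, `k ≥ 3`, `q ≥ 4` -/
  eManyQ : EX K fun k q => 3 ≤ k ∧ 4 ≤ q
  /-- (Om), symmetric types -/
  omS : OmSX K fun _ _ => True
  /-- (E), `S₅`, light vectors not 2-central -/
  light : ELX K
  /-- (E), symmetric types, `(k, m) ≠ (1, 2)` -/
  eS : ESX K fun k m => 2 ≤ k ∨ 3 ≤ m

variable {K : Cls.{u}}

theorem OmSX.mono {c c' : ℕ → ℕ → Prop} (h : OmSX K c) (hc : ∀ k m, c' k m → c k m) : OmSX K c' :=
  fun G _ _ hK S P B ZJ ι L W Z C A k m hk hm hc' => h G hK S P B ZJ ι L W Z C A k m hk hm (hc k m hc')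

theorem ESX.mono {c c' : ℕ → ℕ → Prop} (h : ESX K c) (hc : ∀ k m, c' k m → c k m) : ESX K c' :=
  fun G _ _ hK S P B ZJ ι L W Z C A k m hk hm hc' => h G hK S P B ZJ ι L W Z C A k m hk hm (hc k m hc')

/-- (E), `(k, m) = (1, 2)`, from the light case. -/
theorem eSX_of_light (h2 : Two K) (hl : ELX K) : ESX K fun k m => k = 1 ∧ m = 2 := by
  intro G _ _ hK S P B ZJ ι L W Z C A k m _ _ hkm hM hN
  obtain ⟨rfl, rfl⟩ := hkm
  obtain ⟨M⟩ := hM.sym
  obtain ⟨p, hp⟩ := NO3S.Sym.Exit.exists_five hM.cl.hypN.toHyp M.toSymK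
  by_cases hc : ∃ T₀ : Sylow 2 G, ∀ x ∈ (T₀ : Subgroup G), x * NTwo.nn p * x⁻¹ = NTwo.nn p
  · obtain ⟨T₀, hT₀⟩ := hc
    exact NO3S.Sym.Exit.known_of_central h2 hK hp T₀ hT₀
  · push Not at hc
    exact hl G hK S P B ZJ ι L W Z C A hM hN p ⟨hp, fun T₀ h0 => by
      obtain ⟨x, hx, h1⟩ := hc T₀
      exact h1 (h0 x hx)⟩

namespace CaseIn

variable (I : CaseIn K)
include I

theorem multiTwo : MultiTwoH K CaseLP := multiTwoX_of I.omTwo I.eTwo I.eMany

theorem multiQ : MultiQH K CaseLP := multiQX_of I.omQ I.eTwoQ I.eManyQ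

theorem symTwo (h2 : Two K) : SymTwoH K CaseLP :=
  symTwoX_of (OmSX.mono I.omS fun _ _ _ => trivial) (eSX_of_light h2 I.light)

theorem symBig : SymBigH K CaseLP :=
  symBigX_of (OmSX.mono I.omS fun _ _ _ => trivial) (ESX.mono I.eS fun _ _ h => Or.inr h.2)

theorem symMany : SymManyH K CaseLP :=
  symManyX_of (OmSX.mono I.omS fun _ _ _ => trivial) (ESX.mono I.eS fun _ _ h => Or.inl h)

/-- **The FF-ends over `CaseLP`.** -/
theorem ends (h2 : Two K) (hw : WF K) : Ends K CaseLP where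
  red := RedC.redH_caseL' K
  w := fun G _ _ hK S P h F _ _ _ hF' M B R hB hf n y hn hy =>
    hw G hK S P (CaseL.hypF h) F hF' M B R hB hf n y hn hy
  multiTwo := I.multiTwo
  multiQ := I.multiQ
  symTwo := I.symTwo h2
  symBig := I.symBig
  symMany := I.symMany

end CaseIn

end Cfsg.Agent.Omega.Node.CaseLPEnds

end
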