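import Cfsg.Agent.Mrg.Omega.EK3.FrStar
import Cfsg.Agent.Mrg.Omega.EK3.UFixG
import Cfsg.Agent.Mrg.Omega.KL.QuoT
import Cfsg.Agent.Mrg.Omega.EK3.UFixX
import Cfsg.Agent.Mrg.Omega.OM.Lev.Main
import Cfsg.Agent.Mrg.Omega.OM.Uni
import Cfsg.Agent.Mrg.Omega.Node.MulXTwo
import Cfsg.Agent.Mrg.Omega.OM.SWT.Sel
import Cfsg.Agent.Mrg.Omega.OM.SWT.Base
import Cfsg.Agent.Mrg.Omega.OM.SwapT.QuietL
import Cfsg.Agent.Mrg.Omega.Node.SymG
import Cfsg.Agent.Mrg.Omega.OM.SwapT.LowF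
import Cfsg.Agent.Mrg.Omega.OM.SwapT.TI
import Cfsg.Agent.Mrg.Omega.OM.SwapL.Main
import Cfsg.Agent.Mrg.Omega.NO3S.CaseLW.LamEnd
import Cfsg.Agent.Mrg.Omega.NO3S.CaseLW.QWc
import Cfsg.Agent.Mrg.Omega.NO3S.CaseLW.QWex
import Cfsg.Agent.Mrg.Omega.NO3S.CaseLW.QWa
import Cfsg.Agent.Mrg.Omega.OM.Lev.Uni
import Cfsg.Agent.Mrg.Omega.ML.MinIrr
import Cfsg.Agent.Mrg.Omega.Node.CaseLPEnds
import Cfsg.Agent.Mrg.Omega.NO3S.CaseLW.LowOne
import Cfsg.Agent.Mrg.Omega.EDel.LX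

-- merged: Cfsg.Agent.Mrg.Omega.EK3.Glue
section

section


/-!
# (E), `k ≥ 3`, `q = 2` (THEOREM K3, helper474 #22123, #22451, #23133): the end over `EK3.Fr` (helper520)

* `HU B W Z z` : the property (U): `[R, W i] ≤ Zᶜ = ⟨Z l : l ≠ j⟩` for the minimal parabolics `R` over `B` in `YY z j` which
  move `z j`, and for `N(B)`;
* `Fr.eq_Yc`, `Fr.eq_Nc` : the groups of `BaseE`;
* `Fr.gInT` : the input of THEOREM KL, from the output `F` of STAR;
* **`Fr.false`** : `Fr`, `NLoc (D ⊔ ⨆ L i)`, `HU` : contradiction, from THEOREM ML and THEOREM KL.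
-/

set_option autoImplicit false
set_option linter.unusedSectionVars false

namespace Cfsg.Agent.Omega.EK3

open Subgroup Cfsg Cfsg.Agent.ZN.ChoiceBase
open Cfsg.Agent.ZN (zc zl o2)
open Cfsg.Agent.Omega.OM Cfsg.Agent.Omega.OM.Uni
open Cfsg.Agent.Omega.NO3S.EThree.Frame
open Cfsg.Agent.Omega.Node.MultiOf
open Cfsg.Agent.MinSimple.MinParabolic (IsMinPar)
open Cfsg.Agent.Omega.EK3.StarE (EE EE_mono le_EE norm_EE)
open Cfsg.Agent.Omega.EK3.Two (Zs Nn)

universe u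

variable {G : Type u} [Group G]

/-- **(U)** -/
def HU (B : Subgroup G) {k : ℕ} (W Z : Fin k → Subgroup G) (z : Fin k → G) : Prop :=
  ∀ i j, i ≠ j →
    (∀ R : Subgroup G, IsMinPar B R → R ≤ YY z j → R ≤ normalizer (W j : Set G) →
      ¬ R ≤ centralizer (Z j : Set G) → ∀ r ∈ R, ∀ v ∈ W i, r * v * r⁻¹ * v⁻¹ ∈ Zs Z j) ∧
      ∀ g ∈ YY z j ⊓ normalizer (B : Set G), ∀ v ∈ W i, g * v * g⁻¹ * v⁻¹ ∈ Zs Z j

namespace Fr

variable [Finite G] {S : Sylow 2 G} {P K B ZJ : Subgroup G} {k : ℕ} {L W Z C : Fin k → Subgroup G}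
    {z : Fin k → G} (h : Fr S P K B ZJ L W Z C z)

theorem eq_Yc (z : Fin k → G) (j : Fin k) : YY z j = Yc z j := EK3.eq_Yc fun _ => mem_YY

theorem eq_Nc (z : Fin k → G) (j : Fin k) : NN z j = Nc z j := by
  unfold NN Nc
  rw [eq_Yc]

include h

/-- some `p ∈ W i - Z i` -/
theorem exists_p (i : Fin k) : ∃ p ∈ W i, p ∉ Z i := by
  by_contra hcon
  push Not at hcon
  have h1 : Nat.card (W i) ≤ Nat.card (Z i) := Nat.card_le_card_of_injective _ (inclusion_injective hcon)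
  rw [h.card_W, h.bg.fr.cardZ] at h1
  omega

/-- **The input of THEOREM KL.** -/
theorem gInT (hU : HU B W Z z) {i j : Fin k} {F : Subgroup G} (o : StarOut ZJ W z i j F) {p : G} (hp : p ∈ W i)
    (hpZ : p ∉ Z i) :
    KL.PlugGT.GInT B (YY z j) (Nn W Z (YY z j) (NN z j) i j) (Zs Z j) (W j ⊔ Zs Z j)
      (YY z j ⊓ normalizer (W i : Set G)) F (z j) p := by
  have hk : ∀ i j : Fin k, ∃ l, l ≠ i ∧ l ≠ j := fun i j => by
    obtain ⟨l, hl⟩ := MainS.exists_third h.three i j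
    rw [Set.mem_compl_iff, Set.mem_insert_iff, Set.mem_singleton_iff, not_or] at hl
    exact ⟨l, hl.1, hl.2⟩
  have hNE : NN z j ≤ EE ZJ (YY z i ⊔ YY z j) := by
    rw [eq_Nc, eq_Yc, eq_Yc]
    exact N_le_E' h.bg h.hz hk i j
  have hWE : W i ≤ EE ZJ (YY z i ⊔ YY z j) := by
    rw [eq_Yc, eq_Yc]
    exact (W_le_EE h.bg h.hz i).trans (EE_mono le_sup_left)
  have hE : IsElementaryAbelian 2 (EE ZJ (YY z i ⊔ YY z j)) := by
    rw [eq_Yc, eq_Yc]
    exact eab_EE h.bg h.hz hk i j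
  have t := Two.gT h.bg h.hz o.ne (fun _ => mem_YY) (h.syl j) (h.stab j)
    (fun R hR hRY hm => by
      rcases h.par hR hRY with h1 | h1
      · obtain ⟨r, hr, hne⟩ := hm
        exact absurd (mem_centralizer_singleton_iff.1 (h.D_le_C j (h1 hr))) hne
      · exact h1.1)
    (fun R hR hRY hm => by
      obtain ⟨r, hr, hne⟩ := hm
      have hD : ¬ R ≤ centralizer (ZJ : Set G) := fun h1 =>
        hne (mem_centralizer_singleton_iff.1 (h.D_le_C j (h1 hr)))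
      refine (hU i j o.ne).1 R hR hRY ((h.par hR hRY).resolve_left hD).1 fun h1 => hne ?_
      exact (mem_centralizer_iff.1 (h1 hr) _ (h.mem_Z j)).symm)
    (fun g hg hgB => (hU i j o.ne).2 g ⟨hg, hgB⟩) hE (le_sup_right.trans (norm_EE ZJ _)) hWE hNE (le_EE _ _)
    (mem_NN z j) (le_normalizer_NN z j) (h.W_le_NN j) (fun U h1 h2 => NN_le h1 h2) o.el o.FO o.low o.mv o.cent
    (o.ex _ hNE le_rfl).ge (h.kgroup j) hp hpZ
  exact ⟨t.TC, t.two, t.syl, t.sq, t.CN, t.ZN, t.CZ, t.xN, t.pN, t.gen, t.cA, t.stx, t.sty, t.SyC, t.x1, t.p1, t.xp,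
    t.ZW, t.WN, t.xW, t.cW, t.nx, t.ny, t.uni, t.el, t.Ax, t.Ay, t.mv, t.ex, t.KC⟩

/-- **(E), `k ≥ 3`, `q = 2`, over `Fr`.** -/
theorem false (hML : ML.Final.MLK.{u, u}) (hKL : KL.Quo.NoInp.{u, u})
    (hn : NLoc (centralizer (ZJ : Set G) ⊔ ⨆ i, L i)) (hU : HU B W Z z) : False := by
  obtain ⟨i, j, F, o⟩ := h.exists_star hML hn
  obtain ⟨p, hp, hpZ⟩ := h.exists_p i
  exact (h.gInT hU o hp hpZ).false hML hKL

end Fr

end Cfsg.Agent.Omega.EK3

end

section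


/-!
# (E), `k ≥ 3`, `q = 2`: the end over `Mul` (helper520)

* `Fr.uIn` : the frame of `EK3.UFix` from `EK3.Fr`;
* `hU_of` : (U) from `Mul` and `UniTwo`;
* **`efrK_of`** : `OfMul.EFrK K` from THEOREM ML and THEOREM KL; **`eOf_three_of`** : `EOf K (3 ≤ k ∧ q = 2)`.
-/

set_option autoImplicit false
set_option linter.unusedSectionVars false

namespace Cfsg.Agent.Omega.EK3

open Subgroup Cfsg Cfsg.Agent.ZN.ChoiceBase
open Cfsg.Agent.ZN (zc zl o2)
open Cfsg.Agent.Omega.OM Cfsg.Agent.Omega.OM.Uni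
open Cfsg.Agent.Omega.NO3S.EThree.Frame
open Cfsg.Agent.Omega.Node.MultiOf
open Cfsg.Agent.Omega.Frame (Cls)
open Cfsg.Agent.MinSimple.MinParabolic (IsMinPar)

universe u

theorem Fr.uIn {G : Type u} [Group G] [Finite G] {S : Sylow 2 G} {P K B ZJ : Subgroup G} {k : ℕ}
    {L W Z C : Fin k → Subgroup G} {z : Fin k → G} (h : Fr S P K B ZJ L W Z C z) {i j : Fin k} (hij : i ≠ j) :
    UFix.UIn S P B ZJ L W Z C i j (YY z j) where
  bg := h.bg
  ij := hij
  cen := fun l hl => by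
    intro y hy
    rw [mem_centralizer_iff]
    intro x hx
    rcases (h.hz l x).1 hx with rfl | rfl
    · simp
    · exact (mem_YY.1 hy l hl).symm
  PY := fun x hx => mem_YY.2 fun l hl =>
    (mem_centralizer_iff.1 hx.2 _ (h.bg.fr.WjC j l hl.symm (h.mem_W l))).symm
  syl := h.syl j

theorem hU_of {G : Type u} [Group G] [Finite G] {S : Sylow 2 G} {P K B ZJ : Subgroup G} {k : ℕ}
    {L W Z C : Fin k → Subgroup G} {z : Fin k → G} (h : Fr S P K B ZJ L W Z C z) (hM : Mul S P K B ZJ L W Z C 2)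
    (hu : UniTwo B ZJ L W) : HU B W Z z := fun i j hij =>
  ⟨fun R hR hRY hRW hmv =>
    (h.uIn hij).uni_of hM (by have := h.three; omega) hu hR hRY hRW hmv, (h.uIn hij).nB_of⟩

/-- **(E), `k ≥ 3`, `q = 2`, over `Mul`, UNI+ and block generation.** -/
theorem efrK_of (hML : ML.Final.MLK.{u, u}) (hKL : KL.Quo.NoInp.{u, u}) (K : Cls.{u}) : OfMul.EFrK K := by
  intro G _ _ _ S P K' B ZJ k L W Z C hk hM hn hu hb
  obtain ⟨z, h⟩ := exists_fr hM hk hu hb
  exact (h.false hML hKL (nonloc_of hu hn) (hU_of h hM hu)).elim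

/-- **(E), `k ≥ 3`, `q = 2`.** -/
theorem eOf_three_of (hML : ML.Final.MLK.{u, u}) (hKL : KL.Quo.NoInp.{u, u}) {K : Cls.{u}}
    (hL : OfMul.UniLevK K) : EOf K fun k q => 3 ≤ k ∧ q = 2 :=
  OfMul.eOf_three hL (efrK_of hML hKL K)

end Cfsg.Agent.Omega.EK3

end

section


/-!
# (E), `k ≥ 3`, `q = 2`: the end over the general frame `MulG` (`HypL` and the case (L) of GammaFF)

* `hU_G` : (U) from `MulG` and `UniV`;
* **`false_G`** : the end with the weakest hypotheses (UNI+ for blocks with module in `V_P`);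
* **`eEndK_of`** : `MulC.EEndK K` from THEOREM ML and THEOREM KL; `efrK_of_G` : `OfMul.EFrK K`;
  `eC_three_of` : the case (L).
-/

set_option autoImplicit false
set_option linter.unusedSectionVars false

namespace Cfsg.Agent.Omega.EK3

open Subgroup Cfsg Cfsg.Agent.ZN.ChoiceBase
open Cfsg.Agent.Omega.OM Cfsg.Agent.Omega.OM.Uni
open Cfsg.Agent.Omega.NO3S.EThree.Frame
open Cfsg.Agent.Omega.Node.MultiOf Cfsg.Agent.Omega.Node.MulG
open Cfsg.Agent.Omega.Node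
open Cfsg.Agent.Omega.Frame (Cls)
open Cfsg.Agent.ZN (zc zl o2)
open Cfsg.Agent.ZN.ChoiceSit (Syl)
open Cfsg.Agent.MinSimple.MinParabolic (IsMinPar)

universe u

theorem hU_G {G : Type u} [Group G] [Finite G] {S : Sylow 2 G} {P K B ZJ : Subgroup G} {k : ℕ}
    {L W Z C : Fin k → Subgroup G} {z : Fin k → G} (h : Fr S P K B ZJ L W Z C z) (hM : MulG S P K B ZJ L W Z C 2)
    (hu : UniV S P B ZJ L W) : HU B W Z z := fun i j hij =>
  ⟨fun R hR hRY hRW hmv =>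
    (UFix.UIn.of_fr h hij).uni_of_G hM (by have := h.three; omega) hu hR hRY hRW hmv,
    (UFix.UIn.of_fr h hij).nB_of⟩

/-- **(E), `k ≥ 3`, `q = 2`, over `MulG`, the weakest form**: UNI+ only for the blocks with module in `V_P`, block
generation only for the minimal parabolics `R` over `B` in `C_G(Z l : l ≠ j)`, `⟨C_G(Z_J), L_1, .., L_k⟩` nonlocal. -/
theorem false_G {G : Type u} [Group G] [Finite G] {S : Sylow 2 G} {P K B ZJ : Subgroup G} {k : ℕ}
    {L W Z C : Fin k → Subgroup G} (hML : ML.Final.MLK.{u, u}) (hKL : KL.Quo.NoInp.{u, u})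
    (hM : MulG S P K B ZJ L W Z C 2) (hk : 3 ≤ k) (hu : UniV S P B ZJ L W)
    (hb : ∀ (j : Fin k) (R : Subgroup G), (∀ l, l ≠ j → R ≤ centralizer (Z l : Set G)) → IsMinPar B R → Syl B R →
      R ⊓ centralizer (o2 R : Set G) ≤ o2 R → ¬ K ≤ o2 R → ¬ R ≤ centralizer (zc B : Set G) →
      ∃ L' V' : Subgroup G, FBl B L' V' ∧ V' ≤ zl (S : Subgroup G) P ∧ L' ≤ R ∧ R ≤ L' ⊔ B)
    (hn : NLoc (centralizer (ZJ : Set G) ⊔ ⨆ i, L i)) : False := by
  obtain ⟨z, h⟩ := exists_fr_V hM.bg hM.lb hk hu hb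
  exact h.false hML hKL hn (hU_G h hM hu)

/-- **(E), `k ≥ 3`, `q = 2`, over `MulG`, UNI+ and block generation.** -/
theorem eEndK_of (hML : ML.Final.MLK.{u, u}) (hKL : KL.Quo.NoInp.{u, u}) (K : Cls.{u}) : MulC.EEndK K := by
  intro G _ _ _ S P K' B ZJ k L W Z C hk hM hn hu hb
  obtain ⟨z, h⟩ := exists_fr_G hM hk hu hb
  exact (h.false hML hKL (nonloc_of hu hn) (hU_G h hM hu.toV)).elim

theorem efrK_of_G (hML : ML.Final.MLK.{u, u}) (hKL : KL.Quo.NoInp.{u, u}) (K : Cls.{u}) : OfMul.EFrK K :=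
  MulC.eFrK_of_end (eEndK_of hML hKL K)

/-- **the case (L), `k ≥ 3`, `q = 2`** -/
theorem eC_three_of (hML : ML.Final.MLK.{u, u}) (hKL : KL.Quo.NoInp.{u, u}) {K : Cls.{u}} (hU : MulC.UniC K) :
    MulC.EC K fun k q => 3 ≤ k ∧ q = 2 :=
  MulC.eC_three hU (eEndK_of hML hKL K)

end Cfsg.Agent.Omega.EK3

end

section


/-!
# LINE INEQUALITY (bb OMEGA #22703 (0''))

`W` abelian, generated by subgroups `V i`, each a module with one full root group (`Uni.Md`) for a group `B i ≥ A`.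
Then `|A : C_A(W)| ≤ |W : C_W(A)|`.
-/

set_option autoImplicit false

namespace Cfsg.Agent.Omega.EK3

open Subgroup Cfsg Cfsg.Agent.ZN.ChoiceBase
open Cfsg.Agent.Omega.SQ1.Bau (card_sup_comm elem_comm)
open Cfsg.Agent.Omega.OM.Uni (Md)

universe u

variable {G : Type u} [Group G] [Finite G]

/-- **LINE INEQUALITY**: `|A| |C_W(A)| ≤ |W| |C_A(W)|`. -/
theorem line_ineq {ι : Sort*} {B V Z : ι → Subgroup G} {q : ℕ} (hM : ∀ i, Md (B i) (V i) (Z i) q) {W : Subgroup G}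
    (hVW : ∀ i, V i ≤ W) (hW : W ≤ ⨆ i, V i) (hWc : ∀ x ∈ W, ∀ y ∈ W, x * y = y * x) {A : Subgroup G}
    (hA : ∀ i, A ≤ B i) :
    Nat.card A * Nat.card ↥(W ⊓ centralizer (A : Set G)) ≤ Nat.card W * Nat.card ↥(A ⊓ centralizer (W : Set G)) := by
  induction hn : Nat.card A using Nat.strong_induction_on generalizing A with
  | _ n ih =>
    subst hn
    by_cases hcase : ∀ i, ∀ a ∈ A, ∀ v ∈ V i, a * v = v * a
    · have h1 : A ≤ centralizer (W : Set G) := by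
        have h2 : W ≤ centralizer (A : Set G) := hW.trans (iSup_le fun i v hv =>
          mem_centralizer_iff.2 fun a ha => hcase i a ha v hv)
        exact fun a ha => mem_centralizer_iff.2 fun w hw => (mem_centralizer_iff.1 (h2 hw) a ha).symm
      rw [inf_eq_left.2 h1, mul_comm (Nat.card W)]
      exact Nat.mul_le_mul_left _ (Subgroup.card_le_of_le inf_le_left)
    · push Not at hcase
      obtain ⟨i, a₀, ha₀, v₀, hv₀, hne⟩ := hcase
      set A₁ := A ⊓ centralizer (V i : Set G) with hA₁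
      set X := W ⊓ centralizer (A : Set G) with hX
      have hlt : Nat.card A₁ < Nat.card A := by
        rcases lt_or_eq_of_le (Subgroup.card_le_of_le (inf_le_left : A₁ ≤ A)) with h1 | h1
        · exact h1
        · exfalso
          have h2 : A₁ = A := Subgroup.eq_of_le_of_card_ge inf_le_left h1.ge
          rw [← h2] at ha₀
          exact hne (mem_centralizer_iff.1 ha₀.2 v₀ hv₀).symm
      have h1 := ih _ hlt (A := A₁) (fun j => inf_le_left.trans (hA j)) rfl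
      have h2 : A₁ ⊓ centralizer (W : Set G) ≤ A ⊓ centralizer (W : Set G) := inf_le_inf_right _ inf_le_left
      have h3 : Nat.card A ≤ q * Nat.card A₁ := (hM i).card_le (hA i)
      -- `|V X| ≥ q |X|`
      have h4 := card_sup_comm (A := V i) (B := X) fun x hx y hy => hWc x (hVW i hx) y (mem_inf.1 hy).1
      have h5 : V i ⊓ X ≤ Z i := by
        intro x hx
        have hx' := mem_inf.1 hx
        exact (hM i).mem_Z (hA i ha₀) (fun h => hne (h v₀ hv₀)) hx'.1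
          (mem_centralizer_iff.1 (mem_inf.1 hx'.2).2 a₀ ha₀)
      have h6 : q * Nat.card X ≤ Nat.card ↥(V i ⊔ X) := by
        have hp : 0 < Nat.card (Z i) := Nat.card_pos
        refine Nat.le_of_mul_le_mul_right ?_ hp
        calc q * Nat.card X * Nat.card (Z i) = Nat.card (V i) * Nat.card X := by rw [(hM i).card]; ring
          _ = Nat.card ↥(V i ⊔ X) * Nat.card ↥(V i ⊓ X) := h4.symm
          _ ≤ Nat.card ↥(V i ⊔ X) * Nat.card (Z i) := Nat.mul_le_mul_left _ (Subgroup.card_le_of_le h5)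
      have h7 : V i ⊔ X ≤ W ⊓ centralizer (A₁ : Set G) := by
        refine sup_le (le_inf (hVW i) fun v hv => mem_centralizer_iff.2 fun a ha => ?_)
          (inf_le_inf_left _ (centralizer_le inf_le_left))
        exact (mem_centralizer_iff.1 (mem_inf.1 ha).2 v hv).symm
      calc Nat.card A * Nat.card X ≤ (q * Nat.card A₁) * Nat.card X := Nat.mul_le_mul_right _ h3
        _ = Nat.card A₁ * (q * Nat.card X) := by ring
        _ ≤ Nat.card A₁ * Nat.card ↥(W ⊓ centralizer (A₁ : Set G)) :=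
          Nat.mul_le_mul_left _ (h6.trans (Subgroup.card_le_of_le h7))
        _ ≤ Nat.card W * Nat.card ↥(A₁ ⊓ centralizer (W : Set G)) := h1
        _ ≤ _ := Nat.mul_le_mul_left _ (Subgroup.card_le_of_le h2)

omit [Finite G] in
theorem card_mul_relIdx {H K : Subgroup G} (h : H ≤ K) : Nat.card H * H.relIndex K = Nat.card K := by
  rw [← Nat.card_congr (Subgroup.subgroupOfEquivOfLe h).toEquiv, relIndex, Subgroup.card_mul_index]

/-- LINE INEQUALITY, in terms of indices. -/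
theorem line_relIndex {ι : Sort*} {B V Z : ι → Subgroup G} {q : ℕ} (hM : ∀ i, Md (B i) (V i) (Z i) q)
    {W : Subgroup G} (hVW : ∀ i, V i ≤ W) (hW : W ≤ ⨆ i, V i) (hWc : ∀ x ∈ W, ∀ y ∈ W, x * y = y * x)
    {A : Subgroup G} (hA : ∀ i, A ≤ B i) :
    (centralizer (W : Set G)).relIndex A ≤ (centralizer (A : Set G)).relIndex W := by
  have h1 := line_ineq hM hVW hW hWc hA
  have h2 : Nat.card ↥(A ⊓ centralizer (W : Set G)) * (centralizer (W : Set G)).relIndex A = Nat.card A := by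
    rw [inf_comm, ← Subgroup.inf_relIndex_right (centralizer (W : Set G)) A]
    exact card_mul_relIdx inf_le_right
  have h3 : Nat.card ↥(W ⊓ centralizer (A : Set G)) * (centralizer (A : Set G)).relIndex W = Nat.card W := by
    rw [inf_comm, ← Subgroup.inf_relIndex_right (centralizer (A : Set G)) W]
    exact card_mul_relIdx inf_le_right
  rw [← h2, ← h3] at h1
  have hp : 0 < Nat.card ↥(A ⊓ centralizer (W : Set G)) * Nat.card ↥(W ⊓ centralizer (A : Set G)) :=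
    Nat.mul_pos Nat.card_pos Nat.card_pos
  refine Nat.le_of_mul_le_mul_left ?_ hp
  calc _ = Nat.card ↥(A ⊓ centralizer (W : Set G)) * (centralizer (W : Set G)).relIndex A *
        Nat.card ↥(W ⊓ centralizer (A : Set G)) := by ring
    _ ≤ _ := h1
    _ = _ := by ring

end Cfsg.Agent.Omega.EK3

end

end

-- merged: Cfsg.Agent.Mrg.Omega.Node.MulXThree
section

/-!
# The case (L) of GammaFF, case (E), `k ≥ 3`, `q = 2`, over `MulX.MulL`

* **`false_X`** : `MulL .. 2`, `3 ≤ k`, `KX` nonlocal, no weird minimal parabolic over `B` in `C_G(Z l : l ≠ j)`: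
  contradiction, from THEOREM ML and THEOREM KL;
* **`eX_three : MLK → NoInp → NoW K → EX K (3 ≤ k ∧ q = 2)`**; `multiTwoX_kl`.
-/

set_option autoImplicit false
set_option linter.unusedSectionVars false

namespace Cfsg.Agent.Omega.Node.MulXThree

open Subgroup Cfsg Cfsg.Agent.ZN.ChoiceBase
open Cfsg.Agent.ZN.ChoiceSit (Syl)
open Cfsg.Agent.ZN (jj zj bau zc zl o2)
open Cfsg.Agent.MinSimple.MinParabolic (IsMinPar)
open Cfsg.Agent.Omega.NO3S (CaseLP MultiTwoH)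
open Cfsg.Agent.Omega.Frame (Cls)
open Cfsg.Agent.Omega.OM
open Cfsg.Agent.Omega.Node.MultiOf Cfsg.Agent.Omega.Node.MulG Cfsg.Agent.Omega.Node.MulX
open Cfsg.Agent.Omega.Node.MulXTwo (NoW exists_fbx)

universe u

/-- UNI+ for the blocks with module in `V_P` -/
theorem uniV {G : Type u} [Group G] [Finite G] {S : Sylow 2 G} {P B ZJ : Subgroup G} {k : ℕ}
    {L W Z C A : Fin k → Subgroup G} (h : MulL S P B ZJ L W Z C A 2) : EK3.UniV S P B ZJ L W := by
  intro L' V' hb hV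
  obtain ⟨-, -, i, -, -, -, -, h1⟩ := h.uni ⟨hb, hV⟩
  exact ⟨i, h1 rfl⟩

/-- **(E), case (L), `k ≥ 3`, `q = 2`.** -/
theorem false_X {G : Type u} [Group G] [Finite G] {S : Sylow 2 G} {P B ZJ : Subgroup G} {k : ℕ}
    {L W Z C A : Fin k → Subgroup G} (hML : ML.Final.MLK.{u, u}) (hKL : KL.Quo.NoInp.{u, u})
    (h : MulL S P B ZJ L W Z C A 2) (hk : 3 ≤ k) (hn : NLoc (KX B ZJ (zl (S : Subgroup G) P)))
    (hW : ∀ (j : Fin k) (Y : Subgroup G), IsMinPar B Y → Syl B Y → Y ⊓ centralizer (o2 Y : Set G) ≤ o2 Y →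
      (∀ l, l ≠ j → Y ≤ centralizer (Z l : Set G)) → ¬ o2 P ≤ o2 Y → Y ≤ centralizer (ZJ : Set G)) : False := by
  refine EK3.false_G hML hKL h.toG hk (uniV h) (fun j R h1 h2 h3 h4 h5 h6 => ?_) (h.KX_eq ▸ hn)
  by_cases hQ : o2 P ≤ o2 R
  · obtain ⟨L', V', h7, ⟨h8, h9⟩, h10⟩ := exists_fbx h h3 le_rfl h2 h4 hQ h5 h6
    exact ⟨L', V', h8, h9, h7, h10.trans (sup_comm _ _).le⟩
  · exact absurd (by rw [h.bg.fr.zcB]; exact hW j R h2 h3 h4 h1 hQ) h6

/-- **(E), case (L), `k ≥ 3`, `q = 2`.** -/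
theorem eX_three (hML : ML.Final.MLK.{u, u}) (hKL : KL.Quo.NoInp.{u, u}) {K : Cls.{u}} (hW : NoW K) :
    EX K fun k q => 3 ≤ k ∧ q = 2 := by
  rintro G _ _ hK S P B ZJ k L W Z C A q hk ⟨hk3, rfl⟩ hM hN
  exact (false_X hML hKL hM hk3 hN (hW G hK S P B ZJ k L W Z C A hk hM hN)).elim

/-- **`MultiTwoH K CaseLP`**: `(Om)` and `NoW`. -/
theorem multiTwoX_kl (hML : ML.Final.MLK.{u, u}) (hKL : KL.Quo.NoInp.{u, u}) {K : Cls.{u}}
    (hO : OmX K fun _ q => q = 2) (hW : NoW K) : MultiTwoH K CaseLP :=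
  multiTwoX_of hO (MulXTwo.eX_two hML hKL hW) (eX_three hML hKL hW)

end Cfsg.Agent.Omega.Node.MulXThree

end

-- merged: Cfsg.Agent.Mrg.Omega.OM.SWT.Core
section

/-!
# THEOREM SWQ over a general top level

* `cent_le` : `C_G(Z₁) ≤ X`, `1 ≠ Z₁ ≤ Ω₁Z(S)`, `q ≥ 4`;
* `coreQ : CoreQ`; `omX : OffHQ K → LamHQ K → OmX K (4 ≤ q)`.
-/

set_option autoImplicit false
set_option linter.unusedSectionVars false

namespace Cfsg.Agent.Omega.OM.SWT

open Subgroup Cfsg Cfsg.Agent.ZN.ChoiceBase Cfsg.Agent.ZN.ChoiceSit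
open Cfsg.Agent.ZN (jj zj bau zc zl o2)
open Cfsg.Agent.Omega.Frame (Cls)
open Cfsg.Agent.Omega.FrameFF (cv)
open Cfsg.Agent.Omega.FrameNOFF (CZ)
open Cfsg.Agent.Omega.NO3S.OneLine (NatC)
open Cfsg.Agent.Omega.OM.Lev.Nat
open Cfsg.Agent.Omega.Node.OmTopQ (CoreQ OffHQ LamHQ omX_of_lam)

universe u

/-- **THEOREM SWQ.** -/
theorem cent_le {G : Type u} [Group G] [Finite G] {S : Sylow 2 G} {P : Subgroup G} {n : LV S}
    {F : Type} [Field F] [Finite F] [CharP F 2] {k : ℕ}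
    {M : NatC F (S : Subgroup G) P (zl (S : Subgroup G) P) (cv (S : Subgroup G) P) k}
    {L Z A : Fin k → Subgroup G} (D : Dt P n M L Z A) (hq : 4 ≤ Nat.card F) {X Z₁ : Subgroup G}
    (hZ : Z₁ ≤ zc (S : Subgroup G)) (hZ1 : Z₁ ≠ ⊥) (hBM : BM n X (centralizer (Z₁ : Set G)))
    (hQ : QFix n X (centralizer (Z₁ : Set G))) (hQF : QFam P n X (centralizer (Z₁ : Set G)))
    (hL : ∀ i, L i ≤ X) (hD : centralizer (ZT n : Set G) ≤ X) (hN : normalizer (BT n : Set G) ≤ X) :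
    centralizer (Z₁ : Set G) ≤ X := by
  by_contra hM
  obtain ⟨T, Y, s⟩ := exists_sel D hZ hZ1 hBM hQ hD hN hM
  have hSX : (S : Subgroup G) ≤ X := ((lb n).two_le S.isPGroup' D.BS).trans hN
  have hZM : normalizer (ZT n : Set G) ≤ X := (lb n).norm_zj_le.trans (sup_le hD hN)
  have hfam := exists_fam D.ln s.pair hQF hD (s.TS.trans hSX) hZM
  have hPhi := phi_univ s hQF hD hN hq
  by_cases h4 : Nat.card F = 4
  · exact D.case_four s.pair s.TS hfam hL hD hN hPhi h4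
  · exact D.case_two s.pair s.TS hfam s.cen hD hN hPhi h4

/-- **`CoreQ`.** -/
theorem coreQ : CoreQ.{u} := by
  intro G _ _ S P n F _ _ _ k M L Z A D hq X hBM hQ hQF hL _ hD hN
  have h1 : (1 : G) ∈ normalizer (BT n : Set G) := one_mem _
  have h2 := hBM 1 h1
  have h3 := hQ 1 h1
  have h4 := hQF 1 h1
  rw [cj_one] at h2 h3 h4
  have hne : ZT n ≠ ⊥ := fun e => D.bg.Z_ne _ (le_bot_iff.1 ((D.ln.fr.Z_le ⟨0, D.k_pos⟩).trans e.le))
  obtain ⟨z, hz, hz1, hzS⟩ := SWQ.exists_fix S.isPGroup' (ZT_two n) hne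
    (((lb n).two_le S.isPGroup' D.BS).trans (lb n).norm_B_le)
  refine cent_le D hq (Z₁ := zc (S : Subgroup G)) le_rfl (fun e => hz1 ?_) h2 h3 h4 hL hD hN
  have h5 : z ∈ zc (S : Subgroup G) := mem_zc.2 ⟨D.BS ((lb n).ZB hz), (lb n).sq z hz, fun t ht =>
    mem_centralizer_iff.1 hzS t ht⟩
  rwa [e, mem_bot] at h5

/-- **(Om), case (L), natural, `q ≥ 4`**, from THEOREM QW and LAMBDA. -/
theorem omX {K : Cls.{u}} (hO : OffHQ K) (hL : LamHQ K) : Node.MulX.OmX K fun _ q => 4 ≤ q := omX_of_lam coreQ hO hL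

end Cfsg.Agent.Omega.OM.SWT

end

-- merged: Cfsg.Agent.Mrg.Omega.Node.OmXOf
section

/-!
# (Om) in the case (L), `q = 2`, natural and symmetric types

`FrX S P L W Z C A` : the ground frame `Lt S P (o2 P) L W Z C A 2` in the case (L), `zS` : elements `≠ 1` of `Ω₁(Z(S))` have
full support. `LocX S P M` : `M` 2-local, `M ≥ P, S, C_G(Z_J), N_G(B)`.

* `FrX.exists_c` : `Ω₁(Z(S)) = {1, c}`, `c` of full support; `FrX.trans` : `S` is transitive on the `Z i`;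
* sockets `OffH K` (THEOREM QW), `LamH K` (THEOREM LAMBDA);
* `omX_of : OffH K → LamH K → OmX K (fun _ q => q = 2)`, `omSX_of : OffH K → LamH K → OmSX K (fun _ _ => True)`.
-/

set_option autoImplicit false
set_option linter.unusedSectionVars false

namespace Cfsg.Agent.Omega.Node.OmXOf

open Subgroup Cfsg Cfsg.Agent.ZN.ChoiceBase Cfsg.Agent.ZN.ChoiceSit
open Cfsg.Agent.ZN (jj zj bau zc zl o2)
open Cfsg.Agent.MinSimple.MinParabolic (IsMinPar)
open Cfsg.Agent.MinSimple.VModule (oddGen oddGen_le)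
open Cfsg.Agent.Omega.MinPar (IsParS IsLoc)
open Cfsg.Agent.Omega.FFThm (NatK NatKM SymKM)
open Cfsg.Agent.Omega.FrameFF (cv)
open Cfsg.Agent.Omega.NO3S (HypN)
open Cfsg.Agent.Omega.NO3S.Level (lev nxt Lev BO CaseL lim)
open Cfsg.Agent.Omega.NO3S.WY (WQ WY)
open Cfsg.Agent.Omega.Frame (Cls)
open Cfsg.Agent.Omega.OM
open Cfsg.Agent.Omega.OM.Lev.Uni (FrL)
open Cfsg.Agent.Omega.OM.LevB (FBlk)
open Cfsg.Agent.Omega.OM.SwapT
open Cfsg.Agent.Omega.Node.MultiOf Cfsg.Agent.Omega.Node.MulG Cfsg.Agent.Omega.Node.MulX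

universe u

variable {G : Type u} [Group G] [Finite G]

/-- **The frame**: case (L), `K₀ = O₂(P)`, `q = 2`, natural or symmetric type. -/
structure FrX {ι : Type} (S : Sylow 2 G) (P : Subgroup G) (L W Z C A : ι → Subgroup G) : Prop where
  cl : CaseL S P
  lt : Lt S P (o2 P) L W Z C A 2
  zS : ∀ z ∈ zc (S : Subgroup G), z ≠ 1 → ∀ i, z ∉ C i

/-- A 2-local `M ≥ P, S, C_G(Z_J), N_G(B)`. -/
structure LocX (S : Sylow 2 G) (P M : Subgroup G) : Prop where
  loc : IsLoc (S : Subgroup G) M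
  P_le : P ≤ M
  D_le : centralizer (ZT (S : Subgroup G) (o2 P) : Set G) ≤ M
  N_le : normalizer (BT (S : Subgroup G) (o2 P) : Set G) ≤ M

/-! ### `Ω₁(Z(S))` -/

section frx

variable {ι : Type} {S : Sylow 2 G} {P : Subgroup G} {L W Z C A : ι → Subgroup G}

theorem zcS_le (h : Lt S P (o2 P) L W Z C A 2) : zc (S : Subgroup G) ≤ ZT (S : Subgroup G) (o2 P) := h.lev.next.zc_le

theorem mem_zcS [Finite ι] (h : Lt S P (o2 P) L W Z C A 2) {z : G} (hz : z ∈ ZT (S : Subgroup G) (o2 P))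
    (hc : ∀ s ∈ (S : Subgroup G), s * z = z * s) : z ∈ zc (S : Subgroup G) :=
  mem_zc.2 ⟨(lb h.wcK).BS ((lb h.wcK).ZB hz), (lb h.wcK).sq z hz, hc⟩

theorem S_norm (h : Lt S P (o2 P) L W Z C A 2) :
    (S : Subgroup G) ≤ normalizer (BT (S : Subgroup G) (o2 P) : Set G) :=
  (lb h.wcK).two_le S.isPGroup' (lb h.wcK).BS

theorem mem_zcS_of_full [Finite ι] (h : Lt S P (o2 P) L W Z C A 2) {c : G} (hc : c ∈ ZT (S : Subgroup G) (o2 P))
    (hcf : ∀ i, c ∉ C i) : c ∈ zc (S : Subgroup G) :=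
  mem_zcS h hc fun s hs => comm_of_supp h (S_norm h hs) hc fun i j _ =>
    ⟨fun h1 => absurd h1 (hcf i), fun h1 => absurd h1 (hcf j)⟩

/-- `Ω₁(Z(S)) = {1, c}`. -/
theorem FrX.mem_zcS_iff [Finite ι] (h : FrX S P L W Z C A) {c : G} (hc : c ∈ ZT (S : Subgroup G) (o2 P))
    (hcf : ∀ i, c ∉ C i) {z : G} : z ∈ zc (S : Subgroup G) ↔ z = 1 ∨ z = c := by
  constructor
  · intro hz
    by_cases h1 : z = 1
    · exact Or.inl h1
    · refine Or.inr (eq_of_supp h.lt (zcS_le h.lt hz) hc fun i => ?_)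
      exact ⟨fun h2 => absurd h2 (h.zS z hz h1 i), fun h2 => absurd h2 (hcf i)⟩
  · rintro (rfl | rfl)
    · exact one_mem _
    · exact mem_zcS_of_full h.lt hc hcf

theorem FrX.exists_c [Finite ι] (h : FrX S P L W Z C A) :
    ∃ c ∈ ZT (S : Subgroup G) (o2 P), (∀ i, c ∉ C i) ∧ ∀ z, z ∈ zc (S : Subgroup G) ↔ z = 1 ∨ z = c := by
  obtain ⟨c, hc, hcf⟩ := exists_full h.lt
  exact ⟨c, hc, hcf, fun z => h.mem_zcS_iff hc hcf⟩

/-- `S` is transitive on the `Z i`. -/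
theorem FrX.trans [Finite ι] (h : FrX S P L W Z C A) (i j : ι) : ∃ s ∈ (S : Subgroup G), cj s (Z i) = Z j := by
  obtain ⟨x, hx, hs⟩ := exists_supp h.lt {j | ∃ s ∈ (S : Subgroup G), cj s (Z i) = Z j}
  have hxS : x ∈ zc (S : Subgroup G) := by
    refine mem_zcS h.lt hx fun s hs' => comm_of_supp h.lt (S_norm h.lt hs') hx fun a b e => ?_
    rw [hs, hs]
    refine not_congr ⟨?_, ?_⟩
    · rintro ⟨t, ht, e'⟩
      exact ⟨s * t, mul_mem hs' ht, SwapL.cj_mul_eq e' e⟩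
    · rintro ⟨t, ht, e'⟩
      exact ⟨s⁻¹ * t, mul_mem (inv_mem hs') ht, SwapL.cj_mul_eq e' (SwapL.cj_inv_eq e)⟩
  have hi : x ∉ C i := fun hc => (hs i).1 hc ⟨1, one_mem _, by rw [cj_one]⟩
  have hx1 : x ≠ 1 := fun e => hi (e ▸ one_mem _)
  by_contra hj
  exact h.zS x hxS hx1 j ((hs j).2 hj)

end frx

/-! ### Sockets -/

section sockets

variable (K : Cls.{u})

/-- **Socket: THEOREM QW.** -/
def OffH : Prop :=
  ∀ (G : Type u) [Group G] [Finite G], K G → ∀ (S : Sylow 2 G) (P : Subgroup G) (ι : Type) [Finite ι]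
    (L W Z C A : ι → Subgroup G), FrX S P L W Z C A → ∀ M : Subgroup G, LocX S P M → QuietL.OffW S P M

/-- **Socket: THEOREM LAMBDA.** -/
def LamH : Prop :=
  ∀ (G : Type u) [Group G] [Finite G], K G → ∀ (S : Sylow 2 G) (P : Subgroup G) (ι : Type) [Finite ι]
    (L W Z C A : ι → Subgroup G), FrX S P L W Z C A → ∀ M : Subgroup G, LocX S P M → QuietL.OffW S P M →
      ∀ T Y : Subgroup G, WY S P T Y → BT (S : Subgroup G) (o2 P) ≤ T → lim (S : Subgroup G) ≤ o2 Y →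
        Y ≤ centralizer (zc (S : Subgroup G) : Set G) → Y ≤ M

end sockets

/-! ### LL -/

section main

variable {ι : Type} [Finite ι] {S : Sylow 2 G} {P : Subgroup G} {L W Z C A : ι → Subgroup G}

/-- `LowT` from the socket, for `T ≤ S`. -/
theorem lowT_of (h : FrX S P L W Z C A) {M : Subgroup G} (hM : LocX S P M)
    (hl : ∀ T Y : Subgroup G, WY S P T Y → BT (S : Subgroup G) (o2 P) ≤ T → lim (S : Subgroup G) ≤ o2 Y →
      Y ≤ centralizer (zc (S : Subgroup G) : Set G) → Y ≤ M) {c : G} (hc : c ∈ ZT (S : Subgroup G) (o2 P))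
    (hcf : ∀ i, c ∉ C i) : LowT S (o2 P) M (centralizer ({c} : Set G)) := by
  intro T Y hT hB hY hYc hch hn hZ
  have cl := h.cl
  by_cases hlim : lim (S : Subgroup G) ≤ o2 Y
  swap
  · exact absurd (low_low h.lt cl.lim_le hc hcf hT hB hY hYc hch hlim) hZ
  obtain ⟨g, hg, hle, hzz⟩ := QuietL.exists_norm_B cl.wc cl.levQ hT.2.1 hB
  have hgi : g⁻¹ ∈ normalizer (BT (S : Subgroup G) (o2 P) : Set G) := inv_mem hg
  have hgQ : cj g⁻¹ (o2 P) = o2 P := mem_normalizer_iff_cj.1 (norm_K cl.wc hgi)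
  have hgB : cj g⁻¹ (BT (S : Subgroup G) (o2 P)) = BT (S : Subgroup G) (o2 P) := mem_normalizer_iff_cj.1 hgi
  have hgl : cj g⁻¹ (lim (S : Subgroup G)) = lim (S : Subgroup G) :=
    LevD.norm_of_wc (NO3S.Level.wc_lim S) (lb cl.wc).Bp (cl.lim_le.trans (K_le cl.wc)) hgi
  have ho2 : o2 (cj g⁻¹ Y) = cj g⁻¹ (o2 Y) := o2_cj _ _
  have hBT' : BT (S : Subgroup G) (o2 P) ≤ cj g⁻¹ T := by
    have := cj_mono g⁻¹ hB
    rwa [hgB] at this
  have hcg : g * c = c * g := comm_of_supp h.lt hg hc fun i j _ =>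
    ⟨fun h1 => absurd h1 (hcf i), fun h1 => absurd h1 (hcf j)⟩
  have hcY : cj g⁻¹ Y ≤ centralizer (zc (S : Subgroup G) : Set G) := by
    intro y hy
    rw [mem_centralizer_iff]
    intro z hz
    rcases (h.mem_zcS_iff hc hcf).1 hz with rfl | rfl
    · rw [one_mul, mul_one]
    · rw [mem_cj] at hy
      have h1 := mem_centralizer_singleton_iff.1 (hYc hy)
      have h3 : g⁻¹ * z = z * g⁻¹ := by
        rw [inv_mul_eq_iff_eq_mul, ← mul_assoc, hcg, mul_assoc, mul_inv_cancel, mul_one]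
      rw [inv_inv] at h1
      have h4 : g * (y * z) * g⁻¹ = g * (z * y) * g⁻¹ := by
        calc g * (y * z) * g⁻¹ = g * y * (z * g⁻¹) := by group
          _ = g * y * (g⁻¹ * z) := by rw [h3]
          _ = g * y * g⁻¹ * z := by group
          _ = z * (g * y * g⁻¹) := h1
          _ = (z * g) * y * g⁻¹ := by group
          _ = (g * z) * y * g⁻¹ := by rw [hcg]
          _ = g * (z * y) * g⁻¹ := by group
      exact (mul_left_cancel (mul_right_cancel h4)).symm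
  have hwy : WY S P (cj g⁻¹ T) (cj g⁻¹ Y) := by
    refine WY.of_mv cl ?_ ((K_le cl.wc).trans hBT') (NO1.JMin.syl_cj hT g⁻¹) (QuietL.isMinPar_cj g⁻¹ hY) ?_ ?_ ?_ ?_
    · have := cj_mono g⁻¹ hle
      rwa [cj_inv_cj] at this
    · rw [ho2]
      have := cj_mono g⁻¹ hch
      rwa [cj_inf, cj_centralizer] at this
    · intro hcon
      apply hZ
      have := cj_mono g hcon
      rwa [cj_cj_inv, cj_centralizer, ← NO3S.Level.zc_cj, cj_cj_inv] at this
    · intro hcon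
      apply hn
      rw [ho2] at hcon
      have := cj_mono g hcon
      rw [cj_cj_inv] at this
      refine le_trans (le_of_eq ?_) this
      rw [← hgQ, cj_cj_inv, hgQ]
    · rw [ho2]
      refine ((NO3S.Level.lev_mono (S : Subgroup G) (Nat.zero_le _)).trans hgl.ge).trans (cj_mono g⁻¹ hlim)
  have h2 := hl _ _ hwy hBT' (by rw [ho2]; exact hgl.ge.trans (cj_mono g⁻¹ hlim)) hcY
  have h3 := cj_mono g h2
  rw [cj_cj_inv] at h3
  exact h3.trans (cj_eq_of_mem_normalizer (le_normalizer (hM.N_le hg))).le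

/-- `P ≤ M` if `M` contains `N_G(B)` and the FF-blocks in `V_P`. -/
theorem P_le_of (h : Lt S P (o2 P) L W Z C A 2) (hn : ¬ nxt (S : Subgroup G) (o2 P) ≤ o2 P) {M : Subgroup G}
    (hK : ∀ L V : Subgroup G, FBlk (BT (S : Subgroup G) (o2 P)) L V → V ≤ zc (o2 P) → L ≤ M)
    (hN : normalizer (BT (S : Subgroup G) (o2 P) : Set G) ≤ M) : P ≤ M := by
  have hG := h.hyp.ctx.char2
  have hZ : ¬ P ≤ centralizer (zc (S : Subgroup G) : Set G) := fun hle =>
    h.hyp.star.not_zc (hle.trans (centralizer_le_normalizer _))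
  obtain ⟨L', V', -, hF, hV, hsup⟩ := exists_fblk h.wcK h.lev h.hyp.syl (lb h.wcK).BS h.hyp.star.toIsPar.toIsMinPar
    (h.hyp.star.isLoc.char2 S hG) le_rfl hn hZ
  exact hsup.trans (sup_le ((S_norm h).trans hN) (hK _ _ hF hV))

/-- **(Om) is impossible in the case (L)**, `q = 2`: the group `KX` has `O₂(KX) = 1` if `N_G(B)` normalises it. -/
theorem noOmX (h : FrX S P L W Z C A)
    (hb : ∀ i, FBX (BT (S : Subgroup G) (o2 P)) (zl (S : Subgroup G) P) (L i) (W i))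
    (hN : normalizer (BT (S : Subgroup G) (o2 P) : Set G) ≤
      normalizer (o2 (KX (BT (S : Subgroup G) (o2 P)) (ZT (S : Subgroup G) (o2 P)) (zl (S : Subgroup G) P)) : Set G))
    (hO : ∀ M : Subgroup G, LocX S P M → QuietL.OffW S P M)
    (hL : ∀ M : Subgroup G, LocX S P M → QuietL.OffW S P M →
      ∀ T Y : Subgroup G, WY S P T Y → BT (S : Subgroup G) (o2 P) ≤ T → lim (S : Subgroup G) ≤ o2 Y →
        Y ≤ centralizer (zc (S : Subgroup G) : Set G) → Y ≤ M) :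
    o2 (KX (BT (S : Subgroup G) (o2 P)) (ZT (S : Subgroup G) (o2 P)) (zl (S : Subgroup G) P)) = ⊥ := by
  obtain ⟨c, hc, hcf⟩ := exists_full h.lt
  have hn := (top_caseL h.cl).nxt
  have hK : ∀ L V : Subgroup G, FBlk (BT (S : Subgroup G) (o2 P)) L V → V ≤ zc (o2 P) →
      L ≤ KX (BT (S : Subgroup G) (o2 P)) (ZT (S : Subgroup G) (o2 P)) (zl (S : Subgroup G) P) := fun L V hF hV =>
    blk_le ⟨⟨hF.fb, hF.blk⟩, hV.trans h.cl.zc_eq.le⟩
  refine noOm SwapL.sitFFalse h.lt hn hK cent_le (fun i => blk_le (hb i)) hN hc hcf fun M hM hNM ho => ?_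
  have hD : centralizer (ZT (S : Subgroup G) (o2 P) : Set G) ≤ M := cent_le.trans hM
  have hloc : LocX S P M :=
    { loc := ⟨(S_norm h.lt).trans hNM, ho⟩
      P_le := P_le_of h.lt hn (fun L V hF hV => (hK L V hF hV).trans hM) hNM
      D_le := hD
      N_le := hNM }
  have hoff := hO M hloc
  exact ⟨lowT_of h hloc (hL M hloc hoff) hc hcf,
    QuietL.qFix_of h.cl hoff hD h.lt.fr.ZJV hNM _, QuietL.qFam_of h.cl hoff hD h.lt.fr.ZJV hNM _⟩

end main

/-! ### The frames -/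

section frames

variable {S : Sylow 2 G} {P : Subgroup G}

/-- Natural type. -/
theorem frX_nat {k : ℕ} {L W Z C A : Fin k → Subgroup G} (h : MulL S P (BT (S : Subgroup G) (o2 P))
    (ZT (S : Subgroup G) (o2 P)) L W Z C A 2) : FrX S P L W Z C A := by
  have hlt : Lt S P (o2 P) L W Z C A 2 :=
    ⟨h.cl.hypN, h.cl.wc, h.cl.levQ, le_rfl, by rw [h.cl.zc_eq]; exact h.fr, h.bg.two⟩
  refine ⟨h.cl, hlt, fun z hz hz1 j hj => hz1 (h.fr.C0 z (h.fr.ZJV (zcS_le hlt hz)) fun i => ?_)⟩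
  obtain ⟨s, hs, e⟩ := h.bg.trans i j
  have hsP : s ∈ P := h.cl.hypN.syl.1 hs
  obtain ⟨σ, hσ⟩ := h.bg.perm s hsP
  obtain ⟨h1, h2⟩ := hσ i
  have hij : σ i = j := by
    by_contra hne
    obtain ⟨w, hw, hw1⟩ := Z_ne hlt j
    have hw' : w ∈ W j := Z_W hlt j hw
    have h3 : w ∈ C j := h.fr.WjC j (σ i) (Ne.symm hne) (by rw [← h1, e]; exact hw')
    have h4 : w ∈ W j ⊓ C j := ⟨hw', h3⟩
    rw [h.fr.dir j, mem_bot] at h4
    exact hw1 h4
  rw [hij] at h2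
  have h5 : z ∈ cj s (C i) := by rw [h2]; exact hj
  rw [mem_cj] at h5
  have h6 : s⁻¹ * z * s = z := by
    rw [mul_assoc, ← (mem_zc.1 hz).2.2 s hs, inv_mul_cancel_left]
  rwa [h6] at h5

end frames

variable {K : Cls.{u}}

/-- **`OmX K (q = 2)`** -/
theorem omX_of (hO : OffH K) (hL : LamH K) : OmX K fun _ q => q = 2 := by
  intro G _ _ hK S P B ZJ k L W Z C A q _ hq hM ho _ hN
  subst hq
  obtain ⟨h1, rfl, rfl, h2, h3, h4⟩ := hM
  have hM' : MulL S P (BT (S : Subgroup G) (o2 P)) (ZT (S : Subgroup G) (o2 P)) L W Z C A 2 :=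
    ⟨h1, rfl, rfl, h2, h3, h4⟩
  exact absurd (noOmX (frX_nat hM') hM'.fbx (le_sup_right.trans hN)
    (hO G hK S P (Fin k) L W Z C A (frX_nat hM')) (hL G hK S P (Fin k) L W Z C A (frX_nat hM'))) ho

/-- **`OmSX K`** -/
theorem omSX_of (hO : OffH K) (hL : LamH K) : OmSX K fun _ _ => True := by
  intro G _ _ hK S P B ZJ ι L W Z C A k m hk hm _ hM ho _ hN
  obtain ⟨cl, rfl, rfl, ⟨N⟩, -, -, -⟩ := hM
  obtain ⟨ι, hι, W, d, t, r, L, A, hout, hblk, -, -, h2, hF⟩ := Lev.Sym.exists_sym_lev FF.Glob.ffthmM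
    cl.ctx.char2 cl.pss.par cl.levQ le_rfl cl.hypN.toHyp.inf_eq_bot (exists_BO_caseL cl) hk hm N
  have hlt : Lt S P (o2 P) L W (fun i => zpowers (d i)) (fun i => FrSym.CC W i) A 2 :=
    ⟨cl.hypN, cl.wc, cl.levQ, le_rfl, hF, h2⟩
  have hF' := hF
  rw [cl.zc_eq] at hF'
  have hbau := hout.bau
  have e1 := (NO3S.OneLine.lev_eq FF.Glob.ffthmM cl.ctx.char2 cl.pss.par cl.levQ le_rfl
    cl.hypN.toHyp.inf_eq_bot (exists_BO_caseL cl)).2
  have e2 : Lev.SIn.ZJ (zl (S : Subgroup G) P) (nxt (S : Subgroup G) (o2 P)) = zc (nxt (S : Subgroup G) (o2 P)) :=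
    e1.symm
  rw [e2] at hbau
  have hM' : SymL S P (BT (S : Subgroup G) (o2 P)) (ZT (S : Subgroup G) (o2 P)) L W
      (fun i => zpowers (d i)) (fun i => FrSym.CC W i) A k m := ⟨cl, rfl, rfl, ⟨N⟩, hF', hι, h2⟩
  have hfr : FrX S P L W (fun i => zpowers (d i)) (fun i => FrSym.CC W i) A := by
    refine ⟨cl, hlt, fun z hz hz1 j hj => hz1 ?_⟩
    have hzT := zcS_le hlt hz
    have h3 : P ≤ centralizer ({z} : Set G) := by
      refine (hblk j).sup_T hbau (fun s hs => ?_) fun l hl => ?_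
      · exact mem_centralizer_singleton_iff.2 ((mem_zc.1 hz).2.2 s hs)
      · exact mem_centralizer_singleton_iff.2 (hlt.fr.LC j l hl z hzT hj)
    have h4 : z ∈ zc (S : Subgroup G) ⊓ centralizer (P : Set G) :=
      ⟨hz, mem_centralizer_iff.2 fun p hp => mem_centralizer_singleton_iff.1 (h3 hp)⟩
    rw [cl.hypN.toHyp.inf_eq_bot, mem_bot] at h4
    exact h4
  exact absurd (noOmX hfr hM'.fbx (le_sup_right.trans hN)
    (hO G hK S P ι L W _ _ A hfr) (hL G hK S P ι L W _ _ A hfr)) ho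

end Cfsg.Agent.Omega.Node.OmXOf

end

-- merged: Cfsg.Agent.Mrg.Omega.Node.LamHOf
section

/-!
# THEOREM LAMBDA in the socket `LamH` of `Node/OmXOf.lean`

`lamH : LamH K`; so `(Om)` of the case (L), `q = 2`, natural and symmetric types, follows from THEOREM QW (`OffH`).
-/

set_option autoImplicit false

namespace Cfsg.Agent.Omega.Node.OmXOf

open Subgroup Cfsg
open Cfsg.Agent.Omega.Frame (Cls)
open Cfsg.Agent.Omega.Node.MulX (OmX OmSX)

universe u

/-- **THEOREM LAMBDA.** -/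
theorem lamH (K : Cls.{u}) : LamH K := fun _ _ _ _ _ _ _ _ _ _ _ _ _ hF _ _ ho _ _ hw hB hl hY =>
  NO3S.CaseLW.Lam.le_of_offW hF.cl hF.lt ho hw hB hl hY

/-- **(Om)**, case (L), natural blocks, `q = 2`, from THEOREM QW. -/
theorem omX_of_off {K : Cls.{u}} (ho : OffH K) : OmX K fun _ q => q = 2 := omX_of ho (lamH K)

/-- **(Om)**, case (L), symmetric blocks, from THEOREM QW. -/
theorem omSX_of_off {K : Cls.{u}} (ho : OffH K) : OmSX K fun _ _ => True := omSX_of ho (lamH K)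

end Cfsg.Agent.Omega.Node.OmXOf

end

-- merged: Cfsg.Agent.Mrg.Omega.Node.QWGlue
section

section


/-!
# THEOREM QW (helper866 #24897, helper276 #25131), the glue over `FrL`, every `q`

`WQ S P T Y`, `B ≤ T`, `Y ≤ C_G(Z)`, `M` 2-local, `P, C_G(Z_J) ≤ M`, `Y ≰ M`, `V_P ≤ O₂(C_G(z))` for one
`1 ≠ z ∈ Z` of full support: some best offender `A ≤ T` on `⟨V_P^Y⟩` is not in `O₂(Y)`.
-/

set_option autoImplicit false

namespace Cfsg.Agent.Omega.Node.QWGlue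

open Subgroup Cfsg Cfsg.Agent.ZN.ChoiceBase Cfsg.Agent.ZN.ChoiceSit
open Cfsg.Agent.ZN (jj zj bau zc zl o2)
open Cfsg.Agent.Omega.MinPar (IsLoc)
open Cfsg.Agent.Omega.NO1.BestOff (Best)
open Cfsg.Agent.Omega.NO3S.Level (nxt Lev lim CaseL)
open Cfsg.Agent.Omega.NO3S.WY (WQ ZJ BB)
open Cfsg.Agent.Omega.NO3b.EZero (cl)
open Cfsg.Agent.Omega.FrameNOFF (CZ)
open Cfsg.Agent.Omega.ML.Final (MLK)
open Cfsg.Agent.Omega.OM.Lev.Uni (FrL)
open Cfsg.Agent.Omega.OM.SwapT (lb norm_K)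
open Cfsg.Agent.Omega.NO3S.CaseLW

universe u

variable {G : Type u} [Group G] [Finite G] {S : Sylow 2 G} {P T Y M : Subgroup G}

/-- `U ≤ O₂(C_G(Z))` -/
theorem U_le_o2 (h : WQ S P T Y) (hY : Y ≤ CZ (S : Subgroup G)) :
    cl (zl (S : Subgroup G) P) Y ≤ o2 (CZ (S : Subgroup G)) := by
  refine NO3b.EZero.cl_le fun y hy => ?_
  have h1 := cj_mono y (h.cl.low P h.parP)
  rwa [cj_eq_of_mem_normalizer (ZN.le_normalizer_o2 _ (hY hy))] at h1

theorem U_sq (h : WQ S P T Y) : ∀ x ∈ cl (zl (S : Subgroup G) P) Y, x * x = 1 := fun x hx => by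
  rw [← sq]
  exact h.V_sq x (h.zl_GX_le (QWc.U_le_zl h hx))

/-- **THEOREM QW** -/
theorem offW (h : WQ S P T Y) (BT : BB (S : Subgroup G) P ≤ T) (hY : Y ≤ CZ (S : Subgroup G))
    (hM : IsLoc (S : Subgroup G) M) (hPM : P ≤ M) (hZM : centralizer (ZJ (S : Subgroup G) P : Set G) ≤ M)
    (hYM : ¬ Y ≤ M) (ml : MLK.{u, u}) (hK : IsKGroup M) {ι : Type*} [Finite ι] {L W Z C A : ι → Subgroup G} {q : ℕ}
    (fr : FrL (BB (S : Subgroup G) P) (o2 P) (zl (S : Subgroup G) P) (zl (S : Subgroup G) P)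
      (ZJ (S : Subgroup G) P) L W Z C A q) (two : ∀ i : ι, ∃ j, j ≠ i) {z : G} (hz : z ∈ zc (S : Subgroup G))
    (hf : ∀ i, z ∉ C i) (lowz : zl (S : Subgroup G) P ≤ o2 (centralizer ({z} : Set G))) :
    ∃ A ≤ T, Best (cl (zl (S : Subgroup G) P) Y) A ∧
      ¬ A ≤ centralizer (cl (zl (S : Subgroup G) P) Y : Set G) ∧ ¬ A ≤ o2 Y := by
  have hcl := h.cl
  have hLB := lb hcl.wc
  have hN : normalizer (BB (S : Subgroup G) P : Set G) ≤ normalizer (zl (S : Subgroup G) P : Set G) := fun g hg =>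
    hcl.norm_o2_le (norm_K hcl.wc hg)
  have hzJ : z ∈ ZJ (S : Subgroup G) P := hcl.levQ.next.zc_le hz
  have ho : ∀ i, ∀ c ∈ Z i, W i ≤ o2 (centralizer ({z * c} : Set G)) := fun i c hc =>
    QWoFr.le_o2_q fr h.hG hLB.Bp (fun R hR hB => hLB.two_le hR hB) hN two hzJ hf lowz i hc
  refine QWd.exists_best_of h BT hY hZM hPM hYM fun neg => ?_
  have hUC : cl (zl (S : Subgroup G) P) Y ≤ centralizer (ZJ (S : Subgroup G) P : Set G) :=
    (QWc.U_comm h).trans (centralizer_le ((NO3S.WY.ZJ_le hcl).trans (NO3b.EZero.le_cl _ _)))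
  have hUZ := U_le_o2 h hY
  have hUO : cl (zl (S : Subgroup G) P) Y ≤ o2 (M ⊓ CZ (S : Subgroup G)) := by
    refine fun x hx => ?_
    have h1 : x ∈ M := hZM (hUC hx)
    refine MinSimple.VModule.le_o2 (L := M ⊓ CZ (S : Subgroup G)) (N := M ⊓ o2 (CZ (S : Subgroup G)))
      (inf_le_inf_left _ (MinSimple.VModule.o2_le _)) ((isPGroup_o2 _).to_le inf_le_right) (fun g hg => ?_) ⟨h1, hUZ hx⟩
    rw [mem_normalizer_iff_cj, cj_inf, cj_eq_of_mem_normalizer (le_normalizer hg.1),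
      cj_eq_of_mem_normalizer (ZN.le_normalizer_o2 _ hg.2)]
  have hcent := QW.cent_zl_q S h.hG ml hM hK (MinSimple.VModule.zc_le_zl _ _ hz) (U_sq h) hUO
    fun off hne => QWex.hex h hM hPM neg fr hY hz ho off hne
  exact QW.le_o2_M S hM.le (h.cl.ctx.sylow_ne_bot S) hcent hUZ

end Cfsg.Agent.Omega.Node.QWGlue

end

section


/-!
# (Om) over the case (L): OffW from THEOREM QW

* `offW_of` : `QuietL.OffW S P M`, every `q`, over `FrL`;
* **`offH : MLK → OmXOf.OffH K`** (`q = 2`, natural and symmetric);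
* `LowZ K` : `V_P ≤ O₂(C_G(z))`, `1 ≠ z ∈ Z` (`q ≥ 4`, natural); **`offHQ : MLK → LowZ K → OmTopQ.OffHQ K`**.
-/

set_option autoImplicit false

namespace Cfsg.Agent.Omega.Node.QWDone

open Subgroup Cfsg Cfsg.Agent.ZN.ChoiceBase Cfsg.Agent.ZN.ChoiceSit
open Cfsg.Agent.ZN (jj zj bau zc zl o2)
open Cfsg.Agent.Omega.MinPar (IsLoc)
open Cfsg.Agent.Omega.NO3S.Level (nxt Lev lim CaseL)
open Cfsg.Agent.Omega.NO3S.WY (WQ ZJ BB)
open Cfsg.Agent.Omega.FrameNOFF (CZ)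
open Cfsg.Agent.Omega.Frame (Cls Ctx)
open Cfsg.Agent.Omega.ML.Final (MLK)
open Cfsg.Agent.Omega.OM
open Cfsg.Agent.Omega.OM.Lev.Uni (FrL)
open Cfsg.Agent.Omega.OM.SwapT (ZT BT)
open Cfsg.Agent.Omega.OM.SwapT.QuietL (OffW)
open Cfsg.Agent.Omega.Node.MulX
open Cfsg.Agent.Omega.Node.OmXOf (FrX LocX OffH)
open Cfsg.Agent.Omega.Node.OmTopQ (OffHQ)

universe u

section one

variable {G : Type u} [Group G] [Finite G] {S : Sylow 2 G} {P M : Subgroup G}

/-- a 2-local over `S` is a `K`-group -/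
theorem isKGroup (hG : Ctx G) (h : IsLoc (S : Subgroup G) M) : IsKGroup M := by
  have := hG.simple
  exact hG.kproper _ (h.ne_top S hG.not_isPGroup)

variable {ι : Type} [Finite ι] {L W Z C A : ι → Subgroup G} {q : ℕ}

/-- **OffW** -/
theorem offW_of (ml : MLK.{u, u}) (h : CaseL S P)
    (fr : FrL (BT (S : Subgroup G) (o2 P)) (o2 P) (zl (S : Subgroup G) P) (zl (S : Subgroup G) P)
      (ZT (S : Subgroup G) (o2 P)) L W Z C A q) (two : ∀ i : ι, ∃ j, j ≠ i) (hM : IsLoc (S : Subgroup G) M)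
    (hP : P ≤ M) (hZ : centralizer (ZT (S : Subgroup G) (o2 P) : Set G) ≤ M) {z : G}
    (hz : z ∈ zc (S : Subgroup G)) (hf : ∀ i, z ∉ C i)
    (lowz : zl (S : Subgroup G) P ≤ o2 (centralizer ({z} : Set G))) : OffW S P M := by
  intro T Y hw hB _ hY hn
  obtain ⟨A', hA, hb, -, hn'⟩ := QWGlue.offW hw hB hY hM hP hZ hn ml (isKGroup h.ctx hM) fr two hz hf lowz
  exact ⟨A', hA, hb, hn'⟩

end one

/-- **THEOREM QW, `q = 2`, natural and symmetric** -/
theorem offH (K : Cls.{u}) (ml : MLK.{u, u}) : OffH K := by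
  intro G _ _ _ S P ι _ L W Z C A hx M hM
  obtain ⟨c, -, hcf, hzc⟩ := hx.exists_c
  have hcz : c ∈ zc (S : Subgroup G) := (hzc c).2 (Or.inr rfl)
  have e : CZ (S : Subgroup G) = centralizer ({c} : Set G) := by
    refine le_antisymm (centralizer_le (Set.singleton_subset_iff.2 hcz)) fun g hg => ?_
    refine mem_centralizer_iff.2 fun z hz => ?_
    rcases (hzc z).1 hz with rfl | rfl
    · rw [one_mul, mul_one]
    · exact (mem_centralizer_singleton_iff.1 hg).symm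
  have hfr := hx.lt.fr
  rw [hx.cl.zc_eq] at hfr
  refine offW_of ml hx.cl hfr hx.lt.two hM.loc hM.P_le hM.D_le hcz hcf ?_
  rw [← e]
  exact hx.cl.low P hx.cl.pss.par

section nat

variable {G : Type u} [Group G] [Finite G] {S : Sylow 2 G} {P B ZJ : Subgroup G} {k : ℕ}
  {L W Z C A : Fin k → Subgroup G} {q : ℕ}

/-- the elements `≠ 1` of `Ω₁(Z(S))` have full support -/
theorem zS (h : MulL S P B ZJ L W Z C A q) : ∀ z ∈ zc (S : Subgroup G), z ≠ 1 → ∀ i, z ∉ C i := by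
  have hle : zc (S : Subgroup G) ≤ ZJ := by
    rw [h.eZ]
    exact h.cl.levQ.next.zc_le
  refine fun z hz hz1 j hj => hz1 (h.fr.C0 z (h.fr.ZJV (hle hz)) fun i => ?_)
  obtain ⟨s, hs, e⟩ := h.bg.trans i j
  have hsP : s ∈ P := h.cl.hypN.syl.1 hs
  obtain ⟨σ, hσ⟩ := h.bg.perm s hsP
  obtain ⟨h1, h2⟩ := hσ i
  have hij : σ i = j := by
    by_contra hne
    obtain ⟨w, hw, hw1⟩ := NO3S.CaseLW.QWoFr.Z_ne h.fr j
    have hw' : w ∈ W j := (h.fr.blk j).ZV hw
    have h3 : w ∈ C j := h.fr.WjC j (σ i) (Ne.symm hne) (by rw [← h1, e]; exact hw')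
    have h4 : w ∈ W j ⊓ C j := ⟨hw', h3⟩
    rw [h.fr.dir j, mem_bot] at h4
    exact hw1 h4
  rw [hij] at h2
  have h5 : z ∈ cj s (C i) := by rw [h2]; exact hj
  rw [mem_cj] at h5
  have h6 : s⁻¹ * z * s = z := by
    rw [mul_assoc, ← (mem_zc.1 hz).2.2 s hs, inv_mul_cancel_left]
  rwa [h6] at h5

end nat

/-- **Socket:** `V_P ≤ O₂(C_G(z))`, `1 ≠ z ∈ Ω₁(Z(S))`, case (L), natural, `q ≥ 4`. -/
def LowZ (K : Cls.{u}) : Prop :=
  ∀ (G : Type u) [Group G] [Finite G], K G → ∀ (S : Sylow 2 G) (P B ZJ : Subgroup G) (k : ℕ)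
    (L W Z C A : Fin k → Subgroup G) (q : ℕ), 2 ≤ k → 4 ≤ q → MulL S P B ZJ L W Z C A q →
      ∀ z ∈ zc (S : Subgroup G), z ≠ 1 → IsKGroup (centralizer ({z} : Set G)) →
        zl (S : Subgroup G) P ≤ o2 (centralizer ({z} : Set G))

/-- **THEOREM QW, `q ≥ 4`, natural** -/
theorem offHQ {K : Cls.{u}} (ml : MLK.{u, u}) (hl : LowZ K) : OffHQ K := by
  intro G _ _ hKG S P B ZJ k L W Z C A q hk hq h M hM hP hZ _
  have hfr := h.fr
  rw [h.eqB, h.eZ] at hfr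
  rw [h.eZ] at hZ
  have hne : zc (S : Subgroup G) ≠ ⊥ := MinSimple.Basic.zc_ne_bot S.isPGroup' (h.cl.ctx.sylow_ne_bot S)
  obtain ⟨⟨z, hz⟩, hz'⟩ := (Subgroup.ne_bot_iff_exists_ne_one).1 hne
  have hz1 : z ≠ 1 := fun e => hz' (Subtype.ext e)
  have hSz : (S : Subgroup G) ≤ centralizer ({z} : Set G) := fun s hs =>
    mem_centralizer_singleton_iff.2 ((mem_zc.1 hz).2.2 s hs)
  have hKz := isKGroup h.cl.ctx (MinPar.isLoc_centralizer S (mem_zc.1 hz).2.1 hz1 hSz)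
  exact offW_of ml h.cl hfr h.bg.two hM hP hZ hz (zS h z hz hz1)
    (hl G hKG S P B ZJ k L W Z C A q hk hq h z hz hz1 hKz)

end Cfsg.Agent.Omega.Node.QWDone

end

end

-- merged: Cfsg.Agent.Mrg.Omega.Node.CaseLPOpen
section

/-!
# The case (L) of GammaFF: open inputs

`CaseOp K` = what is missing of `CaseIn K` (`Node/CaseLPEnds.lean`), given (ML) and THEOREM KL;
`CaseOp.caseIn : MLK → NoInp → CaseOp K → CaseIn K`.

Plugged: (E), `q = 2`, from `NoW K` (helper890, 157, 388); (Om), `q = 2` and symmetric types (helper440, 417, 590, 182, 373,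
866, 194, 498, 353, 276, 618, 792); (Om), `q ≥ 4`, from `LamHQ K` (helper538, 334, 397, 987); (E), symmetric types
(helper497, 164).
-/

set_option autoImplicit false

namespace Cfsg.Agent.Omega.Node.CaseLPOpen

open Cfsg Cfsg.Agent.Omega.Frame
open Cfsg.Agent.Omega.Node.MulX
open Cfsg.Agent.Omega.Node.CaseLPEnds (CaseIn ELX)

universe u

/-- **The open inputs of the FF-ends over `CaseLP`.** -/
structure CaseOp (K : Cls.{u}) : Prop where
  /-- no weird `Y ≤ C_G(Z_l : l ≠ j)`, `q = 2` -/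
  noW : MulXTwo.NoW K
  /-- THEOREM LAMBDA, `q ≥ 4` -/
  lamQ : OmTopQ.LamHQ K
  /-- (E), natural, `k = 2`, `q ≥ 4` -/
  eTwoQ : EX K fun k q => k = 2 ∧ 4 ≤ q
  /-- (E), natural, `k ≥ 3`, `q ≥ 4` -/
  eManyQ : EX K fun k q => 3 ≤ k ∧ 4 ≤ q
  /-- (E), `S₅`, light vectors not 2-central -/
  light : ELX K

theorem lowZ (hML : ML.Final.MLK.{u, u}) (K : Cls.{u}) : QWDone.LowZ K :=
  fun _ _ _ _ _ _ _ _ _ _ _ _ _ _ _ _ _ h _ hz hz1 _ => NO3S.CaseLW.LowOne.low_one h hML hz hz1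

/-- **THEOREM QW**, `q ≥ 4` -/
theorem offHQ (hML : ML.Final.MLK.{u, u}) (K : Cls.{u}) : OmTopQ.OffHQ K := QWDone.offHQ hML (lowZ hML K)

theorem CaseOp.caseIn {K : Cls.{u}} (hML : ML.Final.MLK.{u, u}) (hKL : KL.Quo.NoInp.{u, u}) (I : CaseOp K) :
    CaseIn K where
  omTwo := OmXOf.omX_of_off (QWDone.offH K hML)
  eTwo := MulXTwo.eX_two hML hKL I.noW
  eMany := MulXThree.eX_three hML hKL I.noW
  omQ := OM.SWT.omX (offHQ hML K) I.lamQ
  eTwoQ := I.eTwoQ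
  eManyQ := I.eManyQ
  omS := OmXOf.omSX_of_off (QWDone.offH K hML)
  light := I.light
  eS := EDel.eSX hML fun _ _ h => h

end Cfsg.Agent.Omega.Node.CaseLPOpen

end
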