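import Cfsg.Agent.Mrg.Omega.NO1.Beta.Meet
import Cfsg.Agent.Mrg.Omega.All.NOne.TwoC
import Cfsg.Agent.Mrg.Omega.NO1.Tens.Loc
import Cfsg.Agent.Mrg.Omega.NO1.Beta.Plug
import Mathlib
import Cfsg.Agent.Omega.NoFF.Basic
import Mathlib.GroupTheory.Commutator.Basic
import Mathlib.GroupTheory.Index
import Cfsg.Agent.Mrg.Omega.Node.NO1
import Cfsg.Agent.Mrg.Omega.All.NOne.OfGIn
import Cfsg.Agent.Mrg.Omega.NO1.Types

-- merged: Cfsg.Agent.Mrg.Omega.NO1.Gamma.Grid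
section

section


/-!
# Type (gamma): rows and columns, (I1) of the plan

`Grid.rc : Grid V R Q → RC V R Q`.
-/

set_option autoImplicit false
set_option linter.unusedVariables false
set_option linter.unusedSectionVars false

open Subgroup
open scoped Pointwise

namespace Cfsg.Agent.Omega.NO1.Gamma

open Cfsg.Agent.Omega.NO1.Beta.Meet (cj mem_cj conj_mem_cj cj_mul cj_inj cj_eq_of_comm cj_eq_of_mem
  mem_normalizer_of_cj cj_of_mem_normalizer)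

variable {G : Type*} [Group G] {I J : Type*}

/-- product of two subgroups of an abelian group -/
theorem mem_sup_comm {A B : Subgroup G} (h : ∀ a ∈ A, ∀ b ∈ B, a * b = b * a) {x : G} (hx : x ∈ A ⊔ B) :
    ∃ a ∈ A, ∃ b ∈ B, x = a * b := by
  have hn : A ≤ normalizer (B : Set G) := by
    intro a ha
    apply mem_normalizer_of_cj
    apply cj_eq_of_comm
    intro b hb
    exact h a ha b hb
  have h1 := Subgroup.coe_mul_of_left_le_normalizer_right A B hn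
  rw [← SetLike.mem_coe, h1, Set.mem_mul] at hx
  obtain ⟨a, ha, b, hb, rfl⟩ := hx
  exact ⟨a, ha, b, hb, rfl⟩

theorem cj_one' (H : Subgroup G) : cj 1 H = H := by
  apply cj_eq_of_comm
  intro x _
  rw [one_mul, mul_one]

theorem cj_inv_of {c : G} {H K : Subgroup G} (h : cj c H = K) : cj c⁻¹ K = H := by
  rw [← h, ← cj_mul, inv_mul_cancel, cj_one']

theorem mem_of_cj {c x : G} {H K : Subgroup G} (h : cj c H = K) (hx : x ∈ H) : c * x * c⁻¹ ∈ K := by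
  rw [← h]; exact conj_mem_cj hx

theorem mem_of_cj' {c x : G} {H K : Subgroup G} (h : cj c H = K) (hx : x ∈ K) : c⁻¹ * x * c ∈ H := by
  rw [← h, mem_cj] at hx; exact hx

theorem mem_centralizer' {V : Subgroup G} {x : G} :
    x ∈ centralizer (V : Set G) ↔ ∀ v ∈ V, x * v = v * x := by
  rw [mem_centralizer_iff]
  exact ⟨fun h v hv => (h v hv).symm, fun h v hv => (h v hv).symm⟩

namespace Grid

variable {V : Subgroup G} {R Q : I → J → Subgroup G}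

/-- the transposed grid -/
theorem transpose (g : Grid V R Q) : Grid V (fun j i => R i j) (fun j i => Q i j) where
  comm := g.comm
  V_sq := g.V_sq
  R_le j i := g.R_le i j
  ne j i := g.ne i j
  row j i k := g.col i k j
  col j l i := g.row i j l
  disj j i l k h := (g.disj i j k l h).symm
  QQ j i := g.QQ i j
  Qsq j i := g.Qsq i j
  RQ j i := g.RQ i j
  cen j i := g.cen i j
  Q_V j i := g.Q_V i j
  conj y j i l k h := g.conj y i j k l h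
  perm j i y hy := by
    obtain ⟨σ, τ, h1, h2, h3⟩ := g.perm i j y hy
    exact ⟨τ, σ, h2, h1, fun l k => h3 k l⟩
  fix j i l k hl hk := g.fix i j k l hk hl
  tran j i l k l' k' hl hl' hk hk' := g.tran i j k l k' l' hk hk' hl hl'
  meet j i l k hl hk := g.meet i j k l hk hl
  RQj j i l k hl hk := g.RQj i j k l hk hl
  VE₁ j i k h := g.VE₂ i k j h
  VE₂ j l i h := g.VE₁ i j l h
  VE j i l k h h' := g.VE i j k l h' h
  EE j i l k hl hk := by
    refine (g.EE i j k l hk hl).trans ?_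
    rw [sup_assoc, sup_comm (R i l), ← sup_assoc]
  threeI := g.threeJ
  threeJ := g.threeI
  act₁ j i i' := g.act₂ j i i'
  act₂ i j j' := g.act₁ i j j'
  tor₁ j i := by
    obtain ⟨h, hh, h2⟩ := g.tor₂ i j
    refine ⟨h, ?_, h2⟩
    rw [iSup_comm]; exact hh
  tor₂ j i := by
    obtain ⟨h, hh, h2⟩ := g.tor₁ i j
    refine ⟨h, ?_, h2⟩
    rw [iSup_comm]; exact hh

variable (g : Grid V R Q)
include g

theorem inj {i k : I} {j l : J} (h : R i j = R k l) : i = k ∧ j = l :=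
  g.disj i j k l (by rw [← h, inf_idem]; exact g.ne i j)

theorem R_Q (i : I) (j : J) : R i j ≤ Q i j := g.row i j j

theorem V_le_C : V ≤ centralizer (V : Set G) := fun v hv => mem_centralizer'.2 fun w hw => g.comm v hv w hw

theorem C_V {c v : G} (hc : c ∈ centralizer (V : Set G)) (hv : v ∈ V) : c * v = v * c :=
  mem_centralizer'.1 hc v hv

theorem C_R {c : G} (hc : c ∈ centralizer (V : Set G)) (i : I) (j : J) : cj c (R i j) = R i j :=
  cj_eq_of_comm fun x hx => g.C_V hc (g.R_le i j hx)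

theorem C_Q {c : G} (hc : c ∈ centralizer (V : Set G)) (i : I) (j : J) : cj c (Q i j) = Q i j :=
  g.conj c i j i j (g.C_R hc i j)

theorem conj_V {i : I} {j : J} {y v : G} (hy : y ∈ Q i j) (hv : v ∈ V) : y * v * y⁻¹ ∈ V :=
  (mem_normalizer_iff.mp (g.Q_V i j hy) v).mp hv

theorem conj_C {y c : G} (hy : y ∈ normalizer (V : Set G)) (hc : c ∈ centralizer (V : Set G)) :
    y * c * y⁻¹ ∈ centralizer (V : Set G) := by
  rw [mem_centralizer'] at hc ⊢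
  intro v hv
  have h1 : y⁻¹ * v * y ∈ V := by
    have := (mem_normalizer_iff.mp ((normalizer (V : Set G)).inv_mem hy) v).mp hv
    rwa [inv_inv] at this
  calc y * c * y⁻¹ * v = y * (c * (y⁻¹ * v * y)) * y⁻¹ := by group
    _ = y * ((y⁻¹ * v * y) * c) * y⁻¹ := by rw [hc _ h1]
    _ = v * (y * c * y⁻¹) := by group

/-- `[C(V), Q i j] ≤ C_{Q i j}(V)` -/
theorem comm_CQ {i : I} {j : J} {c y : G} (hc : c ∈ centralizer (V : Set G)) (hy : y ∈ Q i j) :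
    c * y * c⁻¹ * y⁻¹ ∈ Q i j ∧ c * y * c⁻¹ * y⁻¹ ∈ centralizer (V : Set G) := by
  constructor
  · exact mul_mem (mem_of_cj (g.C_Q hc i j) hy) (inv_mem hy)
  · have := g.conj_C (g.Q_V i j hy) (inv_mem hc)
    have h2 := mul_mem hc this
    have e : c * y * c⁻¹ * y⁻¹ = c * (y * c⁻¹ * y⁻¹) := by group
    rw [e]; exact h2

theorem fix_R {i : I} {j : J} {y : G} (hy : y ∈ Q i j) : cj y (R i j) = R i j :=
  cj_eq_of_comm fun x hx => (g.RQ i j x hx y hy).symm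

theorem exists_ne_row (i : I) : ∃ k, k ≠ i := by
  obtain ⟨m, h, -⟩ := g.threeI i i; exact ⟨m, h⟩

theorem exists_ne_col (j : J) : ∃ l, l ≠ j := by
  obtain ⟨m, h, -⟩ := g.threeJ j j; exact ⟨m, h⟩

/-- an element of `Q i j` which fixes one more column fixes all columns -/
theorem fixc_of_one {i : I} {j l : J} (hl : l ≠ j) {y : G} (hy : y ∈ Q i j) (h : cj y (R i l) = R i l)
    (m : J) : cj y (R i m) = R i m := by
  by_cases hm : m = j
  · rw [hm]; exact g.fix_R hy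
  obtain ⟨k, hk⟩ := g.exists_ne_row i
  obtain ⟨z, hz, hzR⟩ := g.tran i j k l k m hk hk hl hm
  obtain ⟨σ, τ, h1, h2, h3⟩ := g.perm i j z hz
  have h4 : cj z (R i l) = R i m := by
    have h5 := h3 k l
    rw [hzR] at h5
    rw [h3 i l, h1, (g.inj h5).2]
  have h6 : cj (y * z * y⁻¹ * z⁻¹) (R i m) = R i m := by
    apply g.C_R
    exact g.V_le_C (g.R_le i j (g.QQ i j y hy z hz))
  have h7 : y * z = (y * z * y⁻¹ * z⁻¹) * (z * y) := by group
  calc cj y (R i m) = cj y (cj z (R i l)) := by rw [h4]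
    _ = cj (y * z) (R i l) := (cj_mul _ _ _).symm
    _ = cj ((y * z * y⁻¹ * z⁻¹) * (z * y)) (R i l) := by rw [← h7]
    _ = cj (y * z * y⁻¹ * z⁻¹) (cj z (cj y (R i l))) := by rw [cj_mul, cj_mul z y]
    _ = R i m := by rw [h, h4, h6]

/-- an element of `Q i j` fixing the columns -/
theorem fixc {i : I} {j : J} {y : G} (hy : y ∈ Q i j) (h : ∀ l, cj y (R i l) = R i l) :
    ∃ σ : I → I, σ i = i ∧ ∀ k l, cj y (R k l) = R (σ k) l := by
  obtain ⟨σ, τ, h1, h2, h3⟩ := g.perm i j y hy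
  refine ⟨σ, h1, fun k l => ?_⟩
  rw [h3 k l]
  have h4 := h3 i l
  rw [h l, h1] at h4
  rw [← (g.inj h4).2]

/-- `Q i j = Q' Q''` -/
theorem split {i : I} {j : J} {x : G} (hx : x ∈ Q i j) :
    ∃ x' ∈ Q i j, (∀ l, cj x' (R i l) = R i l) ∧ ∀ k, cj (x'⁻¹ * x) (R k j) = R k j := by
  obtain ⟨k, hk⟩ := g.exists_ne_row i
  obtain ⟨l, hl⟩ := g.exists_ne_col j
  obtain ⟨σ, τ, h1, h2, h3⟩ := g.perm i j x hx
  have hσ : σ k ≠ i := by
    intro h
    have h4 : cj x (R k j) = cj x (R i j) := by rw [h3, h3, h, h1]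
    exact hk (g.inj (cj_inj h4)).1
  obtain ⟨x', hx', hR⟩ := g.tran i j k l (σ k) l hk hσ hl hl
  obtain ⟨σ', τ', h1', h2', h3'⟩ := g.perm i j x' hx'
  have h5 := h3' k l
  rw [hR] at h5
  have h6 : ∀ m, cj x' (R i m) = R i m := by
    apply g.fixc_of_one hl hx'
    rw [h3', h1', ← (g.inj h5).2]
  refine ⟨x', hx', h6, ?_⟩
  have h7 : cj (x'⁻¹ * x) (R k j) = R k j := by
    rw [cj_mul, h3, h2]
    apply cj_inv_of
    rw [h3', h2', (g.inj h5).1]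
  intro m
  exact g.transpose.fixc_of_one (i := j) (j := i) hk ((Q i j).mul_mem ((Q i j).inv_mem hx') hx) h7 m

/-- two opposite points -/
theorem comm_DD {i k : I} {j l : J} (hk : k ≠ i) (hl : l ≠ j) {a b : G} (ha : a ∈ Q i j)
    (haC : a ∈ centralizer (V : Set G)) (hb : b ∈ Q k l) (hbC : b ∈ centralizer (V : Set G)) :
    a * b * a⁻¹ * b⁻¹ ∈ V := by
  apply g.meet i j k l hk hl
  refine mem_inf.2 ⟨?_, (g.comm_CQ haC hb).1⟩
  have h1 := (g.comm_CQ hbC ha).1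
  have e : a * b * a⁻¹ * b⁻¹ = (b * a * b⁻¹ * a⁻¹)⁻¹ := by group
  rw [e]; exact inv_mem h1

/-- the subgroup `V C_{Q i j}(V) C_{Q k l}(V)` for opposite points -/
def W {i k : I} {j l : J} (hk : k ≠ i) (hl : l ≠ j) : Subgroup G where
  carrier := {x | ∃ v ∈ V, ∃ a ∈ Q i j ⊓ centralizer (V : Set G), ∃ b ∈ Q k l ⊓ centralizer (V : Set G),
    x = v * a * b}
  one_mem' := ⟨1, one_mem _, 1, one_mem _, 1, one_mem _, by group⟩
  mul_mem' := by
    rintro _ _ ⟨v, hv, a, ha, b, hb, rfl⟩ ⟨v', hv', a', ha', b', hb', rfl⟩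
    have h1 := g.comm_DD hk hl (inv_mem ha'.1) (inv_mem ha'.2) (inv_mem hb.1) (inv_mem hb.2)
    have h1' : a'⁻¹ * b⁻¹ * a' * b ∈ V := by simpa using h1
    have h1'' := inv_mem h1'
    -- w = b⁻¹ a'⁻¹ b a'
    set w := (a'⁻¹ * b⁻¹ * a' * b)⁻¹ with hw
    refine ⟨v * v' * w, mul_mem (mul_mem hv hv') h1'', a * a', mul_mem ha ha', b * b', mul_mem hb hb', ?_⟩
    have c1 : b * v' = v' * b := g.C_V hb.2 hv'
    have c2 : a * v' = v' * a := g.C_V ha.2 hv'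
    have c3 : (a * a' * b) * w = w * (a * a' * b) := g.C_V (mul_mem (mul_mem ha.2 ha'.2) hb.2) h1''
    have e1 : b * a' = a' * b * w := by rw [hw]; group
    calc v * a * b * (v' * a' * b') = v * a * (b * v') * a' * b' := by group
      _ = v * (a * v') * (b * a') * b' := by rw [c1]; group
      _ = v * v' * (a * a' * b * w) * b' := by rw [c2, e1]; group
      _ = v * v' * w * (a * a') * (b * b') := by rw [c3]; group
  inv_mem' := by
    rintro _ ⟨v, hv, a, ha, b, hb, rfl⟩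
    have h1 := g.comm_DD hk hl ha.1 ha.2 hb.1 hb.2
    set w := a * b * a⁻¹ * b⁻¹ with hw
    have hba : b⁻¹ * a⁻¹ ∈ centralizer (V : Set G) :=
      mul_mem ((centralizer (V : Set G)).inv_mem hb.2) ((centralizer (V : Set G)).inv_mem ha.2)
    refine ⟨v⁻¹ * w⁻¹, mul_mem (V.inv_mem hv) (V.inv_mem h1), a⁻¹, inv_mem ha, b⁻¹, inv_mem hb, ?_⟩
    have c1 : (b⁻¹ * a⁻¹) * v⁻¹ = v⁻¹ * (b⁻¹ * a⁻¹) := g.C_V hba (V.inv_mem hv)
    have e1 : a⁻¹ * b⁻¹ = b⁻¹ * a⁻¹ * w := by rw [hw]; group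
    have c2 : (b⁻¹ * a⁻¹) * w = w * (b⁻¹ * a⁻¹) := g.C_V hba h1
    calc (v * a * b)⁻¹ = (b⁻¹ * a⁻¹) * v⁻¹ := by group
      _ = v⁻¹ * (b⁻¹ * a⁻¹) := c1
      _ = v⁻¹ * (w⁻¹ * (w * (b⁻¹ * a⁻¹))) := by group
      _ = v⁻¹ * (w⁻¹ * (a⁻¹ * b⁻¹)) := by rw [← c2, ← e1]
      _ = _ := by group

theorem mem_W {i k : I} {j l : J} {hk : k ≠ i} {hl : l ≠ j} {x : G} : x ∈ g.W hk hl ↔
    ∃ v ∈ V, ∃ a ∈ Q i j ⊓ centralizer (V : Set G), ∃ b ∈ Q k l ⊓ centralizer (V : Set G), x = v * a * b :=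
  Iff.rfl

theorem V_le_W {i k : I} {j l : J} (hk : k ≠ i) (hl : l ≠ j) : V ≤ g.W hk hl := fun v hv =>
  ⟨v, hv, 1, one_mem _, 1, one_mem _, by group⟩

theorem D_le_W {i k : I} {j l : J} (hk : k ≠ i) (hl : l ≠ j) :
    Q i j ⊓ centralizer (V : Set G) ≤ g.W hk hl := fun a ha =>
  ⟨1, one_mem _, a, ha, 1, one_mem _, by group⟩

theorem D_le_W' {i k : I} {j l : J} (hk : k ≠ i) (hl : l ≠ j) :
    Q k l ⊓ centralizer (V : Set G) ≤ g.W hk hl := fun b hb =>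
  ⟨1, one_mem _, 1, one_mem _, b, hb, by group⟩

theorem W_le {i k : I} {j l : J} (hk : k ≠ i) (hl : l ≠ j) {X : Subgroup G} (hV : V ≤ X)
    (h1 : Q i j ⊓ centralizer (V : Set G) ≤ X) (h2 : Q k l ⊓ centralizer (V : Set G) ≤ X) :
    g.W hk hl ≤ X := by
  rintro _ ⟨v, hv, a, ha, b, hb, rfl⟩
  exact mul_mem (mul_mem (hV hv) (h1 ha)) (h2 hb)

theorem W_symm {i k : I} {j l : J} (hk : k ≠ i) (hl : l ≠ j) : g.W hk hl = g.W hk.symm hl.symm :=
  le_antisymm (g.W_le hk hl (g.V_le_W _ _) (g.D_le_W' _ _) (g.D_le_W _ _))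
    (g.W_le hk.symm hl.symm (g.V_le_W _ _) (g.D_le_W' _ _) (g.D_le_W _ _))

theorem W_le_W {i k m : I} {j l n : J} (hk : k ≠ i) (hl : l ≠ j) (hm : m ≠ i) (hn : n ≠ j) :
    g.W hm hn ≤ g.W hk hl := by
  apply g.W_le hm hn (g.V_le_W _ _) (g.D_le_W _ _)
  intro d hd
  obtain ⟨y, hy, hR⟩ := g.tran i j k l m n hk hm hl hn
  have hQ := g.conj y _ _ _ _ hR
  have h1 : y⁻¹ * d * y ∈ Q k l := mem_of_cj' hQ hd.1
  have h2 : y⁻¹ * d * y ∈ centralizer (V : Set G) := by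
    have := g.conj_C (inv_mem (g.Q_V i j hy)) hd.2
    rwa [inv_inv] at this
  have h3 := g.comm_CQ (inv_mem h2) hy
  refine ⟨1, one_mem _, d * (y⁻¹ * d * y)⁻¹, mem_inf.2 ⟨?_, ?_⟩, y⁻¹ * d * y, mem_inf.2 ⟨h1, h2⟩, by group⟩
  · have h5 := g.comm_CQ h2 hy
    have e : d * (y⁻¹ * d * y)⁻¹ = ((y⁻¹ * d * y) * y * (y⁻¹ * d * y)⁻¹ * y⁻¹)⁻¹ := by group
    rw [e]; exact inv_mem h5.1
  · exact mul_mem hd.2 (inv_mem h2)

theorem W_eq_W {i k m : I} {j l n : J} (hk : k ≠ i) (hl : l ≠ j) (hm : m ≠ i) (hn : n ≠ j) :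
    g.W hm hn = g.W hk hl := le_antisymm (g.W_le_W _ _ _ _) (g.W_le_W _ _ _ _)

/-- all `C_{Q m n}(V)` are in `W` -/
theorem D_le {i k : I} {j l : J} (hk : k ≠ i) (hl : l ≠ j) (m : I) (n : J) :
    Q m n ⊓ centralizer (V : Set G) ≤ g.W hk hl := by
  -- opposite to the first point
  have case1 : ∀ {i k : I} {j l : J} (hk : k ≠ i) (hl : l ≠ j), m ≠ i → n ≠ j →
      Q m n ⊓ centralizer (V : Set G) ≤ g.W hk hl := fun hk hl hm hn =>
    (g.D_le_W' hm hn).trans (g.W_le_W _ _ _ _)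
  by_cases h1 : m ≠ i ∧ n ≠ j
  · exact case1 hk hl h1.1 h1.2
  by_cases h2 : m ≠ k ∧ n ≠ l
  · rw [g.W_symm]
    exact case1 hk.symm hl.symm h2.1 h2.2
  -- a point opposite to everything
  obtain ⟨a, ha1, ha2⟩ := g.threeI i k
  obtain ⟨b, hb1, hb2⟩ := g.threeJ j l
  have hm : m = i ∨ m = k := by
    by_contra hcon
    push Not at hcon
    apply h1
    refine ⟨hcon.1, fun hn => ?_⟩
    exact h2 ⟨hcon.2, fun h => hl (h.symm.trans hn)⟩
  have hn : n = j ∨ n = l := by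
    by_contra hcon
    push Not at hcon
    apply h1
    refine ⟨fun hm => ?_, hcon.1⟩
    exact h2 ⟨fun h => hk (h.symm.trans hm), hcon.2⟩
  have hma : m ≠ a := by rcases hm with rfl | rfl <;> [exact ha1.symm; exact ha2.symm]
  have hnb : n ≠ b := by rcases hn with rfl | rfl <;> [exact hb1.symm; exact hb2.symm]
  have h3 : g.W ha1 hb1 ≤ g.W hk hl := g.W_le_W _ _ _ _
  refine le_trans ?_ h3
  rw [g.W_symm]
  exact case1 ha1.symm hb1.symm hma hnb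

/-- `L = V ∏ C_{Q m n}(V)` -/
theorem W_const {i k m p : I} {j l n q : J} (hk : k ≠ i) (hl : l ≠ j) (hp : p ≠ m) (hq : q ≠ n) :
    g.W hk hl = g.W hp hq :=
  le_antisymm (g.W_le _ _ (g.V_le_W _ _) (g.D_le _ _ _ _) (g.D_le _ _ _ _))
    (g.W_le _ _ (g.V_le_W _ _) (g.D_le _ _ _ _) (g.D_le _ _ _ _))

theorem W_C {i k : I} {j l : J} (hk : k ≠ i) (hl : l ≠ j) : g.W hk hl ≤ centralizer (V : Set G) :=
  g.W_le _ _ g.V_le_C inf_le_right inf_le_right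

/-- `L/V` is abelian -/
theorem W_comm {i k : I} {j l : J} (hk : k ≠ i) (hl : l ≠ j) {x y : G} (hx : x ∈ g.W hk hl)
    (hy : y ∈ g.W hk hl) : x * y * x⁻¹ * y⁻¹ ∈ V := by
  -- bilinearity
  have mulL : ∀ {a b y : G}, a ∈ centralizer (V : Set G) → a * y * a⁻¹ * y⁻¹ ∈ V → b * y * b⁻¹ * y⁻¹ ∈ V →
      (a * b) * y * (a * b)⁻¹ * y⁻¹ ∈ V := by
    intro a b y ha h1 h2
    have e : (a * b) * y * (a * b)⁻¹ * y⁻¹ = (a * (b * y * b⁻¹ * y⁻¹)) * a⁻¹ * (a * y * a⁻¹ * y⁻¹) := by group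
    rw [e, g.C_V ha h2]
    have e2 : b * y * b⁻¹ * y⁻¹ * a * a⁻¹ = b * y * b⁻¹ * y⁻¹ := by group
    rw [e2]
    exact mul_mem h2 h1
  have symm : ∀ {a b : G}, a * b * a⁻¹ * b⁻¹ ∈ V → b * a * b⁻¹ * a⁻¹ ∈ V := by
    intro a b h
    have e : b * a * b⁻¹ * a⁻¹ = (a * b * a⁻¹ * b⁻¹)⁻¹ := by group
    rw [e]; exact inv_mem h
  have key : ∀ {x : G}, x ∈ g.W hk hl → ∀ {y : G}, y ∈ centralizer (V : Set G) →
      (∀ a ∈ Q i j ⊓ centralizer (V : Set G), a * y * a⁻¹ * y⁻¹ ∈ V) →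
      (∀ b ∈ Q k l ⊓ centralizer (V : Set G), b * y * b⁻¹ * y⁻¹ ∈ V) → x * y * x⁻¹ * y⁻¹ ∈ V := by
    rintro _ ⟨v, hv, a, ha, b, hb, rfl⟩ y hyC h1 h2
    have hvy : v * y * v⁻¹ * y⁻¹ ∈ V := by
      rw [← g.C_V hyC hv]
      have e : y * v * v⁻¹ * y⁻¹ = 1 := by group
      rw [e]; exact one_mem _
    exact mulL (mul_mem (g.V_le_C hv) ha.2) (mulL (g.V_le_C hv) hvy (h1 a ha)) (h2 b hb)
  have hself : ∀ {m : I} {n : J} {a a' : G}, a ∈ Q m n → a' ∈ Q m n → a * a' * a⁻¹ * a'⁻¹ ∈ V :=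
    fun ha ha' => g.R_le _ _ (g.QQ _ _ _ ha _ ha')
  apply key hx (g.W_C _ _ hy)
  · intro a ha
    apply symm
    apply key hy ha.2
    · intro a' ha'
      exact hself ha'.1 ha.1
    · intro b' hb'
      exact symm (g.comm_DD hk hl ha.1 ha.2 hb'.1 hb'.2)
  · intro b hb
    apply symm
    apply key hy hb.2
    · intro a' ha'
      exact g.comm_DD hk hl ha'.1 ha'.2 hb.1 hb.2
    · intro b' hb'
      exact hself hb'.1 hb.1

theorem VE_mul {i k : I} {j l : J} (h : V ≤ (V ⊓ Q i j) ⊔ (V ⊓ Q k l)) {v : G} (hv : v ∈ V) :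
    ∃ e ∈ V ⊓ Q i j, ∃ f ∈ V ⊓ Q k l, v = e * f :=
  mem_sup_comm (fun a ha b hb => g.comm a (mem_inf.1 ha).1 b (mem_inf.1 hb).1) (h hv)

/-- `C_{Q i j}(V) V ∩ C_{Q k l}(V) V = V` for opposite points -/
theorem DD_V {i k : I} {j l : J} (hk : k ≠ i) (hl : l ≠ j) {a b : G} (ha : a ∈ Q i j)
    (haC : a ∈ centralizer (V : Set G)) (hb : b ∈ Q k l)
    (hab : a * b ∈ V) : a ∈ V ∧ b ∈ V := by
  obtain ⟨e, he, f, hf, hef⟩ := g.VE_mul (g.VE i j k l hk.symm hl.symm) hab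
  have h1 : a * b = f * e := by rw [hef, g.comm e he.1 f hf.1]
  have h2 : f⁻¹ * a = e * b⁻¹ := by
    calc f⁻¹ * a = f⁻¹ * (a * b) * b⁻¹ := by group
      _ = e * b⁻¹ := by rw [h1]; group
  have h3 : e⁻¹ * a ∈ V := by
    apply g.meet i j k l hk hl
    refine ⟨(Q i j).mul_mem ((Q i j).inv_mem he.2) ha, ?_⟩
    have h4 : e⁻¹ * a = f * b⁻¹ := by
      calc e⁻¹ * a = e⁻¹ * (a * b) * b⁻¹ := by group
        _ = f * b⁻¹ := by rw [hef]; group
    rw [h4]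
    exact (Q k l).mul_mem hf.2 ((Q k l).inv_mem hb)
  have h5 : a ∈ V := by
    have := mul_mem he.1 h3
    rwa [mul_inv_cancel_left] at this
  refine ⟨h5, ?_⟩
  have := V.mul_mem (V.inv_mem h5) hab
  rwa [inv_mul_cancel_left] at this

end Grid

end Cfsg.Agent.Omega.NO1.Gamma

end

section


/-!
# Type (gamma): `Grid.rc : Grid V R Q → RC V R Q`
-/

set_option autoImplicit false
set_option linter.unusedVariables false
set_option linter.unusedSectionVars false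

open Subgroup
open scoped Pointwise

namespace Cfsg.Agent.Omega.NO1.Gamma

open Cfsg.Agent.Omega.NO1.Beta.Meet (cj mem_cj conj_mem_cj cj_mul cj_inj cj_eq_of_comm cj_eq_of_mem
  mem_normalizer_of_cj cj_of_mem_normalizer)

variable {G : Type*} [Group G] {I J : Type*}

namespace Grid

variable {V : Subgroup G} {R Q : I → J → Subgroup G} (g : Grid V R Q)
include g

/-- `[X, C(V)] ≤ L` -/
theorem X_act {i k : I} {j l : J} (hk : k ≠ i) (hl : l ≠ j) {h : G} (hh : h ∈ ⨆ k, ⨆ l, Q k l) :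
    h ∈ normalizer (V : Set G) ∧ ∀ c ∈ centralizer (V : Set G), h * c * h⁻¹ * c⁻¹ ∈ g.W hk hl := by
  have hmul : ∀ {x y : G}, (∀ c ∈ centralizer (V : Set G), x * c * x⁻¹ * c⁻¹ ∈ g.W hk hl) →
      (∀ c ∈ centralizer (V : Set G), y * c * y⁻¹ * c⁻¹ ∈ g.W hk hl) →
      ∀ c ∈ centralizer (V : Set G), x * y * c * (x * y)⁻¹ * c⁻¹ ∈ g.W hk hl := by
    intro x y hx hy c hc
    have h1 := hy c hc
    have h2 := hx _ (g.W_C hk hl h1)
    have e : x * y * c * (x * y)⁻¹ * c⁻¹ =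
        (x * (y * c * y⁻¹ * c⁻¹) * x⁻¹ * (y * c * y⁻¹ * c⁻¹)⁻¹) * (y * c * y⁻¹ * c⁻¹) *
          (x * c * x⁻¹ * c⁻¹) := by group
    rw [e]
    exact mul_mem (mul_mem h2 h1) (hx c hc)
  have hP : ∀ h ∈ ⨆ k, ⨆ l, Q k l, h ∈ normalizer (V : Set G) ∧
      (∀ c ∈ centralizer (V : Set G), h * c * h⁻¹ * c⁻¹ ∈ g.W hk hl) ∧
      (∀ c ∈ centralizer (V : Set G), h⁻¹ * c * h⁻¹⁻¹ * c⁻¹ ∈ g.W hk hl) := by
    intro h hh
    have hQ : ∀ i j, ∀ y ∈ Q i j, ∀ c ∈ centralizer (V : Set G), y * c * y⁻¹ * c⁻¹ ∈ g.W hk hl := by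
      intro i j y hy c hc
      have h1 := g.comm_CQ hc hy
      have e : y * c * y⁻¹ * c⁻¹ = (c * y * c⁻¹ * y⁻¹)⁻¹ := by group
      rw [e]
      exact inv_mem (g.D_le hk hl i j (mem_inf.2 h1))
    have hone : ∀ c ∈ centralizer (V : Set G), (1 : G) * c * 1⁻¹ * c⁻¹ ∈ g.W hk hl := by
      intro c _
      have e : (1 : G) * c * 1⁻¹ * c⁻¹ = 1 := by group
      rw [e]; exact one_mem _
    refine iSup_induction (S := fun k => ⨆ l, Q k l) (C := fun h => h ∈ normalizer (V : Set G) ∧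
      (∀ c ∈ centralizer (V : Set G), h * c * h⁻¹ * c⁻¹ ∈ g.W hk hl) ∧
      (∀ c ∈ centralizer (V : Set G), h⁻¹ * c * h⁻¹⁻¹ * c⁻¹ ∈ g.W hk hl)) hh ?_ ?_ ?_
    · intro i x hx
      refine iSup_induction (S := fun l => Q i l) (C := fun h => h ∈ normalizer (V : Set G) ∧
        (∀ c ∈ centralizer (V : Set G), h * c * h⁻¹ * c⁻¹ ∈ g.W hk hl) ∧
        (∀ c ∈ centralizer (V : Set G), h⁻¹ * c * h⁻¹⁻¹ * c⁻¹ ∈ g.W hk hl)) hx ?_ ?_ ?_
      · intro j y hy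
        exact ⟨g.Q_V i j hy, hQ i j y hy, hQ i j _ (inv_mem hy)⟩
      · refine ⟨one_mem _, hone, ?_⟩
        rw [inv_one]; exact hone
      · rintro x y ⟨h1, h2, h3⟩ ⟨h1', h2', h3'⟩
        refine ⟨mul_mem h1 h1', hmul h2 h2', ?_⟩
        rw [mul_inv_rev]
        exact hmul h3' h3
    · refine ⟨one_mem _, hone, ?_⟩
      rw [inv_one]; exact hone
    · rintro x y ⟨h1, h2, h3⟩ ⟨h1', h2', h3'⟩
      refine ⟨mul_mem h1 h1', hmul h2 h2', ?_⟩
      rw [mul_inv_rev]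
      exact hmul h3' h3
  exact ⟨(hP h hh).1, (hP h hh).2.1⟩

/-- (a) `Q'_{ij} L = Q'_{ij'} L` -/
theorem rowL {i k m : I} {j l j' : J} (hk : k ≠ m) (hl : l ≠ j') {n : J} {x : G} (hx : x ∈ Q i j)
    (hc : ∀ l, cj x (R i l) = R i l) : ∃ y ∈ Q i n, (∀ l, cj y (R i l) = R i l) ∧ ∃ w ∈ g.W hk hl,
      x = y * w := by
  obtain ⟨h, hh, hfix, hsur⟩ := g.tor₁ i j
  obtain ⟨z, hz, hzc, hzC⟩ := hsur x hx hc
  obtain ⟨w, hw, hwc, hwC⟩ := g.act₁ i j n z hz hzc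
  obtain ⟨hV, hXL⟩ := g.X_act hk hl hh
  have hQn : cj h (Q i n) = Q i n := g.conj h i n i n (hfix n)
  have hQj : cj h (Q i j) = Q i j := g.conj h i j i j (hfix j)
  set c := w⁻¹ * z with hcdef
  have hz' : z = w * c := by rw [hcdef]; group
  have h1 := hXL c hwC
  -- `y = [h, w]`
  have hyQ : h * w * h⁻¹ * w⁻¹ ∈ Q i n := mul_mem (mem_of_cj hQn hw) (inv_mem hw)
  have h2 : w * (h * c * h⁻¹ * c⁻¹) * w⁻¹ ∈ g.W hk hl := by
    have hwX : w ∈ ⨆ k, ⨆ l, Q k l :=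
      (le_iSup_of_le (f := fun k => ⨆ l, Q k l) i (le_iSup (fun l => Q i l) n) : Q i n ≤ _) hw
    have h3 := (g.X_act hk hl hwX).2 _ (g.W_C hk hl h1)
    have := mul_mem h3 h1
    have e : w * (h * c * h⁻¹ * c⁻¹) * w⁻¹ * (h * c * h⁻¹ * c⁻¹)⁻¹ * (h * c * h⁻¹ * c⁻¹) =
      w * (h * c * h⁻¹ * c⁻¹) * w⁻¹ := by group
    rwa [e] at this
  have h4 : h * z * h⁻¹ * z⁻¹ = (h * w * h⁻¹ * w⁻¹) * (w * (h * c * h⁻¹ * c⁻¹) * w⁻¹) := by
    rw [hz']; group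
  have h5 : h * z * h⁻¹ * z⁻¹ ∈ Q i j := mul_mem (mem_of_cj hQj hz) (inv_mem hz)
  have h6 : x⁻¹ * (h * z * h⁻¹ * z⁻¹) ∈ g.W hk hl :=
    g.D_le hk hl i j (mem_inf.2 ⟨mul_mem (inv_mem hx) h5, hzC⟩)
  refine ⟨h * w * h⁻¹ * w⁻¹, hyQ, fun l => ?_, (w * (h * c * h⁻¹ * c⁻¹) * w⁻¹) *
    (x⁻¹ * (h * z * h⁻¹ * z⁻¹))⁻¹, mul_mem h2 (inv_mem h6), ?_⟩
  · rw [cj_mul, cj_mul, cj_mul, cj_inv_of (hwc l), cj_inv_of (hfix l), hwc l, hfix l]
  · rw [← mul_assoc, ← h4]; group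

/-- (b) `[L, Q'_{ij}] ≤ C_{Q_{ij} ⊓ Q_{ij'}}(V) (V ⊓ Q_{ij})` -/
theorem comm_row {i k m : I} {j l n : J} (hk : k ≠ m) (hl : l ≠ n) {j' : J} (hj : j ≠ j') {x w : G}
    (hx : x ∈ Q i j) (hc : ∀ l, cj x (R i l) = R i l) (hw : w ∈ g.W hk hl) :
    ∃ a ∈ Q i j ⊓ Q i j' ⊓ centralizer (V : Set G), ∃ e ∈ V ⊓ Q i j, w * x * w⁻¹ * x⁻¹ = a * e := by
  obtain ⟨y, hy, hyc, u, hu, rfl⟩ := g.rowL hk hl (n := j') hx hc
  have hwC := g.W_C hk hl hw
  have hd := g.comm_CQ hwC hx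
  set d := w * (y * u) * w⁻¹ * (y * u)⁻¹ with hddef
  have hd' := g.comm_CQ hwC hy
  -- `d = v' d'`
  have hv1 := g.W_comm hk hl hw hu
  have hv2 : y * (w * u * w⁻¹ * u⁻¹) * y⁻¹ ∈ V := g.conj_V hy hv1
  have hd1 : d = (w * y * w⁻¹ * y⁻¹) * (y * (w * u * w⁻¹ * u⁻¹) * y⁻¹) := by rw [hddef]; group
  obtain ⟨e, he, f, hf, hef⟩ := g.VE_mul (g.VE₁ i j j' hj) hv2
  refine ⟨d * e⁻¹, ?_, e, he, by group⟩
  rw [mem_inf, mem_inf]
  refine ⟨⟨mul_mem hd.1 (inv_mem (mem_inf.1 he).2), ?_⟩, mul_mem hd.2 (inv_mem (g.V_le_C (mem_inf.1 he).1))⟩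
  have h1 : d * e⁻¹ = (w * y * w⁻¹ * y⁻¹) * f := by
    rw [hd1, hef, g.comm e (mem_inf.1 he).1 f (mem_inf.1 hf).1]; group
  rw [h1]
  exact mul_mem hd'.1 (mem_inf.1 hf).2

/-- `C_{Q_{ij}}(V)` is the product of its row part, its column part and `V ⊓ Q_{ij}` -/
theorem D_mul {i k : I} {j l : J} (hk : k ≠ i) (hl : l ≠ j) {d : G} (hd : d ∈ Q i j)
    (hdC : d ∈ centralizer (V : Set G)) :
    ∃ a ∈ Q i j ⊓ Q i l ⊓ centralizer (V : Set G), ∃ b ∈ Q i j ⊓ Q k j ⊓ centralizer (V : Set G),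
      ∃ e ∈ V ⊓ Q i j, d = a * b * e := by
  obtain ⟨k2, h1, h2⟩ := g.threeI i k
  obtain ⟨l2, h3, h4⟩ := g.threeJ j l
  obtain ⟨x, hx, hxR⟩ := g.tran i j k l k2 l2 hk h1 hl h3
  have hxQ := g.conj x _ _ _ _ hxR
  have h5 := g.D_le h2 h4 i j (mem_inf.2 ⟨hd, hdC⟩)
  obtain ⟨v, hv, b₁, hb₁, b₂, hb₂, hdec⟩ := g.mem_W.1 h5
  rw [mem_inf] at hb₁ hb₂
  set b₃ := x⁻¹ * b₂ * x with hb₃def
  have hb₃ : b₃ ∈ Q k l := mem_of_cj' hxQ hb₂.1
  have hb₃C : b₃ ∈ centralizer (V : Set G) := by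
    have := g.conj_C ((normalizer (V : Set G)).inv_mem (g.Q_V i j hx)) hb₂.2
    rwa [inv_inv] at this
  have hb₂' : b₂ = x * b₃ * x⁻¹ := by rw [hb₃def]; group
  -- `c = [b₃⁻¹, x]`
  have hc := g.comm_CQ ((centralizer (V : Set G)).inv_mem hb₃C) hx
  set c := b₃⁻¹ * x * b₃⁻¹⁻¹ * x⁻¹ with hcdef
  have h6 : (b₁ * b₃) * c = b₁ * b₂ := by rw [hcdef, hb₂']; group
  have h7 : d * c⁻¹ * (b₁ * b₃)⁻¹ ∈ V := by
    have e : d * c⁻¹ * (b₁ * b₃)⁻¹ = v * ((b₁ * b₃) * c * c⁻¹ * (b₁ * b₃)⁻¹) := by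
      rw [hdec, h6]; group
    rw [e]
    have e2 : (b₁ * b₃) * c * c⁻¹ * (b₁ * b₃)⁻¹ = 1 := by group
    rw [e2, mul_one]; exact hv
  have h8 := g.DD_V hk hl (mul_mem hd (inv_mem hc.1)) (mul_mem hdC (inv_mem hc.2))
    (inv_mem (mul_mem hb₁.1 hb₃)) h7
  -- `d = e c`
  have he : d * c⁻¹ ∈ V ⊓ Q i j := mem_inf.2 ⟨h8.1, mul_mem hd (inv_mem hc.1)⟩
  -- split `x`
  obtain ⟨x', hx', hx'c, hx''⟩ := g.split hx
  have hx''Q : x'⁻¹ * x ∈ Q i j := mul_mem (inv_mem hx') hx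
  have hwb : b₃⁻¹ ∈ g.W hk hl := inv_mem (g.D_le_W' hk hl (mem_inf.2 ⟨hb₃, hb₃C⟩))
  obtain ⟨a, ha, e₁, he₁, hae⟩ := g.comm_row hk hl hl.symm hx' hx'c hwb
  have hwb' : b₃⁻¹ ∈ g.transpose.W hl hk := by
    obtain ⟨v, hv, a, ha, b, hb, h⟩ := hwb
    exact ⟨v, hv, a, ha, b, hb, h⟩
  obtain ⟨b, hb, e₂, he₂, hbe⟩ := g.transpose.comm_row hl hk hk.symm hx''Q hx'' hwb'
  rw [mem_inf, mem_inf] at ha hb
  rw [mem_inf] at he₁ he₂
  -- `c = [b₃⁻¹, x'] x' [b₃⁻¹, x''] x'⁻¹`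
  have h9 : c = (b₃⁻¹ * x' * b₃⁻¹⁻¹ * x'⁻¹) * (x' * (b₃⁻¹ * (x'⁻¹ * x) * b₃⁻¹⁻¹ * (x'⁻¹ * x)⁻¹) * x'⁻¹) := by
    rw [hcdef]; group
  have h10 := g.QQ i j x' hx' (b * e₂) (mul_mem hb.1.1 he₂.2)
  have h10V := g.R_le i j h10
  set r := x' * (b * e₂) * x'⁻¹ * (b * e₂)⁻¹ with hrdef
  have h11 : c = a * e₁ * r * b * e₂ := by
    rw [h9, hae, hbe, hrdef]; group
  have h12 : d = (d * c⁻¹) * (a * e₁ * r * b * e₂) := by rw [← h11]; group
  have hrQ : r ∈ Q i j := g.R_Q i j h10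
  refine ⟨a, mem_inf.2 ⟨mem_inf.2 ha.1, ha.2⟩, b, mem_inf.2 ⟨mem_inf.2 hb.1, hb.2⟩,
    (d * c⁻¹) * (e₁ * r) * e₂, mem_inf.2 ⟨mul_mem (mul_mem h8.1 (mul_mem he₁.1 h10V)) he₂.1,
      mul_mem (mul_mem (mem_inf.1 he).2 (mul_mem he₁.2 hrQ)) he₂.2⟩, ?_⟩
  have c1 : a * (d * c⁻¹) = (d * c⁻¹) * a := g.C_V ha.2 h8.1
  have c2 : b * (d * c⁻¹) = (d * c⁻¹) * b := g.C_V hb.2 h8.1
  have c3 : b * (e₁ * r) = (e₁ * r) * b := g.C_V hb.2 (mul_mem he₁.1 h10V)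
  calc d = (d * c⁻¹) * (a * e₁ * r * b * e₂) := h12
    _ = ((d * c⁻¹) * a) * ((e₁ * r) * b) * e₂ := by group
    _ = (a * (d * c⁻¹)) * (b * (e₁ * r)) * e₂ := by rw [c1, c3]
    _ = a * ((d * c⁻¹) * b) * (e₁ * r) * e₂ := by group
    _ = a * (b * (d * c⁻¹)) * (e₁ * r) * e₂ := by rw [← c2]
    _ = a * b * (d * c⁻¹ * (e₁ * r) * e₂) := by group

/-- `L/V` is abelian: reordering -/
theorem W_swap {i k : I} {j l : J} (hk : k ≠ i) (hl : l ≠ j) {x y : G} (hx : x ∈ g.W hk hl)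
    (hy : y ∈ g.W hk hl) : ∃ v ∈ V, x * y = y * x * v := by
  have h := g.W_comm hk hl (inv_mem hx) (inv_mem hy)
  refine ⟨x⁻¹ * y⁻¹ * x * y, by simpa using h, by group⟩

/-- (c) `Q'_{ij} = (Q_{ij} ⊓ Q_{ij'}) C_{Q_{ij}}(V)` -/
theorem row_mul {i : I} {j j' : J} (hj : j' ≠ j) {x : G} (hx : x ∈ Q i j)
    (hc : ∀ l, cj x (R i l) = R i l) : ∃ f ∈ Q i j ⊓ Q i j', ∃ d ∈ Q i j ⊓ centralizer (V : Set G),
      x = f * d := by
  obtain ⟨k, hk⟩ := g.exists_ne_row i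
  obtain ⟨y, hy, hyc, w, hw, hxy⟩ := g.rowL hk hj (n := j') hx hc
  obtain ⟨v, hv, a, ha, b, hb, hdec⟩ := g.mem_W.1 hw
  rw [mem_inf] at ha hb
  obtain ⟨a₁, ha₁, a₂, ha₂, e, he, hae⟩ := g.D_mul hk hj ha.1 ha.2
  obtain ⟨b₂, hb₂, b₁, hb₁, e', he', hbe⟩ := g.D_mul hk.symm hj.symm hb.1 hb.2
  rw [mem_inf, mem_inf] at ha₁ ha₂ hb₁ hb₂
  rw [mem_inf] at he he'
  -- all in `L`
  have La₁ : a₁ ∈ g.W hk hj := g.D_le_W hk hj (mem_inf.2 ⟨ha₁.1.1, ha₁.2⟩)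
  have La₂ : a₂ ∈ g.W hk hj := g.D_le_W hk hj (mem_inf.2 ⟨ha₂.1.1, ha₂.2⟩)
  have Lb₁ : b₁ ∈ g.W hk hj := g.D_le_W' hk hj (mem_inf.2 ⟨hb₁.1.1, hb₁.2⟩)
  have Lb₂ : b₂ ∈ g.W hk hj := g.D_le_W' hk hj (mem_inf.2 ⟨hb₂.1.1, hb₂.2⟩)
  obtain ⟨w1, hw1, s1⟩ := g.W_swap hk hj Lb₂ Lb₁
  obtain ⟨w2, hw2, s2⟩ := g.W_swap hk hj La₂ Lb₁
  obtain ⟨w3, hw3, s3⟩ := g.W_swap hk hj La₂ Lb₂
  -- `w = a₁ b₁ b₂ a₂ v''`
  have cV : ∀ {c u : G}, c ∈ g.W hk hj → u ∈ V → c * u = u * c := fun hc hu => g.C_V (g.W_C hk hj hc) hu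
  have hw' : w = a₁ * b₁ * b₂ * a₂ * (v * e * e' * w1 * w2 * w3) := by
    have VV : ∀ {x y : G}, x ∈ V → y ∈ V → x * y = y * x := fun hx hy => g.comm _ hx _ hy
    calc w = v * (a₁ * a₂ * e) * (b₂ * b₁ * e') := by rw [hdec, hae, hbe]
      _ = v * (a₁ * a₂) * (e * (b₂ * b₁)) * e' := by group
      _ = v * (a₁ * a₂) * ((b₂ * b₁) * e) * e' := by rw [cV (mul_mem Lb₂ Lb₁) he.1]
      _ = v * (a₁ * a₂ * b₂ * b₁) * e * e' := by group
      _ = (a₁ * a₂ * b₂ * b₁) * v * e * e' := by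
          rw [cV (mul_mem (mul_mem (mul_mem La₁ La₂) Lb₂) Lb₁) hv]
      _ = a₁ * a₂ * (b₂ * b₁) * v * e * e' := by group
      _ = a₁ * a₂ * (b₁ * b₂ * w1) * v * e * e' := by rw [s1]
      _ = a₁ * (a₂ * b₁) * b₂ * w1 * v * e * e' := by group
      _ = a₁ * (b₁ * a₂ * w2) * b₂ * w1 * v * e * e' := by rw [s2]
      _ = a₁ * b₁ * a₂ * (w2 * b₂) * w1 * v * e * e' := by group
      _ = a₁ * b₁ * a₂ * (b₂ * w2) * w1 * v * e * e' := by rw [cV Lb₂ hw2]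
      _ = a₁ * b₁ * (a₂ * b₂) * w2 * w1 * v * e * e' := by group
      _ = a₁ * b₁ * (b₂ * a₂ * w3) * w2 * w1 * v * e * e' := by rw [s3]
      _ = a₁ * b₁ * b₂ * a₂ * ((w3 * (w2 * w1)) * (v * e * e')) := by group
      _ = a₁ * b₁ * b₂ * a₂ * ((v * e * e') * (w3 * (w2 * w1))) := by
          rw [VV (mul_mem hw3 (mul_mem hw2 hw1)) (mul_mem (mul_mem hv he.1) he'.1)]
      _ = a₁ * b₁ * b₂ * a₂ * (v * e * e' * (w3 * (w2 * w1))) := by group
      _ = a₁ * b₁ * b₂ * a₂ * (v * e * e' * (w1 * w2 * w3)) := by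
          rw [VV hw2 hw1, VV hw3 (mul_mem hw1 hw2)]
      _ = _ := by group
  set u := v * e * e' * w1 * w2 * w3 with hu
  have huV : u ∈ V := mul_mem (mul_mem (mul_mem (mul_mem (mul_mem hv he.1) he'.1) hw1) hw2) hw3
  obtain ⟨er, her, ep, hep, huer⟩ := g.VE_mul (g.VE₁ i j' j hj) huV
  rw [mem_inf] at her hep
  -- `x₁ = x (a₂ ep)⁻¹ = y₁ b₂`
  set y₁ := y * (a₁ * b₁ * er) with hy₁
  have hy₁Q : y₁ ∈ Q i j' := mul_mem hy (mul_mem (mul_mem ha₁.1.2 hb₁.1.2) her.2)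
  have hx₁ : x = y₁ * b₂ * (a₂ * ep) := by
    rw [hxy, hw', huer, hy₁]
    have c1 : (b₂ * a₂) * er = er * (b₂ * a₂) := cV (mul_mem Lb₂ La₂) her.1
    calc y * (a₁ * b₁ * b₂ * a₂ * (er * ep)) = y * (a₁ * b₁ * ((b₂ * a₂) * er) * ep) := by group
      _ = y * (a₁ * b₁ * (er * (b₂ * a₂)) * ep) := by rw [c1]
      _ = _ := by group
  have ha₂ep : a₂ * ep ∈ Q i j := mul_mem ha₂.1.1 hep.2
  have ha₂epC : a₂ * ep ∈ centralizer (V : Set G) := mul_mem ha₂.2 (g.V_le_C hep.1)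
  set x₁ := y₁ * b₂ with hx₁def
  have hx₁Q : x₁ ∈ Q i j := by
    have : x₁ = x * (a₂ * ep)⁻¹ := by rw [hx₁]; group
    rw [this]; exact mul_mem hx (inv_mem ha₂ep)
  -- squares
  have sq : y₁⁻¹ * b₂ * y₁ * b₂ ∈ V := by
    have h1 := g.R_le i j (g.Qsq i j x₁ hx₁Q)
    have h2 := g.R_le i j' (g.Qsq i j' y₁ hy₁Q)
    have e : y₁⁻¹ * b₂ * y₁ * b₂ = (y₁ * y₁)⁻¹ * (x₁ * x₁) := by rw [hx₁def]; group
    rw [e]; exact mul_mem (inv_mem h2) h1
  -- `y₁` fixes the columns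
  have hy₁c : ∀ l, cj y₁ (R i l) = R i l := by
    intro l
    have hC : a₁ * b₁ * er ∈ centralizer (V : Set G) := mul_mem (mul_mem ha₁.2 hb₁.2) (g.V_le_C her.1)
    rw [hy₁, cj_mul, g.C_R hC, hyc]
  have hy₁c' : ∀ l, cj y₁⁻¹ (R i l) = R i l := fun l => cj_inv_of (hy₁c l)
  have hy₁Q' : y₁⁻¹ ∈ Q i j' := (Q i j').inv_mem hy₁Q
  obtain ⟨σ, hσi, hσ⟩ := g.fixc hy₁Q' hy₁c'
  by_cases hσk : σ k = k
  · -- `y₁` centralises `V`
    have h1 : cj y₁⁻¹ (R k j) = R k j := by rw [hσ k j, hσk]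
    have h2 : y₁⁻¹ ∈ centralizer (V : Set G) := g.fix i j' k j hk hj.symm _ hy₁Q' h1
    have h3 : y₁ ∈ centralizer (V : Set G) := by
      have := (centralizer (V : Set G)).inv_mem h2
      rwa [inv_inv] at this
    refine ⟨1, one_mem _, x, mem_inf.2 ⟨hx, ?_⟩, (one_mul x).symm⟩
    rw [hx₁]
    exact mul_mem (mul_mem h3 hb₂.2) ha₂epC
  · have h1 : cj y₁⁻¹ (Q k j) = Q (σ k) j := g.conj _ _ _ _ _ (hσ k j)
    have h2 : y₁⁻¹ * b₂ * y₁ ∈ Q (σ k) j := by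
      have := mem_of_cj h1 hb₂.1.2
      rwa [inv_inv] at this
    have h2C : y₁⁻¹ * b₂ * y₁ ∈ centralizer (V : Set G) := by
      have := g.conj_C (g.Q_V i j' hy₁Q') hb₂.2
      rwa [inv_inv] at this
    have h3 := g.DD_V (i := σ k) (k := k) (j := j) (l := j') (fun h => hσk h.symm) hj h2 h2C hb₂.1.1
      (by have e : y₁⁻¹ * b₂ * y₁ * b₂ = (y₁⁻¹ * b₂ * y₁) * b₂ := by group
          rw [← e]; exact sq)
    obtain ⟨er', her', ep', hep', hb⟩ := g.VE_mul (g.VE₁ i j' j hj) h3.2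
    rw [mem_inf] at her' hep'
    refine ⟨x₁ * ep'⁻¹, mem_inf.2 ⟨mul_mem hx₁Q (inv_mem hep'.2), ?_⟩, ep' * (a₂ * ep),
      mem_inf.2 ⟨mul_mem hep'.2 ha₂ep, mul_mem (g.V_le_C hep'.1) ha₂epC⟩, ?_⟩
    · have e : x₁ * ep'⁻¹ = y₁ * er' := by rw [hx₁def, hb]; group
      rw [e]; exact mul_mem hy₁Q her'.2
    · rw [hx₁]; group

/-- `Q i j ⊓ Q i l` is independent of `l` -/
theorem inter_le {i : I} {j l : J} (hl : l ≠ j) (m : J) : Q i j ⊓ Q i l ≤ Q i m := by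
  intro x hx
  rw [mem_inf] at hx
  by_cases hm : m = j
  · rw [hm]; exact hx.1
  obtain ⟨k, hk⟩ := g.exists_ne_row i
  obtain ⟨y, hy, hyR⟩ := g.tran i j k l k m hk hk hl hm
  obtain ⟨σ, τ, h1, h2, h3⟩ := g.perm i j y hy
  have h4 : cj y (R i l) = R i m := by
    have h5 := h3 k l
    rw [hyR] at h5
    rw [h3 i l, h1, (g.inj h5).2]
  have h5 := mem_of_cj (g.conj y _ _ _ _ h4) hx.2
  have h6 := g.row i j m (g.QQ i j y hy x hx.1)
  have e : x = (y * x * y⁻¹ * x⁻¹)⁻¹ * (y * x * y⁻¹) := by group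
  rw [e]
  exact mul_mem (inv_mem h6) h5

theorem row_eq (i : I) {j l : J} (hl : j ≠ l) : Q i j ⊓ Q i l = rowG Q i := by
  apply le_antisymm
  · exact le_iInf fun m => g.inter_le hl.symm m
  · exact le_inf (iInf_le _ j) (iInf_le _ l)

theorem rowG_le (i : I) (j : J) : rowG Q i ≤ Q i j := iInf_le _ j

theorem R_row (i : I) (j : J) : R i j ≤ rowG Q i := le_iInf fun m => g.row i j m

theorem rowG_comm_sq [Nonempty J] {i : I} {x y : G} (hx : x ∈ rowG Q i) (hy : y ∈ rowG Q i) :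
    x * y = y * x ∧ x * x = 1 := by
  obtain ⟨j⟩ := ‹Nonempty J›
  obtain ⟨l, hl⟩ := g.exists_ne_col j
  have hd : R i j ⊓ R i l = ⊥ := by
    by_contra h
    exact hl (g.disj i j i l h).2.symm
  constructor
  · have h1 := g.QQ i j x (g.rowG_le i j hx) y (g.rowG_le i j hy)
    have h2 := g.QQ i l x (g.rowG_le i l hx) y (g.rowG_le i l hy)
    have h3 : x * y * x⁻¹ * y⁻¹ ∈ R i j ⊓ R i l := mem_inf.2 ⟨h1, h2⟩
    rw [hd, mem_bot] at h3
    calc x * y = (x * y * x⁻¹ * y⁻¹) * (y * x) := by group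
      _ = y * x := by rw [h3, one_mul]
  · have h3 : x * x ∈ R i j ⊓ R i l := mem_inf.2 ⟨g.Qsq i j x (g.rowG_le i j hx), g.Qsq i l x (g.rowG_le i l hx)⟩
    rw [hd, mem_bot] at h3
    exact h3

theorem rowG_fix {i : I} {x : G} (hx : x ∈ rowG Q i) (l : J) : cj x (R i l) = R i l :=
  g.fix_R (g.rowG_le i l hx)

/-- `C_{Q i j}(V)` is in the product -/
theorem D_rc {i : I} {j : J} {x : G} (hx : x ∈ Q i j) (hxC : x ∈ centralizer (V : Set G)) :
    ∃ a ∈ rowG Q i, ∃ b ∈ colG Q j, a ∈ centralizer (V : Set G) ∧ b ∈ centralizer (V : Set G) ∧ x = a * b := by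
  obtain ⟨k, hk⟩ := g.exists_ne_row i
  obtain ⟨l, hl⟩ := g.exists_ne_col j
  obtain ⟨a, ha, b, hb, e, he, h⟩ := g.D_mul hk hl hx hxC
  rw [mem_inf] at ha hb
  have ha' : a ∈ rowG Q i := by rw [← g.row_eq i hl.symm]; exact ha.1
  have hb' : b ∈ colG Q j := by
    have := g.transpose.row_eq j hk.symm
    change Q i j ⊓ Q k j = colG Q j at this
    rw [← this]; exact hb.1
  have h1 := g.EE i j k l hk hl he
  have hRV : ∀ {i : I} {j : J} {x : G}, x ∈ R i j → x ∈ V := fun h => g.R_le _ _ h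
  have hs : R i j ⊔ R i l ≤ V := sup_le (g.R_le _ _) (g.R_le _ _)
  obtain ⟨e₁, he₁, e₂, he₂, hee⟩ := mem_sup_comm (fun a ha b hb => g.comm a (hs ha) b (g.R_le _ _ hb)) h1
  have he₁' : e₁ ∈ rowG Q i := (sup_le (g.R_row i j) (g.R_row i l)) he₁
  have he₂' : e₂ ∈ colG Q j := g.transpose.R_row j k he₂
  have he₁V := hs he₁
  have he₂V := g.R_le _ _ he₂
  refine ⟨a * e₁, mul_mem ha' he₁', b * e₂, mul_mem hb' he₂', mul_mem ha.2 (g.V_le_C he₁V),
    mul_mem hb.2 (g.V_le_C he₂V), ?_⟩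
  rw [h, hee]
  have c : b * e₁ = e₁ * b := g.C_V hb.2 he₁V
  calc a * b * (e₁ * e₂) = a * (b * e₁) * e₂ := by group
    _ = a * (e₁ * b) * e₂ := by rw [c]
    _ = _ := by group

/-- a subgroup of `Q i j` containing `R i j` is normal -/
theorem mul_of_sup {i : I} {j : J} {A B : Subgroup G} (hA : A ≤ Q i j) (hB : B ≤ Q i j) (hRB : R i j ≤ B)
    {x : G} (hx : x ∈ A ⊔ B) : ∃ a ∈ A, ∃ b ∈ B, x = a * b := by
  have hn : A ≤ normalizer (B : Set G) := by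
    have h1 : ∀ a ∈ Q i j, ∀ b ∈ B, a * b * a⁻¹ ∈ B := by
      intro a ha b hb
      have h2 := hRB (g.QQ i j a ha b (hB hb))
      have e : a * b * a⁻¹ = (a * b * a⁻¹ * b⁻¹) * b := by group
      rw [e]; exact mul_mem h2 hb
    intro a ha
    rw [mem_normalizer_iff]
    intro b
    constructor
    · intro hb; exact h1 a (hA ha) b hb
    · intro hb
      have := h1 a⁻¹ (inv_mem (hA ha)) _ hb
      have e : a⁻¹ * (a * b * a⁻¹) * a⁻¹⁻¹ = b := by group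
      rwa [e] at this
  have h1 := Subgroup.coe_mul_of_left_le_normalizer_right A B hn
  rw [← SetLike.mem_coe, h1, Set.mem_mul] at hx
  obtain ⟨a, ha, b, hb, rfl⟩ := hx
  exact ⟨a, ha, b, hb, rfl⟩

theorem Q_sup (i : I) (j : J) : Q i j = rowG Q i ⊔ colG Q j := by
  apply le_antisymm
  · intro x hx
    obtain ⟨k, hk⟩ := g.exists_ne_row i
    obtain ⟨l, hl⟩ := g.exists_ne_col j
    obtain ⟨x', hx', hc, hr⟩ := g.split hx
    obtain ⟨f, hf, d, hd, h1⟩ := g.row_mul hl hx' hc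
    obtain ⟨f', hf', d', hd', h2⟩ := g.transpose.row_mul (i := j) (j := i) hk (mul_mem (inv_mem hx') hx) hr
    rw [mem_inf] at hd hd'
    have hf1 : f ∈ rowG Q i := by rw [← g.row_eq i hl.symm]; exact hf
    have hf2 : f' ∈ colG Q j := by
      have := g.transpose.row_eq j hk.symm
      change Q i j ⊓ Q k j = colG Q j at this
      rw [← this]; exact hf'
    obtain ⟨a, ha, b, hb, -, -, h3⟩ := g.D_rc hd.1 hd.2
    obtain ⟨a', ha', b', hb', -, -, h4⟩ := g.D_rc hd'.1 hd'.2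
    have e : x = x' * (x'⁻¹ * x) := by group
    rw [e, h2, h1, h3, h4]
    have hA : rowG Q i ≤ rowG Q i ⊔ colG Q j := le_sup_left
    have hB : colG Q j ≤ rowG Q i ⊔ colG Q j := le_sup_right
    exact mul_mem (mul_mem (hA hf1) (mul_mem (hA ha) (hB hb))) (mul_mem (hB hf2) (mul_mem (hA ha') (hB hb')))
  · exact sup_le (iInf_le _ j) (iInf_le _ i)

theorem Q_mul {i : I} {j : J} {x : G} (hx : x ∈ Q i j) : ∃ a ∈ rowG Q i, ∃ b ∈ colG Q j, x = a * b := by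
  rw [g.Q_sup] at hx
  exact g.mul_of_sup (g.rowG_le i j) (g.transpose.rowG_le j i) (g.transpose.R_row j i) hx

theorem inf_eq [Nonempty I] [Nonempty J] (i : I) (j : J) : rowG Q i ⊓ colG Q j = R i j := by
  apply le_antisymm
  · intro x hx
    rw [mem_inf] at hx
    apply g.cen i j x (g.rowG_le i j hx.1)
    intro z hz
    obtain ⟨a, ha, b, hb, rfl⟩ := g.Q_mul hz
    have h1 := (g.rowG_comm_sq hx.1 ha).1
    have h2 := (g.transpose.rowG_comm_sq hx.2 hb).1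
    calc x * (a * b) = (x * a) * b := by group
      _ = a * (x * b) := by rw [h1]; group
      _ = a * b * x := by rw [h2]; group
  · exact le_inf (g.R_row i j) (g.transpose.R_row j i)

theorem row_cent [Nonempty I] [Nonempty J] {i : I} {j : J} {x : G} (hx : x ∈ Q i j)
    (h : ∀ y ∈ rowG Q i, x * y = y * x) : x ∈ rowG Q i := by
  obtain ⟨a, ha, b, hb, rfl⟩ := g.Q_mul hx
  have hbR : b ∈ R i j := by
    apply g.cen i j b (g.transpose.rowG_le j i hb)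
    intro z hz
    obtain ⟨a', ha', b', hb', rfl⟩ := g.Q_mul hz
    have h1 := (g.transpose.rowG_comm_sq hb hb').1
    have h2 : b * a' = a' * b := by
      have h3 := h a' ha'
      have h4 := (g.rowG_comm_sq ha ha').1
      have h5 : a * (b * a') = a * (a' * b) := by
        calc a * (b * a') = a * b * a' := by group
          _ = a' * (a * b) := h3
          _ = (a' * a) * b := by group
          _ = a * (a' * b) := by rw [← h4]; group
      exact mul_left_cancel h5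
    calc b * (a' * b') = (b * a') * b' := by group
      _ = a' * (b * b') := by rw [h2]; group
      _ = a' * b' * b := by rw [h1]; group
  exact mul_mem ha (g.R_row i j hbR)

theorem row_row [Nonempty I] [Nonempty J] {i k : I} (h : i ≠ k) {x y : G} (hx : x ∈ rowG Q i)
    (hxC : x ∈ centralizer (V : Set G)) (hy : y ∈ rowG Q k) (hyC : y ∈ centralizer (V : Set G)) :
    x * y = y * x := by
  obtain ⟨j⟩ := ‹Nonempty J›
  obtain ⟨l, hl⟩ := g.exists_ne_col j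
  have h1 : ∀ j, x * y * x⁻¹ * y⁻¹ ∈ Q i j ⊓ Q k j := by
    intro j
    refine mem_inf.2 ⟨?_, (g.comm_CQ hxC (g.rowG_le k j hy)).1⟩
    have := (g.comm_CQ hyC (g.rowG_le i j hx)).1
    have e : x * y * x⁻¹ * y⁻¹ = (y * x * y⁻¹ * x⁻¹)⁻¹ := by group
    rw [e]; exact inv_mem this
  have h2 : ∀ j, x * y * x⁻¹ * y⁻¹ ∈ R i j := by
    intro j
    have : Nonempty J := ⟨j⟩
    have h3 := g.transpose.row_eq j h
    change Q i j ⊓ Q k j = colG Q j at h3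
    rw [← g.inf_eq i j, mem_inf, ← h3]
    refine ⟨?_, h1 j⟩
    rw [rowG, mem_iInf]
    exact fun j => (mem_inf.1 (h1 j)).1
  have h4 : x * y * x⁻¹ * y⁻¹ ∈ R i j ⊓ R i l := mem_inf.2 ⟨h2 j, h2 l⟩
  have hd : R i j ⊓ R i l = ⊥ := by
    by_contra h
    exact hl (g.disj i j i l h).2.symm
  rw [hd, mem_bot] at h4
  calc x * y = (x * y * x⁻¹ * y⁻¹) * (y * x) := by group
    _ = y * x := by rw [h4, one_mul]

theorem opp' {i : I} {j : J} {x : G} (hx : x ∈ Q i j) (hxC : x ∈ centralizer (V : Set G))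
    (h : ∀ k l, k ≠ i → l ≠ j → ∀ y ∈ Q k l, y ∈ centralizer (V : Set G) → x * y = y * x)
    {y : G} (hy : y ∈ Q i j) (hyC : y ∈ centralizer (V : Set G)) : x * y = y * x := by
  obtain ⟨k, hk⟩ := g.exists_ne_row i
  obtain ⟨l, hl⟩ := g.exists_ne_col j
  obtain ⟨m, hm, hmk⟩ := g.threeI i k
  obtain ⟨n, hn, hnl⟩ := g.threeJ j l
  obtain ⟨v, hv, a, ha, b, hb, rfl⟩ := g.D_le hmk hnl i j (mem_inf.2 ⟨hy, hyC⟩)
  rw [mem_inf] at ha hb
  have h1 := h k l hk hl a ha.1 ha.2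
  have h2 := h m n hm hn b hb.1 hb.2
  have h3 := g.C_V hxC hv
  calc x * (v * a * b) = (x * v) * a * b := by group
    _ = v * (x * a) * b := by rw [h3]; group
    _ = v * a * (x * b) := by rw [h1]; group
    _ = v * a * b * x := by rw [h2]; group

/-- **(I1).** -/
theorem rc [Nonempty I] [Nonempty J] : RC V R Q where
  row_eq i j l h := g.row_eq i h
  col_eq i k j h := g.transpose.row_eq j h
  sup := g.Q_sup
  mul i j x hx := g.Q_mul hx
  inf := g.inf_eq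
  R_row := g.R_row
  R_col i j := g.transpose.R_row j i
  row_comm i x hx y hy := (g.rowG_comm_sq hx hy).1
  col_comm j x hx y hy := (g.transpose.rowG_comm_sq hx hy).1
  row_sq i x hx := (g.rowG_comm_sq hx hx).2
  col_sq j x hx := (g.transpose.rowG_comm_sq hx hx).2
  row_cent i j x hx h := g.row_cent hx h
  col_cent i j x hx h := g.transpose.row_cent (i := j) (j := i) hx h
  row_fix i x hx k l := by
    obtain ⟨j⟩ := ‹Nonempty J›
    obtain ⟨σ, -, h⟩ := g.fixc (g.rowG_le i j hx) (g.rowG_fix hx)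
    exact ⟨σ k, h k l⟩
  col_fix j x hx k l := by
    obtain ⟨i⟩ := ‹Nonempty I›
    obtain ⟨σ, -, h⟩ := g.transpose.fixc (g.transpose.rowG_le j i hx) (g.transpose.rowG_fix hx)
    exact ⟨σ l, h l k⟩
  row_row i k h x hx hxC y hy hyC := g.row_row h hx hxC hy hyC
  col_col j l h x hx hxC y hy hyC := g.transpose.row_row h hx hxC hy hyC
  cenV i j x hx hxC := g.D_rc hx hxC
  opp i j x hx hxC h y hy hyC := g.opp' hx hxC h hy hyC

end Grid

end Cfsg.Agent.Omega.NO1.Gamma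

end

section


/-!
# Type (gamma): `Gin0 → Gin`
-/

set_option autoImplicit false
set_option linter.unusedVariables false
set_option linter.unusedSectionVars false

open Subgroup
open scoped Pointwise

namespace Cfsg.Agent.Omega.NO1.Gamma

open Cfsg.Agent.Omega.NO1.Beta.Meet (cj mem_cj conj_mem_cj cj_mul cj_inj cj_eq_of_comm cj_eq_of_mem
  mem_normalizer_of_cj cj_of_mem_normalizer)

variable {G : Type*} [Group G] {I J : Type*}

theorem cj_inf' (c : G) (H K : Subgroup G) : cj c (H ⊓ K) = cj c H ⊓ cj c K := by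
  ext x
  simp only [mem_inf, mem_cj]

namespace Grid

variable {V : Subgroup G} {R Q : I → J → Subgroup G} (g : Grid V R Q)
include g

/-- a permutation of the points which maps rows to rows maps row groups to row groups -/
theorem cj_rowG {c : G} {σ : I → I} {τ : J → J} (h : ∀ i j, cj c (R i j) = R (σ i) (τ j)) [Nonempty J]
    (i : I) : cj c (rowG Q i) = rowG Q (σ i) := by
  obtain ⟨j⟩ := ‹Nonempty J›
  obtain ⟨l, hl⟩ := g.exists_ne_col j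
  have h1 : τ j ≠ τ l := by
    intro he
    apply hl
    have h2 : cj c (R i j) = cj c (R i l) := by rw [h, h, he]
    exact (g.inj (cj_inj h2)).2.symm
  rw [← g.row_eq i hl.symm, cj_inf', g.conj c _ _ _ _ (h i j), g.conj c _ _ _ _ (h i l), g.row_eq _ h1]

/-- a permutation of the points which interchanges rows and columns -/
theorem cj_rowG_swap {c : G} {σ : J → I} {τ : I → J} (h : ∀ i j, cj c (R i j) = R (σ j) (τ i)) [Nonempty J]
    (i : I) : cj c (rowG Q i) = colG Q (τ i) := by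
  obtain ⟨j⟩ := ‹Nonempty J›
  obtain ⟨l, hl⟩ := g.exists_ne_col j
  have h1 : σ j ≠ σ l := by
    intro he
    apply hl
    have h2 : cj c (R i j) = cj c (R i l) := by rw [h, h, he]
    exact (g.inj (cj_inj h2)).2.symm
  have h2 := g.transpose.row_eq (τ i) h1
  change Q (σ j) (τ i) ⊓ Q (σ l) (τ i) = colG Q (τ i) at h2
  rw [← g.row_eq i hl.symm, cj_inf', g.conj c _ _ _ _ (h i j), g.conj c _ _ _ _ (h i l), h2]

end Grid

namespace Gin0

variable {F : Type*} [Field F] {S : Sylow 2 G} {V : Subgroup G} {R Q : I → J → Subgroup G} {i0 i1 : I}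
  {j0 j1 : J} {v : F → F → F → F → G} {p p' : G → F}

/-- transposition -/
theorem transpose (h : Gin0 F S V R Q i0 i1 j0 j1 v p p') :
    Gin0 F S V (fun j i => R i j) (fun j i => Q i j) j0 j1 i0 i1 (fun a b c d => v a c b d) p' p where
  grid := h.grid.transpose
  hi := h.hj
  hj := h.hi
  two := h.two
  four := h.four
  v_add a b c d a' b' c' d' := h.v_add a c b d a' c' b' d'
  v_inj a b c d e := by
    obtain ⟨h1, h2, h3, h4⟩ := h.v_inj a c b d e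
    exact ⟨h1, h3, h2, h4⟩
  v_mem a b c d := h.v_mem a c b d
  v_surj x hx := by
    obtain ⟨a, b, c, d, e⟩ := h.v_surj x hx
    exact ⟨a, c, b, d, e⟩
  R00 := h.R00
  R01 := h.R10
  R10 := h.R01
  R11 := h.R11
  V_Q a b c d := h.V_Q a c b d
  act x hx a b c d := by
    rw [h.act x hx a c b d]
    congr 1
    ring
  p_surj s t := by
    obtain ⟨x, hx, h1, h2⟩ := h.p_surj t s
    exact ⟨x, hx, h2, h1⟩
  act' s t := by
    obtain ⟨x, hx, h1⟩ := h.act' t s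
    refine ⟨x, hx, fun a b c d => ?_⟩
    rw [h1 a c b d]
    congr 1
    ring
  tor y hy := by
    obtain ⟨k, hk, h1⟩ := h.tor y⁻¹ (inv_ne_zero hy)
    refine ⟨k, hk, fun a b c d => ?_⟩
    rw [h1 a c b d, inv_pow, inv_inv]
  swap := by
    obtain ⟨s, hs, σ, τ, h1⟩ := h.swap
    exact ⟨s, hs, τ, σ, fun j i => h1 i j⟩
  norm g hg := by
    rcases h.norm g hg with ⟨σ, τ, h1⟩ | ⟨σ, τ, h1⟩
    · exact Or.inl ⟨τ, σ, fun j i => h1 i j⟩
    · exact Or.inr ⟨τ, σ, fun j i => h1 i j⟩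
  actU g hg h1 h2 h3 := by
    refine h.actU g hg h1 (fun b c => h2 c b) fun d => ?_
    obtain ⟨a, b, c, e⟩ := h3 d
    exact ⟨a, c, b, e⟩
  Q_two := h.Q_two
  max := h.max
  char2 := h.char2
  S_V := h.S_V
  S_R := h.S_R

variable (h : Gin0 F S V R Q i0 i1 j0 j1 v p p')
include h

theorem v_zero : v 0 0 0 0 = 1 := by
  have h1 := h.v_add 0 0 0 0 0 0 0 0
  simp only [add_zero] at h1
  exact (mul_eq_left (a := v 0 0 0 0)).1 h1.symm

theorem dbl (a : F) : a + a = 0 := by rw [← two_mul, h.two, zero_mul]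

/-- `v` is injective -/
theorem inj {a b c d a' b' c' d' : F} (e : v a b c d = v a' b' c' d') : a = a' ∧ b = b' ∧ c = c' ∧ d = d' := by
  have h1 : v (a + a') (b + b') (c + c') (d + d') = 1 := by
    rw [h.v_add, e, ← h.v_add, h.dbl, h.dbl, h.dbl, h.dbl, h.v_zero]
  have key : ∀ {x y : F}, x + y = 0 → x = y := by
    intro x y hxy
    linear_combination hxy - y * h.two
  obtain ⟨h2, h3, h4, h5⟩ := h.v_inj _ _ _ _ h1
  exact ⟨key h2, key h3, key h4, key h5⟩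

theorem p_mul {x y : G} (hx : x ∈ Q i0 j0) (hy : y ∈ Q i0 j0) :
    p (x * y) = p x + p y ∧ p' (x * y) = p' x + p' y := by
  have h1 := h.act (x * y) (mul_mem hx hy) 0 0 0 1
  have h2 : x * y * v 0 0 0 1 * (x * y)⁻¹ = x * (y * v 0 0 0 1 * y⁻¹) * x⁻¹ := by group
  rw [h2, h.act y hy, h.act x hx] at h1
  obtain ⟨-, h3, h4, -⟩ := h.inj h1
  constructor
  · linear_combination -h3
  · linear_combination -h4

theorem nonI : Nonempty I := ⟨i0⟩
theorem nonJ : Nonempty J := ⟨j0⟩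

/-- `T_{i0} = {v a b 0 0}` -/
theorem v_row (a b : F) : v a b 0 0 ∈ rowG Q i0 := by
  have h1 : v a 0 0 0 ∈ rowG Q i0 := h.grid.R_row i0 j0 ((h.R00 _).2 ⟨a, rfl⟩)
  have h2 : v 0 b 0 0 ∈ rowG Q i0 := h.grid.R_row i0 j1 ((h.R01 _).2 ⟨b, rfl⟩)
  have h3 := h.v_add a 0 0 0 0 b 0 0
  simp only [add_zero, zero_add] at h3
  rw [h3]; exact mul_mem h1 h2

theorem v_col (a c : F) : v a 0 c 0 ∈ colG Q j0 := h.transpose.v_row a c

theorem row_V (a b c d : F) : v a b c d ∈ rowG Q i0 ↔ c = 0 ∧ d = 0 := by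
  have := h.nonI
  have := h.nonJ
  constructor
  · intro hx
    have hd : d = 0 := (h.V_Q a b c d).1 (h.grid.rowG_le i0 j0 hx)
    subst hd
    refine ⟨?_, rfl⟩
    have h3 := h.v_add a b 0 0 0 0 c 0
    simp only [add_zero, zero_add] at h3
    have h4 : v 0 0 c 0 ∈ rowG Q i0 := by
      have h5 := mul_mem (inv_mem (h.v_row a b)) hx
      rw [h3, inv_mul_cancel_left] at h5
      exact h5
    have h6 : v 0 0 c 0 ∈ R i0 j0 := by
      rw [← h.grid.inf_eq i0 j0]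
      exact mem_inf.2 ⟨h4, h.v_col 0 c⟩
    obtain ⟨a', ha'⟩ := (h.R00 _).1 h6
    exact (h.inj ha').2.2.1
  · rintro ⟨rfl, rfl⟩
    exact h.v_row a b

theorem row_p {x : G} (hx : x ∈ rowG Q i0) : p' x = 0 := by
  have h1 : v 0 1 0 0 ∈ R i0 j1 := (h.R01 _).2 ⟨1, rfl⟩
  have h2 := h.grid.RQ i0 j1 _ h1 x (h.grid.rowG_le i0 j1 hx)
  have h3 := h.act x (h.grid.rowG_le i0 j0 hx) 0 1 0 0
  rw [← h2, mul_inv_cancel_right] at h3
  have h4 := (h.inj h3).1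
  simp only [zero_add, mul_one, mul_zero, add_zero] at h4
  exact h4.symm

/-- the row group `A_{i0}` acts by upper triangular matrices from the left -/
theorem row_act (s : F) : ∃ x ∈ rowG Q i0, ∀ a b c d,
    x * v a b c d * x⁻¹ = v (a + s * c) (b + s * d) c d := by
  obtain ⟨x, hx, h1, h2⟩ := h.p_surj s 0
  obtain ⟨a, ha, b, hb, rfl⟩ := h.grid.Q_mul hx
  have haQ := h.grid.rowG_le i0 j0 ha
  have hbQ : b ∈ Q i0 j0 := h.grid.transpose.rowG_le j0 i0 hb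
  have h3 : p b = 0 := h.transpose.row_p hb
  have h4 : p a = s := by
    rw [← h1, (h.p_mul haQ hbQ).1, h3, add_zero]
  refine ⟨a, ha, fun a' b' c' d' => ?_⟩
  rw [h.act a haQ, h.row_p ha, h4]
  congr 1 <;> ring

/-- the row group `A_{i1}` acts by lower triangular matrices from the left -/
theorem row_act' (s : F) : ∃ x ∈ rowG Q i1, ∀ a b c d,
    x * v a b c d * x⁻¹ = v a b (c + s * a) (d + s * b) := by
  obtain ⟨x, hx, h1⟩ := h.act' s 0
  have h2 : ∀ a b c d, x * v a b c d * x⁻¹ = v a b (c + s * a) (d + s * b) := by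
    intro a b c d
    rw [h1]; congr 1 <;> ring
  have h3 : cj x (R i1 j0) = R i1 j0 := by
    apply cj_eq_of_comm
    intro y hy
    obtain ⟨c, rfl⟩ := (h.R10 _).1 hy
    have h4 := h2 0 0 c 0
    simp only [mul_zero, add_zero] at h4
    calc x * v 0 0 c 0 = x * v 0 0 c 0 * x⁻¹ * x := by group
      _ = v 0 0 c 0 * x := by rw [h4]
  have h5 := h.grid.fixc_of_one h.hj hx h3
  obtain ⟨f, hf, d, hd, hfd⟩ := h.grid.row_mul (j' := j0) h.hj hx h5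
  rw [h.grid.row_eq i1 h.hj.symm] at hf
  rw [mem_inf] at hd
  refine ⟨f, hf, fun a b c e => ?_⟩
  have h6 := h.grid.C_V hd.2 (h.v_mem a b c e)
  rw [← h2, hfd]
  calc f * v a b c e * f⁻¹ = f * (v a b c e * d) * d⁻¹ * f⁻¹ := by group
    _ = f * (d * v a b c e) * d⁻¹ * f⁻¹ := by rw [h6]
    _ = f * d * v a b c e * (f * d)⁻¹ := by group

/-- `n(y) = [[0, y], [y⁻¹, 0]] × 1` -/
theorem exists_n {y : F} (hy : y ≠ 0) : ∃ n ∈ ⨆ k, rowG Q k, ∀ a b c d,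
    n * v a b c d * n⁻¹ = v (y * c) (y * d) (y⁻¹ * a) (y⁻¹ * b) := by
  obtain ⟨x, hx, h1⟩ := h.row_act y
  obtain ⟨z, hz, h2⟩ := h.row_act' y⁻¹
  have hx' : x ∈ ⨆ k, rowG Q k := (le_iSup (rowG Q) i0) hx
  have hz' : z ∈ ⨆ k, rowG Q k := (le_iSup (rowG Q) i1) hz
  refine ⟨x * z * x, mul_mem (mul_mem hx' hz') hx', fun a b c d => ?_⟩
  have e : x * z * x * v a b c d * (x * z * x)⁻¹ = x * (z * (x * v a b c d * x⁻¹) * z⁻¹) * x⁻¹ := by group
  have k1 : y⁻¹ * y = 1 := inv_mul_cancel₀ hy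
  have k2 : y * y⁻¹ = 1 := mul_inv_cancel₀ hy
  have k3 : ∀ t : F, y⁻¹ * (y * t) = t := fun t => by rw [← mul_assoc, k1, one_mul]
  have k4 : ∀ t : F, y * (y⁻¹ * t) = t := fun t => by rw [← mul_assoc, k2, one_mul]
  have e3 : ∀ t u : F, t + y⁻¹ * (u + y * t) = y⁻¹ * u := by
    intro t u
    rw [mul_add, k3]
    linear_combination t * h.two
  rw [e, h1, h2, h1, e3, e3]
  have e4 : ∀ t u : F, u + y * t + y * (y⁻¹ * u) = y * t := by
    intro t u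
    rw [k4]
    linear_combination u * h.two
  rw [e4, e4]

theorem gin : Gin F S V R Q i0 i1 j0 j1 v p p' where
  grid := h.grid
  rc := by
    have := h.nonI
    have := h.nonJ
    exact h.grid.rc
  hi := h.hi
  hj := h.hj
  two := h.two
  four := h.four
  v_add := h.v_add
  v_inj := h.v_inj
  v_mem := h.v_mem
  v_surj := h.v_surj
  R00 := h.R00
  R01 := h.R01
  R10 := h.R10
  R11 := h.R11
  row_V := h.row_V
  col_V a b c d := by
    have h1 := h.transpose.row_V a c b d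
    exact h1
  V_Q := h.V_Q
  act := h.act
  p_surj := h.p_surj
  row_p x hx := h.row_p hx
  col_p x hx := h.transpose.row_p hx
  tor := h.tor
  tor' y hy := by
    obtain ⟨n, hn, h1⟩ := h.exists_n hy
    obtain ⟨m, hm, h2⟩ := h.exists_n (one_ne_zero (α := F))
    refine ⟨n * m, mul_mem hn hm, fun a b c d => ?_⟩
    have e : n * m * v a b c d * (n * m)⁻¹ = n * (m * v a b c d * m⁻¹) * n⁻¹ := by group
    rw [e, h2, h1]
    simp only [inv_one, one_mul]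
  wey := by
    obtain ⟨m, hm, h2⟩ := h.transpose.exists_n (one_ne_zero (α := F))
    refine ⟨m, hm, fun a b c d => ?_⟩
    have h3 := h2 a c b d
    simp only [inv_one, one_mul] at h3
    exact h3
  wey' := by
    obtain ⟨m, hm, h2⟩ := h.exists_n (one_ne_zero (α := F))
    refine ⟨m, hm, fun a b c d => ?_⟩
    rw [h2]
    simp only [inv_one, one_mul]
  swap := by
    have := h.nonI
    have := h.nonJ
    obtain ⟨s, hs, σ, τ, h1⟩ := h.swap
    have hV := cj_of_mem_normalizer (h.S_V hs)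
    have hR := cj_of_mem_normalizer (h.S_R hs)
    have h2 := h1 i0 j0
    rw [hR] at h2
    have h3 := h.grid.inj h2
    refine ⟨s, hs, hV, hR, ?_, ?_⟩
    · rw [h.grid.cj_rowG_swap h1, ← h3.2]
    · have h4 := h.grid.transpose.cj_rowG_swap (σ := τ) (τ := σ) (fun j i => h1 i j) j0
      rw [← h3.1] at h4
      exact h4
  norm g hg hR := by
    have := h.nonI
    have := h.nonJ
    rcases h.norm g hg with ⟨σ, τ, h1⟩ | ⟨σ, τ, h1⟩
    · left
      have h2 := h1 i0 j0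
      rw [hR] at h2
      have h3 := h.grid.inj h2
      refine ⟨?_, ?_⟩
      · rw [h.grid.cj_rowG h1, ← h3.1]
      · have h4 := h.grid.transpose.cj_rowG (σ := τ) (τ := σ) (fun j i => h1 i j) j0
        rw [← h3.2] at h4
        exact h4
    · right
      have h2 := h1 i0 j0
      rw [hR] at h2
      have h3 := h.grid.inj h2
      refine ⟨?_, ?_⟩
      · rw [h.grid.cj_rowG_swap h1, ← h3.2]
      · have h4 := h.grid.transpose.cj_rowG_swap (σ := τ) (τ := σ) (fun j i => h1 i j) j0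
        rw [← h3.1] at h4
        exact h4
  actU := h.actU
  Q_two := h.Q_two
  max := h.max
  char2 := h.char2
  S_V := h.S_V
  S_R := h.S_R

end Gin0

end Cfsg.Agent.Omega.NO1.Gamma

end

end

-- merged: Cfsg.Agent.Mrg.Omega.NO1.Gamma.OfCore
section

section


/-!
# Type (gamma): `Grid` + coordinates + `All.NOne.Core → Gin0`

* `rook` : automorphisms of the rook graph;
* `Gin1` : the grid, the coordinates and `Core` with `T = F × F`, `X = ⟨Q i j⟩`;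
* `Gin1.gin0`.
-/

set_option autoImplicit false
set_option linter.unusedVariables false
set_option linter.unusedSectionVars false

open Subgroup
open scoped Pointwise

namespace Cfsg.Agent.Omega.NO1.Gamma

open Cfsg Cfsg.Agent.ZN
open Cfsg.Agent.Omega.NO1.Beta.Meet (cj mem_cj conj_mem_cj cj_mul cj_inj cj_eq_of_comm cj_eq_of_mem
  mem_normalizer_of_cj cj_of_mem_normalizer)
open Cfsg.Agent.MinSimple.VModule (o2_isPGroup)
open Cfsg.Agent.Omega.FrameNOFF (CZ)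

universe u

/-! ### The rook graph -/

/-- An injective map of `I × J` into itself which preserves the relation 'same row or same column' and its
negation preserves or interchanges rows and columns. -/
theorem rook {I J : Type*} [Nonempty I] [Nonempty J] (r : I → J → I) (c : I → J → J)
    (hadj : ∀ i j k l, (i = k ∨ j = l) ↔ (r i j = r k l ∨ c i j = c k l))
    (hinj : ∀ i j k l, r i j = r k l → c i j = c k l → i = k ∧ j = l)
    (threeI : ∀ i k : I, ∃ m, m ≠ i ∧ m ≠ k) (threeJ : ∀ j l : J, ∃ m, m ≠ j ∧ m ≠ l) :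
    (∃ (σ : I → I) (τ : J → J), ∀ i j, r i j = σ i ∧ c i j = τ j) ∨
      ∃ (σ : J → I) (τ : I → J), ∀ i j, r i j = σ j ∧ c i j = τ i := by
  -- every row is mapped into a row or a column
  have hrow : ∀ i, (∀ j l, r i j = r i l) ∨ (∀ j l, c i j = c i l) := by
    intro i
    by_contra hcon
    push Not at hcon
    obtain ⟨⟨j, l, h1⟩, j', l', h2⟩ := hcon
    -- `j, l` share the column
    have key : ∀ j l, r i j ≠ r i l → ∀ m, c i m = c i j := by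
      intro j l hjl m
      have hc : c i j = c i l := ((hadj i j i l).1 (Or.inl rfl)).resolve_left hjl
      rcases (hadj i m i j).1 (Or.inl rfl) with h3 | h3
      · rcases (hadj i m i l).1 (Or.inl rfl) with h4 | h4
        · exact absurd (h3.symm.trans h4) hjl
        · exact h4.trans hc.symm
      · exact h3
    exact h2 ((key j l h1 j').trans (key j l h1 l').symm)
  obtain ⟨i₀⟩ := ‹Nonempty I›
  obtain ⟨j₀⟩ := ‹Nonempty J›
  obtain ⟨j₁, hj₁, -⟩ := threeJ j₀ j₀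
  obtain ⟨i₁, hi₁, -⟩ := threeI i₀ i₀
  have hne : ∀ i, ¬ ((∀ j l, r i j = r i l) ∧ (∀ j l, c i j = c i l)) := by
    rintro i ⟨h1, h2⟩
    exact hj₁ (hinj i j₁ i j₀ (h1 _ _) (h2 _ _)).2
  -- two rows have the same kind
  have hkind : ∀ i k, i ≠ k → (∀ j l, r i j = r i l) → ¬ (∀ j l, c k j = c k l) := by
    intro i k hik h1 h2
    -- `c i j = c k j` for all `j`
    have h3 : ∀ j, c i j = c k j := by
      intro j
      rcases (hadj i j k j).1 (Or.inr rfl) with h4 | h4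
      · exfalso
        obtain ⟨l, hl, -⟩ := threeJ j j
        have h5 : r i l = r k j := (h1 l j).trans h4
        rcases (hadj i l k j).2 (Or.inl h5) with h6 | h6
        · exact hik h6
        · exact hl h6
      · exact h4
    apply hj₁
    exact (hinj i j₁ i j₀ (h1 _ _) (by rw [h3, h3]; exact h2 _ _)).2
  by_cases h0 : ∀ j l, r i₀ j = r i₀ l
  · left
    have hall : ∀ i, ∀ j l, r i j = r i l := by
      intro i
      by_cases hi : i = i₀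
      · subst hi; exact h0
      · exact (hrow i).resolve_right (hkind i₀ i (Ne.symm hi) h0)
    have hdiff : ∀ i k, i ≠ k → ∀ j l, r i j ≠ r k l := by
      intro i k hik j l h1
      obtain ⟨m, hm, -⟩ := threeJ l l
      have h2 : r i m = r k l := (hall i m j).trans h1
      rcases (hadj i m k l).2 (Or.inl h2) with h6 | h6
      · exact hik h6
      · exact hm h6
    refine ⟨fun i => r i j₀, fun j => c i₀ j, fun i j => ⟨hall i _ _, ?_⟩⟩
    by_cases hi : i = i₀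
    · rw [hi]
    · exact ((hadj i j i₀ j).1 (Or.inr rfl)).resolve_left (hdiff i i₀ hi j j)
  · right
    have h0' : ∀ j l, c i₀ j = c i₀ l := (hrow i₀).resolve_left h0
    have hall : ∀ i, ∀ j l, c i j = c i l := by
      intro i
      by_cases hi : i = i₀
      · subst hi; exact h0'
      · refine (hrow i).resolve_left fun h1 => hkind i i₀ hi h1 h0'
    have hdiff : ∀ i k, i ≠ k → ∀ j l, c i j ≠ c k l := by
      intro i k hik j l h1
      obtain ⟨m, hm, -⟩ := threeJ l l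
      have h2 : c i m = c k l := (hall i m j).trans h1
      rcases (hadj i m k l).2 (Or.inr h2) with h6 | h6
      · exact hik h6
      · exact hm h6
    refine ⟨fun j => r i₀ j, fun i => c i j₀, fun i j => ⟨?_, hall i _ _⟩⟩
    by_cases hi : i = i₀
    · rw [hi]
    · exact ((hadj i j i₀ j).1 (Or.inr rfl)).resolve_right (hdiff i i₀ hi j j)

variable {G : Type u} [Group G] {I J : Type*}

namespace Grid

variable {V : Subgroup G} {R Q : I → J → Subgroup G} (g : Grid V R Q)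
include g

/-- the points `i j` and `k l` are in the same row or column iff `R i j ≤ Q k l` -/
theorem le_iff {i k : I} {j l : J} : R i j ≤ Q k l ↔ (i = k ∨ j = l) := by
  constructor
  · intro h
    by_contra hcon
    push Not at hcon
    have h1 := g.RQj i j k l (Ne.symm hcon.1) (Ne.symm hcon.2)
    rw [inf_eq_left.2 h] at h1
    exact g.ne i j h1
  · rintro (rfl | rfl)
    · exact g.row _ _ _
    · exact g.col _ _ _

/-- an element which permutes the points preserves or interchanges rows and columns -/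
theorem norm_of [Nonempty I] [Nonempty J] {c : G} (h : ∀ i j, ∃ k l, cj c (R i j) = R k l) :
    (∃ (σ : I → I) (τ : J → J), ∀ i j, cj c (R i j) = R (σ i) (τ j)) ∨
      ∃ (σ : J → I) (τ : I → J), ∀ i j, cj c (R i j) = R (σ j) (τ i) := by
  choose r s hrs using h
  have hQ : ∀ i j, cj c (Q i j) = Q (r i j) (s i j) := fun i j => g.conj c _ _ _ _ (hrs i j)
  have hmono : ∀ H K : Subgroup G, H ≤ K ↔ cj c H ≤ cj c K := by
    intro H K
    constructor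
    · intro h x hx
      rw [mem_cj] at hx ⊢
      exact h hx
    · intro h x hx
      have h1 := h (conj_mem_cj (c := c) hx)
      rw [mem_cj] at h1
      have e : c⁻¹ * (c * x * c⁻¹) * c = x := by group
      rwa [e] at h1
  rcases rook r s (fun i j k l => by
      rw [← g.le_iff, ← g.le_iff, hmono (R i j) (Q k l), hrs, hQ])
    (fun i j k l h1 h2 => g.inj (cj_inj (c := c) (by rw [hrs, hrs, h1, h2]))) g.threeI g.threeJ with
    ⟨σ, τ, h1⟩ | ⟨σ, τ, h1⟩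
  · exact Or.inl ⟨σ, τ, fun i j => by rw [hrs, (h1 i j).1, (h1 i j).2]⟩
  · exact Or.inr ⟨σ, τ, fun i j => by rw [hrs, (h1 i j).1, (h1 i j).2]⟩

/-- the group generated by the `Q i j` permutes the points -/
theorem perm_sup {x : G} (hx : x ∈ ⨆ i, ⨆ j, Q i j) : ∀ i j, ∃ k l, cj x (R i j) = R k l := by
  have key : (⨆ i, ⨆ j, Q i j) ≤ ({
      carrier := {x | (∀ i j, ∃ k l, cj x (R i j) = R k l) ∧ ∀ i j, ∃ k l, cj x⁻¹ (R i j) = R k l}
      one_mem' := ⟨fun i j => ⟨i, j, cj_one' _⟩, fun i j => ⟨i, j, by rw [inv_one]; exact cj_one' _⟩⟩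
      mul_mem' := by
        rintro x y ⟨hx, hx'⟩ ⟨hy, hy'⟩
        refine ⟨fun i j => ?_, fun i j => ?_⟩
        · obtain ⟨k, l, h1⟩ := hy i j
          obtain ⟨k', l', h2⟩ := hx k l
          exact ⟨k', l', by rw [cj_mul, h1, h2]⟩
        · obtain ⟨k, l, h1⟩ := hx' i j
          obtain ⟨k', l', h2⟩ := hy' k l
          exact ⟨k', l', by rw [mul_inv_rev, cj_mul, h1, h2]⟩
      inv_mem' := by
        rintro x ⟨hx, hx'⟩
        exact ⟨hx', by rwa [inv_inv]⟩ } : Subgroup G) := by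
    refine iSup_le fun k => iSup_le fun l => fun y hy => ⟨fun i j => ?_, fun i j => ?_⟩
    · obtain ⟨σ, τ, -, -, h1⟩ := g.perm k l y hy
      exact ⟨_, _, h1 i j⟩
    · obtain ⟨σ, τ, -, -, h1⟩ := g.perm k l y⁻¹ (inv_mem hy)
      exact ⟨_, _, h1 i j⟩
  exact (key hx).1

theorem sup_nor : (⨆ i, ⨆ j, Q i j) ≤ normalizer (V : Set G) := iSup_le fun k => iSup_le fun l => g.Q_V k l

/-- transitivity on the points -/
theorem exists_move (i k : I) (j l : J) : ∃ x ∈ ⨆ i, ⨆ j, Q i j, cj x (R i j) = R k l := by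
  obtain ⟨m, hm1, hm2⟩ := g.threeI i k
  obtain ⟨n, hn1, hn2⟩ := g.threeJ j l
  obtain ⟨y, hy, h1⟩ := g.tran m n i j k l hm1.symm hm2.symm hn1.symm hn2.symm
  exact ⟨y, (le_iSup_of_le (f := fun i => ⨆ j, Q i j) m (le_iSup (Q m) n)) hy, h1⟩

end Grid

/-- The grid, the coordinates and `Core`. -/
structure Gin1 (F : Type*) [Field F] (S : Sylow 2 G) (V : Subgroup G) (R Q : I → J → Subgroup G) (i0 i1 : I) (j0 j1 : J)
    (v : F → F → F → F → G) (p p' : G → F) : Prop where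
  grid : Grid V R Q
  hi : i0 ≠ i1
  hj : j0 ≠ j1
  core : All.NOne.Core (S : Subgroup G) V (R i0 j0) (Q i0 j0) (⨆ i, ⨆ j, Q i j)
    (fun a (b : F × F) d => v a b.1 b.2 d) (fun b => b.1 * b.2) (fun b c => b.1 * c.2 + b.2 * c.1)
  R01 : ∀ x, x ∈ R i0 j1 ↔ ∃ b, x = v 0 b 0 0
  R10 : ∀ x, x ∈ R i1 j0 ↔ ∃ c, x = v 0 0 c 0
  R11 : ∀ x, x ∈ R i1 j1 ↔ ∃ d, x = v 0 0 0 d
  act : ∀ x ∈ Q i0 j0, ∀ a b c d, x * v a b c d * x⁻¹ =
    v (a + p' x * b + p x * c + p x * p' x * d) (b + p x * d) (c + p' x * d) d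
  act' : ∀ s t, ∃ x ∈ Q i1 j1, ∀ a b c d, x * v a b c d * x⁻¹ =
    v a (b + t * a) (c + s * a) (d + s * b + t * c + s * t * a)
  tor : ∀ y : F, y ≠ 0 → ∃ h ∈ normalizer (V : Set G), ∀ a b c d,
    h * v a b c d * h⁻¹ = v a (y ^ 2 * b) ((y ^ 2)⁻¹ * c) d
  swap : ∃ s ∈ S, ∃ (σ : J → I) (τ : I → J), ∀ i j, cj s (R i j) = R (σ j) (τ i)

namespace Gin1

variable {F : Type*} [Field F] {S : Sylow 2 G} {V : Subgroup G} {R Q : I → J → Subgroup G} {i0 i1 : I}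
  {j0 j1 : J} {v : F → F → F → F → G} {p p' : G → F} (h : Gin1 F S V R Q i0 i1 j0 j1 v p p')
include h

theorem v_add (a b c d a' b' c' d' : F) :
    v (a + a') (b + b') (c + c') (d + d') = v a b c d * v a' b' c' d' :=
  h.core.e_add a (b, c) d a' (b', c') d'

theorem v_eq {a b c d a' b' c' d' : F} (e : v a b c d = v a' b' c' d') : a = a' ∧ b = b' ∧ c = c' ∧ d = d' := by
  obtain ⟨h1, h2, h3⟩ := h.core.e_eq (a := a) (b := (b, c)) (d := d) (a' := a') (b' := (b', c')) (d' := d') e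
  exact ⟨h1, congrArg Prod.fst h2, congrArg Prod.snd h2, h3⟩

theorem R00 (x : G) : x ∈ R i0 j0 ↔ ∃ a, x = v a 0 0 0 := by
  rw [h.core.R_iff]
  exact exists_congr fun a => ⟨fun e => e.symm, fun e => e.symm⟩

theorem p_surj (s t : F) : ∃ x ∈ Q i0 j0, p x = s ∧ p' x = t := by
  obtain ⟨y, hy, h1⟩ := h.core.act_surj (s, t)
  have h2 := (h1 0 (0, 0) 1).symm.trans (h.act y hy 0 0 0 1)
  obtain ⟨-, h3, h4, -⟩ := h.v_eq h2
  simp only [Prod.fst_add, Prod.snd_add, Prod.smul_fst, Prod.smul_snd, smul_eq_mul, one_mul, mul_one, zero_add]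
    at h3 h4
  exact ⟨y, hy, h3.symm, h4.symm⟩

section

variable [Finite G] (hG : IsCharacteristicTwoType G) (hZ : zc (S : Subgroup G) ≠ ⊥)
include hG hZ

/-- `N_G(V)` permutes the points (MX) -/
theorem perm {g : G} (hg : g ∈ normalizer (V : Set G)) (i : I) (j : J) : ∃ k l, cj g (R i j) = R k l := by
  obtain ⟨x, hx, h1⟩ := h.grid.exists_move i0 i j0 j
  obtain ⟨y, hy, h2⟩ := h.core.mx S hG hZ (mul_mem hg (h.grid.sup_nor hx))
  have h3 := cj_of_mem_normalizer h2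
  obtain ⟨k, l, h4⟩ := h.grid.perm_sup (inv_mem hy) i0 j0
  refine ⟨k, l, ?_⟩
  rw [← h4, ← h1, ← cj_mul]
  have e : g * x = y⁻¹ * (y * (g * x)) := by group
  rw [e, cj_mul, h3]

theorem norm {g : G} (hg : g ∈ normalizer (V : Set G)) :
    (∃ (σ : I → I) (τ : J → J), ∀ i j, cj g (R i j) = R (σ i) (τ j)) ∨
      ∃ (σ : J → I) (τ : I → J), ∀ i j, cj g (R i j) = R (σ j) (τ i) := by
  have : Nonempty I := ⟨i0⟩
  have : Nonempty J := ⟨j0⟩
  exact h.grid.norm_of (h.perm hG hZ hg)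

theorem actU (g : G) (hg : g ∈ normalizer (V : Set G)) (g0 : ∀ a, g * v a 0 0 0 * g⁻¹ = v a 0 0 0)
    (g1 : ∀ b c, ∃ a, g * v 0 b c 0 * g⁻¹ = v a b c 0) (g2 : ∀ d, ∃ a b c, g * v 0 0 0 d * g⁻¹ = v a b c d) :
    ∃ x ∈ Q i0 j0, g * x⁻¹ ∈ centralizer (V : Set G) := by
  have hfix : cj g (R i0 j0) = R i0 j0 := by
    apply cj_eq_of_comm
    intro x hx
    obtain ⟨a, rfl⟩ := (h.R00 x).1 hx
    calc g * v a 0 0 0 = g * v a 0 0 0 * g⁻¹ * g := by group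
      _ = v a 0 0 0 * g := by rw [g0]
  rcases h.norm hG hZ hg with ⟨σ, τ, h1⟩ | ⟨σ, τ, h1⟩
  · have h2 := h1 i0 j0
    rw [hfix] at h2
    obtain ⟨h3, h4⟩ := h.grid.inj h2
    have h5 : σ i1 ≠ i0 := by
      intro h6
      apply h.hi
      have h7 : cj g (R i0 j0) = cj g (R i1 j0) := by rw [h1, h1, ← h3, h6]
      exact (h.grid.inj (cj_inj h7)).1
    have h6 : τ j1 ≠ j0 := by
      intro h6
      apply h.hj
      have h7 : cj g (R i0 j0) = cj g (R i0 j1) := by rw [h1, h1, ← h4, h6]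
      exact (h.grid.inj (cj_inj h7)).2
    obtain ⟨x, hx, h7⟩ := h.grid.tran i0 j0 i1 j1 (σ i1) (τ j1) h.hi.symm h5 h.hj.symm h6
    have hxV := h.grid.Q_V i0 j0 hx
    have hk0 : cj (x⁻¹ * g) (R i0 j0) = R i0 j0 := by
      rw [cj_mul, hfix]
      exact h.grid.fix_R (inv_mem hx)
    have hk1 : cj (x⁻¹ * g) (R i1 j1) = R i1 j1 := by
      rw [cj_mul, h1]
      exact cj_inv_of h7
    have hkV : x⁻¹ * g ∈ normalizer (V : Set G) := mul_mem (inv_mem hxV) hg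
    -- the action of `x⁻¹ g` on the coordinates
    have hx' : ∀ a b c d, x⁻¹ * v a b c d * x = v (a + p' x⁻¹ * b + p x⁻¹ * c + p x⁻¹ * p' x⁻¹ * d)
        (b + p x⁻¹ * d) (c + p' x⁻¹ * d) d := by
      intro a b c d
      have := h.act x⁻¹ (inv_mem hx) a b c d
      rwa [inv_inv] at this
    have hk2 : ∀ b c, ∃ a, (x⁻¹ * g) * v 0 b c 0 * (x⁻¹ * g)⁻¹ = v a b c 0 := by
      intro b c
      obtain ⟨a, h8⟩ := g1 b c
      have e : (x⁻¹ * g) * v 0 b c 0 * (x⁻¹ * g)⁻¹ = x⁻¹ * (g * v 0 b c 0 * g⁻¹) * x := by group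
      rw [e, h8, hx']
      simp only [mul_zero, add_zero]
      exact ⟨_, rfl⟩
    have hk3 : ∀ d, ∃ a b c, (x⁻¹ * g) * v 0 0 0 d * (x⁻¹ * g)⁻¹ = v a b c d := by
      intro d
      obtain ⟨a, b, c, h8⟩ := g2 d
      have e : (x⁻¹ * g) * v 0 0 0 d * (x⁻¹ * g)⁻¹ = x⁻¹ * (g * v 0 0 0 d * g⁻¹) * x := by group
      rw [e, h8, hx']
      exact ⟨_, _, _, rfl⟩
    have hk4 : ∀ a, (x⁻¹ * g) * v a 0 0 0 * (x⁻¹ * g)⁻¹ = v a 0 0 0 := by
      intro a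
      have e : (x⁻¹ * g) * v a 0 0 0 * (x⁻¹ * g)⁻¹ = x⁻¹ * (g * v a 0 0 0 * g⁻¹) * x := by group
      rw [e, g0, hx']
      simp only [mul_zero, add_zero]
    generalize hk : x⁻¹ * g = k at *
    -- `k` fixes rows and columns `0`, `1`
    have hkk : ∃ (σ' : I → I) (τ' : J → J), (∀ i j, cj k (R i j) = R (σ' i) (τ' j)) ∧ σ' i0 = i0 ∧ σ' i1 = i1 ∧
        τ' j0 = j0 ∧ τ' j1 = j1 := by
      obtain ⟨σ₂, τ₂, -, -, h8⟩ := h.grid.perm i0 j0 x⁻¹ (inv_mem hx)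
      have h9 : ∀ i j, cj k (R i j) = R (σ₂ (σ i)) (τ₂ (τ j)) := by
        intro i j
        rw [← hk, cj_mul, h1, h8]
      have h10 := h9 i0 j0
      rw [hk0] at h10
      have h11 := h9 i1 j1
      rw [hk1] at h11
      exact ⟨fun i => σ₂ (σ i), fun j => τ₂ (τ j), h9, (h.grid.inj h10).1.symm, (h.grid.inj h11).1.symm,
        (h.grid.inj h10).2.symm, (h.grid.inj h11).2.symm⟩
    obtain ⟨σ', τ', h8, s0, s1, t0, t1⟩ := hkk
    have hb : ∀ b, k * v 0 b 0 0 * k⁻¹ = v 0 b 0 0 := by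
      intro b
      obtain ⟨a, h9⟩ := hk2 b 0
      have h10 : k * v 0 b 0 0 * k⁻¹ ∈ R i0 j1 := by
        have := h8 i0 j1
        rw [s0, t1] at this
        exact mem_of_cj this ((h.R01 _).2 ⟨b, rfl⟩)
      rw [h9] at h10 ⊢
      obtain ⟨b', h11⟩ := (h.R01 _).1 h10
      obtain ⟨rfl, -⟩ := h.v_eq h11
      rfl
    have hc : ∀ c, k * v 0 0 c 0 * k⁻¹ = v 0 0 c 0 := by
      intro c
      obtain ⟨a, h9⟩ := hk2 0 c
      have h10 : k * v 0 0 c 0 * k⁻¹ ∈ R i1 j0 := by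
        have := h8 i1 j0
        rw [s1, t0] at this
        exact mem_of_cj this ((h.R10 _).2 ⟨c, rfl⟩)
      rw [h9] at h10 ⊢
      obtain ⟨b', h11⟩ := (h.R10 _).1 h10
      obtain ⟨rfl, -⟩ := h.v_eq h11
      rfl
    have hd : ∀ d, k * v 0 0 0 d * k⁻¹ = v 0 0 0 d := by
      intro d
      obtain ⟨a, b, c, h9⟩ := hk3 d
      have h10 : k * v 0 0 0 d * k⁻¹ ∈ R i1 j1 := mem_of_cj hk1 ((h.R11 _).2 ⟨d, rfl⟩)
      rw [h9] at h10 ⊢
      obtain ⟨b', h11⟩ := (h.R11 _).1 h10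
      obtain ⟨rfl, rfl, rfl, -⟩ := h.v_eq h11
      rfl
    have hkC : k ∈ centralizer (V : Set G) := by
      rw [mem_centralizer']
      intro w hw
      obtain ⟨a, ⟨b, c⟩, d, rfl⟩ := h.core.e_surj w hw
      change k * v a b c d = v a b c d * k
      have e : v a b c d = v a 0 0 0 * v 0 b 0 0 * (v 0 0 c 0 * v 0 0 0 d) := by
        rw [← h.v_add, ← h.v_add, ← h.v_add]
        simp only [add_zero, zero_add]
      have e2 : k * v a b c d * k⁻¹ = v a b c d := by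
        calc k * v a b c d * k⁻¹ = (k * v a 0 0 0 * k⁻¹) * (k * v 0 b 0 0 * k⁻¹) *
              ((k * v 0 0 c 0 * k⁻¹) * (k * v 0 0 0 d * k⁻¹)) := by rw [e]; group
          _ = v a b c d := by rw [hk4, hb, hc, hd, ← e]
      calc k * v a b c d = k * v a b c d * k⁻¹ * k := by group
        _ = v a b c d * k := by rw [e2]
    refine ⟨x, hx, ?_⟩
    have e : g * x⁻¹ = x * k * x⁻¹ := by rw [← hk]; group
    rw [e]
    exact h.grid.conj_C hxV hkC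
  · exfalso
    have h2 := h1 i0 j0
    rw [hfix] at h2
    obtain ⟨h3, h4⟩ := h.grid.inj h2
    obtain ⟨a, h5⟩ := g1 1 0
    have h6 : g * v 0 1 0 0 * g⁻¹ ∈ R (σ j1) j0 := by
      have := h1 i0 j1
      rw [← h4] at this
      exact mem_of_cj this ((h.R01 _).2 ⟨1, rfl⟩)
    rw [h5] at h6
    have h7 : v a 1 0 0 ∈ Q i1 j0 := h.grid.col _ _ _ h6
    have h8 : v a 0 0 0 ∈ Q i1 j0 := h.grid.col i0 i1 j0 ((h.R00 _).2 ⟨a, rfl⟩)
    have h9 : v 0 1 0 0 ∈ Q i1 j0 := by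
      have e : v a 1 0 0 = v a 0 0 0 * v 0 1 0 0 := by
        rw [← h.v_add]; simp only [add_zero, zero_add]
      have e2 : v 0 1 0 0 = (v a 0 0 0)⁻¹ * v a 1 0 0 := by rw [e]; group
      rw [e2]
      exact mul_mem (inv_mem h8) h7
    have h10 : v 0 1 0 0 ∈ R i0 j1 ⊓ Q i1 j0 := ⟨(h.R01 _).2 ⟨1, rfl⟩, h9⟩
    rw [h.grid.RQj i0 j1 i1 j0 h.hi.symm h.hj, mem_bot] at h10
    exact one_ne_zero (congrArg Prod.fst (h.core.e_inj 0 ((1, 0) : F × F) 0 h10).2.1)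

theorem char2 : centralizer (Q i0 j0 : Set G) ≤ Q i0 j0 := by
  have hS : (S : Subgroup G) ≠ ⊥ := by
    intro h0
    apply hZ
    rw [← le_bot_iff, ← h0]
    exact Cfsg.Agent.MinSimple.VModule.zc_le _
  have h1 := h.core.o2_CZ S hG hZ
  have h2 := (Cfsg.Agent.Omega.MinPar.isLoc_centralizer_zc S hS).char2 S hG
  intro x hx
  rw [← h1]
  apply h2
  refine ⟨?_, ?_⟩
  · exact centralizer_le (h.core.Z_R.trans h.core.R_Q) hx
  · have e : ((o2 (CZ (S : Subgroup G)) : Subgroup G) : Set G) = (Q i0 j0 : Set G) := by rw [h1]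
    change x ∈ centralizer ((o2 (CZ (S : Subgroup G)) : Subgroup G) : Set G)
    rw [e]
    exact hx

/-- **`Gin1 → Gin0`** -/
theorem gin0 : Gin0 F S V R Q i0 i1 j0 j1 v p p' where
  grid := h.grid
  hi := h.hi
  hj := h.hj
  two := by
    have := h.core.form.F2 1
    rw [one_add_one_eq_two] at this
    exact this
  four := by
    obtain ⟨t, h1, h2⟩ := h.core.exists_two
    refine ⟨t, h1, fun h3 => h2 ?_⟩
    rw [h3]
    exact h.core.form.F2 1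
  v_add := h.v_add
  v_inj a b c d e := by
    obtain ⟨h1, h2, h3⟩ := h.core.e_inj a ((b, c) : F × F) d e
    exact ⟨h1, congrArg Prod.fst h2, congrArg Prod.snd h2, h3⟩
  v_mem a b c d := h.core.e_mem a ((b, c) : F × F) d
  v_surj x hx := by
    obtain ⟨a, ⟨b, c⟩, d, h1⟩ := h.core.e_surj x hx
    exact ⟨a, b, c, d, h1⟩
  R00 := h.R00
  R01 := h.R01
  R10 := h.R10
  R11 := h.R11
  V_Q a b c d := ⟨fun h1 => h.core.V_Q a ((b, c) : F × F) d h1, fun h1 => by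
    subst h1
    exact h.core.E_le a ((b, c) : F × F)⟩
  act := h.act
  p_surj := h.p_surj
  act' := h.act'
  tor := h.tor
  swap := h.swap
  norm g hg := h.norm hG hZ (mem_normalizer_of_cj hg)
  actU := h.actU hG hZ
  Q_two := by rw [h.core.Q_eq]; exact o2_isPGroup _
  max N hN hNC hn := by
    have hR : centralizer (R i0 j0 : Set G) ≤ normalizer ((centralizer (R i0 j0 : Set G) : Subgroup G) : Set G) :=
      le_normalizer
    have hn' : normalizer (R i0 j0 : Set G) ≤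
        normalizer ((centralizer (R i0 j0 : Set G) : Subgroup G) : Set G) := by
      have key : ∀ g ∈ normalizer (R i0 j0 : Set G), ∀ x ∈ centralizer (R i0 j0 : Set G),
          g * x * g⁻¹ ∈ centralizer (R i0 j0 : Set G) := by
        intro g hg x hx
        rw [mem_centralizer_iff] at hx ⊢
        intro r hr
        have h1 : g⁻¹ * r * g ∈ R i0 j0 := h.core.R_nor' hg hr
        have h2 := hx _ h1
        calc r * (g * x * g⁻¹) = g * (g⁻¹ * r * g * x) * g⁻¹ := by group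
          _ = g * (x * (g⁻¹ * r * g)) * g⁻¹ := by rw [h2]
          _ = g * x * g⁻¹ * r := by group
      intro g hg
      rw [mem_normalizer_iff]
      intro x
      refine ⟨key g hg x, fun hx => ?_⟩
      have := key g⁻¹ (inv_mem hg) _ hx
      have e : g⁻¹ * (g * x * g⁻¹) * g⁻¹⁻¹ = x := by group
      rwa [e] at this
    have h1 : N ≤ o2 (centralizer (R i0 j0 : Set G)) := by
      apply Cfsg.Agent.MinSimple.VModule.le_o2 hNC hN
      intro c hc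
      rw [mem_normalizer_iff]
      intro x
      refine ⟨hn c hc x, fun hx => ?_⟩
      have := hn c⁻¹ (inv_mem hc) _ hx
      have e : c⁻¹ * (c * x * c⁻¹) * c⁻¹⁻¹ = x := by group
      rwa [e] at this
    rw [h.core.Q_eq]
    exact h1.trans (All.NOne.o2_le_o2_of_normal h.core.cenR_norm hn')
  char2 := h.char2 hG hZ
  S_V := h.core.S_V
  S_R := h.core.S_R

end

end Gin1

end Cfsg.Agent.Omega.NO1.Gamma

end

section


/-!
# THEOREM ALL-N1: the two-point data for type (γ)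

* `Gin0.surj_swap` : the swap maps `{v 0 b 0 0}` onto `{v a 0 c 0}` modulo `R`;
* `Gin1.pair` : `Pair` for two opposite points of the grid;
* `Gin1.ext` : `Ext` for type (γ).
-/

set_option autoImplicit false
set_option linter.unusedVariables false
set_option linter.unusedSectionVars false

open Subgroup
open scoped Pointwise

namespace Cfsg.Agent.Omega.NO1.Gamma

open Cfsg Cfsg.Agent.ZN
open Cfsg.Agent.Omega.NO1.Beta.Meet (cj mem_cj)

universe u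

variable {G : Type u} [Group G] {I J : Type*} {F : Type*} [Field F] {S : Sylow 2 G} {V : Subgroup G}
  {R Q : I → J → Subgroup G} {i0 i1 : I} {j0 j1 : J} {v : F → F → F → F → G} {p p' : G → F}

/-- A column-valued additive map: the swap maps `{v 0 b 0 0}` onto `{v a 0 c 0}` modulo `R i0 j0`. -/
theorem Gin0.surj_swap [Finite F] (h : Gin0 F S V R Q i0 i1 j0 j1 v p p') {s : G}
    (hs : s ∈ normalizer (R i0 j0 : Set G)) {σ : J → I} {τ : I → J}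
    (h1 : ∀ i j, cj s (R i j) = R (σ j) (τ i)) (c : F) :
    ∃ b a, s * v 0 b 0 0 * s⁻¹ = v a 0 c 0 := by
  have := h.nonI
  have := h.nonJ
  have h2 : R (σ j0) (τ i0) = R i0 j0 := by
    rw [← h1, Cfsg.Agent.Omega.NO1.Beta.Meet.cj_of_mem_normalizer hs]
  have hτ : τ i0 = j0 := (h.grid.inj h2).2
  have key : ∀ b, ∃ a c, s * v 0 b 0 0 * s⁻¹ = v a 0 c 0 := by
    intro b
    have h3 : s * v 0 b 0 0 * s⁻¹ ∈ R (σ j1) (τ i0) :=
      mem_of_cj (h1 i0 j1) ((h.R01 _).2 ⟨b, rfl⟩)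
    rw [hτ] at h3
    obtain ⟨a, b', c', d', h4⟩ := h.v_surj _ (h.grid.R_le _ _ h3)
    have h5 := h.grid.transpose.R_row _ _ h3
    rw [← h4] at h5
    obtain ⟨h6, h7⟩ := (h.transpose.row_V a c' b' d').1 h5
    exact ⟨a, c', by rw [← h4, h6, h7]⟩
  choose f g hfg using key
  have hinj : Function.Injective g := by
    intro b b' hbb
    have h3 : s * v 0 (b + b') 0 0 * s⁻¹ = v (f b + f b') 0 0 0 := by
      have e1 : v 0 (b + b') 0 0 = v 0 b 0 0 * v 0 b' 0 0 := by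
        rw [← h.v_add]; simp only [add_zero]
      have e2 : s * (v 0 b 0 0 * v 0 b' 0 0) * s⁻¹ = (s * v 0 b 0 0 * s⁻¹) * (s * v 0 b' 0 0 * s⁻¹) := by group
      rw [e1, e2, hfg, hfg, ← h.v_add, hbb]
      simp only [h.dbl]
    have h4 : v 0 (b + b') 0 0 ∈ R i0 j0 := by
      rw [mem_normalizer_iff.1 hs, h3]
      exact (h.R00 _).2 ⟨_, rfl⟩
    obtain ⟨a, ha⟩ := (h.R00 _).1 h4
    have h5 := (h.inj ha).2.1
    linear_combination h5 - b' * h.two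
  obtain ⟨b, hb⟩ := (Finite.injective_iff_surjective.1 hinj) c
  exact ⟨b, f b, by rw [hfg, hb]⟩

namespace Gin1

variable (h : Gin1 F S V R Q i0 i1 j0 j1 v p p')
include h

/-- **The two-point data for type (γ).** -/
theorem pair [Finite G] [Finite F] (hG : IsCharacteristicTwoType G) (hZ : zc (S : Subgroup G) ≠ ⊥) :
    All.NOne.Pair (S : Subgroup G) V (R i0 j0) (Q i0 j0) (R i1 j1) (Q i1 j1)
      (fun a (b : F × F) d => v a b.1 b.2 d) (fun b => b.1 * b.2) (fun b c => b.1 * c.2 + b.2 * c.1) := by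
  have h0 := h.gin0 hG hZ
  refine All.NOne.Pair.of_core h.core ?_ ?_ ?_ (h.char2 hG hZ) ?_ S.isPGroup' ?_
  · intro r
    rw [h.R11]
    exact exists_congr fun a => ⟨fun e => e.symm, fun e => e.symm⟩
  · intro b _
    obtain ⟨x, hx, h1⟩ := h.act' b.2 b.1
    refine ⟨x, hx, fun a y d => ?_⟩
    change x * v a y.1 y.2 d * x⁻¹ = v a (y.1 + a * b.1) (y.2 + a * b.2) (d + (y.1 * b.2 + y.2 * b.1) + b.1 * b.2 * a)
    rw [h1]
    congr 1 <;> ring
  · obtain ⟨x, -, h1⟩ := h.grid.exists_move i0 i1 j0 j1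
    have h2 := h.grid.conj x _ _ _ _ h1
    have e : ∀ H : Subgroup G, All.NOne.cj x H = cj x H := by
      intro H
      ext y
      rw [All.NOne.mem_cj, mem_cj]
    rw [← h2, ← h1, ← e, ← e, h.core.Q_eq, All.NOne.Pair.cj_o2, All.NOne.Pair.cj_norm]
  · exact h.grid.meet i0 j0 i1 j1 h.hi.symm h.hj.symm
  · obtain ⟨s, hs, σ, τ, h1⟩ := h.swap
    have hsR := h.core.S_R hs
    intro A hA
    refine ⟨s, hs, fun b => ?_⟩
    by_cases hc : ∃ c ∈ A, c.1 ≠ 0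
    · obtain ⟨c, hcA, hc1⟩ := hc
      have hc2 : c.2 = 0 := (mul_eq_zero.1 (hA c hcA)).resolve_left hc1
      have hA2 : ∀ c' ∈ A, c'.2 = 0 := by
        intro c' hc'
        by_contra hne
        have h3 : c'.1 = 0 := (mul_eq_zero.1 (hA c' hc')).resolve_right hne
        have h4 := hA (c + c') (A.add_mem hcA hc')
        simp only [Prod.fst_add, Prod.snd_add, hc2, h3, add_zero, zero_add] at h4
        exact mul_ne_zero hc1 hne h4
      obtain ⟨i', a, h3⟩ := h0.surj_swap hsR h1 b.2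
      refine ⟨a, (b.1, 0), (i', 0), fun c' hc' => ?_, fun c' hc' => ?_, ?_⟩
      · simp [hA2 c' hc']
      · simp [hA2 c' hc']
      · change v 0 b.1 b.2 0 = v a 0 0 0 * v 0 b.1 0 0 * (s * v 0 i' 0 0 * s⁻¹)
        rw [h3, ← h.v_add, ← h.v_add]
        simp only [add_zero, zero_add, h0.dbl]
    · push Not at hc
      obtain ⟨i', a, h3⟩ := h0.transpose.surj_swap (σ := τ) (τ := σ) hsR (fun j i => h1 i j) b.1
      refine ⟨a, (0, b.2), (0, i'), fun c' hc' => ?_, fun c' hc' => ?_, ?_⟩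
      · simp [hc c' hc']
      · simp [hc c' hc']
      · change v 0 b.1 b.2 0 = v a 0 0 0 * v 0 0 b.2 0 * (s * v 0 0 i' 0 * s⁻¹)
        have h4 : s * v 0 0 i' 0 * s⁻¹ = v a b.1 0 0 := h3
        rw [h4, ← h.v_add, ← h.v_add]
        simp only [add_zero, zero_add, h0.dbl]

/-- **`Ext` for type (γ).** -/
theorem ext [Finite G] [Finite F] (hG : IsCharacteristicTwoType G) (hZ : zc (S : Subgroup G) ≠ ⊥) :
    All.NOne.Ext (S : Subgroup G) V (R i0 j0) (Q i0 j0) (centralizer (V : Set G) ⊓ Q i1 j1)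
      (fun a (b : F × F) d => v a b.1 b.2 d) :=
  (h.pair hG hZ).ext

end Gin1

end Cfsg.Agent.Omega.NO1.Gamma

end

end

-- merged: Cfsg.Agent.Mrg.Omega.NO1.Tens.GinOne
section

/-!
# Type (γ) of the leaf N1: `All.NOne.Core` and `Gamma.Gin1` (helper983)

From `Cx D`, no normal 2-subgroup `≠ 1` of `N` meets `V` trivially, `V ≤ S ≤ N`, `S ≤ N_G(R₀)`, `Ω₁(Z(S)) ≤ R₀`, `|F| ≥ 4`.
-/

set_option autoImplicit false
set_option linter.unusedSectionVars false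

namespace Cfsg.Agent.Omega.NO1.PlusQ

open Subgroup Cfsg Matrix
open Cfsg.Agent.Omega.NO1.Tens
open Cfsg.Agent.Omega.NO1.BetaPlus (Mv QQ Bp)
open Cfsg.Agent.Omega.NO1.Beta.Meet (cj mem_cj cj_of_mem_normalizer)
open Cfsg.Agent.ZN (o2 zc)

universe u

variable {G : Type u} [Group G] {F : Type} [Field F] {N V : Subgroup G}

/-- the form -/
theorem form [CharP F 2] (h4 : 4 ≤ Nat.card F) : All.NOne.Form F (F × F) (fun b => b.1 * b.2)
    (fun b c => b.1 * c.2 + b.2 * c.1) where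
  F2 a := CharTwo.add_self_eq_zero a
  four := h4
  B_self b := by
    have e : b.1 * b.2 + b.2 * b.1 = b.1 * b.2 + b.1 * b.2 := by ring
    rw [e, CharTwo.add_self_eq_zero]
  B_add b b' c := by simp only [Prod.fst_add, Prod.snd_add]; ring
  B_symm b c := by ring
  B_smul s b c := by simp only [Prod.smul_fst, Prod.smul_snd, smul_eq_mul]; ring
  B_span b c hb h := by
    have h' : b.1 * c.2 = b.2 * c.1 := CharTwo.add_eq_zero.1 h
    by_cases hb1 : b.1 = 0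
    · have hb2 : b.2 ≠ 0 := fun hb2 => hb (Prod.ext hb1 hb2)
      rw [hb1, zero_mul] at h'
      have hc1 : c.1 = 0 := (mul_eq_zero.1 h'.symm).resolve_left hb2
      refine ⟨c.2 / b.2, Prod.ext ?_ ?_⟩
      · simp [hb1, hc1]
      · simp [hb2]
    · refine ⟨c.1 / b.1, Prod.ext ?_ ?_⟩
      · simp [hb1]
      · simp only [Prod.smul_snd, smul_eq_mul]
        field_simp
        linear_combination h'
  B_surj b hb f := by
    by_cases hb1 : b.1 = 0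
    · have hb2 : b.2 ≠ 0 := fun hb2 => hb (Prod.ext hb1 hb2)
      exact ⟨(f / b.2, 0), by simp [hb1, mul_div_cancel₀ _ hb2]⟩
    · exact ⟨(0, f / b.1), by simp [mul_div_cancel₀ _ hb1]⟩
  N_add b c := by simp only [Prod.fst_add, Prod.snd_add]; ring
  N_smul s b := by simp only [Prod.smul_fst, Prod.smul_snd, smul_eq_mul]; ring
  N_surj f := ⟨(f, 1), by simp⟩

variable {D : PlusQ F N V} [CharP F 2]

theorem cE_add (a a' : F) (b b' : F × F) (d d' : F) :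
    D.cE (a + a') (b + b') (d + d') = D.cE a b d * D.cE a' b' d' := by
  rw [cE, cE, cE, ← D.v_add]
  congr 1
  apply ext2 <;> simp

/-- `act (dn s) (dn t)` in coordinates -/
theorem act_dn (s t : F) (X : M2 F) : Tens.act (dn s) (dn t) X =
    !![X 0 0, X 0 1 + t * X 0 0; X 1 0 + s * X 0 0, X 1 1 + s * X 0 1 + t * X 1 0 + s * t * X 0 0] := by
  apply ext2 <;> rw [act_apply, dn_val, dn_val] <;> simp <;> ring

namespace Cx

variable [Finite G] [Finite F] (h : Cx D)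
include h

theorem conj_v_eq {x : G} (hx : x ∈ N) {X Y : M2 F} (h1 : D.act x X = Y) : x * D.v X * x⁻¹ = D.v Y := by
  rw [conj_eq_iff (D := D) h.hN hx (D.v_mem _) (D.v_mem _), D.e_v, D.e_v]
  exact h1

theorem Q3_N {y : G} (hy : y ∈ QQ D.R3) : y ∈ N := by
  rw [← R_zero] at hy
  exact (h.QU hy).1

theorem mem_R0_iff {r : G} : r ∈ D.R0 ↔ ∃ a, D.cE a 0 0 = r := by
  have _ := h
  constructor
  · rintro ⟨hr, c, hc⟩
    refine ⟨c, D.e_inj (D.cE_mem _ _ _) hr ?_⟩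
    rw [D.e_cE, hc]
    rfl
  · rintro ⟨a, rfl⟩
    exact ⟨D.cE_mem _ _ _, a, by rw [D.e_cE]; rfl⟩

variable (meet : ∀ W : Subgroup G, IsPGroup 2 W → W ≤ N →
    (∀ m ∈ N, ∀ y ∈ W, m * y * m⁻¹ ∈ W) → W ⊓ V = ⊥ → W = ⊥)
  (S : Sylow 2 G) (hVS : V ≤ (S : Subgroup G)) (hSN : (S : Subgroup G) ≤ N)
  (hSR : (S : Subgroup G) ≤ normalizer (D.R0 : Set G)) (hZR : zc (S : Subgroup G) ≤ D.R0) (h4 : 4 ≤ Nat.card F)
include meet hVS hSN hSR hZR h4

/-- **`Core` for type (γ)**, base point `R0`. -/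
theorem core0 : All.NOne.Core (S : Subgroup G) V D.R0 (QQ D.R0) (⨆ i, ⨆ j, QQ (D.R i j)) D.cE
    (fun b => b.1 * b.2) (fun b c => b.1 * c.2 + b.2 * c.1) where
  form := form h4
  e_add a b d a' b' d' := cE_add a a' b b' d d'
  e_inj a b d e := by
    have h1 := congrArg D.e e
    rw [D.e_cE, D.e_one] at h1
    have h00 := congrFun (congrFun h1 0) 0
    have h01 := congrFun (congrFun h1 0) 1
    have h10 := congrFun (congrFun h1 1) 0
    have h11 := congrFun (congrFun h1 1) 1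
    simp at h00 h01 h10 h11
    exact ⟨h00, Prod.ext h01 h10, h11⟩
  e_mem a b d := D.cE_mem a b d
  e_surj x hx := by
    refine ⟨D.e x 0 0, (D.e x 0 1, D.e x 1 0), D.e x 1 1, D.e_inj (D.cE_mem _ _ _) hx ?_⟩
    rw [D.e_cE]
    apply ext2 <;> simp
  R_iff r := h.mem_R0_iff
  E_le a b := by
    rw [h.mem_E (D.cE_mem _ _ _), D.e_cE]; simp
  V_Q a b d hd := by
    rw [h.mem_E (D.cE_mem _ _ _), D.e_cE] at hd
    simpa using hd
  act y hy := by
    refine ⟨(D.al y, D.be y), fun a b d => ?_⟩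
    rw [conj_eq_iff (D := D) h.hN (h.Q_N hy) (D.cE_mem _ _ _) (D.cE_mem _ _ _), D.e_cE, D.e_cE, h.act_y hy, act_up]
    apply ext2
    · simp; ring
    · simp; ring
    · simp; ring
    · simp
  act_surj c := by
    obtain ⟨y, hy, e1, e2⟩ := h.al_surj c.1 c.2
    refine ⟨y, hy, fun a b d => ?_⟩
    rw [conj_eq_iff (D := D) h.hN (h.Q_N hy) (D.cE_mem _ _ _) (D.cE_mem _ _ _), D.e_cE, D.e_cE, h.act_y hy, act_up,
      e1, e2]
    apply ext2
    · simp; ring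
    · simp; ring
    · simp; ring
    · simp
  Q_eq := rfl
  Q_cen y hy := by
    rw [mem_centralizer_iff]
    exact fun r hr => h.RQ hr hy
  QQ x hx y hy := by
    have h1 := (h.grid meet).QQ none none
    simp only [R_none] at h1
    exact h1 x hx y hy
  semi w hw hwR r hr := by
    have h1 := ((bp h meet).result (none, none)).2.2.2.2
    simp only [R_none] at h1
    obtain ⟨n, hn, h2⟩ := h1 w⁻¹ (inv_mem hw) (fun h3 => hwR (by simpa using inv_mem h3)) r hr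
    refine ⟨n⁻¹, inv_mem hn, ?_⟩
    rw [← h2]; group
  Q_gen Y hY := by
    have h1 := ((bp h meet).result (none, none)).1
    simp only [R_none] at h1
    rw [h1]
    refine Cfsg.Agent.Omega.NOne.BetaTwo.DOne.nc_le ?_
    rintro c hc w ⟨hwV, hwQ⟩
    have e : w = D.cE (D.e w 0 0) (D.e w 0 1, D.e w 1 0) 0 := by
      refine D.e_inj hwV (D.cE_mem _ _ _) ?_
      rw [D.e_cE]
      have := (h.mem_E hwV).1 hwQ
      apply ext2 <;> simp [this]
    rw [e]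
    exact hY c hc _ _
  X_V := (h.grid meet).sup_nor
  Q_X := by
    have h1 : QQ (D.R none none) ≤ ⨆ i, ⨆ j, QQ (D.R i j) :=
      le_iSup_of_le (f := fun i => ⨆ j, QQ (D.R i j)) none (le_iSup (fun j => QQ (D.R none j)) none)
    rwa [R_none] at h1
  opp b _ := by
    obtain ⟨y, hy, hyA⟩ := h.dn_surj b.2 b.1
    have h1 : QQ (D.R (some 0) (some 0)) ≤ ⨆ i, ⨆ j, QQ (D.R i j) :=
      le_iSup_of_le (f := fun i => ⨆ j, QQ (D.R i j)) (some 0) (le_iSup (fun j => QQ (D.R (some 0) j)) (some 0))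
    rw [R_zero] at h1
    refine ⟨y, h1 hy, fun a z d => ?_⟩
    rw [conj_eq_iff (D := D) h.hN (h.Q3_N hy) (D.cE_mem _ _ _) (D.cE_mem _ _ _), D.e_cE, D.e_cE, hyA, act_dn]
    apply ext2
    · simp
    · simp; ring
    · simp; ring
    · simp; ring
  tran r hr hr1 r' hr' hr1' := by
    obtain ⟨hrV, c, hc⟩ := hr
    obtain ⟨hrV', c', hc'⟩ := hr'
    have hc0 : c ≠ 0 := by
      rintro rfl
      exact hr1 (D.ker r hrV (by rw [hc, e0_zero]))
    have hc0' : c' ≠ 0 := by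
      rintro rfl
      exact hr1' (D.ker r' hrV' (by rw [hc', e0_zero]))
    obtain ⟨n, hn, hnA⟩ := lift_act (D := D) h.hN (tor (Units.mk0 _ (div_ne_zero hc0' hc0))) (tor 1)
    refine ⟨n, (h.hN n hn).mem_nor, ((fix_iff h.hN hn).2 fun x => ⟨_, by rw [hnA, act_tor_e0]⟩).mem_nor, ?_⟩
    rw [conj_eq_iff (D := D) h.hN hn hrV hrV', hc, hc', hnA, act_tor_e0]
    congr 1
    simp
    field_simp
  V_S := hVS
  S_V x hx := (h.hN x (hSN hx)).mem_nor
  S_R := hSR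
  Z_R := hZR
  triv := h.s_triv S hSN hSR
  quo := h.s_quo S hSN hSR
  two := h.s_two S hSN hSR
  cenE := h.s_cenE S hSN hSR
  bas := h.s_bas S hSN hSR
  ns := h.s_ns S hSN hSR

theorem core : All.NOne.Core (S : Subgroup G) V (D.R none none) (QQ (D.R none none)) (⨆ i, ⨆ j, QQ (D.R i j))
    (fun a (b : F × F) d => D.v !![a, b.1; b.2, d]) (fun b => b.1 * b.2) (fun b c => b.1 * c.2 + b.2 * c.1) := by
  have h1 := h.core0 meet S hVS hSN hSR hZR h4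
  rw [R_none]
  exact h1

omit meet hVS hSR hZR h4 in
theorem mem_row {l : Option F} {w : G} (hw : w ∈ D.R none l) : D.e w 1 0 = 0 ∧ D.e w 1 1 = 0 := by
  have _ := h
  have _ := hSN
  obtain ⟨-, c, hc⟩ := hw
  rw [hc, act_e0, rep_none]
  simp

/-- **`Gin1`** -/
theorem gin1 : Gamma.Gin1 F S V (fun i j => D.R i j) (fun i j => QQ (D.R i j)) none (some 0) none (some 0)
    (fun a b c d => D.v !![a, b; c, d]) D.al D.be where
  grid := h.grid meet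
  hi := by simp
  hj := by simp
  core := h.core meet S hVS hSN hSR hZR h4
  R01 x := by
    constructor
    · rintro ⟨hx, c, hc⟩
      refine ⟨c, D.e_inj hx (D.v_mem _) ?_⟩
      rw [hc, D.e_v, act_e0, rep_none, rep_zero, wy_val]
      apply ext2 <;> simp
    · rintro ⟨b, rfl⟩
      refine ⟨D.v_mem _, b, ?_⟩
      rw [D.e_v, act_e0, rep_none, rep_zero, wy_val]
      apply ext2 <;> simp
  R10 x := by
    constructor
    · rintro ⟨hx, c, hc⟩
      refine ⟨c, D.e_inj hx (D.v_mem _) ?_⟩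
      rw [hc, D.e_v, act_e0, rep_none, rep_zero, wy_val]
      apply ext2 <;> simp
    · rintro ⟨b, rfl⟩
      refine ⟨D.v_mem _, b, ?_⟩
      rw [D.e_v, act_e0, rep_none, rep_zero, wy_val]
      apply ext2 <;> simp
  R11 x := by
    constructor
    · rintro ⟨hx, c, hc⟩
      refine ⟨c, D.e_inj hx (D.v_mem _) ?_⟩
      rw [hc, D.e_v, act_e0, rep_zero, wy_val]
      apply ext2 <;> simp
    · rintro ⟨b, rfl⟩
      refine ⟨D.v_mem _, b, ?_⟩
      rw [D.e_v, act_e0, rep_zero, wy_val]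
      apply ext2 <;> simp
  act x hx a b c d := by
    simp only [R_none] at hx
    apply h.conj_v_eq (h.Q_N hx)
    rw [h.act_y hx, act_up]
    apply ext2
    · simp; ring
    · simp
    · simp
    · simp
  act' s t := by
    obtain ⟨y, hy, hyA⟩ := h.dn_surj s t
    refine ⟨y, by rw [R_zero]; exact hy, fun a b c d => ?_⟩
    apply h.conj_v_eq (h.Q3_N hy)
    rw [hyA, act_dn]
    apply ext2 <;> simp
  tor y hy := by
    obtain ⟨n, hn, hnA⟩ := lift_act (D := D) h.hN (Tens.tor (Units.mk0 y hy)) (Tens.tor (Units.mk0 y hy)⁻¹)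
    refine ⟨n, (h.hN n hn).mem_nor, fun a b c d => ?_⟩
    apply h.conj_v_eq hn
    rw [hnA, act_tor]
    apply ext2
    · simp [hy]
    · simp [pow_two]
    · simp [pow_two]
    · simp [hy]
  swap := by
    obtain ⟨t, ht0, ht1⟩ := h.three
    obtain ⟨s, hs, hT⟩ := h.s_swap S hSN
    refine ⟨s, hs, ?_⟩
    have h1 : ∀ i j, ∃ k l, cj s (D.R i j) = D.R k l := by
      intro i j
      obtain ⟨k, l, h2⟩ := h.perm (hSN hs) i j
      exact ⟨k, l, h2.cj_eq⟩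
    rcases (h.grid meet).norm_of h1 with ⟨σ, τ, h2⟩ | h2
    · exfalso
      have h3 := h2 none none
      rw [R_none, cj_of_mem_normalizer (hSR hs), ← R_none] at h3
      obtain ⟨h4', -⟩ := R_inj h3
      have h0 := (fix_iff h.hN (hSN hs)).1 (Mv.of_nor (hSR hs))
      obtain ⟨a, P, hP, hP0, hsP⟩ := (nm (D := D) h.hN (hSN hs)).swap_e1 ht0 ht1 h0 hT
      have h5 : D.v (Tens.e1 1) ∈ D.R none (some 0) := by
        refine ⟨D.v_mem _, 1, ?_⟩
        rw [D.e_v, act_e0, rep_none, rep_zero, wy_val]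
        apply ext2 <;> simp [Tens.e1]
      have h6 : s * D.v (Tens.e1 1) * s⁻¹ ∈ D.R none (τ (some 0)) := by
        have := h2 none (some 0)
        rw [← h4'] at this
        exact Gamma.mem_of_cj this h5
      have h7 := (h.mem_row S hSN h6).1
      rw [← act_e h.hN (hSN hs) (D.v_mem _), D.e_v, hsP] at h7
      simp [e2, e0] at h7
      exact one_ne_zero (hP.1 (h7.trans hP0.symm))
    · exact h2

end Cx

end Cfsg.Agent.Omega.NO1.PlusQ

end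

-- merged: Cfsg.Agent.Mrg.Omega.NOne.SL.FStr
section

section


/-!
# The `F`-structure on `Q/R` (types (beta) and (gamma))

`Q` of class 2 with `Q' , Φ(Q) ≤ R = Z(Q)`, `R ≅ F` (coordinate `ρ`), `K` normalises `Q` and centralises `R`, `Q` is
generated by the `K`-conjugates of `E`, and the maps `[x, ·]`, `x ∈ E`, are closed under multiplication by
elements of `F`.  Then `Q/R` is an `F`-space `M` (the space of all functions `ρ [x, ·]`), with the quadratic form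
`s = ρ (x²)` with polar form `f = ρ [x, y]`, and `K` acts `F`-linearly as a group of isometries.
-/

set_option autoImplicit false

namespace Cfsg.Agent.Omega.NOne.FStr

open scoped commutatorElement

/-- The input without the generation hypothesis. -/
structure Pre (F : Type*) [Field F] (G : Type*) [Group G] where
  K : Subgroup G
  Q : Subgroup G
  R : Subgroup G
  E : Subgroup G
  ρ : G → F
  two : (2 : F) = 0
  R_le : R ≤ Q
  Q_le : Q ≤ K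
  E_le : E ≤ Q
  norm : ∀ k ∈ K, ∀ x ∈ Q, k * x * k⁻¹ ∈ Q
  cent : ∀ k ∈ K, ∀ r ∈ R, k * r = r * k
  comm : ∀ x ∈ Q, ∀ y ∈ Q, ⁅x, y⁆ ∈ R
  sq : ∀ x ∈ Q, x * x ∈ R
  R_sq : ∀ r ∈ R, r * r = 1
  center : ∀ x ∈ Q, (∀ y ∈ Q, x * y = y * x) → x ∈ R
  ρ_mul : ∀ r ∈ R, ∀ r' ∈ R, ρ (r * r') = ρ r + ρ r'
  ρ_inj : ∀ r ∈ R, ρ r = 0 → r = 1
  E_sq : ∀ x ∈ E, x * x = 1
  sc : ∀ a : F, ∀ x ∈ E, ∃ y ∈ E, ∀ z ∈ Q, ρ ⁅y, z⁆ = a * ρ ⁅x, z⁆

/-- The input. -/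
structure Inp (F : Type*) [Field F] (G : Type*) [Group G] extends Pre F G where
  gen : Q ≤ Subgroup.closure {y | ∃ k ∈ K, ∃ x ∈ E, y = k * x * k⁻¹}

namespace Pre

variable {F : Type*} [Field F] {G : Type*} [Group G] (D : Pre F G)

include D in
theorem dbl (a : F) : a + a = 0 := by
  rw [← two_mul, D.two, zero_mul]

theorem ρ_one : D.ρ 1 = 0 := by
  have h := D.ρ_mul 1 D.R.one_mem 1 D.R.one_mem
  rw [mul_one] at h
  linear_combination -h

theorem R_K {r : G} (hr : r ∈ D.R) {k : G} (hk : k ∈ D.K) : k * r * k⁻¹ = r := by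
  rw [D.cent k hk r hr, mul_inv_cancel_right]

/-- `R` is central in `Q` -/
theorem R_comm {r : G} (hr : r ∈ D.R) {x : G} (hx : x ∈ D.Q) : x * r = r * x := D.cent x (D.Q_le hx) r hr

theorem inv_R {r : G} (hr : r ∈ D.R) : r⁻¹ = r := by
  rw [inv_eq_iff_mul_eq_one]; exact D.R_sq r hr

theorem comm_mul_left {x y z : G} (hx : x ∈ D.Q) (hy : y ∈ D.Q) (hz : z ∈ D.Q) :
    ⁅x * y, z⁆ = ⁅x, z⁆ * ⁅y, z⁆ := by
  have h1 : ⁅x * y, z⁆ = x * ⁅y, z⁆ * x⁻¹ * ⁅x, z⁆ := by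
    simp only [commutatorElement_def]; group
  have h2 := D.comm y hy z hz
  have h3 := D.comm x hx z hz
  rw [h1, D.R_K h2 (D.Q_le hx), D.R_comm h3 (D.R_le h2)]

theorem comm_symm {x y : G} (hx : x ∈ D.Q) (hy : y ∈ D.Q) : ⁅x, y⁆ = ⁅y, x⁆ := by
  rw [← commutatorElement_inv, D.inv_R (D.comm y hy x hx)]

theorem comm_mul_right {x y z : G} (hx : x ∈ D.Q) (hy : y ∈ D.Q) (hz : z ∈ D.Q) :
    ⁅x, y * z⁆ = ⁅x, y⁆ * ⁅x, z⁆ := by
  rw [D.comm_symm hx (D.Q.mul_mem hy hz), D.comm_mul_left hy hz hx, D.comm_symm hx hy, D.comm_symm hx hz]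

/-- the function `ρ [x, ·]` -/
def fn (x : G) : D.Q → F := fun z => D.ρ ⁅x, (z : G)⁆

theorem fn_mul {x y : G} (hx : x ∈ D.Q) (hy : y ∈ D.Q) : D.fn (x * y) = D.fn x + D.fn y := by
  funext z
  change D.ρ _ = D.ρ _ + D.ρ _
  rw [D.comm_mul_left hx hy z.2, D.ρ_mul _ (D.comm x hx z z.2) _ (D.comm y hy z z.2)]

theorem fn_one : D.fn 1 = 0 := by
  funext z
  change D.ρ _ = 0
  rw [commutatorElement_one_left, D.ρ_one]

theorem fn_inv {x : G} (hx : x ∈ D.Q) : D.fn x⁻¹ = D.fn x := by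
  have h := D.fn_mul hx (D.Q.inv_mem hx)
  rw [mul_inv_cancel, D.fn_one] at h
  funext z
  have h1 := congrFun h z
  simp only [Pi.zero_apply, Pi.add_apply] at h1
  linear_combination -h1 - D.fn x z * D.two

theorem fn_eq_zero {x : G} (hx : x ∈ D.Q) : D.fn x = 0 ↔ x ∈ D.R := by
  constructor
  · intro h
    refine D.center x hx fun y hy => ?_
    have h1 : D.ρ ⁅x, y⁆ = 0 := congrFun h ⟨y, hy⟩
    have h2 := D.ρ_inj _ (D.comm x hx y hy) h1
    rwa [commutatorElement_eq_one_iff_mul_comm] at h2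
  · intro h
    funext z
    change D.ρ ⁅x, (z : G)⁆ = 0
    rw [commutatorElement_eq_one_iff_mul_comm.2 (D.R_comm h z.2).symm, D.ρ_one]

/-- conjugation by `k⁻¹` on `Q` -/
theorem conj_mem {k : G} (hk : k ∈ D.K) (z : D.Q) : k⁻¹ * (z : G) * k ∈ D.Q := by
  have := D.norm k⁻¹ (D.K.inv_mem hk) z z.2
  rwa [inv_inv] at this

theorem fn_conj {k x : G} (hk : k ∈ D.K) (hx : x ∈ D.Q) (z : D.Q) :
    D.fn (k * x * k⁻¹) z = D.fn x ⟨k⁻¹ * z * k, by
      have := D.norm k⁻¹ (D.K.inv_mem hk) z z.2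
      rwa [inv_inv] at this⟩ := by
  change D.ρ _ = D.ρ _
  congr 1
  have h1 : k⁻¹ * (z : G) * k ∈ D.Q := by
    have := D.norm k⁻¹ (D.K.inv_mem hk) z z.2
    rwa [inv_inv] at this
  rw [← D.R_K (D.comm x hx _ h1) hk]
  simp only [commutatorElement_def]
  group

/-- the subgroup generated by the `K`-conjugates of `E` -/
def Y : Subgroup G := Subgroup.closure {y | ∃ k ∈ D.K, ∃ x ∈ D.E, y = k * x * k⁻¹}

theorem Y_le : D.Y ≤ D.Q := by
  rw [Y, Subgroup.closure_le]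
  rintro _ ⟨k, hk, e, he, rfl⟩
  exact D.norm k hk e (D.E_le he)

theorem conj_mem_Y {k : G} (hk : k ∈ D.K) {x : G} (hx : x ∈ D.Y) : k * x * k⁻¹ ∈ D.Y := by
  have h : D.Y ≤ D.Y.comap (MulAut.conj k).toMonoidHom := by
    conv_lhs => rw [Y]
    rw [Subgroup.closure_le]
    rintro _ ⟨l, hl, e, he, rfl⟩
    refine Subgroup.subset_closure ⟨k * l, D.K.mul_mem hk hl, e, he, ?_⟩
    simp only [MulEquiv.coe_toMonoidHom, MulAut.conj_apply]
    group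
  exact h hx

/-- closure of the functions under scalars -/
theorem fn_smul_Y (a : F) {x : G} (hx : x ∈ D.Y) : ∃ y ∈ D.Y, D.fn y = a • D.fn x := by
  have h : ∀ x ∈ Subgroup.closure {y | ∃ k ∈ D.K, ∃ x ∈ D.E, y = k * x * k⁻¹},
      x ∈ D.Q ∧ ∃ y ∈ D.Y, D.fn y = a • D.fn x := by
    intro x hx
    induction hx using Subgroup.closure_induction with
    | mem x hx =>
      obtain ⟨k, hk, e, he, rfl⟩ := hx
      refine ⟨D.norm k hk e (D.E_le he), ?_⟩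
      obtain ⟨y, hy, h1⟩ := D.sc a e he
      refine ⟨k * y * k⁻¹, Subgroup.subset_closure ⟨k, hk, y, hy, rfl⟩, ?_⟩
      funext z
      rw [D.fn_conj hk (D.E_le hy), Pi.smul_apply, D.fn_conj hk (D.E_le he)]
      exact h1 _ (D.conj_mem hk z)
    | one => exact ⟨D.Q.one_mem, 1, D.Y.one_mem, by rw [D.fn_one, smul_zero]⟩
    | mul x x' _ _ h1 h2 =>
      obtain ⟨h1, y, hy, h3⟩ := h1
      obtain ⟨h2, y', hy', h4⟩ := h2
      exact ⟨D.Q.mul_mem h1 h2, y * y', D.Y.mul_mem hy hy', by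
        rw [D.fn_mul (D.Y_le hy) (D.Y_le hy'), D.fn_mul h1 h2, h3, h4, smul_add]⟩
    | inv x _ h1 =>
      obtain ⟨h1, y, hy, h3⟩ := h1
      exact ⟨D.Q.inv_mem h1, y, hy, by rw [D.fn_inv h1, h3]⟩
  exact (h x hx).2

/-- the `F`-space of the functions of the elements of `Y` -/
def W : Submodule F (D.Q → F) where
  carrier := {m | ∃ x ∈ D.Y, D.fn x = m}
  add_mem' := by
    rintro _ _ ⟨x, hx, rfl⟩ ⟨y, hy, rfl⟩
    exact ⟨x * y, D.Y.mul_mem hx hy, D.fn_mul (D.Y_le hx) (D.Y_le hy)⟩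
  zero_mem' := ⟨1, D.Y.one_mem, D.fn_one⟩
  smul_mem' := by
    rintro a _ ⟨x, hx, rfl⟩
    exact D.fn_smul_Y a hx

/-- the hom `Y → W` -/
def homY : D.Y →* Multiplicative D.W where
  toFun x := Multiplicative.ofAdd ⟨D.fn x, x, x.2, rfl⟩
  map_one' := congrArg Multiplicative.ofAdd (Subtype.ext D.fn_one)
  map_mul' x y := congrArg Multiplicative.ofAdd (Subtype.ext (D.fn_mul (D.Y_le x.2) (D.Y_le y.2)))

theorem homY_surj : Function.Surjective D.homY := by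
  rintro m
  obtain ⟨m', hm'⟩ := Multiplicative.ofAdd.surjective m
  obtain ⟨w, x, hx, h⟩ := m'
  refine ⟨⟨x, hx⟩, ?_⟩
  rw [← hm']
  exact congrArg Multiplicative.ofAdd (Subtype.ext h)

theorem homY_ker {x : D.Y} : x ∈ D.homY.ker ↔ (x : G) ∈ D.R := by
  rw [MonoidHom.mem_ker, ← D.fn_eq_zero (D.Y_le x.2)]
  constructor
  · intro h
    exact congrArg Subtype.val (Multiplicative.ofAdd.injective h)
  · intro h
    exact congrArg Multiplicative.ofAdd (Subtype.ext h)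

/-- evaluation `Q → W*` -/
def homQ : D.Q →* Multiplicative (Module.Dual F D.W) where
  toFun y := Multiplicative.ofAdd ((LinearMap.proj y).comp D.W.subtype)
  map_one' := by
    refine congrArg Multiplicative.ofAdd (LinearMap.ext ?_)
    rintro ⟨w, x, hx, rfl⟩
    change D.ρ ⁅x, ((1 : D.Q) : G)⁆ = 0
    rw [OneMemClass.coe_one, commutatorElement_one_right, D.ρ_one]
  map_mul' y z := by
    refine congrArg Multiplicative.ofAdd (LinearMap.ext ?_)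
    rintro ⟨w, x, hx, rfl⟩
    change D.ρ ⁅x, ((y * z : D.Q) : G)⁆ = D.ρ ⁅x, (y : G)⁆ + D.ρ ⁅x, (z : G)⁆
    have hx' := D.Y_le hx
    rw [Subgroup.coe_mul, D.comm_mul_right hx' y.2 z.2, D.ρ_mul _ (D.comm x hx' y y.2) _ (D.comm x hx' z z.2)]

theorem homQ_ker {y : D.Q} (h : y ∈ D.homQ.ker) : ∀ x ∈ D.Y, (y : G) * x = x * y := by
  intro x hx
  rw [MonoidHom.mem_ker] at h
  have h1 := LinearMap.congr_fun (Multiplicative.ofAdd.injective h) ⟨D.fn x, x, hx, rfl⟩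
  have h2 : D.ρ ⁅x, (y : G)⁆ = 0 := h1
  have h3 := D.ρ_inj _ (D.comm x (D.Y_le hx) y y.2) h2
  rw [commutatorElement_eq_one_iff_mul_comm] at h3
  exact h3.symm

/-- **Generation**: if `C_Q(Y) = R ≤ E`, then `Q = Y`. -/
theorem gen_of [Finite G] [Finite F] (hRE : D.R ≤ D.E)
    (h : ∀ z ∈ D.Q, (∀ y ∈ D.Y, z * y = y * z) → z ∈ D.R) : D.Q ≤ D.Y := by
  have hRY : D.R ≤ D.Y := by
    intro r hr
    exact Subgroup.subset_closure ⟨1, D.K.one_mem, r, hRE hr, by group⟩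
  have hfin : Finite D.W := inferInstance
  have hfin' : Finite (Module.Dual F D.W) :=
    Finite.of_injective (fun f : Module.Dual F D.W => (f : D.W → F)) DFunLike.coe_injective
  have c1 : Nat.card (Module.Dual F D.W) = Nat.card D.W := by
    have := Module.Finite.of_finite (R := F) (M := D.W)
    have := Fintype.ofFinite F
    have := Fintype.ofFinite D.W
    have e := (Module.Free.chooseBasis F D.W).toDualEquiv
    exact Nat.card_congr e.symm.toEquiv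
  have k1 : Nat.card D.homQ.ker ≤ Nat.card D.R := by
    refine Nat.card_le_card_of_injective (fun x => (⟨(x : D.Q), h _ (x : D.Q).2 (D.homQ_ker x.2)⟩ : D.R)) ?_
    intro x y hxy
    have h1 : ((x : D.Q) : G) = ((y : D.Q) : G) := congrArg (fun r : D.R => (r : G)) hxy
    exact Subtype.ext (Subtype.ext h1)
  have k2 : Nat.card D.homY.ker = Nat.card D.R := by
    refine Nat.card_congr ⟨fun x => ⟨(x : D.Y), D.homY_ker.1 x.2⟩, fun r => ⟨⟨r, hRY r.2⟩, D.homY_ker.2 r.2⟩,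
      fun x => rfl, fun r => rfl⟩
  have c2 : Nat.card D.Q ≤ Nat.card D.W * Nat.card D.R := by
    rw [← D.homQ.ker.index_mul_card, Subgroup.index_ker]
    refine Nat.mul_le_mul ?_ k1
    rw [← c1]
    exact Nat.card_le_card_of_injective (fun x : D.homQ.range => Multiplicative.toAdd (x : Multiplicative _))
      fun x y hxy => Subtype.ext (Multiplicative.toAdd.injective hxy)
  have c3 : Nat.card D.Y = Nat.card D.W * Nat.card D.R := by
    rw [← D.homY.ker.index_mul_card, Subgroup.index_ker, k2]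
    congr 1
    rw [MonoidHom.range_eq_top.2 D.homY_surj, Subgroup.card_top]
    exact Nat.card_congr Multiplicative.toAdd
  have c4 : Nat.card D.Q ≤ Nat.card D.Y := by rw [c3]; exact c2
  exact (Subgroup.eq_of_le_of_card_ge D.Y_le c4).ge

end Pre

namespace Inp

variable {F : Type*} [Field F] {G : Type*} [Group G] (D : Inp F G)

theorem fn_smul (a : F) {x : G} (hx : x ∈ D.Q) : ∃ y ∈ D.Q, D.fn y = a • D.fn x := by
  obtain ⟨y, hy, h⟩ := D.fn_smul_Y a (D.gen hx)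
  exact ⟨y, D.Y_le hy, h⟩

/-- **The `F`-space `M = Q/R`.** -/
def M : Submodule F (D.Q → F) where
  carrier := {m | ∃ x ∈ D.Q, D.fn x = m}
  add_mem' := by
    rintro _ _ ⟨x, hx, rfl⟩ ⟨y, hy, rfl⟩
    exact ⟨x * y, D.Q.mul_mem hx hy, D.fn_mul hx hy⟩
  zero_mem' := ⟨1, D.Q.one_mem, D.fn_one⟩
  smul_mem' := by
    rintro a _ ⟨x, hx, rfl⟩
    exact D.fn_smul a hx

/-- the projection `Q → M` -/
def π (x : G) (hx : x ∈ D.Q) : D.M := ⟨D.fn x, x, hx, rfl⟩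

theorem π_surj (m : D.M) : ∃ x, ∃ hx : x ∈ D.Q, D.π x hx = m := by
  obtain ⟨m, x, hx, h⟩ := m
  exact ⟨x, hx, Subtype.ext h⟩

theorem π_mul {x y : G} (hx : x ∈ D.Q) (hy : y ∈ D.Q) :
    D.π (x * y) (D.Q.mul_mem hx hy) = D.π x hx + D.π y hy := Subtype.ext (D.fn_mul hx hy)

theorem π_eq_zero {x : G} (hx : x ∈ D.Q) : D.π x hx = 0 ↔ x ∈ D.R := by
  rw [← D.fn_eq_zero hx, ← Submodule.coe_eq_zero]
  rfl

theorem π_inv {x : G} (hx : x ∈ D.Q) : D.π x⁻¹ (D.Q.inv_mem hx) = D.π x hx := Subtype.ext (D.fn_inv hx)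

theorem π_eq_iff {x y : G} (hx : x ∈ D.Q) (hy : y ∈ D.Q) : D.π x hx = D.π y hy ↔ x⁻¹ * y ∈ D.R := by
  rw [← D.π_eq_zero (D.Q.mul_mem (D.Q.inv_mem hx) hy), D.π_mul (D.Q.inv_mem hx) hy, D.π_inv hx]
  constructor
  · intro h
    rw [h, ← two_smul F, D.two, zero_smul]
  · intro h
    rw [← sub_eq_zero, sub_eq_add_neg]
    rw [add_eq_zero_iff_eq_neg] at h
    rw [h]
    have : D.π y hy + D.π y hy = 0 := by rw [← two_smul F, D.two, zero_smul]
    rw [← neg_add, this, neg_zero]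

theorem π_apply {x : G} (hx : x ∈ D.Q) (z : D.Q) : (D.π x hx : D.Q → F) z = D.ρ ⁅x, (z : G)⁆ := rfl

theorem symm' {x y : G} (hx : x ∈ D.Q) (hy : y ∈ D.Q) :
    (D.π x hx : D.Q → F) ⟨y, hy⟩ = (D.π y hy : D.Q → F) ⟨x, hx⟩ := by
  rw [D.π_apply, D.π_apply]
  exact congrArg D.ρ (D.comm_symm hx hy)

/-- a representative in `Q` of an element of `M` -/
noncomputable def rep (m : D.M) : D.Q := ⟨(D.π_surj m).choose, (D.π_surj m).choose_spec.choose⟩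

theorem π_rep (m : D.M) : D.π (D.rep m) (D.rep m).2 = m := (D.π_surj m).choose_spec.choose_spec

/-- evaluation depends on the class only -/
theorem eval_eq (m : D.M) {y : G} (hy : y ∈ D.Q) :
    (m : D.Q → F) (D.rep (D.π y hy)) = (m : D.Q → F) ⟨y, hy⟩ := by
  obtain ⟨x, hx, rfl⟩ := D.π_surj m
  rw [show D.rep (D.π y hy) = ⟨(D.rep (D.π y hy) : G), (D.rep (D.π y hy)).2⟩ from rfl,
    D.symm' hx (D.rep (D.π y hy)).2, D.π_rep, D.symm']

/-- **The polar form.** -/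
noncomputable def f : D.M →ₗ[F] D.M →ₗ[F] F :=
  LinearMap.mk₂ F (fun m n => (m : D.Q → F) (D.rep n)) (fun _ _ _ => rfl) (fun _ _ _ => rfl)
    (fun m n n' => by
      obtain ⟨x, hx, rfl⟩ := D.π_surj m
      obtain ⟨y, hy, rfl⟩ := D.π_surj n
      obtain ⟨y', hy', rfl⟩ := D.π_surj n'
      rw [← D.π_mul hy hy', D.eval_eq, D.eval_eq, D.eval_eq, D.symm', D.symm' hx hy, D.symm' hx hy', D.π_mul hy hy']
      rfl)
    (fun a m n => by
      obtain ⟨x, hx, rfl⟩ := D.π_surj m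
      obtain ⟨z, hz, h⟩ := D.π_surj (a • n)
      obtain ⟨y, hy, rfl⟩ := D.π_surj n
      rw [← h, D.eval_eq, D.eval_eq, D.symm' hx hz, h, D.symm' hx hy]
      rfl)

theorem f_π {x y : G} (hx : x ∈ D.Q) (hy : y ∈ D.Q) : D.f (D.π x hx) (D.π y hy) = D.ρ ⁅x, y⁆ :=
  D.eval_eq (D.π x hx) hy

theorem nondeg (m : D.M) (h : ∀ m', D.f m m' = 0) : m = 0 := by
  ext z
  have h1 := h (D.π z z.2)
  obtain ⟨x, hx, rfl⟩ := D.π_surj m
  rw [D.f_π hx z.2] at h1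
  exact h1

/-- **The quadratic form.** -/
noncomputable def s (m : D.M) : F := D.ρ ((D.rep m : G) * D.rep m)

theorem s_π {x : G} (hx : x ∈ D.Q) : D.s (D.π x hx) = D.ρ (x * x) := by
  have h1 := (D.π_eq_iff hx (D.rep (D.π x hx)).2).1 (D.π_rep _).symm
  change D.ρ ((D.rep (D.π x hx) : G) * D.rep (D.π x hx)) = _
  congr 1
  set y : G := (D.rep (D.π x hx) : G) with hy
  have h2 : y = x * (x⁻¹ * y) := by group
  have h3 := D.R_comm h1 hx
  rw [h2]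
  set r := x⁻¹ * y
  calc x * r * (x * r) = x * (r * x) * r := by group
    _ = x * (x * r) * r := by rw [h3]
    _ = x * x * (r * r) := by group
    _ = x * x := by rw [D.R_sq r h1, mul_one]

theorem s_add (m n : D.M) : D.s (m + n) = D.s m + D.s n + D.f m n := by
  obtain ⟨x, hx, rfl⟩ := D.π_surj m
  obtain ⟨y, hy, rfl⟩ := D.π_surj n
  rw [← D.π_mul hx hy, D.s_π, D.s_π, D.s_π, D.f_π]
  have h1 := D.comm x hx y hy
  have h2 := D.sq x hx
  have h3 := D.sq y hy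
  have h4 : x * y * (x * y) = x * x * (y * y) * ⁅x, y⁆ := by
    have e1 : y * x = x * y * ⁅x, y⁆ := by
      have : y * x = ⁅y, x⁆ * (x * y) := by simp only [commutatorElement_def]; group
      rw [this, D.comm_symm hy hx, D.R_comm h1 (D.Q.mul_mem hx hy)]
    calc x * y * (x * y) = x * (y * x) * y := by group
      _ = x * (x * y * ⁅x, y⁆) * y := by rw [e1]
      _ = x * x * y * (⁅x, y⁆ * y) := by group
      _ = x * x * y * (y * ⁅x, y⁆) := by rw [D.R_comm h1 hy]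
      _ = x * x * (y * y) * ⁅x, y⁆ := by group
  rw [h4, D.ρ_mul _ (D.R.mul_mem h2 h3) _ h1, D.ρ_mul _ h2 _ h3]

theorem act_mem (k : D.K) (m : D.M) :
    (fun z : D.Q => (m : D.Q → F) ⟨k⁻¹ * (z : G) * k, D.conj_mem k.2 z⟩) ∈ D.M := by
  obtain ⟨x, hx, rfl⟩ := D.π_surj m
  refine ⟨k * x * k⁻¹, D.norm k k.2 x hx, ?_⟩
  funext z
  exact D.fn_conj k.2 hx z

/-- the action of `K` as linear maps -/
def actL (k : D.K) : D.M →ₗ[F] D.M where
  toFun m := ⟨fun z => (m : D.Q → F) ⟨k⁻¹ * (z : G) * k, D.conj_mem k.2 z⟩, D.act_mem k m⟩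
  map_add' _ _ := rfl
  map_smul' _ _ := rfl

theorem actL_π (k : D.K) {x : G} (hx : x ∈ D.Q) :
    D.actL k (D.π x hx) = D.π (k * x * (k : G)⁻¹) (D.norm k k.2 x hx) := by
  refine Subtype.ext ?_
  funext z
  exact (D.fn_conj k.2 hx z).symm

theorem actL_mul (k l : D.K) (m : D.M) : D.actL (k * l) m = D.actL k (D.actL l m) := by
  obtain ⟨x, hx, rfl⟩ := D.π_surj m
  rw [D.actL_π, D.actL_π, D.actL_π]
  refine Subtype.ext (congrArg D.fn ?_)
  push_cast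
  group

theorem actL_one (m : D.M) : D.actL 1 m = m := by
  obtain ⟨x, hx, rfl⟩ := D.π_surj m
  rw [D.actL_π]
  refine Subtype.ext (congrArg D.fn ?_)
  simp

/-- **The action of `K` on `M`.** -/
def act : D.K →* (D.M ≃ₗ[F] D.M) where
  toFun k := LinearEquiv.ofLinearMap (D.actL k) (D.actL k⁻¹)
    (LinearMap.ext fun m => by
      rw [LinearMap.comp_apply, ← D.actL_mul, mul_inv_cancel, D.actL_one, LinearMap.id_apply])
    (LinearMap.ext fun m => by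
      rw [LinearMap.comp_apply, ← D.actL_mul, inv_mul_cancel, D.actL_one, LinearMap.id_apply])
  map_one' := LinearEquiv.ext fun m => D.actL_one m
  map_mul' k l := LinearEquiv.ext fun m => D.actL_mul k l m

theorem act_π (k : D.K) {x : G} (hx : x ∈ D.Q) :
    D.act k (D.π x hx) = D.π (k * x * (k : G)⁻¹) (D.norm k k.2 x hx) := D.actL_π k hx

theorem isom (k : D.K) (m : D.M) : D.s (D.act k m) = D.s m := by
  obtain ⟨x, hx, rfl⟩ := D.π_surj m
  rw [D.act_π, D.s_π, D.s_π]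
  congr 1
  rw [show (k : G) * x * (k : G)⁻¹ * (k * x * (k : G)⁻¹) = k * (x * x) * (k : G)⁻¹ by group,
    D.R_K (D.sq x hx) k.2]

/-- the kernel of the action -/
theorem act_eq_one {k : D.K} : D.act k = 1 ↔ ∀ x ∈ D.Q, ⁅(k : G), x⁆ ∈ D.R := by
  constructor
  · intro h x hx
    have h1 : D.act k (D.π x hx) = D.π x hx := by rw [h]; rfl
    rw [D.act_π, D.π_eq_iff] at h1
    have h2 := D.R.inv_mem h1
    have h3 : ((k * x * (k : G)⁻¹)⁻¹ * x)⁻¹ = x⁻¹ * ⁅(k : G), x⁆ * x := by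
      simp only [commutatorElement_def]; group
    rw [h3] at h2
    have h4 := D.R_comm h2 hx
    have h5 : ⁅(k : G), x⁆ = x⁻¹ * ⁅(k : G), x⁆ * x := by
      have : x * (x⁻¹ * ⁅(k : G), x⁆ * x) = ⁅(k : G), x⁆ * x := by group
      rw [this] at h4
      exact mul_right_cancel h4
    rw [h5]
    exact h2
  · intro h
    refine LinearEquiv.ext fun m => ?_
    obtain ⟨x, hx, rfl⟩ := D.π_surj m
    change _ = D.π x hx
    rw [D.act_π, D.π_eq_iff]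
    have h1 := h x hx
    have h3 : (k * x * (k : G)⁻¹)⁻¹ * x = x⁻¹ * ⁅(k : G), x⁆⁻¹ * x := by
      simp only [commutatorElement_def]; group
    rw [h3]
    have h4 := D.R_comm (D.R.inv_mem h1) (D.Q.inv_mem hx)
    rw [h4, inv_mul_cancel_right]
    exact D.R.inv_mem h1

/-- `s (a m) = a² s m` -/
theorem s_smul (a : F) (m : D.M) : D.s (a • m) = a ^ 2 * D.s m := by
  obtain ⟨x, hx, rfl⟩ := D.π_surj m
  have key : ∀ x ∈ Subgroup.closure {y | ∃ k ∈ D.K, ∃ x ∈ D.E, y = k * x * k⁻¹},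
      ∃ hx : x ∈ D.Q, D.s (a • D.π x hx) = a ^ 2 * D.s (D.π x hx) := by
    intro x hx
    induction hx using Subgroup.closure_induction with
    | mem x hx =>
      obtain ⟨k, hk, e, he, rfl⟩ := hx
      refine ⟨D.norm k hk e (D.E_le he), ?_⟩
      obtain ⟨y, hy, h1⟩ := D.sc a e he
      have h2 : a • D.π e (D.E_le he) = D.π y (D.E_le hy) := by
        refine Subtype.ext ?_
        funext z
        exact (h1 _ z.2).symm
      have h3 := D.act_π ⟨k, hk⟩ (D.E_le he)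
      change D.act ⟨k, hk⟩ (D.π e (D.E_le he)) = D.π (k * e * k⁻¹) _ at h3
      rw [← h3, ← map_smul, D.isom, D.isom, h2, D.s_π, D.s_π, D.E_sq y hy, D.E_sq e he, D.ρ_one, mul_zero]
    | one =>
      refine ⟨D.Q.one_mem, ?_⟩
      have h1 : D.π 1 D.Q.one_mem = 0 := (D.π_eq_zero _).2 D.R.one_mem
      rw [h1, smul_zero, ← h1, D.s_π, one_mul, D.ρ_one, mul_zero]
    | mul x x' _ _ h1 h2 =>
      obtain ⟨h1, h3⟩ := h1
      obtain ⟨h2, h4⟩ := h2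
      refine ⟨D.Q.mul_mem h1 h2, ?_⟩
      rw [D.π_mul h1 h2, smul_add, D.s_add, D.s_add, h3, h4]
      simp only [map_smul, LinearMap.smul_apply, smul_eq_mul]
      ring
    | inv x _ h1 =>
      obtain ⟨h1, h3⟩ := h1
      exact ⟨D.Q.inv_mem h1, by rw [D.π_inv h1, h3]⟩
  exact (key x (D.gen hx)).2

/-! ### Elements normalising `Q` and `R` -/

/-- An element of `G` which normalises `Q` and acts on `R ≅ F` as multiplication by `c`. -/
structure Nor (g : G) (c : F) : Prop where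
  Q₁ : ∀ x ∈ D.Q, g * x * g⁻¹ ∈ D.Q
  Q₂ : ∀ x ∈ D.Q, g⁻¹ * x * g ∈ D.Q
  R₁ : ∀ r ∈ D.R, g * r * g⁻¹ ∈ D.R ∧ D.ρ (g * r * g⁻¹) = c * D.ρ r

variable {D} in
theorem Nor.fn {g : G} {c : F} (h : D.Nor g c) {x : G} (hx : x ∈ D.Q) (z : D.Q) :
    D.fn (g * x * g⁻¹) z = c * D.fn x ⟨g⁻¹ * z * g, h.Q₂ z z.2⟩ := by
  change D.ρ _ = c * D.ρ _
  rw [← (h.R₁ _ (D.comm x hx _ (h.Q₂ z z.2))).2]
  congr 1
  simp only [commutatorElement_def]
  group

variable {D} in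
theorem Nor.inv {g : G} {c : F} (h : D.Nor g c) (hc : c ≠ 0) (hR : ∀ r ∈ D.R, g⁻¹ * r * g ∈ D.R) :
    D.Nor g⁻¹ c⁻¹ where
  Q₁ := fun x hx => by rw [inv_inv]; exact h.Q₂ x hx
  Q₂ := fun x hx => by rw [inv_inv]; exact h.Q₁ x hx
  R₁ := fun r hr => by
    rw [inv_inv]
    refine ⟨hR r hr, ?_⟩
    have h1 := (h.R₁ _ (hR r hr)).2
    have h2 : g * (g⁻¹ * r * g) * g⁻¹ = r := by group
    rw [h2] at h1
    rw [h1, inv_mul_cancel_left₀ hc]

variable {D} in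
/-- the `F`-linear map induced by a normalising element -/
def Nor.lin {g : G} {c : F} (h : D.Nor g c) : D.M →ₗ[F] D.M where
  toFun m := ⟨fun z => c * (m : D.Q → F) ⟨g⁻¹ * z * g, h.Q₂ z z.2⟩, by
    obtain ⟨x, hx, rfl⟩ := D.π_surj m
    refine ⟨g * x * g⁻¹, h.Q₁ x hx, ?_⟩
    funext z
    exact h.fn hx z⟩
  map_add' m n := Subtype.ext (funext fun z => mul_add _ _ _)
  map_smul' a m := Subtype.ext (funext fun z => by
    change c * (a * _) = a * (c * _)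
    ring)

variable {D} in
theorem Nor.lin_π {g : G} {c : F} (h : D.Nor g c) {x : G} (hx : x ∈ D.Q) :
    h.lin (D.π x hx) = D.π (g * x * g⁻¹) (h.Q₁ x hx) := by
  refine Subtype.ext ?_
  funext z
  exact (h.fn hx z).symm

variable {D} in
/-- the `F`-linear automorphism induced by a normalising element -/
def Nor.equiv {g : G} {c : F} (h : D.Nor g c) (hc : c ≠ 0) (hR : ∀ r ∈ D.R, g⁻¹ * r * g ∈ D.R) :
    D.M ≃ₗ[F] D.M :=
  LinearEquiv.ofLinearMap h.lin (h.inv hc hR).lin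
    (LinearMap.ext fun m => by
      obtain ⟨x, hx, rfl⟩ := D.π_surj m
      rw [LinearMap.comp_apply, Nor.lin_π, Nor.lin_π, LinearMap.id_apply]
      refine Subtype.ext (congrArg D.fn ?_)
      group)
    (LinearMap.ext fun m => by
      obtain ⟨x, hx, rfl⟩ := D.π_surj m
      rw [LinearMap.comp_apply, Nor.lin_π, Nor.lin_π, LinearMap.id_apply]
      refine Subtype.ext (congrArg D.fn ?_)
      group)

variable {D} in
theorem Nor.equiv_π {g : G} {c : F} (h : D.Nor g c) (hc : c ≠ 0) (hR : ∀ r ∈ D.R, g⁻¹ * r * g ∈ D.R)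
    {x : G} (hx : x ∈ D.Q) : h.equiv hc hR (D.π x hx) = D.π (g * x * g⁻¹) (h.Q₁ x hx) := h.lin_π hx

variable {D} in
/-- a normalising element normalises the image of `K`. -/
theorem Nor.conj_act {g : G} {c : F} (h : D.Nor g c) (hc : c ≠ 0) (hR : ∀ r ∈ D.R, g⁻¹ * r * g ∈ D.R)
    (k : D.K) (hk : g * k * g⁻¹ ∈ D.K) :
    h.equiv hc hR * D.act k * (h.equiv hc hR)⁻¹ = D.act ⟨g * k * g⁻¹, hk⟩ := by
  rw [mul_inv_eq_iff_eq_mul]
  refine LinearEquiv.ext fun m => ?_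
  obtain ⟨x, hx, rfl⟩ := D.π_surj m
  rw [LinearEquiv.mul_apply, LinearEquiv.mul_apply, D.act_π, h.equiv_π, h.equiv_π, D.act_π]
  refine Subtype.ext (congrArg D.fn ?_)
  push_cast
  group

/-- the `K`-conjugates of `E/R` span `M` -/
theorem span (N : Submodule F D.M)
    (h : ∀ k : D.K, ∀ x, ∀ hx : x ∈ D.E, D.act k (D.π x (D.E_le hx)) ∈ N) : N = ⊤ := by
  rw [eq_top_iff]
  intro m _
  obtain ⟨x, hx, rfl⟩ := D.π_surj m
  have key : ∀ x ∈ Subgroup.closure {y | ∃ k ∈ D.K, ∃ x ∈ D.E, y = k * x * k⁻¹},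
      ∃ hx : x ∈ D.Q, D.π x hx ∈ N := by
    intro x hx
    induction hx using Subgroup.closure_induction with
    | mem x hx =>
      obtain ⟨k, hk, e, he, rfl⟩ := hx
      refine ⟨D.norm k hk e (D.E_le he), ?_⟩
      have h3 := D.act_π ⟨k, hk⟩ (D.E_le he)
      change D.act ⟨k, hk⟩ (D.π e (D.E_le he)) = D.π (k * e * k⁻¹) _ at h3
      rw [← h3]
      exact h ⟨k, hk⟩ e he
    | one => exact ⟨D.Q.one_mem, by rw [(D.π_eq_zero D.Q.one_mem).2 D.R.one_mem]; exact zero_mem _⟩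
    | mul x x' _ _ h1 h2 =>
      obtain ⟨h1, h3⟩ := h1
      obtain ⟨h2, h4⟩ := h2
      exact ⟨D.Q.mul_mem h1 h2, by rw [D.π_mul h1 h2]; exact add_mem h3 h4⟩
    | inv x _ h1 =>
      obtain ⟨h1, h3⟩ := h1
      exact ⟨D.Q.inv_mem h1, by rw [D.π_inv h1]; exact h3⟩
  exact (key x (D.gen hx)).2

end Inp

end Cfsg.Agent.Omega.NOne.FStr

end

section


/-!
# Type (gamma), `q ≥ 4`: `Q/R` as an `F`-space, generation `Q = ⟨E^K⟩`

(I2) of bb #15588, first part: from `Gin` to `FStr.Inp`.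
-/

set_option autoImplicit false
set_option linter.unusedVariables false
set_option linter.unusedSectionVars false

open Subgroup
open scoped Pointwise commutatorElement

namespace Cfsg.Agent.Omega.NO1.Gamma

open Cfsg.Agent.Omega.NO1.Beta.Meet (cj mem_cj conj_mem_cj cj_mul cj_inj cj_eq_of_comm
  mem_normalizer_of_cj cj_of_mem_normalizer)
open Cfsg.Agent.Omega.NOne

namespace Gin

variable {F : Type*} [Field F] {G : Type*} [Group G] {I J : Type*} {S : Sylow 2 G} {V : Subgroup G}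
  {R Q : I → J → Subgroup G} {i0 i1 : I} {j0 j1 : J} {v : F → F → F → F → G} {p p' : G → F}
  (D : Gin F S V R Q i0 i1 j0 j1 v p p')

include D

theorem dbl (a : F) : a + a = 0 := by
  rw [← two_mul, D.two, zero_mul]

theorem v_zero : v 0 0 0 0 = 1 := by
  have h := D.v_add 0 0 0 0 0 0 0 0
  simp only [add_zero] at h
  exact left_eq_mul.mp h

theorem v_mul (a b c d a' b' c' d' : F) :
    v a b c d * v a' b' c' d' = v (a + a') (b + b') (c + c') (d + d') := (D.v_add _ _ _ _ _ _ _ _).symm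

theorem v_inv (a b c d : F) : (v a b c d)⁻¹ = v a b c d := by
  rw [inv_eq_iff_mul_eq_one, D.v_mul, D.dbl, D.dbl, D.dbl, D.dbl, D.v_zero]

theorem v_ext {a b c d a' b' c' d' : F} (h : v a b c d = v a' b' c' d') :
    a = a' ∧ b = b' ∧ c = c' ∧ d = d' := by
  have h1 : v (a + a') (b + b') (c + c') (d + d') = 1 := by
    rw [D.v_add, h, D.v_mul, D.dbl, D.dbl, D.dbl, D.dbl, D.v_zero]
  obtain ⟨e1, e2, e3, e4⟩ := D.v_inj _ _ _ _ h1
  refine ⟨?_, ?_, ?_, ?_⟩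
  · linear_combination e1 - a' * D.two
  · linear_combination e2 - b' * D.two
  · linear_combination e3 - c' * D.two
  · linear_combination e4 - d' * D.two

theorem V_comm {x y : G} (hx : x ∈ V) (hy : y ∈ V) : x * y = y * x := D.grid.comm x hx y hy

omit D in
open Classical in
/-- the coordinate on `R` -/
noncomputable def ρ (v : F → F → F → F → G) (g : G) : F := if h : ∃ a, g = v a 0 0 0 then h.choose else 0

theorem ρ_v (a : F) : ρ v (v a 0 0 0) = a := by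
  have h : ∃ a', v a 0 0 0 = v a' 0 0 0 := ⟨a, rfl⟩
  rw [ρ, dif_pos h]
  exact (D.v_ext h.choose_spec).1.symm

theorem R_le_V : R i0 j0 ≤ V := D.grid.R_le _ _

theorem R_le_Q : R i0 j0 ≤ Q i0 j0 := D.grid.row _ _ _

theorem mem_K {k : G} : k ∈ centralizer (R i0 j0 : Set G) ↔ ∀ r ∈ R i0 j0, k * r = r * k := by
  rw [mem_centralizer_iff]
  exact ⟨fun h r hr => (h r hr).symm, fun h r hr => (h r hr).symm⟩

theorem Q_le_K : Q i0 j0 ≤ centralizer (R i0 j0 : Set G) := by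
  intro x hx
  rw [D.mem_K]
  intro r hr
  exact (D.grid.RQ i0 j0 r hr x hx).symm

theorem V_le_K : V ≤ centralizer (R i0 j0 : Set G) := by
  intro x hx
  rw [D.mem_K]
  intro r hr
  exact D.V_comm hx (D.R_le_V hr)

theorem CV_le_K : centralizer (V : Set G) ≤ centralizer (R i0 j0 : Set G) :=
  centralizer_le D.R_le_V

theorem cj_Q {g : G} (h : cj g (R i0 j0) = R i0 j0) : cj g (Q i0 j0) = Q i0 j0 := D.grid.conj g _ _ _ _ h

omit D in
theorem conj_of_cj {g x : G} {H : Subgroup G} (h : cj g H = H) (hx : x ∈ H) : g * x * g⁻¹ ∈ H := by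
  have := conj_mem_cj (c := g) hx
  rwa [h] at this

omit D in
theorem cj_inv_of {g : G} {H : Subgroup G} (h : cj g H = H) : cj g⁻¹ H = H := by
  apply cj_inj (c := g)
  rw [← cj_mul, mul_inv_cancel, h]
  ext x
  rw [mem_cj]
  simp

omit D in
theorem conj_of_cj' {g x : G} {H : Subgroup G} (h : cj g H = H) (hx : x ∈ H) : g⁻¹ * x * g ∈ H := by
  have := conj_of_cj (cj_inv_of h) hx
  rwa [inv_inv] at this

theorem cj_R_of_K {k : G} (hk : k ∈ centralizer (R i0 j0 : Set G)) : cj k (R i0 j0) = R i0 j0 :=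
  cj_eq_of_comm (D.mem_K.1 hk)

theorem K_norm {k : G} (hk : k ∈ centralizer (R i0 j0 : Set G)) {x : G} (hx : x ∈ Q i0 j0) :
    k * x * k⁻¹ ∈ Q i0 j0 := conj_of_cj (D.cj_Q (D.cj_R_of_K hk)) hx

/-- an element `x ∈ Q` acts on `V` by `act`; commutator with `v a b c d` -/
theorem comm_v {x : G} (hx : x ∈ Q i0 j0) (a b c d : F) :
    ⁅v a b c d, x⁆ = v (p' x * b + p x * c + p x * p' x * d) (p x * d) (p' x * d) 0 := by
  rw [commutatorElement_def, show v a b c d * x * (v a b c d)⁻¹ * x⁻¹ =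
    v a b c d * (x * (v a b c d)⁻¹ * x⁻¹) by group, D.v_inv, D.act x hx, D.v_mul]
  congr 1
  · linear_combination a * D.two
  · linear_combination b * D.two
  · linear_combination c * D.two
  · exact D.dbl d

theorem mem_E {x : G} : x ∈ V ⊓ Q i0 j0 ↔ ∃ a b c, x = v a b c 0 := by
  constructor
  · rintro ⟨h1, h2⟩
    obtain ⟨a, b, c, d, rfl⟩ := D.v_surj x h1
    exact ⟨a, b, c, by rw [(D.V_Q a b c d).1 h2]⟩
  · rintro ⟨a, b, c, rfl⟩
    exact ⟨D.v_mem _ _ _ _, (D.V_Q a b c 0).2 rfl⟩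

omit D in
theorem comm_of_eq_one {x y : G} (h : ⁅x, y⁆ = 1) : x * y = y * x :=
  commutatorElement_eq_one_iff_mul_comm.1 h

/-- the data of `FStr.Pre` -/
noncomputable def pre : FStr.Pre F G where
  K := centralizer (R i0 j0 : Set G)
  Q := Q i0 j0
  R := R i0 j0
  E := V ⊓ Q i0 j0
  ρ := ρ v
  two := D.two
  R_le := D.R_le_Q
  Q_le := D.Q_le_K
  E_le := inf_le_right
  norm := fun k hk x hx => D.K_norm hk hx
  cent := fun k hk r hr => D.mem_K.1 hk r hr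
  comm := fun x hx y hy => D.grid.QQ i0 j0 x hx y hy
  sq := fun x hx => D.grid.Qsq i0 j0 x hx
  R_sq := fun r hr => D.grid.V_sq r (D.R_le_V hr)
  center := fun x hx h => D.grid.cen i0 j0 x hx h
  ρ_mul := fun r hr r' hr' => by
    obtain ⟨a, rfl⟩ := (D.R00 r).1 hr
    obtain ⟨a', rfl⟩ := (D.R00 r').1 hr'
    rw [D.v_mul, D.ρ_v, D.ρ_v, add_zero, D.ρ_v]
  ρ_inj := fun r hr h => by
    obtain ⟨a, rfl⟩ := (D.R00 r).1 hr
    rw [D.ρ_v] at h
    rw [h, D.v_zero]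
  E_sq := fun x hx => D.grid.V_sq x hx.1
  sc := fun a x hx => by
    obtain ⟨α, β, γ, rfl⟩ := D.mem_E.1 hx
    refine ⟨v (a * α) (a * β) (a * γ) 0, D.mem_E.2 ⟨_, _, _, rfl⟩, fun z hz => ?_⟩
    rw [D.comm_v hz, D.comm_v hz, mul_zero, mul_zero, mul_zero, D.ρ_v, D.ρ_v]
    ring

@[simp] theorem pre_K : D.pre.K = centralizer (R i0 j0 : Set G) := rfl
@[simp] theorem pre_Q : D.pre.Q = Q i0 j0 := rfl
@[simp] theorem pre_R : D.pre.R = R i0 j0 := rfl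
@[simp] theorem pre_E : D.pre.E = V ⊓ Q i0 j0 := rfl

/-! ### `p`, `p'` as commutators -/

theorem fn_v {y : G} (hy : y ∈ Q i0 j0) (a b c : F) :
    D.pre.ρ ⁅y, v a b c 0⁆ = p' y * b + p y * c := by
  have hE : v a b c 0 ∈ Q i0 j0 := (D.V_Q a b c 0).2 rfl
  rw [D.pre.comm_symm hy hE, D.comm_v hy, mul_zero, mul_zero, mul_zero, add_zero]
  exact D.ρ_v _

theorem p'_eq {y : G} (hy : y ∈ Q i0 j0) : p' y = D.pre.ρ ⁅y, v 0 1 0 0⁆ := by
  rw [D.fn_v hy]; ring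

theorem p_eq {y : G} (hy : y ∈ Q i0 j0) : p y = D.pre.ρ ⁅y, v 0 0 1 0⁆ := by
  rw [D.fn_v hy]; ring

theorem v_Q (a b c : F) : v a b c 0 ∈ Q i0 j0 := (D.V_Q a b c 0).2 rfl

theorem p_mul {x y : G} (hx : x ∈ Q i0 j0) (hy : y ∈ Q i0 j0) : p (x * y) = p x + p y := by
  have h := congrFun (D.pre.fn_mul hx hy) ⟨v 0 0 1 0, D.v_Q 0 0 1⟩
  rw [D.p_eq (mul_mem hx hy), D.p_eq hx, D.p_eq hy]
  exact h

theorem p'_mul {x y : G} (hx : x ∈ Q i0 j0) (hy : y ∈ Q i0 j0) : p' (x * y) = p' x + p' y := by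
  have h := congrFun (D.pre.fn_mul hx hy) ⟨v 0 1 0 0, D.v_Q 0 1 0⟩
  rw [D.p'_eq (mul_mem hx hy), D.p'_eq hx, D.p'_eq hy]
  exact h

theorem p_inv {x : G} (hx : x ∈ Q i0 j0) : p x⁻¹ = p x := by
  have h := congrFun (D.pre.fn_inv hx) ⟨v 0 0 1 0, D.v_Q 0 0 1⟩
  rw [D.p_eq (inv_mem hx), D.p_eq hx]
  exact h

theorem p'_inv {x : G} (hx : x ∈ Q i0 j0) : p' x⁻¹ = p' x := by
  have h := congrFun (D.pre.fn_inv hx) ⟨v 0 1 0 0, D.v_Q 0 1 0⟩
  rw [D.p'_eq (inv_mem hx), D.p'_eq hx]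
  exact h

/-- `C_Q(V) = C_Q(E) = ker (p, p')` -/
theorem mem_CV {x : G} (hx : x ∈ Q i0 j0) : x ∈ centralizer (V : Set G) ↔ p x = 0 ∧ p' x = 0 := by
  constructor
  · intro h
    rw [mem_centralizer_iff] at h
    constructor
    · have h1 := h _ (D.v_mem 0 0 1 0)
      rw [D.p_eq hx, commutatorElement_eq_one_iff_mul_comm.2 h1.symm]
      exact D.pre.ρ_one
    · have h1 := h _ (D.v_mem 0 1 0 0)
      rw [D.p'_eq hx, commutatorElement_eq_one_iff_mul_comm.2 h1.symm]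
      exact D.pre.ρ_one
  · rintro ⟨h1, h2⟩
    rw [mem_centralizer_iff]
    intro w hw
    obtain ⟨a, b, c, d, rfl⟩ := D.v_surj w hw
    apply comm_of_eq_one
    rw [D.comm_v hx, h1, h2]
    simp [D.v_zero]

theorem mem_CV_of_E {x : G} (hx : x ∈ Q i0 j0) (h : ∀ e ∈ V ⊓ Q i0 j0, x * e = e * x) :
    x ∈ centralizer (V : Set G) := by
  rw [D.mem_CV hx]
  constructor
  · rw [D.p_eq hx, commutatorElement_eq_one_iff_mul_comm.2 (h _ (D.mem_E.2 ⟨_, _, _, rfl⟩))]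
    exact D.pre.ρ_one
  · rw [D.p'_eq hx, commutatorElement_eq_one_iff_mul_comm.2 (h _ (D.mem_E.2 ⟨_, _, _, rfl⟩))]
    exact D.pre.ρ_one

/-! ### generation -/

/-- `⟨E^K⟩` -/
noncomputable abbrev Y : Subgroup G := D.pre.Y

theorem Y_le : D.Y ≤ Q i0 j0 := D.pre.Y_le

theorem E_le_Y : V ⊓ Q i0 j0 ≤ D.Y := fun e he =>
  subset_closure ⟨1, D.pre.K.one_mem, e, he, by group⟩

/-- the scalars on the values of `(p, p')` on `Y` -/
theorem Y_smul {y : G} (hy : y ∈ D.Y) (a : F) : ∃ z ∈ D.Y, p z = a * p y ∧ p' z = a * p' y := by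
  obtain ⟨z, hz, h⟩ := D.pre.fn_smul_Y a hy
  refine ⟨z, hz, ?_, ?_⟩
  · have := congrFun h ⟨v 0 0 1 0, D.v_Q 0 0 1⟩
    rw [D.p_eq (D.Y_le hz), D.p_eq (D.Y_le hy)]
    exact this
  · have := congrFun h ⟨v 0 1 0 0, D.v_Q 0 1 0⟩
    rw [D.p'_eq (D.Y_le hz), D.p'_eq (D.Y_le hy)]
    exact this

/-- the torus acts on the values of `(p, p')` -/
theorem tor_p {t : F} (ht : t ≠ 0) {h : G} (hV : h ∈ normalizer (V : Set G))
    (hv : ∀ a b c d, h * v a b c d * h⁻¹ = v a (t ^ 2 * b) ((t ^ 2)⁻¹ * c) d) {y : G}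
    (hy : y ∈ Q i0 j0) : ∃ hQ : h * y * h⁻¹ ∈ Q i0 j0, p (h * y * h⁻¹) = t ^ 2 * p y ∧
      p' (h * y * h⁻¹) = (t ^ 2)⁻¹ * p' y := by
  have hK : h ∈ centralizer (R i0 j0 : Set G) := by
    rw [D.mem_K]
    intro r hr
    obtain ⟨a, rfl⟩ := (D.R00 r).1 hr
    have h1 := hv a 0 0 0
    rw [mul_zero, mul_zero] at h1
    rw [mul_inv_eq_iff_eq_mul] at h1
    exact h1
  have hQ := D.K_norm hK hy
  refine ⟨hQ, ?_⟩
  have h1 := D.act _ hQ 0 0 0 1
  have h2 : h * y * h⁻¹ * v 0 0 0 1 * (h * y * h⁻¹)⁻¹ = h * (y * (h⁻¹ * v 0 0 0 1 * h) * y⁻¹) * h⁻¹ := by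
    group
  have h3 : h⁻¹ * v 0 0 0 1 * h = v 0 0 0 1 := by
    have h4 := hv 0 0 0 1
    rw [mul_zero, mul_zero] at h4
    have h5 : v 0 0 0 1 = h⁻¹ * (h * v 0 0 0 1 * h⁻¹) * h := by group
    rw [h4] at h5
    exact h5.symm
  rw [h2, h3, D.act y hy, hv] at h1
  have h4 := D.v_ext h1
  constructor
  · have := h4.2.1
    simp only [zero_add, mul_one] at this
    exact this.symm
  · have := h4.2.2.1
    simp only [zero_add, mul_one] at this
    exact this.symm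

/-- some conjugate of `E` does not commute with `E` -/
theorem exists_noncomm [Finite G] : ∃ y ∈ D.Y, ¬ (p y = 0 ∧ p' y = 0) := by
  by_contra hcon
  push Not at hcon
  -- `Y` centralises `V`
  have hYV : D.Y ≤ centralizer (V : Set G) := fun y hy => (D.mem_CV (D.Y_le hy)).2 (hcon y hy)
  set K := centralizer (R i0 j0 : Set G) with hK
  -- `[c v c⁻¹, x] ∈ Y` for `x ∈ Q`
  have hcomm : ∀ c ∈ K, ∀ w ∈ V, ∀ x ∈ Q i0 j0, ∃ y ∈ D.Y, c * w * c⁻¹ * x = y * x * (c * w * c⁻¹) := by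
    intro c hc w hw x hx
    have hx' : c⁻¹ * x * c ∈ Q i0 j0 := by
      have := D.K_norm (K.inv_mem hc) hx
      rwa [inv_inv] at this
    obtain ⟨a, b, c', d, rfl⟩ := D.v_surj w hw
    have h1 := D.comm_v hx' a b c' d
    refine ⟨c * ⁅v a b c' d, c⁻¹ * x * c⁆ * c⁻¹, D.pre.conj_mem_Y hc ?_, ?_⟩
    · rw [h1]
      exact D.E_le_Y (D.mem_E.2 ⟨_, _, _, rfl⟩)
    · simp only [commutatorElement_def]
      group
  -- elements of different conjugates of `V` commute modulo `C(Q)`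
  have hcc : ∀ c ∈ K, ∀ w ∈ V, ∀ c' ∈ K, ∀ w' ∈ V,
      ⁅c * w * c⁻¹, c' * w' * c'⁻¹⁆ ∈ Q i0 j0 := by
    intro c hc w hw c' hc' w' hw'
    apply D.char2
    rw [mem_centralizer_iff]
    intro x hx
    obtain ⟨y, hy, h1⟩ := hcomm c hc w hw x hx
    obtain ⟨y', hy', h2⟩ := hcomm c' hc' w' hw' x hx
    have hcy : ∀ c ∈ K, ∀ w ∈ V, ∀ y ∈ D.Y, c * w * c⁻¹ * y = y * (c * w * c⁻¹) := by
      intro c hc w hw y hy
      have h3 := hYV (D.pre.conj_mem_Y (K.inv_mem hc) hy)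
      rw [mem_centralizer_iff] at h3
      have h4 := h3 w hw
      calc c * w * c⁻¹ * y = c * (w * (c⁻¹ * y * c⁻¹⁻¹)) * c⁻¹ := by group
        _ = c * ((c⁻¹ * y * c⁻¹⁻¹) * w) * c⁻¹ := by rw [h4]
        _ = y * (c * w * c⁻¹) := by group
    have hyy : y * y' = y' * y := by
      have h3 : y' * x ∈ Q i0 j0 := mul_mem (D.Y_le hy') hx
      have h4 : y' ∈ Q i0 j0 := D.Y_le hy'
      -- both commute: `Y` is generated by elements of conjugates of `V`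
      have h5 : ∀ z ∈ D.Y, ∀ y ∈ D.Y, z * y = y * z := by
        intro z hz
        induction hz using closure_induction with
        | mem z hz =>
          obtain ⟨k, hk, e, he, rfl⟩ := hz
          intro y hy
          exact hcy k hk e he.1 y hy
        | one => intro y _; rw [one_mul, mul_one]
        | mul z z' _ _ a1 a2 =>
          intro y hy
          rw [mul_assoc, a2 y hy, ← mul_assoc, a1 y hy, mul_assoc]
        | inv z _ a1 =>
          intro y hy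
          have := a1 y hy
          rw [inv_mul_eq_iff_eq_mul, ← mul_assoc, this, mul_assoc, mul_inv_cancel, mul_one]
      exact h5 y hy y' hy'
    set A := c * w * c⁻¹
    set B := c' * w' * c'⁻¹
    have e1 : A * B * x = y * y' * x * (A * B) := by
      calc A * B * x = A * (B * x) := by group
        _ = A * (y' * x * B) := by rw [h2]
        _ = (A * y') * (x * B) := by group
        _ = (y' * A) * (x * B) := by rw [hcy c hc w hw y' hy']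
        _ = y' * (A * x) * B := by group
        _ = y' * (y * x * A) * B := by rw [h1]
        _ = (y' * y) * x * (A * B) := by group
        _ = y * y' * x * (A * B) := by rw [hyy]
    have e2 : B * A * x = y * y' * x * (B * A) := by
      calc B * A * x = B * (A * x) := by group
        _ = B * (y * x * A) := by rw [h1]
        _ = (B * y) * (x * A) := by group
        _ = (y * B) * (x * A) := by rw [hcy c' hc' w' hw' y hy]
        _ = y * (B * x) * A := by group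
        _ = y * (y' * x * B) * A := by rw [h2]
        _ = y * y' * x * (B * A) := by group
    have e3 : x * (B * A)⁻¹ = (B * A)⁻¹ * (y * y' * x) := by
      rw [mul_inv_eq_iff_eq_mul, mul_assoc, eq_inv_mul_iff_mul_eq]
      exact e2
    calc x * ⁅A, B⁆ = (y * y')⁻¹ * (y * y' * x * (A * B)) * (B * A)⁻¹ := by
          simp only [commutatorElement_def]; group
      _ = (y * y')⁻¹ * (A * B * x) * (B * A)⁻¹ := by rw [e1]
      _ = (y * y')⁻¹ * (A * B) * (x * (B * A)⁻¹) := by group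
      _ = (y * y')⁻¹ * (A * B) * ((B * A)⁻¹ * (y * y' * x)) := by rw [e3]
      _ = (y * y')⁻¹ * (⁅A, B⁆ * (y * y')) * x := by simp only [commutatorElement_def]; group
      _ = (y * y')⁻¹ * ((y * y') * ⁅A, B⁆) * x := by
          have k1 : ∀ z ∈ D.Y, A * z = z * A := hcy c hc w hw
          have k2 : ∀ z ∈ D.Y, B * z = z * B := hcy c' hc' w' hw'
          have k3 : ⁅A, B⁆ ∈ centralizer (D.Y : Set G) := by
            have a1 : A ∈ centralizer (D.Y : Set G) := mem_centralizer_iff.2 fun z hz => (k1 z hz).symm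
            have a2 : B ∈ centralizer (D.Y : Set G) := mem_centralizer_iff.2 fun z hz => (k2 z hz).symm
            exact mul_mem (mul_mem (mul_mem a1 a2) (inv_mem a1)) (inv_mem a2)
          rw [mem_centralizer_iff.1 k3 (y * y') (mul_mem hy hy')]
      _ = ⁅A, B⁆ * x := by group
  -- the group generated by `Q` and the conjugates of `V` is a 2-group
  let T : Set G := {g | (∃ c ∈ K, ∃ w ∈ V, g = c * w * c⁻¹) ∨ g ∈ Q i0 j0}
  let N : Subgroup G := closure T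
  have hNK : N ≤ K := by
    rw [closure_le]
    rintro _ (⟨c, hc, w, hw, rfl⟩ | hx)
    · exact K.mul_mem (K.mul_mem hc (D.V_le_K hw)) (K.inv_mem hc)
    · exact D.Q_le_K hx
  have hnor : ∀ x ∈ N, ∀ q ∈ Q i0 j0, x * q * x⁻¹ ∈ Q i0 j0 := fun x hx q hq => D.K_norm (hNK hx) hq
  have hnor' : ∀ x ∈ N, ∀ q ∈ Q i0 j0, x⁻¹ * q * x ∈ Q i0 j0 := fun x hx q hq => by
    have := D.K_norm (K.inv_mem (hNK hx)) hq
    rwa [inv_inv] at this
  have lA : ∀ x ∈ N, ∀ t ∈ T, ⁅x, t⁆ ∈ Q i0 j0 := by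
    intro x hx t ht
    have htN : t ∈ N := subset_closure ht
    induction hx using closure_induction with
    | mem x hx =>
      rcases hx with ⟨c, hc, w, hw, rfl⟩ | hx
      · rcases ht with ⟨c', hc', w', hw', rfl⟩ | ht
        · exact hcc c hc w hw c' hc' w' hw'
        · have hx' : c * w * c⁻¹ ∈ N := subset_closure (Or.inl ⟨c, hc, w, hw, rfl⟩)
          exact mul_mem (hnor _ hx' t ht) (inv_mem ht)
      · rw [commutatorElement_def, show x * t * x⁻¹ * t⁻¹ = x * (t * x⁻¹ * t⁻¹) by group]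
        exact mul_mem hx (hnor t htN _ (inv_mem hx))
    | one => rw [commutatorElement_one_left]; exact one_mem _
    | mul x y hx hy h1 h2 =>
      rw [show ⁅x * y, t⁆ = (x * ⁅y, t⁆ * x⁻¹) * ⁅x, t⁆ by simp only [commutatorElement_def]; group]
      exact mul_mem (hnor x hx _ h2) h1
    | inv x hx h1 =>
      rw [show ⁅x⁻¹, t⁆ = x⁻¹ * ⁅x, t⁆⁻¹ * x by simp only [commutatorElement_def]; group]
      exact hnor' x hx _ (inv_mem h1)
  have lB : ∀ x ∈ N, ∀ y ∈ N, ⁅x, y⁆ ∈ Q i0 j0 := by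
    intro x hx y hy
    induction hy using closure_induction with
    | mem y hy => exact lA x hx y hy
    | one => rw [commutatorElement_one_right]; exact one_mem _
    | mul y z hy hz h1 h2 =>
      rw [show ⁅x, y * z⁆ = ⁅x, y⁆ * (y * ⁅x, z⁆ * y⁻¹) by simp only [commutatorElement_def]; group]
      exact mul_mem h1 (hnor y hy _ h2)
    | inv y hy h1 =>
      rw [show ⁅x, y⁻¹⁆ = y⁻¹ * ⁅x, y⁆⁻¹ * y by simp only [commutatorElement_def]; group]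
      exact hnor' y hy _ (inv_mem h1)
  have lC : ∀ x ∈ N, x * x ∈ Q i0 j0 := by
    intro x hx
    induction hx using closure_induction with
    | mem x hx =>
      rcases hx with ⟨c, hc, w, hw, rfl⟩ | hx
      · rw [show c * w * c⁻¹ * (c * w * c⁻¹) = c * (w * w) * c⁻¹ by group, D.grid.V_sq w hw]
        simp
      · exact mul_mem hx hx
    | one => rw [mul_one]; exact one_mem _
    | mul x y hx hy h1 h2 =>
      rw [show x * y * (x * y) = x * x * ⁅x⁻¹, y⁆ * (y * y) by simp only [commutatorElement_def]; group]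
      exact mul_mem (mul_mem h1 (lB _ (inv_mem hx) y hy)) h2
    | inv x hx h1 =>
      rw [← mul_inv_rev]
      exact inv_mem h1
  have hN2 : IsPGroup 2 N := by
    intro x
    obtain ⟨k, hk⟩ := D.Q_two ⟨(x : G) * x, lC x x.2⟩
    refine ⟨k + 1, ?_⟩
    have h3 : ((x : G) * x) ^ 2 ^ k = 1 := congrArg Subtype.val hk
    refine Subtype.ext ?_
    rw [Subgroup.coe_pow, pow_succ', pow_mul, pow_two]
    exact h3
  have hNn : ∀ c ∈ K, ∀ x ∈ N, c * x * c⁻¹ ∈ N := by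
    intro c hc
    have h1 : N ≤ N.comap (MulAut.conj c).toMonoidHom := by
      rw [closure_le]
      rintro _ (⟨k, hk, w, hw, rfl⟩ | hx)
      · refine subset_closure (Or.inl ⟨c * k, K.mul_mem hc hk, w, hw, ?_⟩)
        simp only [MulEquiv.coe_toMonoidHom, MulAut.conj_apply]
        group
      · exact subset_closure (Or.inr (D.K_norm hc hx))
    exact fun x hx => h1 hx
  have h1 := D.max N hN2 hNK hNn
  have h2 : v 0 0 0 1 ∈ Q i0 j0 := h1 (subset_closure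
    (Or.inl ⟨1, K.one_mem, v 0 0 0 1, D.v_mem _ _ _ _, by group⟩))
  exact one_ne_zero ((D.V_Q 0 0 0 1).1 h2)

/-- an element `t ≠ 0` with `t⁴ ≠ 1` -/
theorem exists_t : ∃ t : F, t ≠ 0 ∧ (t ^ 2)⁻¹ - t ^ 2 ≠ 0 := by
  obtain ⟨t, ht, ht1⟩ := D.four
  refine ⟨t, ht, ?_⟩
  intro h
  have h2 : (t ^ 2) ≠ 0 := pow_ne_zero 2 ht
  have h3 : t ^ 2 * t ^ 2 = 1 := by
    have h4 : (t ^ 2)⁻¹ = t ^ 2 := sub_eq_zero.1 h
    have h5 := mul_inv_cancel₀ h2
    rwa [h4] at h5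
  have h4 : (t - 1) ^ 4 = 0 := by
    linear_combination h3 - (2 * t ^ 3 - 3 * t ^ 2 + 2 * t - 1) * D.two
  exact ht1 (sub_eq_zero.1 (pow_eq_zero_iff (by norm_num) |>.1 h4))

/-- conjugation by the swap -/
theorem swap_Y {s : G} (hR : cj s (R i0 j0) = R i0 j0) (hV : cj s V = V) {y : G} (hy : y ∈ D.Y) :
    s * y * s⁻¹ ∈ D.Y := by
  have hQ := D.cj_Q hR
  have hK : ∀ k ∈ centralizer (R i0 j0 : Set G), s * k * s⁻¹ ∈ centralizer (R i0 j0 : Set G) := by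
    intro k hk
    rw [D.mem_K] at hk ⊢
    intro r hr
    have h1 := hk _ (conj_of_cj' hR hr)
    calc s * k * s⁻¹ * r = s * (k * (s⁻¹ * r * s)) * s⁻¹ := by group
      _ = s * ((s⁻¹ * r * s) * k) * s⁻¹ := by rw [h1]
      _ = r * (s * k * s⁻¹) := by group
  have h1 : D.Y ≤ D.Y.comap (MulAut.conj s).toMonoidHom := by
    change Subgroup.closure _ ≤ _
    rw [closure_le]
    rintro _ ⟨k, hk, e, he, rfl⟩
    refine subset_closure ⟨s * k * s⁻¹, hK k hk, s * e * s⁻¹, ⟨conj_of_cj hV he.1, conj_of_cj hQ he.2⟩, ?_⟩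
    simp only [MulEquiv.coe_toMonoidHom, MulAut.conj_apply]
    group
  exact h1 hy

/-- if `p = 0` on `Y`, then `p' = 0` on `Y` and conversely. -/
theorem p_iff_p' : (∀ y ∈ D.Y, p y = 0) ↔ ∀ y ∈ D.Y, p' y = 0 := by
  obtain ⟨s, hs, hV, hR, hA, hB⟩ := D.swap
  have hinv : ∀ {H H' : Subgroup G}, cj s H = H' → cj s⁻¹ H' = H := by
    rintro H _ rfl
    rw [← cj_mul, inv_mul_cancel]
    ext x
    rw [mem_cj]
    simp
  constructor
  · intro h y hy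
    -- `Y` centralises `v 0 0 c 0`, hence its conjugates
    have h1 := D.swap_Y (hinv hR) (hinv hV) hy
    rw [inv_inv] at h1
    have hyQ := D.Y_le hy
    rw [D.p'_eq hyQ]
    have h2 : s⁻¹ * v 0 1 0 0 * s ∈ colG Q j0 ⊓ V := by
      have e1 : v 0 1 0 0 ∈ rowG Q i0 := (D.row_V _ _ _ _).2 ⟨rfl, rfl⟩
      refine ⟨?_, conj_of_cj' hV (D.v_mem _ _ _ _)⟩
      rw [← hB, mem_cj] at e1
      exact e1
    obtain ⟨a, b, c, d, he⟩ := D.v_surj _ h2.2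
    have h3 : b = 0 ∧ d = 0 := (D.col_V a b c d).1 (by rw [he]; exact h2.1)
    rw [h3.1, h3.2] at he
    have h4 : ⁅s⁻¹ * y * s, v a 0 c 0⁆ = 1 := by
      have h5 := D.Y_le h1
      have h6 := D.pre.comm_symm (D.v_Q a 0 c) h5
      rw [← h6, D.comm_v h5, h _ h1]
      simp [D.v_zero]
    rw [he] at h4
    have h7 : ⁅y, v 0 1 0 0⁆ = 1 := by
      have : ⁅y, v 0 1 0 0⁆ = s * ⁅s⁻¹ * y * s, s⁻¹ * v 0 1 0 0 * s⁆ * s⁻¹ := by
        simp only [commutatorElement_def]; group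
      rw [this, h4]; group
    rw [h7]
    exact D.pre.ρ_one
  · intro h y hy
    have h1 := D.swap_Y hR hV hy
    have hyQ := D.Y_le hy
    rw [D.p_eq hyQ]
    have h2 : s * v 0 0 1 0 * s⁻¹ ∈ rowG Q i0 ⊓ V := by
      have e1 : v 0 0 1 0 ∈ colG Q j0 := (D.col_V _ _ _ _).2 ⟨rfl, rfl⟩
      refine ⟨?_, conj_of_cj hV (D.v_mem _ _ _ _)⟩
      have := conj_mem_cj (c := s) e1
      rwa [hB] at this
    obtain ⟨a, b, c, d, he⟩ := D.v_surj _ h2.2
    have h3 : c = 0 ∧ d = 0 := (D.row_V a b c d).1 (by rw [he]; exact h2.1)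
    rw [h3.1, h3.2] at he
    have h4 : ⁅s * y * s⁻¹, v a b 0 0⁆ = 1 := by
      have h5 := D.Y_le h1
      have h6 := D.pre.comm_symm (D.v_Q a b 0) h5
      rw [← h6, D.comm_v h5, h _ h1]
      simp [D.v_zero]
    rw [he] at h4
    have h7 : ⁅y, v 0 0 1 0⁆ = 1 := by
      have : ⁅y, v 0 0 1 0⁆ = s⁻¹ * ⁅s * y * s⁻¹, s * v 0 0 1 0 * s⁻¹⁆ * s := by
        simp only [commutatorElement_def]; group
      rw [this, h4]; group
    rw [h7]
    exact D.pre.ρ_one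

/-- the torus on `Y` -/
theorem tor_Y {t : F} {h : G} (hV : h ∈ normalizer (V : Set G))
    (hv : ∀ a b c d, h * v a b c d * h⁻¹ = v a (t ^ 2 * b) ((t ^ 2)⁻¹ * c) d) {y : G} (hy : y ∈ D.Y) :
    h * y * h⁻¹ ∈ D.Y := by
  have hK : h ∈ centralizer (R i0 j0 : Set G) := by
    rw [D.mem_K]
    intro r hr
    obtain ⟨a, rfl⟩ := (D.R00 r).1 hr
    have h1 := hv a 0 0 0
    rw [mul_zero, mul_zero] at h1
    rw [mul_inv_eq_iff_eq_mul] at h1
    exact h1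
  exact D.pre.conj_mem_Y hK hy

/-- `(p, p')` maps `Y` onto `F²`. -/
theorem Y_surj [Finite G] (α β : F) : ∃ y ∈ D.Y, p y = α ∧ p' y = β := by
  obtain ⟨t, ht, ht4⟩ := D.exists_t
  obtain ⟨h, hV, hv⟩ := D.tor t ht
  obtain ⟨y₀, hy₀, hne⟩ := D.exists_noncomm
  have hp : ∃ y ∈ D.Y, p y ≠ 0 := by
    by_contra hcon
    push Not at hcon
    exact hne ⟨hcon _ hy₀, D.p_iff_p'.1 hcon _ hy₀⟩
  have hp' : ∃ y ∈ D.Y, p' y ≠ 0 := by
    by_contra hcon
    push Not at hcon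
    exact hne ⟨D.p_iff_p'.2 hcon _ hy₀, hcon _ hy₀⟩
  -- `(1, 0)`
  have h10 : ∃ y ∈ D.Y, p y ≠ 0 ∧ p' y = 0 := by
    obtain ⟨y, hy, h1⟩ := hp
    obtain ⟨hQ, h2, h3⟩ := D.tor_p ht hV hv (D.Y_le hy)
    obtain ⟨z, hz, h4, h5⟩ := D.Y_smul hy ((t ^ 2)⁻¹)
    have h6 := D.tor_Y hV hv hy
    refine ⟨(h * y * h⁻¹) * z, mul_mem h6 hz, ?_, ?_⟩
    · rw [D.p_mul hQ (D.Y_le hz), h2, h4]
      have h7 : t ^ 2 * p y + (t ^ 2)⁻¹ * p y = ((t ^ 2)⁻¹ - t ^ 2) * p y := by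
        linear_combination (t ^ 2 * p y) * D.two
      rw [h7]
      exact mul_ne_zero ht4 h1
    · rw [D.p'_mul hQ (D.Y_le hz), h3, h5, D.dbl]
  have h01 : ∃ y ∈ D.Y, p y = 0 ∧ p' y ≠ 0 := by
    obtain ⟨y, hy, h1⟩ := hp'
    obtain ⟨hQ, h2, h3⟩ := D.tor_p ht hV hv (D.Y_le hy)
    obtain ⟨z, hz, h4, h5⟩ := D.Y_smul hy (t ^ 2)
    have h6 := D.tor_Y hV hv hy
    refine ⟨(h * y * h⁻¹) * z, mul_mem h6 hz, ?_, ?_⟩
    · rw [D.p_mul hQ (D.Y_le hz), h2, h4, D.dbl]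
    · rw [D.p'_mul hQ (D.Y_le hz), h3, h5]
      have h7 : (t ^ 2)⁻¹ * p' y + t ^ 2 * p' y = ((t ^ 2)⁻¹ - t ^ 2) * p' y := by
        linear_combination (t ^ 2 * p' y) * D.two
      rw [h7]
      exact mul_ne_zero ht4 h1
  obtain ⟨y, hy, h1, h2⟩ := h10
  obtain ⟨y', hy', h3, h4⟩ := h01
  obtain ⟨z, hz, h5, h6⟩ := D.Y_smul hy (α * (p y)⁻¹)
  obtain ⟨z', hz', h7, h8⟩ := D.Y_smul hy' (β * (p' y')⁻¹)
  refine ⟨z * z', mul_mem hz hz', ?_, ?_⟩
  · rw [D.p_mul (D.Y_le hz) (D.Y_le hz'), h5, h7, h3, mul_zero, add_zero, inv_mul_cancel_right₀ h1]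
  · rw [D.p'_mul (D.Y_le hz) (D.Y_le hz'), h6, h8, h2, mul_zero, zero_add, inv_mul_cancel_right₀ h4]

/-- `C_Q(Y) = R` -/
theorem cent_Y [Finite G] {z : G} (hz : z ∈ Q i0 j0) (h : ∀ y ∈ D.Y, z * y = y * z) : z ∈ R i0 j0 := by
  have hzV : z ∈ centralizer (V : Set G) := D.mem_CV_of_E hz fun e he => h e (D.E_le_Y he)
  -- commutators with `C_{Q k l}(V)`, opposite points
  have h1 : ∀ k l, k ≠ i0 → l ≠ j0 → ∀ y ∈ Q k l, y ∈ centralizer (V : Set G) → z * y = y * z := by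
    intro k l hk hl y hy hyV
    have hzR : cj z (R k l) = R k l := cj_eq_of_comm fun r hr =>
      (mem_centralizer_iff.1 hzV r (D.grid.R_le _ _ hr)).symm
    have hzQ : cj z (Q k l) = Q k l := D.grid.conj z _ _ _ _ hzR
    have e1 : ⁅z, y⁆ ∈ Q k l := mul_mem (conj_of_cj hzQ hy) (inv_mem hy)
    have hyK := D.CV_le_K hyV
    have e2 : ⁅z, y⁆ ∈ Q i0 j0 := by
      rw [commutatorElement_def, show z * y * z⁻¹ * y⁻¹ = z * (y * z⁻¹ * y⁻¹) by group]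
      exact mul_mem hz (D.K_norm hyK (inv_mem hz))
    have e3 : ⁅z, y⁆ ∈ V := D.grid.meet i0 j0 k l hk hl ⟨e2, e1⟩
    -- `[z, y]` centralises `Y`
    have e4 : ∀ w ∈ D.Y, ⁅z, y⁆ * w = w * ⁅z, y⁆ := by
      intro w hw
      have a1 : z ∈ centralizer (D.Y : Set G) := mem_centralizer_iff.2 fun u hu => (h u hu).symm
      have a2 : y * z⁻¹ * y⁻¹ ∈ centralizer (D.Y : Set G) := by
        rw [mem_centralizer_iff]
        intro u hu
        have a3 := D.pre.conj_mem_Y (D.pre.K.inv_mem hyK) hu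
        rw [inv_inv] at a3
        have a4 := mem_centralizer_iff.1 (inv_mem a1) _ a3
        calc u * (y * z⁻¹ * y⁻¹) = y * ((y⁻¹ * u * y) * z⁻¹) * y⁻¹ := by group
          _ = y * (z⁻¹ * (y⁻¹ * u * y)) * y⁻¹ := by rw [a4]
          _ = y * z⁻¹ * y⁻¹ * u := by group
      have a5 : ⁅z, y⁆ ∈ centralizer (D.Y : Set G) := by
        rw [commutatorElement_def, show z * y * z⁻¹ * y⁻¹ = z * (y * z⁻¹ * y⁻¹) by group]
        exact mul_mem a1 a2
      exact (mem_centralizer_iff.1 a5 w hw).symm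
    obtain ⟨a, b, c, he⟩ := D.mem_E.1 ⟨e3, e2⟩
    have hbc : ∀ w ∈ D.Y, p' w * b + p w * c = 0 := by
      intro w hw
      rw [← D.fn_v (D.Y_le hw) a b c, ← he, commutatorElement_eq_one_iff_mul_comm.2 (e4 w hw).symm]
      exact D.pre.ρ_one
    have hb : b = 0 := by
      obtain ⟨w, hw, h3, h4⟩ := D.Y_surj 0 1
      have := hbc w hw
      rw [h3, h4] at this
      linear_combination this
    have hc : c = 0 := by
      obtain ⟨w, hw, h3, h4⟩ := D.Y_surj 1 0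
      have := hbc w hw
      rw [h3, h4] at this
      linear_combination this
    rw [hb, hc] at he
    have e5 : ⁅z, y⁆ ∈ R i0 j0 ⊓ Q k l := ⟨(D.R00 _).2 ⟨a, he⟩, e1⟩
    rw [D.grid.RQj i0 j0 k l hk hl, mem_bot] at e5
    exact comm_of_eq_one e5
  have h2 := D.rc.opp i0 j0 z hz hzV h1
  refine D.grid.cen i0 j0 z hz fun x hx => ?_
  obtain ⟨y, hy, h3, h4⟩ := D.Y_surj (p x) (p' x)
  have hyQ := D.Y_le hy
  have h5 : y⁻¹ * x ∈ centralizer (V : Set G) := by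
    rw [D.mem_CV (mul_mem (inv_mem hyQ) hx), D.p_mul (inv_mem hyQ) hx, D.p'_mul (inv_mem hyQ) hx,
      D.p_inv hyQ, D.p'_inv hyQ, h3, h4, D.dbl, D.dbl]
    exact ⟨rfl, rfl⟩
  have h6 := h2 _ (mul_mem (inv_mem hyQ) hx) h5
  calc z * x = z * y * (y⁻¹ * x) := by group
    _ = y * (z * (y⁻¹ * x)) := by rw [h y hy, mul_assoc]
    _ = y * (y⁻¹ * x * z) := by rw [h6]
    _ = x * z := by group

/-- **Generation**: `Q = ⟨E^K⟩`. -/
theorem gen [Finite G] [Finite F] : Q i0 j0 ≤ D.Y :=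
  D.pre.gen_of (fun r hr => ⟨D.R_le_V hr, D.R_le_Q hr⟩) fun z hz h => D.cent_Y hz h

/-- `F` is finite -/
theorem finite_F [Finite G] : Finite F :=
  Finite.of_injective (fun a => v a 0 0 0) fun a b h => (D.v_ext h).1

/-- **`FStr.Inp`** -/
noncomputable def inp [Finite G] : FStr.Inp F G where
  toPre := D.pre
  gen := by
    have := D.finite_F
    exact D.gen

end Gin

end Cfsg.Agent.Omega.NO1.Gamma

end

section


/-!
# THEOREM SL (type (gamma), `V = O₄⁺(q)`, `q ≥ 4`), section 0: the input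

`F` a field of characteristic 2 with at least 4 elements, `M` (`= Q/R`) an `F`-space with a nondegenerate
quadratic form `s` (`=` squaring) and polar form `f` (`=` commutator), `H` (`= C_G(R)/Q`) a group of
`F`-linear isometries, `e = ⟨e₁, e₂⟩` (`= E/R`; `eᵢ` spans the `i`-th singular point), `P = e^⊥`,
`(y₁, y₂) : P → Φ₁ × Φ₂` onto with kernel `e` (`P/e = C_Q(V)/E = N' + N''`), `b` a perfect pairing, `J` the
unipotent radical of the stabiliser of `e`: it induces `Hom(N', ⟨e₁⟩) + Hom(N'', ⟨e₂⟩)` on `P/e → e`, with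
kernel the root group `m ↦ m + a (f m e₁ e₂ + f m e₂ e₁)` (`= V Q/Q`).

No torus, no finiteness is needed.

Output (`SL/Main.lean`): `M = M₁ ⊕ M₂`, `eᵢ ∈ Mᵢ`, both totally singular, `H` permutes `{M₁, M₂}`; the conjugates of
`e` under `H` are exactly the `⟨m, φ⟩` with `m ∈ M₁`, `φ ∈ M₂` nonzero and `f m φ = 0`; all their root groups
(the transvections of `SL(M₁)`) are in `H`; `J` is the full unipotent radical.
-/

set_option autoImplicit false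

namespace Cfsg.Agent.Omega.NOne.SL

/-- **The input of THEOREM SL.** -/
structure Spl (F M Φ₁ Φ₂ : Type*) [Field F] [AddCommGroup M] [Module F M] [AddCommGroup Φ₁]
    [Module F Φ₁] [AddCommGroup Φ₂] [Module F Φ₂] where
  /-- characteristic 2 -/
  two : (2 : F) = 0
  /-- `|F| ≥ 4` (only `> 2` is used) -/
  four : ∃ a : F, a ≠ 0 ∧ a ≠ 1
  /-- the polar form (commutator) -/
  f : M →ₗ[F] M →ₗ[F] F
  /-- the quadratic form (squaring) -/
  s : M → F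
  s_add : ∀ x y, s (x + y) = s x + s y + f x y
  s_smul : ∀ (c : F) x, s (c • x) = c ^ 2 * s x
  nondeg : ∀ m, (∀ m', f m m' = 0) → m = 0
  /-- the group -/
  H : Subgroup (M ≃ₗ[F] M)
  isom : ∀ g ∈ H, ∀ m, s (g m) = s m
  /-- the pairing of `N'` and `N''` -/
  b : Φ₁ →ₗ[F] Φ₂ →ₗ[F] F
  b_left : ∀ x, (∀ y, b x y = 0) → x = 0
  b_right : ∀ y, (∀ x, b x y = 0) → y = 0
  /-- the singular line `e` with its two distinguished points -/
  e₁ : M
  e₂ : M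
  e_ind : ∀ a c : F, a • e₁ + c • e₂ = 0 → a = 0 ∧ c = 0
  s₁ : s e₁ = 0
  s₂ : s e₂ = 0
  e_perp : f e₁ e₂ = 0
  /-- `P/e = Φ₁ ⊕ Φ₂`, `P = e^⊥` (the maps are used on `P` only) -/
  y₁ : M →ₗ[F] Φ₁
  y₂ : M →ₗ[F] Φ₂
  y_surj : ∀ x₁ x₂, ∃ m, f e₁ m = 0 ∧ f e₂ m = 0 ∧ y₁ m = x₁ ∧ y₂ m = x₂
  y_e₁ : y₁ e₁ = 0 ∧ y₂ e₁ = 0
  y_e₂ : y₁ e₂ = 0 ∧ y₂ e₂ = 0
  y_ker : ∀ m, f e₁ m = 0 → f e₂ m = 0 → y₁ m = 0 → y₂ m = 0 → ∃ a c : F, m = a • e₁ + c • e₂
  sy : ∀ m, f e₁ m = 0 → f e₂ m = 0 → s m = b (y₁ m) (y₂ m)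
  /-- the unipotent radical of the stabiliser of `e` -/
  J : Subgroup (M ≃ₗ[F] M)
  J_le : J ≤ H
  χ₁ : (M ≃ₗ[F] M) → Φ₁
  χ₂ : (M ≃ₗ[F] M) → Φ₂
  JP : ∀ j ∈ J, ∀ m, f e₁ m = 0 → f e₂ m = 0 →
    j m = m + b (y₁ m) (χ₂ j) • e₁ + b (χ₁ j) (y₂ m) • e₂
  JM : ∀ j ∈ J, ∀ m, f e₁ (j m - m) = 0 ∧ f e₂ (j m - m) = 0
  Jall : ∀ x₁ x₂, ∃ j ∈ J, χ₁ j = x₁ ∧ χ₂ j = x₂
  /-- the root group of `e` -/
  Jn : ∀ a : F, ∃ j ∈ J, ∀ m, j m = m + a • (f m e₁ • e₂ + f m e₂ • e₁)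
  Jmax : ∀ g ∈ H, g e₁ = e₁ → g e₂ = e₂ →
    (∀ m, f e₁ m = 0 → f e₂ m = 0 → ∃ a c : F, g m - m = a • e₁ + c • e₂) →
    (∀ m, f e₁ (g m - m) = 0 ∧ f e₂ (g m - m) = 0) → g ∈ J
  /-- the stabiliser of `e` permutes the two points of `e` -/
  Se : ∀ g ∈ H, (∃ a c : F, g e₁ = a • e₁ + c • e₂) → (∃ a c : F, g e₂ = a • e₁ + c • e₂) →
    ((∃ a : F, g e₁ = a • e₁) ∧ ∃ a : F, g e₂ = a • e₂) ∨
      ((∃ a : F, g e₁ = a • e₂) ∧ ∃ a : F, g e₂ = a • e₁)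
  /-- the conjugates of `e` span `M` -/
  Om : ∀ N : Submodule F M, (∀ g ∈ H, g e₁ ∈ N ∧ g e₂ ∈ N) → N = ⊤

end Cfsg.Agent.Omega.NOne.SL

end

section


/-!
# THEOREM SL, sections 1, 2: positions and opposite conjugates
-/

set_option autoImplicit false

namespace Cfsg.Agent.Omega.NOne.SL

namespace Spl

variable {F M Φ₁ Φ₂ : Type*} [Field F] [AddCommGroup M] [Module F M] [AddCommGroup Φ₁]
    [Module F Φ₁] [AddCommGroup Φ₂] [Module F Φ₂] (D : Spl F M Φ₁ Φ₂)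

include D

theorem dbl (a : F) : a + a = 0 := by
  rw [← two_mul, D.two, zero_mul]

theorem dblM (m : M) : m + m = 0 := by
  rw [← two_smul F m, D.two, zero_smul]

theorem neg_eq (a : F) : -a = a := by
  rw [neg_eq_iff_add_eq_zero, D.dbl]

theorem negM (m : M) : -m = m := by
  rw [neg_eq_iff_add_eq_zero, D.dblM]

theorem subM (m n : M) : m - n = m + n := by
  rw [sub_eq_add_neg, D.negM]

theorem s_zero : D.s 0 = 0 := by
  have := D.s_smul 0 0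
  simpa using this

theorem f_self (m : M) : D.f m m = 0 := by
  have h := D.s_add m m
  rw [D.dblM, D.s_zero, D.dbl, zero_add] at h
  exact h.symm

theorem f_symm (x y : M) : D.f x y = D.f y x := by
  have h := D.s_add x y
  have h' := D.s_add y x
  rw [add_comm y x, h] at h'
  linear_combination h'

theorem isomf {g : M ≃ₗ[F] M} (hg : g ∈ D.H) (x y : M) : D.f (g x) (g y) = D.f x y := by
  have h := D.s_add (g x) (g y)
  rw [← map_add, D.isom g hg, D.isom g hg, D.isom g hg, D.s_add] at h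
  linear_combination -h

theorem e_perp' : D.f D.e₂ D.e₁ = 0 := by rw [D.f_symm, D.e_perp]

/-- swapping the two halves -/
@[simps] def swap : Spl F M Φ₂ Φ₁ where
  two := D.two
  four := D.four
  f := D.f
  s := D.s
  s_add := D.s_add
  s_smul := D.s_smul
  nondeg := D.nondeg
  H := D.H
  isom := D.isom
  b := D.b.flip
  b_left := fun x h => D.b_right x fun y => h y
  b_right := fun y h => D.b_left y fun x => h x
  e₁ := D.e₂
  e₂ := D.e₁
  e_ind := fun a c h => (D.e_ind c a (by rw [add_comm]; exact h)).symm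
  s₁ := D.s₂
  s₂ := D.s₁
  e_perp := D.e_perp'
  y₁ := D.y₂
  y₂ := D.y₁
  y_surj := fun x₁ x₂ => by
    obtain ⟨m, h1, h2, h3, h4⟩ := D.y_surj x₂ x₁
    exact ⟨m, h2, h1, h4, h3⟩
  y_e₁ := D.y_e₂.symm
  y_e₂ := D.y_e₁.symm
  y_ker := fun m h1 h2 h3 h4 => by
    obtain ⟨a, c, h⟩ := D.y_ker m h2 h1 h4 h3
    exact ⟨c, a, by rw [h, add_comm]⟩
  sy := fun m h1 h2 => D.sy m h2 h1
  J := D.J
  J_le := D.J_le
  χ₁ := D.χ₂
  χ₂ := D.χ₁
  JP := fun j hj m h1 h2 => by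
    rw [D.JP j hj m h2 h1, LinearMap.flip_apply, LinearMap.flip_apply]
    abel
  JM := fun j hj m => (D.JM j hj m).symm
  Jall := fun x₁ x₂ => by
    obtain ⟨j, hj, h1, h2⟩ := D.Jall x₂ x₁
    exact ⟨j, hj, h2, h1⟩
  Jn := fun a => by
    obtain ⟨j, hj, h⟩ := D.Jn a
    refine ⟨j, hj, fun m => ?_⟩
    rw [h m, add_comm (D.f m D.e₁ • D.e₂)]
  Jmax := fun g hg h1 h2 h3 h4 => D.Jmax g hg h2 h1 (fun m h5 h6 => by
    obtain ⟨a, c, h⟩ := h3 m h6 h5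
    exact ⟨c, a, by rw [h, add_comm]⟩) fun m => (h4 m).symm
  Se := fun g hg h1 h2 => by
    have h3 : ∃ a c : F, g D.e₁ = a • D.e₁ + c • D.e₂ := by
      obtain ⟨a, c, h⟩ := h2
      exact ⟨c, a, by rw [h, add_comm]⟩
    have h4 : ∃ a c : F, g D.e₂ = a • D.e₁ + c • D.e₂ := by
      obtain ⟨a, c, h⟩ := h1
      exact ⟨c, a, by rw [h, add_comm]⟩
    rcases D.Se g hg h3 h4 with ⟨h5, h6⟩ | ⟨h5, h6⟩
    · exact Or.inl ⟨h6, h5⟩
    · exact Or.inr ⟨h6, h5⟩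
  Om := fun N h => D.Om N fun g hg => (h g hg).symm

/-- the conjugate `g e` -/
def E (g : M ≃ₗ[F] M) : Submodule F M := Submodule.span F {g D.e₁, g D.e₂}

theorem mem_E {g : M ≃ₗ[F] M} {v : M} : v ∈ D.E g ↔ ∃ a c : F, v = a • g D.e₁ + c • g D.e₂ := by
  rw [E, Submodule.mem_span_pair]
  constructor
  · rintro ⟨a, c, h⟩; exact ⟨a, c, h.symm⟩
  · rintro ⟨a, c, h⟩; exact ⟨a, c, h.symm⟩

theorem mem_E_one {v : M} : v ∈ D.E 1 ↔ ∃ a c : F, v = a • D.e₁ + c • D.e₂ := D.mem_E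

theorem E_swap (g : M ≃ₗ[F] M) : D.swap.E g = D.E g := by
  rw [E, E, Set.pair_comm]
  rfl

theorem map_mem_E {g v} {w : M ≃ₗ[F] M} (h : v ∈ D.E g) : w v ∈ D.E (w * g) := by
  obtain ⟨a, c, rfl⟩ := D.mem_E.1 h
  refine D.mem_E.2 ⟨a, c, ?_⟩
  simp

theorem E_perp {g : M ≃ₗ[F] M} (hg : g ∈ D.H) {x y : M} (hx : x ∈ D.E g) (hy : y ∈ D.E g) :
    D.f x y = 0 := by
  obtain ⟨a, c, rfl⟩ := D.mem_E.1 hx
  obtain ⟨a', c', rfl⟩ := D.mem_E.1 hy
  simp only [map_add, map_smul, LinearMap.add_apply, LinearMap.smul_apply, smul_eq_mul, D.isomf hg,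
    D.f_self, D.e_perp, D.e_perp']
  ring

theorem E_sing {g : M ≃ₗ[F] M} (hg : g ∈ D.H) {x : M} (hx : x ∈ D.E g) : D.s x = 0 := by
  obtain ⟨a, c, rfl⟩ := D.mem_E.1 hx
  rw [D.s_add, D.s_smul, D.s_smul, D.isom g hg, D.isom g hg, D.s₁, D.s₂]
  simp only [map_smul, LinearMap.smul_apply, smul_eq_mul, D.isomf hg, D.e_perp]
  ring

/-- independence of `g e₁`, `g e₂` -/
theorem ind {g : M ≃ₗ[F] M} {a c : F} (h : a • g D.e₁ + c • g D.e₂ = 0) : a = 0 ∧ c = 0 := by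
  apply D.e_ind
  apply g.injective
  simpa using h

theorem e₁_ne : D.e₁ ≠ 0 := by
  intro h
  have := (D.e_ind 1 0 (by simp [h])).1
  exact one_ne_zero this

theorem e₂_ne : D.e₂ ≠ 0 := by
  intro h
  have := (D.e_ind 0 1 (by simp [h])).2
  exact one_ne_zero this

/-- `P = e^⊥` -/
def InP (m : M) : Prop := D.f D.e₁ m = 0 ∧ D.f D.e₂ m = 0

theorem fy {m m' : M} (hm : D.InP m) (hm' : D.InP m') :
    D.f m m' = D.b (D.y₁ m) (D.y₂ m') + D.b (D.y₁ m') (D.y₂ m) := by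
  have h := D.sy (m + m') (by rw [map_add, hm.1, hm'.1, add_zero]) (by
    rw [map_add, hm.2, hm'.2, add_zero])
  rw [D.s_add, D.sy m hm.1 hm.2, D.sy m' hm'.1 hm'.2] at h
  simp only [map_add, LinearMap.add_apply] at h
  linear_combination h

/-- the root elements of `g e` -/
theorem root {g : M ≃ₗ[F] M} (hg : g ∈ D.H) {p u : M} (hp : p ∈ D.E g) (hu : u ∈ D.E g) (a : F) :
    ∃ h ∈ D.H, ∀ m, h m = m + a • (D.f m p • u + D.f m u • p) := by
  obtain ⟨α, β, rfl⟩ := D.mem_E.1 hp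
  obtain ⟨γ, δ, rfl⟩ := D.mem_E.1 hu
  obtain ⟨j, hj, hjm⟩ := D.Jn (a * (α * δ + β * γ))
  refine ⟨g * j * g⁻¹, D.H.mul_mem (D.H.mul_mem hg (D.J_le hj)) (D.H.inv_mem hg), fun m => ?_⟩
  have h1 : ∀ v, D.f (g⁻¹ m) v = D.f m (g v) := by
    intro v
    rw [← D.isomf hg (g⁻¹ m) v]
    congr 2
    exact g.apply_symm_apply m
  have h2 : g (g⁻¹ m) = m := g.apply_symm_apply m
  rw [LinearEquiv.mul_apply, LinearEquiv.mul_apply, hjm, map_add, h2, map_smul, map_add, map_smul, map_smul, h1,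
    h1]
  simp only [map_add, map_smul, smul_eq_mul]
  set X := D.f m (g D.e₁)
  set Y := D.f m (g D.e₂)
  set x := g D.e₁
  set y := g D.e₂
  linear_combination (norm := module) (-(a * X * α * γ)) • D.two • x - (a * Y * β * δ) • D.two • y

theorem f_add_left (x y z : M) : D.f (x + y) z = D.f x z + D.f y z := by
  rw [map_add, LinearMap.add_apply]

theorem f_smul_left (a : F) (x z : M) : D.f (a • x) z = a * D.f x z := by
  rw [map_smul, LinearMap.smul_apply, smul_eq_mul]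

/-- `P ⊥ e` -/
theorem perp_e {m p : M} (hm : D.InP m) (hp : p ∈ D.E 1) : D.f m p = 0 := by
  obtain ⟨a, c, rfl⟩ := D.mem_E_one.1 hp
  rw [map_add, map_smul, map_smul, D.f_symm m, D.f_symm m, hm.1, hm.2]
  simp

theorem E_one_le {p : M} (hp : p ∈ D.E 1) : D.InP p :=
  ⟨D.E_perp D.H.one_mem (D.mem_E_one.2 ⟨1, 0, by simp⟩) hp,
    D.E_perp D.H.one_mem (D.mem_E_one.2 ⟨0, 1, by simp⟩) hp⟩

/-- **(P1)**: a conjugate of `e` meeting `e` is perpendicular to `e`. -/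
theorem p1 {g : M ≃ₗ[F] M} (hg : g ∈ D.H) {p u : M} (hp0 : p ≠ 0) (hp1 : p ∈ D.E 1)
    (hp : p ∈ D.E g) (hu : u ∈ D.E g) : D.InP u := by
  obtain ⟨α, β, hpe⟩ := D.mem_E_one.1 hp1
  have hP := D.E_one_le hp1
  have hpu : D.f p u = 0 := D.E_perp hg hp hu
  set l := D.f D.e₁ u with hl
  set k := D.f D.e₂ u with hk
  have h0 : α * l + β * k = 0 := by
    rw [hpe, D.f_add_left, D.f_smul_left, D.f_smul_left] at hpu
    exact hpu
  have hH : ∀ a : F, ∃ h ∈ D.H, h D.e₁ = (1 + a * l * α) • D.e₁ + (a * l * β) • D.e₂ ∧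
      h D.e₂ = (a * k * α) • D.e₁ + (1 + a * k * β) • D.e₂ := by
    intro a
    obtain ⟨h, hh, hm⟩ := D.root hg hp hu a
    refine ⟨h, hh, ?_, ?_⟩
    · rw [hm, hP.1, ← hl, hpe]
      module
    · rw [hm, hP.2, ← hk, hpe]
      module
  have key : ∀ a : F, a ≠ 0 → (l = 0 ∧ k = 0) ∨ 1 + a * l * α = 0 := by
    intro a ha
    obtain ⟨h, hh, h1, h2⟩ := hH a
    rcases D.Se h hh ⟨_, _, h1⟩ ⟨_, _, h2⟩ with ⟨⟨c, hc⟩, ⟨d, hd⟩⟩ | ⟨⟨c, hc⟩, -⟩
    · left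
      have h3 := D.e_ind (1 + a * l * α - c) (a * l * β) (by
        rw [hc] at h1
        linear_combination (norm := module) -h1)
      have h4 := D.e_ind (a * k * α) (1 + a * k * β - d) (by
        rw [hd] at h2
        linear_combination (norm := module) -h2)
      have h5 : l * β = 0 := by
        have := h3.2
        rw [mul_assoc] at this
        exact (mul_eq_zero.1 this).resolve_left ha
      have h6 : k * α = 0 := by
        have := h4.1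
        rw [mul_assoc] at this
        exact (mul_eq_zero.1 this).resolve_left ha
      by_cases hα : α = 0
      · have hβ : β ≠ 0 := by
          rintro rfl
          apply hp0
          rw [hpe, hα]
          simp
        rw [hα, zero_mul, zero_add] at h0
        exact ⟨(mul_eq_zero.1 h5).resolve_right hβ, (mul_eq_zero.1 h0).resolve_left hβ⟩
      · have hk0 : k = 0 := (mul_eq_zero.1 h6).resolve_right hα
        rw [hk0, mul_zero, add_zero] at h0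
        exact ⟨(mul_eq_zero.1 h0).resolve_left hα, hk0⟩
    · right
      exact (D.e_ind (1 + a * l * α) (a * l * β - c) (by
        rw [hc] at h1
        linear_combination (norm := module) -h1)).1
  obtain ⟨a, ha, ha1⟩ := D.four
  rcases key 1 one_ne_zero with h1 | h1
  · exact h1
  rcases key a ha with h2 | h2
  · exact h2
  exfalso
  have h3 : (a + 1) * (l * α) = 0 := by linear_combination h1 + h2 - D.two
  rcases mul_eq_zero.1 h3 with h4 | h4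
  · apply ha1
    rw [← sub_eq_zero, sub_eq_add_neg, D.neg_eq, h4]
  · rw [one_mul, h4, add_zero] at h1
    exact one_ne_zero h1

/-- **(P2)**: if `g e ⊥ e` meets `e` in a point `p`, then `p` is one of the two distinguished points. -/
theorem p2 {g : M ≃ₗ[F] M} (hg : g ∈ D.H) {p u : M} (hp0 : p ≠ 0) (hp1 : p ∈ D.E 1)
    (hp : p ∈ D.E g) (hu : u ∈ D.E g) (hu1 : u ∉ D.E 1) :
    (∃ a : F, p = a • D.e₁ ∧ D.y₁ u = 0) ∨ (∃ a : F, p = a • D.e₂ ∧ D.y₂ u = 0) := by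
  obtain ⟨α, β, hpe⟩ := D.mem_E_one.1 hp1
  have hP := D.E_one_le hp1
  have hU : D.InP u := D.p1 hg hp0 hp1 hp hu
  obtain ⟨h, hh, hm⟩ := D.root hg hp hu 1
  have h1 : D.f D.e₁ p = 0 := hP.1
  have h2 : D.f D.e₂ p = 0 := hP.2
  have hj : h ∈ D.J := by
    refine D.Jmax h hh ?_ ?_ ?_ ?_
    · rw [hm, h1, hU.1]; simp
    · rw [hm, h2, hU.2]; simp
    · intro m h3 h4
      refine ⟨D.f m u * α, D.f m u * β, ?_⟩
      rw [hm, D.perp_e ⟨h3, h4⟩ hp1, hpe]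
      module
    · intro m
      have h3 : h m - m = D.f m p • u + D.f m u • p := by rw [hm]; module
      rw [h3]
      simp only [map_add, map_smul, smul_eq_mul, hP.1, hP.2, hU.1, hU.2]
      simp
  have key : ∀ m, D.InP m → α * D.f m u = D.b (D.y₁ m) (D.χ₂ h) ∧
      β * D.f m u = D.b (D.χ₁ h) (D.y₂ m) := by
    intro m hmP
    have h3 := D.JP h hj m hmP.1 hmP.2
    rw [hm, D.perp_e hmP hp1, hpe] at h3
    have h4 := D.e_ind (α * D.f m u - D.b (D.y₁ m) (D.χ₂ h)) (β * D.f m u - D.b (D.χ₁ h) (D.y₂ m)) (by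
      linear_combination (norm := module) h3)
    exact ⟨sub_eq_zero.1 h4.1, sub_eq_zero.1 h4.2⟩
  have k1 : β = 0 ∨ D.y₂ u = 0 := by
    by_cases hβ : β = 0
    · exact Or.inl hβ
    right
    refine D.b_right _ fun x => ?_
    obtain ⟨m, h3, h4, h5, h6⟩ := D.y_surj x 0
    have h7 := (key m ⟨h3, h4⟩).2
    rw [D.fy ⟨h3, h4⟩ hU, h5, h6, map_zero, map_zero, add_zero] at h7
    exact (mul_eq_zero.1 h7).resolve_left hβ
  have k2 : α = 0 ∨ D.y₁ u = 0 := by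
    by_cases hα : α = 0
    · exact Or.inl hα
    right
    refine D.b_left _ fun x => ?_
    obtain ⟨m, h3, h4, h5, h6⟩ := D.y_surj 0 x
    have h7 := (key m ⟨h3, h4⟩).1
    rw [D.fy ⟨h3, h4⟩ hU, h5, h6] at h7
    simp only [map_zero, LinearMap.zero_apply, zero_add] at h7
    exact (mul_eq_zero.1 h7).resolve_left hα
  have k3 : ¬ (D.y₁ u = 0 ∧ D.y₂ u = 0) := fun h3 =>
    hu1 (D.mem_E_one.2 (D.y_ker u hU.1 hU.2 h3.1 h3.2))
  rcases k1 with rfl | k1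
  · have hα : α ≠ 0 := by
      rintro rfl
      apply hp0
      rw [hpe]
      simp
    exact Or.inl ⟨α, by rw [hpe]; simp, k2.resolve_left hα⟩
  · rcases k2 with rfl | k2
    · exact Or.inr ⟨β, by rw [hpe]; simp, k1⟩
    · exact absurd ⟨k2, k1⟩ k3

end Spl

end Cfsg.Agent.Omega.NOne.SL

end

section


/-!
# THEOREM SL, section 3: opposite conjugates, the decomposition `M = M₁ ⊕ M₂`
-/

set_option autoImplicit false

namespace Cfsg.Agent.Omega.NOne.SL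

namespace Spl

variable {F M Φ₁ Φ₂ : Type*} [Field F] [AddCommGroup M] [Module F M] [AddCommGroup Φ₁]
    [Module F Φ₁] [AddCommGroup Φ₂] [Module F Φ₂] (D : Spl F M Φ₁ Φ₂)

/-- `g e` is opposite to `e`. -/
def Opp (g : M ≃ₗ[F] M) : Prop :=
  ∃ c₁ ∈ D.E g, ∃ c₂ ∈ D.E g, D.f c₁ D.e₁ = 0 ∧ D.f c₁ D.e₂ = 1 ∧ D.f c₂ D.e₁ = 1 ∧ D.f c₂ D.e₂ = 0

theorem Opp.of_swap {g : M ≃ₗ[F] M} (h : D.swap.Opp g) : D.Opp g := by
  obtain ⟨c₁, h1, c₂, h2, h3, h4, h5, h6⟩ := h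
  rw [E_swap] at h1 h2
  exact ⟨c₂, h2, c₁, h1, h6, h5, h4, h3⟩

theorem opp_of_det {g : M ≃ₗ[F] M} {x y u v : M} (hx : x ∈ D.E g) (hy : y ∈ D.E g)
    (hu : u ∈ D.E 1) (hv : v ∈ D.E 1) (h : D.f x u * D.f y v + D.f x v * D.f y u ≠ 0) : D.Opp g := by
  obtain ⟨α, β, rfl⟩ := D.mem_E_one.1 hu
  obtain ⟨γ, δ, rfl⟩ := D.mem_E_one.1 hv
  set d := D.f x D.e₁ * D.f y D.e₂ + D.f x D.e₂ * D.f y D.e₁ with hd
  have hd0 : d ≠ 0 := by
    intro h0
    apply h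
    simp only [map_add, map_smul, smul_eq_mul]
    linear_combination (α * δ + β * γ) * h0 + (α * γ * D.f x D.e₁ * D.f y D.e₁ +
      β * δ * D.f x D.e₂ * D.f y D.e₂) * D.two
  refine ⟨d⁻¹ • (D.f y D.e₁ • x + D.f x D.e₁ • y), ?_, d⁻¹ • (D.f y D.e₂ • x + D.f x D.e₂ • y), ?_, ?_, ?_, ?_, ?_⟩
  · exact Submodule.smul_mem _ _ (add_mem (Submodule.smul_mem _ _ hx) (Submodule.smul_mem _ _ hy))
  · exact Submodule.smul_mem _ _ (add_mem (Submodule.smul_mem _ _ hx) (Submodule.smul_mem _ _ hy))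
  · rw [D.f_smul_left, D.f_add_left, D.f_smul_left, D.f_smul_left]
    rw [mul_comm (D.f y D.e₁), D.dbl, mul_zero]
  · rw [D.f_smul_left, D.f_add_left, D.f_smul_left, D.f_smul_left]
    rw [show D.f y D.e₁ * D.f x D.e₂ + D.f x D.e₁ * D.f y D.e₂ = d by rw [hd]; ring, inv_mul_cancel₀ hd0]
  · rw [D.f_smul_left, D.f_add_left, D.f_smul_left, D.f_smul_left]
    rw [show D.f y D.e₂ * D.f x D.e₁ + D.f x D.e₂ * D.f y D.e₁ = d by rw [hd]; ring, inv_mul_cancel₀ hd0]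
  · rw [D.f_smul_left, D.f_add_left, D.f_smul_left, D.f_smul_left]
    rw [mul_comm (D.f y D.e₂), D.dbl, mul_zero]

theorem j_e₁ {j : M ≃ₗ[F] M} (hj : j ∈ D.J) : j D.e₁ = D.e₁ := by
  have h := D.JP j hj D.e₁ (D.f_self _) D.e_perp'
  rw [D.y_e₁.1, D.y_e₁.2] at h
  simpa using h

theorem j_e₂ {j : M ≃ₗ[F] M} (hj : j ∈ D.J) : j D.e₂ = D.e₂ := by
  have h := D.JP j hj D.e₂ D.e_perp (D.f_self _)
  rw [D.y_e₂.1, D.y_e₂.2] at h
  simpa using h

/-- nonzero elements of `Φ₂` are detected by the pairing -/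
theorem exists_b₁ {y : Φ₂} (hy : y ≠ 0) : ∃ x, D.b x y = 1 := by
  by_contra hcon
  push Not at hcon
  apply hy
  refine D.b_right y fun x => ?_
  by_contra h0
  refine hcon ((D.b x y)⁻¹ • x) ?_
  rw [map_smul, LinearMap.smul_apply, smul_eq_mul, inv_mul_cancel₀ h0]

theorem exists_b₂ {x : Φ₁} (hx : x ≠ 0) : ∃ y, D.b x y = 1 := by
  obtain ⟨y, hy⟩ := D.swap.exists_b₁ hx
  exact ⟨y, hy⟩

theorem opp_aux {g : M ≃ₗ[F] M} (hg : g ∈ D.H) {p u : M} (hp : p ∈ D.E g) (hu : u ∈ D.E g)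
    (hpP : D.InP p) (hp1 : p ∉ D.E 1) (h1 : D.f D.e₂ u ≠ 0) (h2 : D.y₁ p = 0) :
    ∃ g' ∈ D.H, D.Opp g' := by
  have hy : D.y₂ p ≠ 0 := fun h3 => hp1 (D.mem_E_one.2 (D.y_ker p hpP.1 hpP.2 h2 h3))
  obtain ⟨x, hx⟩ := D.exists_b₁ hy
  obtain ⟨j, hj, hj1, hj2⟩ := D.Jall x 0
  have hjH := D.J_le hj
  have hjp : j p = p + D.e₂ := by
    rw [D.JP j hj p hpP.1 hpP.2, h2, hj1, hj2, hx]
    simp
  have hjp' : j (p + D.e₂) = p := by
    rw [map_add, hjp, D.j_e₂ hj, add_assoc, D.dblM, add_zero]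
  have hgi := D.H.inv_mem hg
  have hpu : D.f p u = 0 := D.E_perp hg hp hu
  refine ⟨g⁻¹ * (j * g), D.H.mul_mem hgi (D.H.mul_mem hjH hg), ?_⟩
  have e1 : g⁻¹ p ∈ D.E 1 := by
    have := D.map_mem_E (w := g⁻¹) hp
    rwa [inv_mul_cancel] at this
  have e2 : g⁻¹ u ∈ D.E 1 := by
    have := D.map_mem_E (w := g⁻¹) hu
    rwa [inv_mul_cancel] at this
  have e3 : g⁻¹ (j p) ∈ D.E (g⁻¹ * (j * g)) := D.map_mem_E (D.map_mem_E hp)
  have e4 : g⁻¹ (j u) ∈ D.E (g⁻¹ * (j * g)) := D.map_mem_E (D.map_mem_E hu)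
  refine D.opp_of_det e3 e4 e1 e2 ?_
  rw [D.isomf hgi, D.isomf hgi, D.isomf hgi, D.isomf hgi]
  have h3 : D.f (j p) p = 0 := by
    rw [hjp, D.f_add_left, D.f_self, hpP.2, add_zero]
  have h4 : D.f (j p) u = D.f D.e₂ u := by
    rw [hjp, D.f_add_left, hpu, zero_add]
  have h5 : D.f (j u) p = D.f D.e₂ u := by
    rw [← hjp', D.isomf hjH, map_add, D.f_symm u p, hpu, zero_add, D.f_symm]
  rw [h3, h4, h5, zero_mul, zero_add]
  exact mul_ne_zero h1 h1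

theorem InP_swap {m : M} : D.swap.InP m ↔ D.InP m := and_comm

/-- **Opposite conjugates exist.** -/
theorem exists_opp : ∃ g ∈ D.H, D.Opp g := by
  -- a conjugate not perpendicular to `e`
  obtain ⟨g, hg, w, hw, hwP⟩ : ∃ g ∈ D.H, ∃ w ∈ D.E g, ¬ D.InP w := by
    by_contra hcon
    push Not at hcon
    have h1 := D.Om (LinearMap.ker (D.f D.e₁) ⊓ LinearMap.ker (D.f D.e₂)) (fun g hg => by
      have a1 := hcon g hg _ (D.mem_E.2 ⟨1, 0, by simp⟩ : g D.e₁ ∈ D.E g)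
      have a2 := hcon g hg _ (D.mem_E.2 ⟨0, 1, by simp⟩ : g D.e₂ ∈ D.E g)
      simp only [Submodule.mem_inf, LinearMap.mem_ker]
      exact ⟨⟨a1.1, a1.2⟩, a2.1, a2.2⟩)
    apply D.e₁_ne
    refine D.nondeg _ fun m => ?_
    have h2 : m ∈ LinearMap.ker (D.f D.e₁) ⊓ LinearMap.ker (D.f D.e₂) := h1 ▸ Submodule.mem_top
    exact h2.1
  have hx : g D.e₁ ∈ D.E g := D.mem_E.2 ⟨1, 0, by simp⟩
  have hy : g D.e₂ ∈ D.E g := D.mem_E.2 ⟨0, 1, by simp⟩
  set x := g D.e₁ with hxd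
  set y := g D.e₂ with hyd
  by_cases hd : D.f x D.e₁ * D.f y D.e₂ + D.f x D.e₂ * D.f y D.e₁ = 0
  swap
  · exact ⟨g, hg, D.opp_of_det hx hy (D.mem_E_one.2 ⟨1, 0, by simp⟩) (D.mem_E_one.2 ⟨0, 1, by simp⟩) hd⟩
  -- the point of `g e` perpendicular to `e`
  obtain ⟨p, hp, hp0, hpP⟩ : ∃ p ∈ D.E g, p ≠ 0 ∧ D.InP p := by
    have a1 : D.InP (D.f y D.e₁ • x + D.f x D.e₁ • y) := by
      constructor
      · rw [D.f_symm, D.f_add_left, D.f_smul_left, D.f_smul_left, mul_comm (D.f y D.e₁), D.dbl]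
      · rw [D.f_symm, D.f_add_left, D.f_smul_left, D.f_smul_left]
        linear_combination hd
    have a2 : D.InP (D.f y D.e₂ • x + D.f x D.e₂ • y) := by
      constructor
      · rw [D.f_symm, D.f_add_left, D.f_smul_left, D.f_smul_left]
        linear_combination hd
      · rw [D.f_symm, D.f_add_left, D.f_smul_left, D.f_smul_left, mul_comm (D.f y D.e₂), D.dbl]
    have b1 : D.f y D.e₁ • x + D.f x D.e₁ • y ∈ D.E g :=
      add_mem (Submodule.smul_mem _ _ hx) (Submodule.smul_mem _ _ hy)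
    have b2 : D.f y D.e₂ • x + D.f x D.e₂ • y ∈ D.E g :=
      add_mem (Submodule.smul_mem _ _ hx) (Submodule.smul_mem _ _ hy)
    by_cases h1 : D.f y D.e₁ • x + D.f x D.e₁ • y = 0
    · by_cases h2 : D.f y D.e₂ • x + D.f x D.e₂ • y = 0
      · exfalso
        have c1 := D.ind h1
        have c2 := D.ind h2
        apply hwP
        obtain ⟨a, c, rfl⟩ := D.mem_E.1 hw
        constructor
        · rw [D.f_symm, D.f_add_left, D.f_smul_left, D.f_smul_left, ← hxd, ← hyd, c1.1, c1.2]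
          simp
        · rw [D.f_symm, D.f_add_left, D.f_smul_left, D.f_smul_left, ← hxd, ← hyd, c2.1, c2.2]
          simp
      · exact ⟨_, b2, h2, a2⟩
    · exact ⟨_, b1, h1, a1⟩
  have hp1 : p ∉ D.E 1 := fun h => hwP (D.p1 hg hp0 h hp hw)
  have hpw : D.f p w = 0 := D.E_perp hg hp hw
  set l := D.f D.e₁ w with hl
  set k := D.f D.e₂ w with hk
  have hlk : l ≠ 0 ∨ k ≠ 0 := by
    by_contra hcon
    push Not at hcon
    exact hwP hcon
  obtain ⟨v, hv, hvm⟩ := D.root hg hp hw 1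
  have hv1 : v D.e₁ = D.e₁ + l • p := by
    rw [hvm, hpP.1, ← hl]; simp
  have hv2 : v D.e₂ = D.e₂ + k • p := by
    rw [hvm, hpP.2, ← hk]; simp
  have hq : k • D.e₁ + l • D.e₂ ∈ D.E v := by
    refine D.mem_E.2 ⟨k, l, ?_⟩
    rw [hv1, hv2]
    linear_combination (norm := module) -(k * l) • D.two • p
  have hq1 : k • D.e₁ + l • D.e₂ ∈ D.E 1 := D.mem_E_one.2 ⟨k, l, rfl⟩
  have hq0 : k • D.e₁ + l • D.e₂ ≠ 0 := by
    intro h
    have := D.e_ind _ _ h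
    rcases hlk with h1 | h1
    · exact h1 this.2
    · exact h1 this.1
  have hnot : ∀ a : F, a ≠ 0 → ∀ e ∈ D.E 1, e + a • p ∉ D.E 1 := by
    intro a ha e he h
    apply hp1
    have h1 : a • p ∈ D.E 1 := by
      have := sub_mem h he
      simpa using this
    have := Submodule.smul_mem _ a⁻¹ h1
    rwa [smul_smul, inv_mul_cancel₀ ha, one_smul] at this
  have he1 : D.e₁ ∈ D.E 1 := D.mem_E_one.2 ⟨1, 0, by simp⟩
  have he2 : D.e₂ ∈ D.E 1 := D.mem_E_one.2 ⟨0, 1, by simp⟩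
  have key : ((∃ a : F, k • D.e₁ + l • D.e₂ = a • D.e₁) ∧ D.y₁ p = 0) ∨
      ((∃ a : F, k • D.e₁ + l • D.e₂ = a • D.e₂) ∧ D.y₂ p = 0) := by
    by_cases h1 : l = 0
    · have h2 : k ≠ 0 := hlk.resolve_left (not_not.2 h1)
      rcases D.p2 hv hq0 hq1 hq (D.mem_E.2 ⟨0, 1, by simp⟩ : v D.e₂ ∈ D.E v)
        (by rw [hv2]; exact hnot k h2 _ he2) with ⟨a, ha, hb⟩ | ⟨a, ha, hb⟩
      · left
        rw [hv2, map_add, D.y_e₂.1, zero_add, map_smul, smul_eq_zero] at hb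
        exact ⟨⟨a, ha⟩, hb.resolve_left h2⟩
      · right
        rw [hv2, map_add, D.y_e₂.2, zero_add, map_smul, smul_eq_zero] at hb
        exact ⟨⟨a, ha⟩, hb.resolve_left h2⟩
    · rcases D.p2 hv hq0 hq1 hq (D.mem_E.2 ⟨1, 0, by simp⟩ : v D.e₁ ∈ D.E v)
        (by rw [hv1]; exact hnot l h1 _ he1) with ⟨a, ha, hb⟩ | ⟨a, ha, hb⟩
      · left
        rw [hv1, map_add, D.y_e₁.1, zero_add, map_smul, smul_eq_zero] at hb
        exact ⟨⟨a, ha⟩, hb.resolve_left h1⟩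
      · right
        rw [hv1, map_add, D.y_e₁.2, zero_add, map_smul, smul_eq_zero] at hb
        exact ⟨⟨a, ha⟩, hb.resolve_left h1⟩
  rcases key with ⟨⟨a, ha⟩, hb⟩ | ⟨⟨a, ha⟩, hb⟩
  · have h1 := D.e_ind (k - a) l (by linear_combination (norm := module) ha)
    exact D.opp_aux hg hp hw hpP hp1 (hlk.resolve_left (not_not.2 h1.2)) hb
  · have h1 := D.e_ind k (l - a) (by linear_combination (norm := module) ha)
    obtain ⟨g', hg', ho⟩ := D.swap.opp_aux (g := g) hg (p := p) (u := w) (by rw [E_swap]; exact hp)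
      (by rw [E_swap]; exact hw) (D.InP_swap.2 hpP) (by rw [E_swap]; exact hp1)
      (hlk.resolve_right (not_not.2 h1.1)) hb
    exact ⟨g', hg', Opp.of_swap D ho⟩

end Spl

end Cfsg.Agent.Omega.NOne.SL

end

section


/-!
# THEOREM SL, section 3: the decomposition `M = M₁ ⊕ M₂`
-/

set_option autoImplicit false
set_option linter.unusedSimpArgs false

namespace Cfsg.Agent.Omega.NOne.SL

namespace Spl

variable {F M Φ₁ Φ₂ : Type*} [Field F] [AddCommGroup M] [Module F M] [AddCommGroup Φ₁]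
    [Module F Φ₁] [AddCommGroup Φ₂] [Module F Φ₂] (D : Spl F M Φ₁ Φ₂)

/-- An opposite conjugate `e' = ⟨c₁, c₂⟩` with dual basis. -/
structure Fr where
  c₁ : M
  c₂ : M
  f11 : D.f c₁ D.e₁ = 0
  f12 : D.f c₁ D.e₂ = 1
  f21 : D.f c₂ D.e₁ = 1
  f22 : D.f c₂ D.e₂ = 0
  t₁ : D.s c₁ = 0
  t₂ : D.s c₂ = 0
  fc : D.f c₁ c₂ = 0
  root : ∀ a : F, ∃ h ∈ D.H, ∀ m, h m = m + a • (D.f m c₁ • c₂ + D.f m c₂ • c₁)

theorem exists_fr : Nonempty D.Fr := by
  obtain ⟨g, hg, c₁, h1, c₂, h2, h3, h4, h5, h6⟩ := D.exists_opp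
  exact ⟨c₁, c₂, h3, h4, h5, h6, D.E_sing hg h1, D.E_sing hg h2, D.E_perp hg h1 h2, D.root hg h1 h2⟩

namespace Fr

variable {D} (A : D.Fr)

/-- swapping the two halves -/
@[simps] def swap : D.swap.Fr where
  c₁ := A.c₂
  c₂ := A.c₁
  f11 := A.f22
  f12 := A.f21
  f21 := A.f12
  f22 := A.f11
  t₁ := A.t₂
  t₂ := A.t₁
  fc := by
    have := A.fc
    rw [D.f_symm] at this
    exact this
  root := fun a => by
    obtain ⟨h, hh, hm⟩ := A.root a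
    refine ⟨h, hh, fun m => ?_⟩
    rw [hm]
    simp only [Spl.swap]
    module

theorem fe₁ : D.f D.e₁ A.c₁ = 0 := by rw [D.f_symm, A.f11]
theorem fe₂ : D.f D.e₂ A.c₁ = 1 := by rw [D.f_symm, A.f12]
theorem fe₁' : D.f D.e₁ A.c₂ = 1 := by rw [D.f_symm, A.f21]
theorem fe₂' : D.f D.e₂ A.c₂ = 0 := by rw [D.f_symm, A.f22]
theorem fc' : D.f A.c₂ A.c₁ = 0 := by rw [D.f_symm, A.fc]

/-- the projection onto `U = e^⊥ ∩ e'^⊥` -/
def pr : M →ₗ[F] M :=
  LinearMap.id + (D.f.flip A.c₂).smulRight D.e₁ + (D.f.flip A.c₁).smulRight D.e₂ +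
    (D.f.flip D.e₂).smulRight A.c₁ + (D.f.flip D.e₁).smulRight A.c₂

theorem pr_apply (m : M) : A.pr m = m + D.f m A.c₂ • D.e₁ + D.f m A.c₁ • D.e₂ + D.f m D.e₂ • A.c₁ +
    D.f m D.e₁ • A.c₂ := rfl

/-- membership in `U` -/
def InU (m : M) : Prop := D.f m D.e₁ = 0 ∧ D.f m D.e₂ = 0 ∧ D.f m A.c₁ = 0 ∧ D.f m A.c₂ = 0

theorem inU_pr (m : M) : A.InU (A.pr m) := by
  refine ⟨?_, ?_, ?_, ?_⟩ <;>
  · rw [A.pr_apply]
    simp only [D.f_add_left, D.f_smul_left, D.f_self, D.e_perp, D.e_perp', A.f11, A.f12, A.f21, A.f22,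
      A.fe₁, A.fe₂, A.fe₁', A.fe₂', A.fc, A.fc', mul_zero, mul_one, add_zero, D.dbl]

theorem InU.inP {m : M} (h : A.InU m) : D.InP m :=
  ⟨by rw [D.f_symm]; exact h.1, by rw [D.f_symm]; exact h.2.1⟩

theorem InU.pr_eq {m : M} (h : A.InU m) : A.pr m = m := by
  rw [A.pr_apply, h.1, h.2.1, h.2.2.1, h.2.2.2]
  simp

theorem eq_add (m : M) : m = D.f m A.c₂ • D.e₁ + D.f m D.e₁ • A.c₂ + (D.f m A.c₁ • D.e₂ +
    D.f m D.e₂ • A.c₁) + A.pr m := by
  rw [A.pr_apply]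
  linear_combination (norm := module) -(D.f m A.c₂) • D.two • D.e₁ - (D.f m D.e₁) • D.two • A.c₂ -
    (D.f m A.c₁) • D.two • D.e₂ - (D.f m D.e₂) • D.two • A.c₁

theorem s_eq (m : M) : D.s m = D.f m A.c₂ * D.f m D.e₁ + D.f m A.c₁ * D.f m D.e₂ +
    D.b (D.y₁ (A.pr m)) (D.y₂ (A.pr m)) := by
  have hU := A.inU_pr m
  have hP := InU.inP A hU
  conv_lhs => rw [A.eq_add m]
  set u := A.pr m
  rw [D.s_add, D.s_add, D.s_add, D.s_add, D.s_smul, D.s_smul, D.s_smul, D.s_smul, D.s₁, D.s₂, A.t₁, A.t₂,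
    D.sy u hP.1 hP.2]
  simp only [map_add, map_smul, LinearMap.add_apply, LinearMap.smul_apply, smul_eq_mul, D.f_self, D.e_perp,
    D.e_perp', A.f11, A.f12, A.f21, A.f22, A.fe₁, A.fe₂, A.fe₁', A.fe₂', A.fc, A.fc', D.f_symm D.e₁ u,
    D.f_symm D.e₂ u, D.f_symm A.c₁ u, D.f_symm A.c₂ u, hU.1, hU.2.1, hU.2.2.1, hU.2.2.2]
  ring

theorem U_eq_zero {u : M} (h : A.InU u) (h1 : D.y₁ u = 0) (h2 : D.y₂ u = 0) : u = 0 := by
  have hP := InU.inP A h
  obtain ⟨a, c, hu⟩ := D.y_ker u hP.1 hP.2 h1 h2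
  have e1 := h.2.2.1
  have e2 := h.2.2.2
  rw [hu, D.f_add_left, D.f_smul_left, D.f_smul_left, A.fe₁, A.fe₂] at e1
  rw [hu, D.f_add_left, D.f_smul_left, D.f_smul_left, A.fe₁', A.fe₂'] at e2
  have hc : c = 0 := by linear_combination e1
  have ha : a = 0 := by linear_combination e2
  rw [hu, ha, hc]
  simp

theorem lift (x₁ : Φ₁) (x₂ : Φ₂) : ∃ u, A.InU u ∧ D.y₁ u = x₁ ∧ D.y₂ u = x₂ := by
  obtain ⟨m, h1, h2, h3, h4⟩ := D.y_surj x₁ x₂
  refine ⟨A.pr m, A.inU_pr m, ?_, ?_⟩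
  · rw [A.pr_apply, D.f_symm m D.e₁, D.f_symm m D.e₂, h1, h2]
    simp [D.y_e₁.1, D.y_e₂.1, h3]
  · rw [A.pr_apply, D.f_symm m D.e₁, D.f_symm m D.e₂, h1, h2]
    simp [D.y_e₁.2, D.y_e₂.2, h4]

/-- **`M₁`** -/
def M₁ : Submodule F M :=
  LinearMap.ker (D.f.flip A.c₁) ⊓ LinearMap.ker (D.f.flip D.e₁) ⊓ LinearMap.ker (D.y₂ ∘ₗ A.pr)

theorem mem_M₁ {m : M} : m ∈ A.M₁ ↔ D.f m A.c₁ = 0 ∧ D.f m D.e₁ = 0 ∧ D.y₂ (A.pr m) = 0 := by
  rw [M₁, Submodule.mem_inf, Submodule.mem_inf, LinearMap.mem_ker, LinearMap.mem_ker, LinearMap.mem_ker,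
    and_assoc]
  rfl

/-- **`M₂`** -/
def M₂ : Submodule F M := A.swap.M₁

theorem pr_swap (m : M) : A.swap.pr m = A.pr m := by
  rw [A.swap.pr_apply, A.pr_apply]
  simp only [Spl.swap, Fr.swap]
  abel

theorem mem_M₂ {m : M} : m ∈ A.M₂ ↔ D.f m A.c₂ = 0 ∧ D.f m D.e₂ = 0 ∧ D.y₁ (A.pr m) = 0 := by
  rw [M₂, A.swap.mem_M₁, A.pr_swap]
  rfl

theorem M₂_swap : A.swap.M₂ = A.M₁ := by
  ext m
  rw [A.swap.mem_M₂, A.pr_swap, A.mem_M₁]
  rfl

theorem s_M₁ {m : M} (hm : m ∈ A.M₁) : D.s m = 0 := by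
  have h := A.mem_M₁.1 hm
  rw [A.s_eq m, h.1, h.2.1, h.2.2, map_zero]
  ring

theorem s_M₂ {m : M} (hm : m ∈ A.M₂) : D.s m = 0 := A.swap.s_M₁ hm

theorem f_M₁ {m n : M} (hm : m ∈ A.M₁) (hn : n ∈ A.M₁) : D.f m n = 0 := by
  have h := D.s_add m n
  rw [A.s_M₁ (add_mem hm hn), A.s_M₁ hm, A.s_M₁ hn] at h
  linear_combination -h

theorem f_M₂ {m n : M} (hm : m ∈ A.M₂) (hn : n ∈ A.M₂) : D.f m n = 0 := A.swap.f_M₁ hm hn

theorem e₁_mem : D.e₁ ∈ A.M₁ := by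
  rw [A.mem_M₁]
  refine ⟨A.fe₁, D.f_self _, ?_⟩
  rw [A.pr_apply, D.f_self, A.fe₁, A.fe₁', D.e_perp]
  simp [D.y_e₁.2]

theorem c₁_mem : A.c₁ ∈ A.M₁ := by
  rw [A.mem_M₁]
  refine ⟨D.f_self _, A.f11, ?_⟩
  rw [A.pr_apply, D.f_self, A.f11, A.fc, A.f12]
  simp [D.dblM]

theorem e₂_mem : D.e₂ ∈ A.M₂ := A.swap.e₁_mem

theorem c₂_mem : A.c₂ ∈ A.M₂ := A.swap.c₁_mem

theorem inU_mem_M₁ {u : M} (h : A.InU u) (h2 : D.y₂ u = 0) : u ∈ A.M₁ := by
  rw [A.mem_M₁, InU.pr_eq A h]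
  exact ⟨h.2.2.1, h.1, h2⟩

theorem InU.swap {u : M} (h : A.InU u) : A.swap.InU u := ⟨h.2.1, h.1, h.2.2.2, h.2.2.1⟩

theorem inU_mem_M₂ {u : M} (h : A.InU u) (h1 : D.y₁ u = 0) : u ∈ A.M₂ :=
  A.swap.inU_mem_M₁ (InU.swap A h) h1

theorem M₁_eq {m : M} (hm : m ∈ A.M₁) : m = D.f m A.c₂ • D.e₁ + D.f m D.e₂ • A.c₁ + A.pr m := by
  have h := A.mem_M₁.1 hm
  conv_lhs => rw [A.eq_add m, h.1, h.2.1]
  simp

theorem isCompl : IsCompl A.M₁ A.M₂ := by
  constructor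
  · rw [Submodule.disjoint_def]
    intro m h1 h2
    have a1 := A.mem_M₁.1 h1
    have a2 := A.mem_M₂.1 h2
    have hU : A.InU m := ⟨a1.2.1, a2.2.1, a1.1, a2.1⟩
    have hp := InU.pr_eq A hU
    rw [hp] at a1 a2
    exact A.U_eq_zero hU a2.2.2 a1.2.2
  · rw [codisjoint_iff, eq_top_iff]
    intro m _
    obtain ⟨u, hu, h1, h2⟩ := A.lift (D.y₁ (A.pr m)) 0
    have hU := A.inU_pr m
    have hv : A.InU (A.pr m + u) := by
      refine ⟨?_, ?_, ?_, ?_⟩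
      · rw [D.f_add_left, hU.1, hu.1, add_zero]
      · rw [D.f_add_left, hU.2.1, hu.2.1, add_zero]
      · rw [D.f_add_left, hU.2.2.1, hu.2.2.1, add_zero]
      · rw [D.f_add_left, hU.2.2.2, hu.2.2.2, add_zero]
    have hv1 : D.y₁ (A.pr m + u) = 0 := by
      rw [map_add, h1, ← two_smul F, D.two, zero_smul]
    have e : m = (D.f m A.c₂ • D.e₁ + D.f m D.e₂ • A.c₁ + u) +
        (D.f m A.c₁ • D.e₂ + D.f m D.e₁ • A.c₂ + (A.pr m + u)) := by
      conv_lhs => rw [A.eq_add m]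
      linear_combination (norm := module) -D.two • u
    rw [e]
    refine Submodule.add_mem_sup ?_ ?_
    · exact add_mem (add_mem (Submodule.smul_mem _ _ A.e₁_mem) (Submodule.smul_mem _ _ A.c₁_mem))
        (A.inU_mem_M₁ hu h2)
    · exact add_mem (add_mem (Submodule.smul_mem _ _ A.e₂_mem) (Submodule.smul_mem _ _ A.c₂_mem))
        (A.inU_mem_M₂ hv hv1)

/-- `M₁` and `M₂` are dual to each other. -/
theorem dual₁ {m : M} (hm : m ∈ A.M₁) (h : ∀ φ ∈ A.M₂, D.f m φ = 0) : m = 0 := by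
  refine D.nondeg m fun m' => ?_
  have h1 : m' ∈ A.M₁ ⊔ A.M₂ := by rw [A.isCompl.sup_eq_top]; trivial
  obtain ⟨x, hx, y, hy, rfl⟩ := Submodule.mem_sup.1 h1
  rw [map_add, A.f_M₁ hm hx, h y hy, add_zero]

theorem dual₂ {m : M} (hm : m ∈ A.M₂) (h : ∀ φ ∈ A.M₁, D.f m φ = 0) : m = 0 := by
  refine A.swap.dual₁ hm ?_
  rw [A.M₂_swap]
  exact h

/-! ### `J` and the root groups preserve `M₁` -/

theorem fy_U {u v : M} (hu : A.InU u) (hv : A.InU v) :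
    D.f u v = D.b (D.y₁ u) (D.y₂ v) + D.b (D.y₁ v) (D.y₂ u) := D.fy (InU.inP A hu) (InU.inP A hv)

/-- `f m u = f (pr m) u` for `u ∈ U` -/
theorem f_pr {m u : M} (hu : A.InU u) : D.f (A.pr m) u = D.f m u := by
  rw [A.pr_apply]
  simp only [D.f_add_left, D.f_smul_left, D.f_symm D.e₁ u, D.f_symm D.e₂ u, D.f_symm A.c₁ u,
    D.f_symm A.c₂ u, hu.1, hu.2.1, hu.2.2.1, hu.2.2.2, mul_zero, add_zero]

theorem J_c₁ {j : M ≃ₗ[F] M} (hj : j ∈ D.J) : j A.c₁ ∈ A.M₁ ∧ D.y₁ (A.pr (j A.c₁)) = D.χ₁ j ∧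
    D.f (j A.c₁) D.e₂ = 1 := by
  have hjH := D.J_le hj
  have h1 : D.f (j A.c₁) D.e₁ = 0 := by
    conv_lhs => rw [← D.j_e₁ hj]
    rw [D.isomf hjH, A.f11]
  have h2 : D.f (j A.c₁) D.e₂ = 1 := by
    conv_lhs => rw [← D.j_e₂ hj]
    rw [D.isomf hjH, A.f12]
  have hU := A.inU_pr (j A.c₁)
  have h3 : D.y₂ (A.pr (j A.c₁)) = 0 := by
    refine D.b_right _ fun x => ?_
    obtain ⟨u, hu, hu1, hu2⟩ := A.lift x 0
    have hP := InU.inP A hu
    have h4 := D.isomf hjH A.c₁ u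
    rw [D.f_symm A.c₁ u, hu.2.2.1, D.JP j hj u hP.1 hP.2, hu1, hu2, map_zero, zero_smul, add_zero, map_add,
      map_smul, h1, smul_zero, add_zero, ← A.f_pr hu, A.fy_U hU hu, hu1, hu2, map_zero, zero_add] at h4
    exact h4
  have h5 : D.y₁ (A.pr (j A.c₁)) = D.χ₁ j := by
    rw [← sub_eq_zero]
    refine D.b_left _ fun y => ?_
    obtain ⟨u, hu, hu1, hu2⟩ := A.lift 0 y
    have hP := InU.inP A hu
    have h4 := D.isomf hjH A.c₁ u
    rw [D.f_symm A.c₁ u, hu.2.2.1, D.JP j hj u hP.1 hP.2, hu1, hu2, map_zero, LinearMap.zero_apply,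
      zero_smul, add_zero, map_add, map_smul, h2, ← A.f_pr hu, A.fy_U hU hu, hu1, hu2, map_zero,
      LinearMap.zero_apply, add_zero, smul_eq_mul, mul_one] at h4
    rw [map_sub, LinearMap.sub_apply, sub_eq_add_neg, D.neg_eq, h4]
  refine ⟨?_, h5, h2⟩
  rw [A.mem_M₁]
  refine ⟨?_, h1, h3⟩
  have h6 := A.s_eq (j A.c₁)
  rw [D.isom j hjH, A.t₁, h1, h2, h3, map_zero] at h6
  linear_combination -h6

theorem J_c₂ {j : M ≃ₗ[F] M} (hj : j ∈ D.J) : j A.c₂ ∈ A.M₂ ∧ D.y₂ (A.pr (j A.c₂)) = D.χ₂ j ∧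
    D.f (j A.c₂) D.e₁ = 1 := by
  have h := A.swap.J_c₁ (j := j) hj
  rw [A.pr_swap] at h
  exact h

theorem J_M₁ {j : M ≃ₗ[F] M} (hj : j ∈ D.J) {m : M} (hm : m ∈ A.M₁) : j m ∈ A.M₁ := by
  have hU := A.inU_pr m
  have hP := InU.inP A hU
  rw [A.M₁_eq hm, map_add, map_add, map_smul, map_smul, D.j_e₁ hj, D.JP j hj _ hP.1 hP.2,
    (A.mem_M₁.1 hm).2.2, map_zero, zero_smul, add_zero]
  refine add_mem (add_mem (Submodule.smul_mem _ _ A.e₁_mem) (Submodule.smul_mem _ _ (A.J_c₁ hj).1)) ?_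
  exact add_mem (A.inU_mem_M₁ hU (A.mem_M₁.1 hm).2.2) (Submodule.smul_mem _ _ A.e₁_mem)

theorem J_M₂ {j : M ≃ₗ[F] M} (hj : j ∈ D.J) {m : M} (hm : m ∈ A.M₂) : j m ∈ A.M₂ :=
  A.swap.J_M₁ (j := j) hj hm

theorem isCompl_map {g : M ≃ₗ[F] M} (h1 : ∀ m ∈ A.M₁, g m ∈ A.M₁) (h2 : ∀ m ∈ A.M₂, g m ∈ A.M₂) :
    ∀ m, g m ∈ A.M₁ → m ∈ A.M₁ := by
  intro m hm
  have h3 : m ∈ A.M₁ ⊔ A.M₂ := by rw [A.isCompl.sup_eq_top]; trivial
  obtain ⟨x, hx, y, hy, rfl⟩ := Submodule.mem_sup.1 h3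
  have h4 : g y ∈ A.M₁ := by
    have := sub_mem hm (h1 x hx)
    rwa [map_add, add_sub_cancel_left] at this
  have h5 : g y = 0 := (Submodule.disjoint_def.1 A.isCompl.disjoint) _ h4 (h2 y hy)
  have h6 : y = 0 := by simpa using h5
  rw [h6, add_zero]
  exact hx

/-- The subgroup of `H` preserving `M₁` and `M₂`. -/
def H0 : Subgroup (M ≃ₗ[F] M) where
  carrier := {g | g ∈ D.H ∧ (∀ m ∈ A.M₁, g m ∈ A.M₁) ∧ ∀ m ∈ A.M₂, g m ∈ A.M₂}
  mul_mem' := by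
    rintro g h ⟨g1, g2, g3⟩ ⟨h1, h2, h3⟩
    exact ⟨D.H.mul_mem g1 h1, fun m hm => g2 _ (h2 m hm), fun m hm => g3 _ (h3 m hm)⟩
  one_mem' := ⟨D.H.one_mem, fun _ h => h, fun _ h => h⟩
  inv_mem' := by
    rintro g ⟨g1, g2, g3⟩
    refine ⟨D.H.inv_mem g1, fun m hm => ?_, fun m hm => ?_⟩
    · apply A.isCompl_map g2 g3
      rwa [show g (g⁻¹ m) = m from g.apply_symm_apply m]
    · have := A.swap.isCompl_map (g := g) g3 (by rw [A.M₂_swap]; exact g2) (g⁻¹ m)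
      apply this
      rw [show g (g⁻¹ m) = m from g.apply_symm_apply m]
      exact hm

theorem mem_H0 {g : M ≃ₗ[F] M} : g ∈ A.H0 ↔ g ∈ D.H ∧ (∀ m ∈ A.M₁, g m ∈ A.M₁) ∧
    ∀ m ∈ A.M₂, g m ∈ A.M₂ := Iff.rfl

theorem J_le_H0 : D.J ≤ A.H0 := fun _ hj => ⟨D.J_le hj, fun _ => A.J_M₁ hj, fun _ => A.J_M₂ hj⟩

theorem H0_swap : A.swap.H0 = A.H0 := by
  ext g
  rw [A.mem_H0, A.swap.mem_H0, A.M₂_swap]
  exact ⟨fun h => ⟨h.1, h.2.2, h.2.1⟩, fun h => ⟨h.1, h.2.2, h.2.1⟩⟩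

/-- the root elements of `e'` are in `H0`. -/
theorem root0 (a : F) : ∃ h ∈ A.H0, ∀ m, h m = m + a • (D.f m A.c₁ • A.c₂ + D.f m A.c₂ • A.c₁) := by
  obtain ⟨h, hh, hm⟩ := A.root a
  refine ⟨h, ⟨hh, fun m h1 => ?_, fun m h1 => ?_⟩, hm⟩
  · rw [hm, (A.mem_M₁.1 h1).1, zero_smul, zero_add]
    exact add_mem h1 (Submodule.smul_mem _ _ (Submodule.smul_mem _ _ A.c₁_mem))
  · rw [hm, (A.mem_M₂.1 h1).1, zero_smul, add_zero]
    exact add_mem h1 (Submodule.smul_mem _ _ (Submodule.smul_mem _ _ A.c₂_mem))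

/-- **The element `σ`** interchanging `eᵢ` and `cᵢ`. -/
theorem exists_sigma : ∃ σ ∈ A.H0, σ D.e₁ = A.c₁ ∧ σ D.e₂ = A.c₂ ∧ σ A.c₁ = D.e₁ ∧ σ A.c₂ = D.e₂ := by
  obtain ⟨h, hh, hm⟩ := A.root0 1
  obtain ⟨j, hj, hjm⟩ := D.Jn 1
  have hj' := A.J_le_H0 hj
  refine ⟨j * (h * j), A.H0.mul_mem hj' (A.H0.mul_mem hh hj'), ?_, ?_, ?_, ?_⟩ <;>
  · simp only [LinearEquiv.mul_apply, hm, hjm, map_add, map_smul, LinearMap.add_apply, LinearMap.smul_apply, D.f_self,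
      D.e_perp, D.e_perp', A.f11, A.f12, A.f21, A.f22, A.fe₁, A.fe₂, A.fe₁', A.fe₂', A.fc, A.fc', one_smul,
      zero_smul, add_zero, zero_add, smul_eq_mul, mul_one, mul_zero, D.dblM, D.dbl, smul_zero]
    first
      | linear_combination (norm := module) D.two • D.e₁
      | linear_combination (norm := module) D.two • D.e₂
      | linear_combination (norm := module) D.two • A.c₁
      | linear_combination (norm := module) D.two • A.c₂

end Fr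

end Spl

end Cfsg.Agent.Omega.NOne.SL

end

section


/-!
# THEOREM SL, sections 4, 5: the orbit of `e`
-/

set_option autoImplicit false
set_option linter.unusedSimpArgs false

namespace Cfsg.Agent.Omega.NOne.SL

namespace Spl

variable {F M Φ₁ Φ₂ : Type*} [Field F] [AddCommGroup M] [Module F M] [AddCommGroup Φ₁]
    [Module F Φ₁] [AddCommGroup Φ₂] [Module F Φ₂] {D : Spl F M Φ₁ Φ₂}

theorem avoid_two {K : Submodule F M} {l k : M →ₗ[F] F} (hl : ∃ x ∈ K, l x ≠ 0) (hk : ∃ x ∈ K, k x ≠ 0) :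
    ∃ x ∈ K, l x ≠ 0 ∧ k x ≠ 0 := by
  obtain ⟨x, hx, h1⟩ := hl
  obtain ⟨y, hy, h2⟩ := hk
  by_cases h3 : k x = 0
  · by_cases h4 : l y = 0
    · refine ⟨x + y, add_mem hx hy, ?_, ?_⟩
      · rwa [map_add, h4, add_zero]
      · rwa [map_add, h3, zero_add]
    · exact ⟨y, hy, h4, h2⟩
  · exact ⟨x, hx, h1, h3⟩

namespace Fr

variable (A : D.Fr)

/-- two nonproportional elements of `M₁` are separated by `M₂`. -/
theorem sep₁ {x m : M} (hx : x ∈ A.M₁) (hm : m ∈ A.M₁) (h : ∀ c : F, x ≠ c • m) :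
    ∃ φ ∈ A.M₂, D.f m φ = 0 ∧ D.f x φ ≠ 0 := by
  by_contra hcon
  push Not at hcon
  by_cases hm0 : m = 0
  · apply h 0
    rw [zero_smul]
    refine A.dual₁ hx fun φ hφ => hcon φ hφ ?_
    rw [hm0, map_zero, LinearMap.zero_apply]
  · obtain ⟨φ₁, h1, h2⟩ : ∃ φ ∈ A.M₂, D.f m φ ≠ 0 := by
      by_contra hc
      push Not at hc
      exact hm0 (A.dual₁ hm hc)
    apply h (D.f x φ₁ * (D.f m φ₁)⁻¹)
    rw [← sub_eq_zero]
    refine A.dual₁ (sub_mem hx (Submodule.smul_mem _ _ hm)) fun ψ hψ => ?_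
    have h3 := hcon (ψ - (D.f m ψ * (D.f m φ₁)⁻¹) • φ₁) (sub_mem hψ (Submodule.smul_mem _ _ h1)) (by
      rw [map_sub, map_smul, smul_eq_mul, mul_assoc, inv_mul_cancel₀ h2, mul_one, sub_self])
    rw [map_sub, map_smul, smul_eq_mul] at h3
    rw [map_sub, LinearMap.sub_apply, map_smul, LinearMap.smul_apply, smul_eq_mul]
    linear_combination h3

theorem sep₂ {x m : M} (hx : x ∈ A.M₂) (hm : m ∈ A.M₂) (h : ∀ c : F, x ≠ c • m) :
    ∃ φ ∈ A.M₁, D.f m φ = 0 ∧ D.f x φ ≠ 0 := by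
  have := A.swap.sep₁ hx hm h
  rw [A.M₂_swap] at this
  exact this

/-- **Section 4 (a)**: `J` is transitive on the pairs opposite to `e`. -/
theorem orbit_opp {m φ : M} (hm : m ∈ A.M₁) (hφ : φ ∈ A.M₂) (h0 : D.f m φ = 0) (h1 : D.f m D.e₂ = 1)
    (h2 : D.f φ D.e₁ = 1) : ∃ g ∈ D.J, g A.c₁ = m ∧ g A.c₂ = φ := by
  obtain ⟨j, hj, hj1, hj2⟩ := D.Jall (D.y₁ (A.pr m)) (D.y₂ (A.pr φ))
  obtain ⟨a1, a2, a3⟩ := A.J_c₁ hj
  obtain ⟨b1, b2, b3⟩ := A.J_c₂ hj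
  have hjH := D.J_le hj
  obtain ⟨a, ha⟩ : ∃ a : F, m = j A.c₁ + a • D.e₁ := by
    have hd : m - j A.c₁ ∈ A.M₁ := sub_mem hm a1
    have h3 := A.M₁_eq hd
    have h4 : A.pr (m - j A.c₁) = 0 := by
      refine A.U_eq_zero (A.inU_pr _) ?_ (A.mem_M₁.1 hd).2.2
      rw [map_sub, map_sub, a2, hj1, sub_self]
    have h5 : D.f (m - j A.c₁) D.e₂ = 0 := by
      rw [map_sub, LinearMap.sub_apply, h1, a3, sub_self]
    rw [h4, h5, zero_smul, add_zero, add_zero] at h3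
    exact ⟨_, by rw [← h3]; abel⟩
  obtain ⟨c, hc⟩ : ∃ c : F, φ = j A.c₂ + c • D.e₂ := by
    have hd : φ - j A.c₂ ∈ A.M₂ := sub_mem hφ b1
    have h3 := A.swap.M₁_eq hd
    rw [A.pr_swap] at h3
    have h4 : A.pr (φ - j A.c₂) = 0 := by
      refine A.U_eq_zero (A.inU_pr _) (A.mem_M₂.1 hd).2.2 ?_
      rw [map_sub, map_sub, b2, hj2, sub_self]
    have h5 : D.f (φ - j A.c₂) D.e₁ = 0 := by
      rw [map_sub, LinearMap.sub_apply, h2, b3, sub_self]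
    have h6 : D.swap.f (φ - j A.c₂) D.swap.e₂ = 0 := h5
    rw [h4, h6, zero_smul, add_zero, add_zero] at h3
    exact ⟨_, by rw [sub_eq_iff_eq_add'] at h3; exact h3⟩
  have hac : a = c := by
    have h3 : D.f m φ = D.f (j A.c₁) (j A.c₂) + c * D.f (j A.c₁) D.e₂ + a * D.f D.e₁ (j A.c₂) +
        a * c * D.f D.e₁ D.e₂ := by
      rw [ha, hc]
      simp only [map_add, map_smul, LinearMap.add_apply, LinearMap.smul_apply, smul_eq_mul]
      ring
    rw [h0, D.isomf hjH, A.fc, a3, D.f_symm D.e₁, b3, D.e_perp] at h3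
    linear_combination -h3 - c * D.two
  obtain ⟨x, hx, hxm⟩ := D.Jn a
  refine ⟨j * x, D.J.mul_mem hj hx, ?_, ?_⟩
  · rw [LinearEquiv.mul_apply, hxm, A.f11, A.f12, ha, zero_smul, zero_add, one_smul, map_add, map_smul,
      D.j_e₁ hj]
  · rw [LinearEquiv.mul_apply, hxm, A.f21, A.f22, hc, ← hac, zero_smul, add_zero, one_smul, map_add, map_smul,
      D.j_e₂ hj]

/-- **Section 4 (a)** for `e` itself. -/
theorem orbit_opp' {m φ : M} (hm : m ∈ A.M₁) (hφ : φ ∈ A.M₂) (h0 : D.f m φ = 0) (h1 : D.f m D.e₂ ≠ 0)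
    (h2 : D.f φ D.e₁ ≠ 0) : ∃ g ∈ A.H0, ∃ a c : F, a ≠ 0 ∧ c ≠ 0 ∧ g D.e₁ = a • m ∧ g D.e₂ = c • φ := by
  obtain ⟨g, hg, hg1, hg2⟩ := A.orbit_opp (m := (D.f m D.e₂)⁻¹ • m) (φ := (D.f φ D.e₁)⁻¹ • φ)
    (Submodule.smul_mem _ _ hm) (Submodule.smul_mem _ _ hφ) (by
      simp only [map_smul, LinearMap.smul_apply, smul_eq_mul, h0, mul_zero]) (by
      simp only [map_smul, LinearMap.smul_apply, smul_eq_mul, inv_mul_cancel₀ h1]) (by
      simp only [map_smul, LinearMap.smul_apply, smul_eq_mul, inv_mul_cancel₀ h2])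
  obtain ⟨σ, hσ, s1, s2, -, -⟩ := A.exists_sigma
  refine ⟨g * σ, A.H0.mul_mem (A.J_le_H0 hg) hσ, _, _, inv_ne_zero h1, inv_ne_zero h2, ?_, ?_⟩
  · rw [LinearEquiv.mul_apply, s1, hg1]
  · rw [LinearEquiv.mul_apply, s2, hg2]

/-- **Section 4**: `H0` is transitive on the pairs `(⟨m⟩, ⟨φ⟩)` with `f m φ = 0`. -/
theorem orbit {m φ : M} (hm : m ∈ A.M₁) (hφ : φ ∈ A.M₂) (hm0 : m ≠ 0) (hφ0 : φ ≠ 0) (h0 : D.f m φ = 0) :
    ∃ g ∈ A.H0, ∃ a c : F, a ≠ 0 ∧ c ≠ 0 ∧ g D.e₁ = a • m ∧ g D.e₂ = c • φ := by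
  obtain ⟨m', hm', k1, k2⟩ : ∃ m' ∈ A.M₁, D.f φ m' ≠ 0 ∧ D.f D.e₂ m' ≠ 0 := by
    refine avoid_two ?_ ?_
    · by_contra hc
      push Not at hc
      exact hφ0 (A.dual₂ hφ hc)
    · by_contra hc
      push Not at hc
      exact D.e₂_ne (A.dual₂ A.e₂_mem hc)
  have k3 : D.f m' φ ≠ 0 := by rwa [D.f_symm]
  have k4 : D.f m' D.e₂ ≠ 0 := by rwa [D.f_symm]
  obtain ⟨φ', hφ', l1, l2⟩ : ∃ φ' ∈ A.M₂ ⊓ LinearMap.ker (D.f m'), D.f m φ' ≠ 0 ∧ D.f D.e₁ φ' ≠ 0 := by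
    refine avoid_two ?_ ?_
    · obtain ⟨ψ, h1, h2, h3⟩ := A.sep₁ hm hm' (fun c hc => by
        have h4 : c * D.f m' φ = 0 := by rw [← smul_eq_mul, ← LinearMap.smul_apply, ← map_smul, ← hc, h0]
        have h5 : c = 0 := (mul_eq_zero.1 h4).resolve_right k3
        exact hm0 (by rw [hc, h5, zero_smul]))
      exact ⟨ψ, ⟨h1, h2⟩, h3⟩
    · obtain ⟨ψ, h1, h2, h3⟩ := A.sep₁ A.e₁_mem hm' (fun c hc => by
        have h4 : c * D.f m' D.e₂ = 0 := by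
          rw [← smul_eq_mul, ← LinearMap.smul_apply, ← map_smul, ← hc, D.e_perp]
        have h5 : c = 0 := (mul_eq_zero.1 h4).resolve_right k4
        exact D.e₁_ne (by rw [hc, h5, zero_smul]))
      exact ⟨ψ, ⟨h1, h2⟩, h3⟩
  obtain ⟨g, hg, a, c, ha, hc, hg1, hg2⟩ := A.orbit_opp' hm' hφ'.1 hφ'.2 k4 (by rwa [D.f_symm])
  have hgi := A.H0.inv_mem hg
  have hinv : ∀ v, g (g⁻¹ v) = v := fun v => g.apply_symm_apply v
  obtain ⟨g', hg', a', c', ha', hc', h1, h2⟩ := A.orbit_opp' (m := g⁻¹ m) (φ := g⁻¹ φ)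
    (hgi.2.1 m hm) (hgi.2.2 φ hφ) (by rw [D.isomf hgi.1, h0]) (by
      rw [← D.isomf hg.1, hinv, hg2, map_smul, smul_eq_mul]
      exact mul_ne_zero hc l1) (by
      rw [← D.isomf hg.1, hinv, hg1, map_smul, smul_eq_mul]
      exact mul_ne_zero ha k1)
  refine ⟨g * g', A.H0.mul_mem hg hg', a', c', ha', hc', ?_, ?_⟩
  · rw [LinearEquiv.mul_apply, h1, map_smul, hinv]
  · rw [LinearEquiv.mul_apply, h2, map_smul, hinv]

end Fr

/-! ### Positions relative to an arbitrary conjugate -/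

theorem p1' {k g : M ≃ₗ[F] M} (hk : k ∈ D.H) (hg : g ∈ D.H) {p u v : M} (hp0 : p ≠ 0)
    (hp1 : p ∈ D.E k) (hp : p ∈ D.E g) (hu : u ∈ D.E g) (hv : v ∈ D.E k) : D.f u v = 0 := by
  have hki := D.H.inv_mem hk
  have h1 : k⁻¹ p ∈ D.E 1 := by
    have := D.map_mem_E (w := k⁻¹) hp1
    rwa [inv_mul_cancel] at this
  have h2 : k⁻¹ v ∈ D.E 1 := by
    have := D.map_mem_E (w := k⁻¹) hv
    rwa [inv_mul_cancel] at this
  have h3 := D.p1 (D.H.mul_mem hki hg) (p := k⁻¹ p) (u := k⁻¹ u) (by simpa using hp0) h1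
    (D.map_mem_E hp) (D.map_mem_E hu)
  rw [← D.isomf hki]
  exact D.perp_e h3 h2

theorem p2' {k g : M ≃ₗ[F] M} (hk : k ∈ D.H) (hg : g ∈ D.H) {p u : M} (hp0 : p ≠ 0)
    (hp1 : p ∈ D.E k) (hp : p ∈ D.E g) (hu : u ∈ D.E g) (hu1 : u ∉ D.E k) :
    (∃ a : F, p = a • k D.e₁) ∨ ∃ a : F, p = a • k D.e₂ := by
  have hki := D.H.inv_mem hk
  have h1 : k⁻¹ p ∈ D.E 1 := by
    have := D.map_mem_E (w := k⁻¹) hp1
    rwa [inv_mul_cancel] at this
  have hinv : ∀ v, k (k⁻¹ v) = v := fun v => k.apply_symm_apply v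
  rcases D.p2 (D.H.mul_mem hki hg) (p := k⁻¹ p) (u := k⁻¹ u) (by simpa using hp0) h1
    (D.map_mem_E hp) (D.map_mem_E hu) (fun h => hu1 (by
      have := D.map_mem_E (w := k) h
      rwa [mul_one, hinv] at this)) with ⟨a, ha, -⟩ | ⟨a, ha, -⟩
  · left
    exact ⟨a, by rw [← map_smul, ← ha, hinv]⟩
  · right
    exact ⟨a, by rw [← map_smul, ← ha, hinv]⟩

theorem E_le_iff {g : M ≃ₗ[F] M} {N : Submodule F M} : D.E g ≤ N ↔ g D.e₁ ∈ N ∧ g D.e₂ ∈ N := by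
  rw [E, Submodule.span_le, Set.insert_subset_iff, Set.singleton_subset_iff]
  rfl

theorem left_mem_E (g : M ≃ₗ[F] M) : g D.e₁ ∈ D.E g := D.mem_E.2 ⟨1, 0, by simp⟩

theorem right_mem_E (g : M ≃ₗ[F] M) : g D.e₂ ∈ D.E g := D.mem_E.2 ⟨0, 1, by simp⟩

/-- two conjugates with `g e ≤ k e` are equal. -/
theorem E_eq_of_le {k g : M ≃ₗ[F] M} (h : D.E g ≤ D.E k) : D.E g = D.E k := by
  refine le_antisymm h ?_
  obtain ⟨α, β, h1⟩ := D.mem_E.1 (E_le_iff.1 h).1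
  obtain ⟨γ, δ, h2⟩ := D.mem_E.1 (E_le_iff.1 h).2
  set x := k D.e₁ with hx
  set y := k D.e₂ with hy
  have hd : α * δ - β * γ ≠ 0 := by
    intro hd
    have e1 : δ • g D.e₁ + (-β) • g D.e₂ = 0 := by
      rw [h1, h2]
      linear_combination (norm := module) hd • x
    have e2 : (-γ) • g D.e₁ + α • g D.e₂ = 0 := by
      rw [h1, h2]
      linear_combination (norm := module) hd • y
    have f1 := D.ind e1
    have f2 := D.ind e2
    have hα : α = 0 := f2.2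
    have hβ : β = 0 := neg_eq_zero.1 f1.2
    have h3 : g D.e₁ = 0 := by rw [h1, hα, hβ]; simp
    exact D.e₁_ne (by simpa using h3)
  rw [E_le_iff]
  refine ⟨?_, ?_⟩
  · have e1 : x = (α * δ - β * γ)⁻¹ • (δ • g D.e₁ + (-β) • g D.e₂) := by
      rw [eq_inv_smul_iff₀ hd, h1, h2]
      module
    rw [← hx, e1]
    exact Submodule.smul_mem _ _ (add_mem (Submodule.smul_mem _ _ (left_mem_E g))
      (Submodule.smul_mem _ _ (right_mem_E g)))
  · have e1 : y = (α * δ - β * γ)⁻¹ • ((-γ) • g D.e₁ + α • g D.e₂) := by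
      rw [eq_inv_smul_iff₀ hd, h1, h2]
      module
    rw [← hy, e1]
    exact Submodule.smul_mem _ _ (add_mem (Submodule.smul_mem _ _ (left_mem_E g))
      (Submodule.smul_mem _ _ (right_mem_E g)))

namespace Fr

variable (A : D.Fr)

theorem not_le_M₁ {g : M ≃ₗ[F] M} (hg : g ∈ D.H) : ¬ D.E g ≤ A.M₁ := by
  intro h
  have hx := (E_le_iff.1 h).1
  have hy := (E_le_iff.1 h).2
  have hx0 : g D.e₁ ≠ 0 := by simpa using D.e₁_ne
  obtain ⟨φ, hφ, h1, h2⟩ := A.sep₁ hy hx (fun c hc => by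
    have h3 := D.ind (g := g) (a := c) (c := -1) (by rw [← hc]; module)
    have h4 := h3.2
    rw [neg_eq_zero] at h4
    exact one_ne_zero h4)
  have hφ0 : φ ≠ 0 := by
    rintro rfl
    exact h2 (map_zero _)
  obtain ⟨k, hk, a, c, ha, hc, k1, k2⟩ := A.orbit hx hφ hx0 hφ0 h1
  apply h2
  refine p1' hk.1 hg hx0 ?_ (left_mem_E g) (right_mem_E g) ?_
  · rw [← inv_smul_smul₀ ha (g D.e₁), ← k1]
    exact Submodule.smul_mem _ _ (left_mem_E k)
  · rw [← inv_smul_smul₀ hc φ, ← k2]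
    exact Submodule.smul_mem _ _ (right_mem_E k)

theorem not_le_M₂ {g : M ≃ₗ[F] M} (hg : g ∈ D.H) : ¬ D.E g ≤ A.M₂ := by
  have := A.swap.not_le_M₁ (g := g) hg
  rwa [E_swap] at this

/-- **Section 5**: every conjugate of `e` is an incident pair. -/
theorem conj {g : M ≃ₗ[F] M} (hg : g ∈ D.H) : ∃ k ∈ A.H0, D.E g = D.E k := by
  by_cases hc : ∃ x ∈ D.E g, ∃ x₁ ∈ A.M₁, ∃ x₂ ∈ A.M₂, x₁ ≠ 0 ∧ x₂ ≠ 0 ∧ x = x₁ + x₂
  · obtain ⟨x, hx, x₁, h1, x₂, h2, h3, h4, rfl⟩ := hc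
    have h5 : D.f x₁ x₂ = 0 := by
      have := D.E_sing hg hx
      rw [D.s_add, A.s_M₁ h1, A.s_M₂ h2, zero_add, zero_add] at this
      exact this
    obtain ⟨k, hk, a, c, ha, hc, k1, k2⟩ := A.orbit h1 h2 h3 h4 h5
    refine ⟨k, hk, E_eq_of_le ?_⟩
    intro u hu
    by_contra hu1
    have h6 : x₁ + x₂ ∈ D.E k := by
      refine add_mem ?_ ?_
      · rw [← inv_smul_smul₀ ha x₁, ← k1]
        exact Submodule.smul_mem _ _ (left_mem_E k)
      · rw [← inv_smul_smul₀ hc x₂, ← k2]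
        exact Submodule.smul_mem _ _ (right_mem_E k)
    have h7 : x₁ + x₂ ≠ 0 := by
      intro h
      apply h3
      refine (Submodule.disjoint_def.1 A.isCompl.disjoint) _ h1 ?_
      rw [eq_neg_of_add_eq_zero_left h]
      exact neg_mem h2
    rcases p2' hk.1 hg h7 h6 hx hu hu1 with ⟨b, hb⟩ | ⟨b, hb⟩
    · apply h4
      refine (Submodule.disjoint_def.1 A.isCompl.disjoint) _ ?_ h2
      have : x₂ = b • k D.e₁ - x₁ := by rw [← hb]; abel
      rw [this, k1]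
      exact sub_mem (Submodule.smul_mem _ _ (Submodule.smul_mem _ _ h1)) h1
    · apply h3
      refine (Submodule.disjoint_def.1 A.isCompl.disjoint) _ h1 ?_
      have : x₁ = b • k D.e₂ - x₂ := by rw [← hb]; abel
      rw [this, k2]
      exact sub_mem (Submodule.smul_mem _ _ (Submodule.smul_mem _ _ h2)) h2
  · exfalso
    push Not at hc
    have key : ∀ x ∈ D.E g, x ∈ A.M₁ ∨ x ∈ A.M₂ := by
      intro x hx
      have h1 : x ∈ A.M₁ ⊔ A.M₂ := by rw [A.isCompl.sup_eq_top]; trivial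
      obtain ⟨x₁, h2, x₂, h3, h4⟩ := Submodule.mem_sup.1 h1
      by_cases h5 : x₁ = 0
      · right
        rw [← h4, h5, zero_add]
        exact h3
      · left
        have h6 : x₂ = 0 := by
          by_contra h6
          exact hc x hx x₁ h2 x₂ h3 h5 h6 h4.symm
        rw [← h4, h6, add_zero]
        exact h2
    by_cases h1 : D.E g ≤ A.M₁
    · exact A.not_le_M₁ hg h1
    · refine A.not_le_M₂ hg ?_
      obtain ⟨x, hx, hx1⟩ := Set.not_subset.1 h1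
      have hx2 := (key x hx).resolve_left hx1
      intro y hy
      by_contra hy2
      have hy1 := (key y hy).resolve_right hy2
      rcases key (x + y) (add_mem hx hy) with h | h
      · exact hx1 (by
          have := sub_mem h hy1
          rwa [add_sub_cancel_right] at this)
      · exact hy2 (by
          have := sub_mem h hx2
          rwa [add_sub_cancel_left] at this)

end Fr

end Spl

end Cfsg.Agent.Omega.NOne.SL

end

section


/-!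
# THEOREM SL: the output
-/

set_option autoImplicit false
set_option linter.unusedSimpArgs false

namespace Cfsg.Agent.Omega.NOne.SL

namespace Spl

variable {F M Φ₁ Φ₂ : Type*} [Field F] [AddCommGroup M] [Module F M] [AddCommGroup Φ₁]
    [Module F Φ₁] [AddCommGroup Φ₂] [Module F Φ₂] {D : Spl F M Φ₁ Φ₂}

namespace Fr

variable (A : D.Fr)

/-- every vector of `M₁` belongs to an incident pair -/
theorem exists_inc {m : M} (hm : m ∈ A.M₁) : ∃ φ ∈ A.M₂, φ ≠ 0 ∧ D.f m φ = 0 := by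
  have hx : ∃ x ∈ A.M₁, ∀ c : F, x ≠ c • m := by
    by_contra hcon
    push Not at hcon
    obtain ⟨a, ha⟩ := hcon _ A.e₁_mem
    obtain ⟨c, hc⟩ := hcon _ A.c₁_mem
    have h1 : D.f m D.e₂ = 0 := by
      have h2 := D.e_perp
      rw [ha, map_smul, LinearMap.smul_apply, smul_eq_mul] at h2
      refine (mul_eq_zero.1 h2).resolve_left ?_
      rintro rfl
      exact D.e₁_ne (by rw [ha, zero_smul])
    have h2 := A.f12
    rw [hc, map_smul, LinearMap.smul_apply, h1, smul_zero] at h2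
    exact zero_ne_one h2
  obtain ⟨x, hx, h1⟩ := hx
  obtain ⟨φ, hφ, h2, h3⟩ := A.sep₁ hx hm h1
  refine ⟨φ, hφ, ?_, h2⟩
  rintro rfl
  exact h3 (map_zero _)

theorem point_mem {g : M ≃ₗ[F] M} (hg : g ∈ D.H) {m : M} (hm : m ∈ A.M₁) : g m ∈ A.M₁ ∨ g m ∈ A.M₂ := by
  by_cases hm0 : m = 0
  · left; rw [hm0, map_zero]; exact zero_mem _
  obtain ⟨φ, hφ, hφ0, h1⟩ := A.exists_inc hm
  obtain ⟨k, hk, a, c, ha, hc, k1, k2⟩ := A.orbit hm hφ hm0 hφ0 h1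
  obtain ⟨l, hl, hE⟩ := A.conj (D.H.mul_mem hg hk.1)
  have hli := D.H.inv_mem hl.1
  have hst : ∀ v ∈ D.E 1, (l⁻¹ * (g * k)) v ∈ D.E 1 := by
    intro v hv
    have h2 : (g * k) v ∈ D.E l := by
      rw [← hE]
      have := D.map_mem_E (w := g * k) hv
      rwa [mul_one] at this
    have := D.map_mem_E (w := l⁻¹) h2
    rwa [inv_mul_cancel] at this
  have h1' := D.mem_E_one.1 (hst _ (left_mem_E 1))
  have h2' := D.mem_E_one.1 (hst _ (right_mem_E 1))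
  have hinv : ∀ v, l (l⁻¹ v) = v := fun v => l.apply_symm_apply v
  have hgm : g m = a⁻¹ • (g * k) D.e₁ := by
    rw [LinearEquiv.mul_apply, k1, map_smul, inv_smul_smul₀ ha]
  rcases D.Se _ (D.H.mul_mem hli (D.H.mul_mem hg hk.1)) h1' h2' with ⟨⟨b, hb⟩, -⟩ | ⟨⟨b, hb⟩, -⟩
  · left
    have h3 : (g * k) D.e₁ = b • l D.e₁ := by
      rw [← map_smul, ← hb, LinearEquiv.mul_apply l⁻¹, hinv]
    rw [hgm, h3]
    exact Submodule.smul_mem _ _ (Submodule.smul_mem _ _ (hl.2.1 _ A.e₁_mem))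
  · right
    have h3 : (g * k) D.e₁ = b • l D.e₂ := by
      rw [← map_smul, ← hb, LinearEquiv.mul_apply l⁻¹, hinv]
    rw [hgm, h3]
    exact Submodule.smul_mem _ _ (Submodule.smul_mem _ _ (hl.2.2 _ A.e₂_mem))

theorem map_M₁ {g : M ≃ₗ[F] M} (hg : g ∈ D.H) : (∀ m ∈ A.M₁, g m ∈ A.M₁) ∨ ∀ m ∈ A.M₁, g m ∈ A.M₂ := by
  by_cases h1 : ∀ m ∈ A.M₁, g m ∈ A.M₁
  · exact Or.inl h1
  right
  push Not at h1
  obtain ⟨x, hx, hx1⟩ := h1
  have hx2 := (A.point_mem hg hx).resolve_left hx1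
  intro y hy
  by_contra hy2
  have hy1 := (A.point_mem hg hy).resolve_right hy2
  rcases A.point_mem hg (add_mem hx hy) with h | h
  · rw [map_add] at h
    exact hx1 (by
      have := sub_mem h hy1
      rwa [add_sub_cancel_right] at this)
  · rw [map_add] at h
    exact hy2 (by
      have := sub_mem h hx2
      rwa [add_sub_cancel_left] at this)

theorem map_M₂ {g : M ≃ₗ[F] M} (hg : g ∈ D.H) : (∀ m ∈ A.M₂, g m ∈ A.M₂) ∨ ∀ m ∈ A.M₂, g m ∈ A.M₁ := by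
  have := A.swap.map_M₁ (g := g) hg
  rw [A.M₂_swap] at this
  exact this

/-- **`H` permutes `{M₁, M₂}`.** -/
theorem perm {g : M ≃ₗ[F] M} (hg : g ∈ D.H) :
    g ∈ A.H0 ∨ ((∀ m ∈ A.M₁, g m ∈ A.M₂) ∧ ∀ m ∈ A.M₂, g m ∈ A.M₁) := by
  have hsurj : ∀ v, ∃ x ∈ A.M₁, ∃ y ∈ A.M₂, v = g x + g y := by
    intro v
    have h1 : g⁻¹ v ∈ A.M₁ ⊔ A.M₂ := by rw [A.isCompl.sup_eq_top]; trivial
    obtain ⟨x, hx, y, hy, h⟩ := Submodule.mem_sup.1 h1
    exact ⟨x, hx, y, hy, by rw [← map_add, h]; exact (g.apply_symm_apply v).symm⟩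
  rcases A.map_M₁ hg with h1 | h1 <;> rcases A.map_M₂ hg with h2 | h2
  · exact Or.inl ⟨hg, h1, h2⟩
  · exfalso
    obtain ⟨x, hx, y, hy, h⟩ := hsurj D.e₂
    apply D.e₂_ne
    refine (Submodule.disjoint_def.1 A.isCompl.disjoint) _ ?_ A.e₂_mem
    rw [h]
    exact add_mem (h1 x hx) (h2 y hy)
  · exfalso
    obtain ⟨x, hx, y, hy, h⟩ := hsurj D.e₁
    apply D.e₁_ne
    refine (Submodule.disjoint_def.1 A.isCompl.disjoint) _ A.e₁_mem ?_
    rw [h]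
    exact add_mem (h1 x hx) (h2 y hy)
  · exact Or.inr ⟨h1, h2⟩

/-- **The transvections.** -/
theorem trans {m φ : M} (hm : m ∈ A.M₁) (hφ : φ ∈ A.M₂) (h0 : D.f m φ = 0) (a : F) :
    ∃ h ∈ A.H0, ∀ x, h x = x + a • (D.f x m • φ + D.f x φ • m) := by
  by_cases hm0 : m = 0
  · exact ⟨1, A.H0.one_mem, fun x => by simp [hm0]⟩
  by_cases hφ0 : φ = 0
  · exact ⟨1, A.H0.one_mem, fun x => by simp [hφ0]⟩
  obtain ⟨k, hk, b, c, hb, hc, k1, k2⟩ := A.orbit hm hφ hm0 hφ0 h0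
  have h1 : m ∈ D.E k := by
    rw [← inv_smul_smul₀ hb m, ← k1]
    exact Submodule.smul_mem _ _ (left_mem_E k)
  have h2 : φ ∈ D.E k := by
    rw [← inv_smul_smul₀ hc φ, ← k2]
    exact Submodule.smul_mem _ _ (right_mem_E k)
  obtain ⟨h, hh, hx⟩ := D.root hk.1 h1 h2 a
  refine ⟨h, ⟨hh, fun x hx1 => ?_, fun x hx1 => ?_⟩, hx⟩
  · rw [hx, A.f_M₁ hx1 hm, zero_smul, zero_add]
    exact add_mem hx1 (Submodule.smul_mem _ _ (Submodule.smul_mem _ _ hm))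
  · rw [hx, A.f_M₂ hx1 hφ, zero_smul, add_zero]
    exact add_mem hx1 (Submodule.smul_mem _ _ (Submodule.smul_mem _ _ hφ))

/-- **`J` is the full unipotent radical** of the stabiliser of `e` in the group of all isometries preserving
`M₁` and `M₂`. -/
theorem J_full {g : M ≃ₗ[F] M} (hs : ∀ m, D.s (g m) = D.s m) (h₁ : ∀ m ∈ A.M₁, g m ∈ A.M₁)
    (h₂ : ∀ m ∈ A.M₂, g m ∈ A.M₂) (he₁ : g D.e₁ = D.e₁) (he₂ : g D.e₂ = D.e₂)
    (hP : ∀ m, D.f D.e₁ m = 0 → D.f D.e₂ m = 0 → g m - m ∈ D.E 1) : g ∈ D.J := by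
  have hf : ∀ x y, D.f (g x) (g y) = D.f x y := by
    intro x y
    have h := D.s_add (g x) (g y)
    rw [← map_add, hs, hs, hs, D.s_add] at h
    linear_combination -h
  obtain ⟨j, hj, hj1, hj2⟩ := D.Jall (D.y₁ (A.pr (g A.c₁))) (D.y₂ (A.pr (g A.c₂)))
  have hjH := D.J_le hj
  obtain ⟨a1, a2, a3⟩ := A.J_c₁ hj
  obtain ⟨b1, b2, b3⟩ := A.J_c₂ hj
  have g1 : D.f (g A.c₁) D.e₂ = 1 := by
    conv_lhs => rw [← he₂]
    rw [hf, A.f12]
  have g2 : D.f (g A.c₂) D.e₁ = 1 := by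
    conv_lhs => rw [← he₁]
    rw [hf, A.f21]
  have g3 : D.f (g A.c₁) (g A.c₂) = 0 := by rw [hf, A.fc]
  obtain ⟨a, ha⟩ : ∃ a : F, g A.c₁ = j A.c₁ + a • D.e₁ := by
    have hd : g A.c₁ - j A.c₁ ∈ A.M₁ := sub_mem (h₁ _ A.c₁_mem) a1
    have h3 := A.M₁_eq hd
    have h4 : A.pr (g A.c₁ - j A.c₁) = 0 := by
      refine A.U_eq_zero (A.inU_pr _) ?_ (A.mem_M₁.1 hd).2.2
      rw [map_sub, map_sub, a2, hj1, sub_self]
    have h5 : D.f (g A.c₁ - j A.c₁) D.e₂ = 0 := by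
      rw [map_sub, LinearMap.sub_apply, g1, a3, sub_self]
    rw [h4, h5, zero_smul, add_zero, add_zero] at h3
    exact ⟨_, by rw [← h3]; abel⟩
  obtain ⟨c, hc⟩ : ∃ c : F, g A.c₂ = j A.c₂ + c • D.e₂ := by
    have hd : g A.c₂ - j A.c₂ ∈ A.M₂ := sub_mem (h₂ _ A.c₂_mem) b1
    have h3 := A.swap.M₁_eq hd
    rw [A.pr_swap] at h3
    have h4 : A.pr (g A.c₂ - j A.c₂) = 0 := by
      refine A.U_eq_zero (A.inU_pr _) (A.mem_M₂.1 hd).2.2 ?_
      rw [map_sub, map_sub, b2, hj2, sub_self]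
    have h5 : D.f (g A.c₂ - j A.c₂) D.e₁ = 0 := by
      rw [map_sub, LinearMap.sub_apply, g2, b3, sub_self]
    have h6 : D.swap.f (g A.c₂ - j A.c₂) D.swap.e₂ = 0 := h5
    rw [h4, h6, zero_smul, add_zero, add_zero] at h3
    exact ⟨_, by rw [sub_eq_iff_eq_add'] at h3; exact h3⟩
  have hac : a = c := by
    have h3 : D.f (g A.c₁) (g A.c₂) = D.f (j A.c₁) (j A.c₂) + c * D.f (j A.c₁) D.e₂ +
        a * D.f D.e₁ (j A.c₂) + a * c * D.f D.e₁ D.e₂ := by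
      rw [ha, hc]
      simp only [map_add, map_smul, LinearMap.add_apply, LinearMap.smul_apply, smul_eq_mul]
      ring
    rw [g3, D.isomf hjH, A.fc, a3, D.f_symm D.e₁, b3, D.e_perp] at h3
    linear_combination -h3 - c * D.two
  obtain ⟨x, hx, hxm⟩ := D.Jn a
  have hc₁ : g A.c₁ = (j * x) A.c₁ := by
    rw [LinearEquiv.mul_apply, hxm, A.f11, A.f12, ha, zero_smul, zero_add, one_smul, map_add, map_smul,
      D.j_e₁ hj]
  have hc₂ : g A.c₂ = (j * x) A.c₂ := by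
    rw [LinearEquiv.mul_apply, hxm, A.f21, A.f22, hc, ← hac, zero_smul, add_zero, one_smul, map_add, map_smul,
      D.j_e₂ hj]
  -- on `U`
  have hU : ∀ u, A.InU u → g u = (j * x) u := by
    intro u hu
    have hPu := InU.inP A hu
    obtain ⟨p, q, hpq⟩ := D.mem_E_one.1 (hP u hPu.1 hPu.2)
    have h3 : g u = u + p • D.e₁ + q • D.e₂ := by rw [add_assoc, ← hpq]; abel
    have hq : q = D.b (D.χ₁ j) (D.y₂ u) := by
      have h4 := hf A.c₁ u
      have h5 : D.f (g A.c₁) D.e₁ = 0 := by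
        conv_lhs => rw [← he₁]
        rw [hf, A.f11]
      rw [D.f_symm A.c₁ u, hu.2.2.1, h3] at h4
      simp only [map_add, map_smul, smul_eq_mul, g1, h5, mul_zero, add_zero, mul_one] at h4
      rw [← A.f_pr hu, A.fy_U (A.inU_pr _) hu, (A.mem_M₁.1 (h₁ _ A.c₁_mem)).2.2, map_zero, add_zero, ← hj1] at h4
      linear_combination h4 - D.b (D.χ₁ j) (D.y₂ u) * D.two
    have hp : p = D.b (D.y₁ u) (D.χ₂ j) := by
      have h4 := hf A.c₂ u
      have h5 : D.f (g A.c₂) D.e₂ = 0 := by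
        conv_lhs => rw [← he₂]
        rw [hf, A.f22]
      rw [D.f_symm A.c₂ u, hu.2.2.2, h3] at h4
      simp only [map_add, map_smul, smul_eq_mul, g2, h5, mul_zero, add_zero, mul_one] at h4
      rw [← A.f_pr hu, A.fy_U (A.inU_pr _) hu, (A.mem_M₂.1 (h₂ _ A.c₂_mem)).2.2, map_zero,
        LinearMap.zero_apply, zero_add, ← hj2] at h4
      linear_combination h4 - D.b (D.y₁ u) (D.χ₂ j) * D.two
    rw [LinearEquiv.mul_apply, hxm, hu.1, hu.2.1, zero_smul, zero_smul, add_zero, smul_zero, add_zero,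
      D.JP j hj u hPu.1 hPu.2, h3, hp, hq]
  have hgj : g = j * x := by
    ext m
    rw [A.eq_add m]
    have h5 : (j * x) D.e₁ = D.e₁ := D.j_e₁ (D.J.mul_mem hj hx)
    have h6 : (j * x) D.e₂ = D.e₂ := D.j_e₂ (D.J.mul_mem hj hx)
    simp only [map_add, map_smul, he₁, he₂, hc₁, hc₂, hU _ (A.inU_pr m), h5, h6]
  rw [hgj]
  exact D.J.mul_mem hj hx

end Fr

/-- **The output of THEOREM SL.** -/
structure Out (D : Spl F M Φ₁ Φ₂) (M₁ M₂ : Submodule F M) : Prop where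
  isCompl : IsCompl M₁ M₂
  sing₁ : ∀ m ∈ M₁, D.s m = 0
  sing₂ : ∀ m ∈ M₂, D.s m = 0
  e₁_mem : D.e₁ ∈ M₁
  e₂_mem : D.e₂ ∈ M₂
  dual₁ : ∀ m ∈ M₁, (∀ φ ∈ M₂, D.f m φ = 0) → m = 0
  dual₂ : ∀ φ ∈ M₂, (∀ m ∈ M₁, D.f φ m = 0) → φ = 0
  /-- `H` permutes `{M₁, M₂}` -/
  perm : ∀ g ∈ D.H, ((∀ m ∈ M₁, g m ∈ M₁) ∧ ∀ m ∈ M₂, g m ∈ M₂) ∨
    ((∀ m ∈ M₁, g m ∈ M₂) ∧ ∀ m ∈ M₂, g m ∈ M₁)
  /-- all transvections of `SL(M₁)` are in `H` -/
  trans : ∀ m ∈ M₁, ∀ φ ∈ M₂, D.f m φ = 0 → ∀ a : F, ∃ h ∈ D.H, ∀ x,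
    h x = x + a • (D.f x m • φ + D.f x φ • m)
  /-- the conjugates of `e` are the incident pairs -/
  conj : ∀ g ∈ D.H, ∃ m ∈ M₁, ∃ φ ∈ M₂, m ≠ 0 ∧ φ ≠ 0 ∧ D.f m φ = 0 ∧
    D.E g = Submodule.span F {m, φ}
  /-- the subgroup of `H` preserving `M₁` and `M₂` is transitive on the incident pairs -/
  orbit : ∀ m ∈ M₁, ∀ φ ∈ M₂, m ≠ 0 → φ ≠ 0 → D.f m φ = 0 → ∃ g ∈ D.H,
    ((∀ m ∈ M₁, g m ∈ M₁) ∧ ∀ m ∈ M₂, g m ∈ M₂) ∧
      ∃ a c : F, a ≠ 0 ∧ c ≠ 0 ∧ g D.e₁ = a • m ∧ g D.e₂ = c • φ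
  /-- `J` is the full unipotent radical of the stabiliser of `e` -/
  J_full : ∀ g : M ≃ₗ[F] M, (∀ m, D.s (g m) = D.s m) → (∀ m ∈ M₁, g m ∈ M₁) → (∀ m ∈ M₂, g m ∈ M₂) →
    g D.e₁ = D.e₁ → g D.e₂ = D.e₂ → (∀ m, D.f D.e₁ m = 0 → D.f D.e₂ m = 0 → g m - m ∈ D.E 1) → g ∈ D.J

theorem E_eq_span {k : M ≃ₗ[F] M} : D.E k = Submodule.span F {k D.e₁, k D.e₂} := rfl

variable (D)

/-- **THEOREM SL** (bb #14483): `M = M₁ ⊕ M₂`, both totally singular, `H` permutes `{M₁, M₂}` and contains `SL(M₁)`. -/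
theorem main : ∃ M₁ M₂ : Submodule F M, Out D M₁ M₂ := by
  obtain ⟨A⟩ := D.exists_fr
  refine ⟨A.M₁, A.M₂, A.isCompl, fun m => A.s_M₁, fun m => A.s_M₂, A.e₁_mem, A.e₂_mem,
    fun m => A.dual₁, fun m => A.dual₂, fun g hg => ?_, fun m hm φ hφ h0 a => ?_, fun g hg => ?_,
    fun m hm φ hφ h1 h2 h3 => ?_, fun g hs h1 h2 h3 h4 h5 => A.J_full hs h1 h2 h3 h4 h5⟩
  · rcases A.perm hg with h | h
    · exact Or.inl h.2
    · exact Or.inr h
  · obtain ⟨h, hh, hx⟩ := A.trans hm hφ h0 a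
    exact ⟨h, hh.1, hx⟩
  · obtain ⟨k, hk, hE⟩ := A.conj hg
    refine ⟨k D.e₁, hk.2.1 _ A.e₁_mem, k D.e₂, hk.2.2 _ A.e₂_mem, ?_, ?_, ?_, hE⟩
    · simpa using D.e₁_ne
    · simpa using D.e₂_ne
    · rw [D.isomf hk.1, D.e_perp]
  · obtain ⟨g, hg, a, c, h4⟩ := A.orbit hm hφ h1 h2 h3
    exact ⟨g, hg.1, hg.2, a, c, h4⟩

end Spl

end Cfsg.Agent.Omega.NOne.SL

end

end

-- merged: Cfsg.Agent.Mrg.Omega.NOne.SL.OfDec
section

section


/-!
# THEOREM SL: the input from a decomposition `M = N₁ ⊕ N₂`, and `M₁ = N₁`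
-/

set_option autoImplicit false
set_option linter.unusedSimpArgs false

namespace Cfsg.Agent.Omega.NOne.SL

/-- An input of THEOREM SL in which `M` is already decomposed; `e₁ ∈ N₁`, `e₂ ∈ N₂`. -/
structure Dec (F M : Type*) [Field F] [AddCommGroup M] [Module F M] where
  two : (2 : F) = 0
  four : ∃ a : F, a ≠ 0 ∧ a ≠ 1
  f : M →ₗ[F] M →ₗ[F] F
  s : M → F
  s_add : ∀ x y, s (x + y) = s x + s y + f x y
  s_smul : ∀ (c : F) x, s (c • x) = c ^ 2 * s x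
  nondeg : ∀ m, (∀ m', f m m' = 0) → m = 0
  H : Subgroup (M ≃ₗ[F] M)
  isom : ∀ g ∈ H, ∀ m, s (g m) = s m
  N₁ : Submodule F M
  N₂ : Submodule F M
  isCompl : IsCompl N₁ N₂
  sing₁ : ∀ m ∈ N₁, s m = 0
  sing₂ : ∀ m ∈ N₂, s m = 0
  e₁ : M
  e₂ : M
  e₁_mem : e₁ ∈ N₁
  e₂_mem : e₂ ∈ N₂
  e₁_ne : e₁ ≠ 0
  e₂_ne : e₂ ≠ 0
  perp : f e₁ e₂ = 0
  /-- elements of `H` which are trivial on `e`, `P/e`, `M/P` preserve `N₁` and `N₂` -/
  Jpres : ∀ g ∈ H, g e₁ = e₁ → g e₂ = e₂ →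
    (∀ m, f e₁ m = 0 → f e₂ m = 0 → ∃ a c : F, g m - m = a • e₁ + c • e₂) →
    (∀ m, f e₁ (g m - m) = 0 ∧ f e₂ (g m - m) = 0) → (∀ m ∈ N₁, g m ∈ N₁) ∧ ∀ m ∈ N₂, g m ∈ N₂
  J0 : ∀ a : F, ∃ j ∈ H, ∀ m, j m = m + a • (f m e₁ • e₂ + f m e₂ • e₁)
  J1 : ∀ φ ∈ N₂, f e₁ φ = 0 → ∃ j ∈ H, (∀ m, f e₁ m = 0 → f e₂ m = 0 → j m = m + f m φ • e₁) ∧
    ∀ m, f e₁ (j m - m) = 0 ∧ f e₂ (j m - m) = 0
  J2 : ∀ φ ∈ N₁, f e₂ φ = 0 → ∃ j ∈ H, (∀ m, f e₁ m = 0 → f e₂ m = 0 → j m = m + f m φ • e₂) ∧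
    ∀ m, f e₁ (j m - m) = 0 ∧ f e₂ (j m - m) = 0
  Se : ∀ g ∈ H, (∃ a c : F, g e₁ = a • e₁ + c • e₂) → (∃ a c : F, g e₂ = a • e₁ + c • e₂) →
    ((∃ a : F, g e₁ = a • e₁) ∧ ∃ a : F, g e₂ = a • e₂) ∨
      ((∃ a : F, g e₁ = a • e₂) ∧ ∃ a : F, g e₂ = a • e₁)
  Om : ∀ N : Submodule F M, (∀ g ∈ H, g e₁ ∈ N ∧ g e₂ ∈ N) → N = ⊤

namespace Dec

variable {F M : Type*} [Field F] [AddCommGroup M] [Module F M] (D : Dec F M)

/-- `P = e^⊥` -/
def P : Submodule F M := LinearMap.ker (D.f D.e₁) ⊓ LinearMap.ker (D.f D.e₂)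

theorem mem_P {m : M} : m ∈ D.P ↔ D.f D.e₁ m = 0 ∧ D.f D.e₂ m = 0 := Iff.rfl

include D in
theorem dbl (a : F) : a + a = 0 := by
  rw [← two_mul, D.two, zero_mul]

include D in
theorem dblM (m : M) : m + m = 0 := by
  rw [← two_smul F m, D.two, zero_smul]

theorem s_zero : D.s 0 = 0 := by
  have := D.s_smul 0 0
  simpa using this

theorem f_self (m : M) : D.f m m = 0 := by
  have h := D.s_add m m
  rw [D.dblM, D.s_zero, D.dbl, zero_add] at h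
  exact h.symm

theorem f_symm (x y : M) : D.f x y = D.f y x := by
  have h := D.s_add x y
  have h' := D.s_add y x
  rw [add_comm y x, h] at h'
  linear_combination h'

theorem isomf {g : M ≃ₗ[F] M} (hg : g ∈ D.H) (x y : M) : D.f (g x) (g y) = D.f x y := by
  have h := D.s_add (g x) (g y)
  rw [← map_add, D.isom g hg, D.isom g hg, D.isom g hg, D.s_add] at h
  linear_combination -h

theorem f_N₁ {m n : M} (hm : m ∈ D.N₁) (hn : n ∈ D.N₁) : D.f m n = 0 := by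
  have h := D.s_add m n
  rw [D.sing₁ _ (add_mem hm hn), D.sing₁ _ hm, D.sing₁ _ hn] at h
  linear_combination -h

theorem f_N₂ {m n : M} (hm : m ∈ D.N₂) (hn : n ∈ D.N₂) : D.f m n = 0 := by
  have h := D.s_add m n
  rw [D.sing₂ _ (add_mem hm hn), D.sing₂ _ hm, D.sing₂ _ hn] at h
  linear_combination -h

/-- the projections -/
noncomputable def p₁ : M →ₗ[F] M := D.N₁.projection D.N₂ D.isCompl

noncomputable def p₂ : M →ₗ[F] M := D.N₂.projection D.N₁ D.isCompl.symm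

theorem p₁_mem (m : M) : D.p₁ m ∈ D.N₁ := by
  rw [p₁, Submodule.projection_apply]
  exact SetLike.coe_mem _

theorem p₂_mem (m : M) : D.p₂ m ∈ D.N₂ := by
  rw [p₂, Submodule.projection_apply]
  exact SetLike.coe_mem _

theorem p₁_of_mem {m : M} (h : m ∈ D.N₁) : D.p₁ m = m := by
  rw [p₁, Submodule.projection_apply, Submodule.projectionOnto_apply_of_mem_left _ h]

theorem p₂_of_mem {m : M} (h : m ∈ D.N₂) : D.p₂ m = m := by
  rw [p₂, Submodule.projection_apply, Submodule.projectionOnto_apply_of_mem_left _ h]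

theorem p₁_zero {m : M} (h : m ∈ D.N₂) : D.p₁ m = 0 := by
  rw [p₁, Submodule.projection_apply, (Submodule.projectionOnto_apply_eq_zero_iff _).2 h]
  rfl

theorem p₂_zero {m : M} (h : m ∈ D.N₁) : D.p₂ m = 0 := by
  rw [p₂, Submodule.projection_apply, (Submodule.projectionOnto_apply_eq_zero_iff _).2 h]
  rfl

theorem p_add (m : M) : m = D.p₁ m + D.p₂ m := by
  have h1 : m ∈ D.N₁ ⊔ D.N₂ := by rw [D.isCompl.sup_eq_top]; trivial
  obtain ⟨x, hx, y, hy, rfl⟩ := Submodule.mem_sup.1 h1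
  rw [map_add, map_add, D.p₁_of_mem hx, D.p₁_zero hy, D.p₂_zero hx, D.p₂_of_mem hy, add_zero, zero_add]

theorem p₁_P {m : M} (h : m ∈ D.P) : D.p₁ m ∈ D.P := by
  rw [mem_P]
  refine ⟨D.f_N₁ D.e₁_mem (D.p₁_mem m), ?_⟩
  have h1 := (D.mem_P.1 h).2
  rw [D.p_add m, map_add, D.f_N₂ D.e₂_mem (D.p₂_mem m), add_zero] at h1
  exact h1

theorem p₂_P {m : M} (h : m ∈ D.P) : D.p₂ m ∈ D.P := by
  rw [mem_P]
  refine ⟨?_, D.f_N₂ D.e₂_mem (D.p₂_mem m)⟩
  have h1 := (D.mem_P.1 h).1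
  rw [D.p_add m, map_add, D.f_N₁ D.e₁_mem (D.p₁_mem m), zero_add] at h1
  exact h1

theorem e₁_P : D.e₁ ∈ D.P := ⟨D.f_self _, by
  change D.f D.e₂ D.e₁ = 0
  rw [D.f_symm, D.perp]⟩

theorem e₂_P : D.e₂ ∈ D.P := ⟨D.perp, D.f_self _⟩

theorem disj {x : M} (h1 : x ∈ D.N₁) (h2 : x ∈ D.N₂) : x = 0 :=
  (Submodule.disjoint_def.1 D.isCompl.disjoint) x h1 h2

theorem e_ind {a c : F} (h : a • D.e₁ + c • D.e₂ = 0) : a = 0 ∧ c = 0 := by
  have h1 : a • D.e₁ = 0 := by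
    refine D.disj (Submodule.smul_mem _ _ D.e₁_mem) ?_
    rw [eq_neg_of_add_eq_zero_left h]
    exact neg_mem (Submodule.smul_mem _ _ D.e₂_mem)
  have h2 : c • D.e₂ = 0 := by rw [h1, zero_add] at h; exact h
  exact ⟨(smul_eq_zero.1 h1).resolve_right D.e₁_ne, (smul_eq_zero.1 h2).resolve_right D.e₂_ne⟩

theorem exists_c₂ : ∃ c ∈ D.N₂, D.f D.e₁ c = 1 := by
  have h : ∃ m, D.f D.e₁ m ≠ 0 := by
    by_contra hc
    push Not at hc
    exact D.e₁_ne (D.nondeg _ hc)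
  obtain ⟨m, hm⟩ := h
  refine ⟨(D.f D.e₁ m)⁻¹ • D.p₂ m, Submodule.smul_mem _ _ (D.p₂_mem m), ?_⟩
  have h1 : D.f D.e₁ (D.p₂ m) = D.f D.e₁ m := by
    conv_rhs => rw [D.p_add m, map_add, D.f_N₁ D.e₁_mem (D.p₁_mem m), zero_add]
  rw [map_smul, h1, smul_eq_mul, inv_mul_cancel₀ hm]

theorem exists_c₁ : ∃ c ∈ D.N₁, D.f D.e₂ c = 1 := by
  have h : ∃ m, D.f D.e₂ m ≠ 0 := by
    by_contra hc
    push Not at hc
    exact D.e₂_ne (D.nondeg _ hc)
  obtain ⟨m, hm⟩ := h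
  refine ⟨(D.f D.e₂ m)⁻¹ • D.p₁ m, Submodule.smul_mem _ _ (D.p₁_mem m), ?_⟩
  have h1 : D.f D.e₂ (D.p₁ m) = D.f D.e₂ m := by
    conv_rhs => rw [D.p_add m, map_add, D.f_N₂ D.e₂_mem (D.p₂_mem m), add_zero]
  rw [map_smul, h1, smul_eq_mul, inv_mul_cancel₀ hm]

/-- the kernel of `y₁` on `P` -/
def K₁ : Submodule F D.P := (D.N₂ ⊔ Submodule.span F {D.e₁}).comap D.P.subtype

def K₂ : Submodule F D.P := (D.N₁ ⊔ Submodule.span F {D.e₂}).comap D.P.subtype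

abbrev Φ₁ : Type _ := D.P ⧸ D.K₁

abbrev Φ₂ : Type _ := D.P ⧸ D.K₂

theorem mem_K₁ {m : D.P} : m ∈ D.K₁ ↔ ∃ a : F, D.p₁ m = a • D.e₁ := by
  change (m : M) ∈ D.N₂ ⊔ Submodule.span F {D.e₁} ↔ _
  rw [Submodule.mem_sup]
  constructor
  · rintro ⟨y, hy, z, hz, h⟩
    obtain ⟨a, rfl⟩ := Submodule.mem_span_singleton.1 hz
    exact ⟨a, by rw [← h, map_add, D.p₁_zero hy, zero_add, D.p₁_of_mem (Submodule.smul_mem _ _ D.e₁_mem)]⟩
  · rintro ⟨a, h⟩
    exact ⟨D.p₂ m, D.p₂_mem _, a • D.e₁, Submodule.mem_span_singleton.2 ⟨a, rfl⟩, by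
      rw [← h, add_comm]; exact (D.p_add m).symm⟩

theorem mem_K₂ {m : D.P} : m ∈ D.K₂ ↔ ∃ a : F, D.p₂ m = a • D.e₂ := by
  change (m : M) ∈ D.N₁ ⊔ Submodule.span F {D.e₂} ↔ _
  rw [Submodule.mem_sup]
  constructor
  · rintro ⟨y, hy, z, hz, h⟩
    obtain ⟨a, rfl⟩ := Submodule.mem_span_singleton.1 hz
    exact ⟨a, by rw [← h, map_add, D.p₂_zero hy, zero_add, D.p₂_of_mem (Submodule.smul_mem _ _ D.e₂_mem)]⟩
  · rintro ⟨a, h⟩
    exact ⟨D.p₁ m, D.p₁_mem _, a • D.e₂, Submodule.mem_span_singleton.2 ⟨a, rfl⟩, by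
      rw [← h]; exact (D.p_add m).symm⟩

noncomputable def y₁ : M →ₗ[F] D.Φ₁ := (LinearMap.exists_extend D.K₁.mkQ).choose

noncomputable def y₂ : M →ₗ[F] D.Φ₂ := (LinearMap.exists_extend D.K₂.mkQ).choose

theorem y₁_eq {m : M} (h : m ∈ D.P) : D.y₁ m = D.K₁.mkQ ⟨m, h⟩ :=
  LinearMap.congr_fun (LinearMap.exists_extend D.K₁.mkQ).choose_spec ⟨m, h⟩

theorem y₂_eq {m : M} (h : m ∈ D.P) : D.y₂ m = D.K₂.mkQ ⟨m, h⟩ :=
  LinearMap.congr_fun (LinearMap.exists_extend D.K₂.mkQ).choose_spec ⟨m, h⟩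

theorem y₁_zero {m : M} (h : m ∈ D.P) : D.y₁ m = 0 ↔ ∃ a : F, D.p₁ m = a • D.e₁ := by
  rw [D.y₁_eq h, Submodule.mkQ_apply, Submodule.Quotient.mk_eq_zero, D.mem_K₁]

theorem y₂_zero {m : M} (h : m ∈ D.P) : D.y₂ m = 0 ↔ ∃ a : F, D.p₂ m = a • D.e₂ := by
  rw [D.y₂_eq h, Submodule.mkQ_apply, Submodule.Quotient.mk_eq_zero, D.mem_K₂]

/-- the pairing on `P × P` -/
noncomputable def β : D.P →ₗ[F] D.P →ₗ[F] F := (D.f.compl₁₂ D.p₁ D.p₂).domRestrict₁₂ D.P D.P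

theorem β_apply (m n : D.P) : D.β m n = D.f (D.p₁ m) (D.p₂ n) := rfl

theorem f_e₁_P {n : M} (hn : n ∈ D.P) (a : F) : D.f (a • D.e₁) n = 0 := by
  rw [map_smul, LinearMap.smul_apply, (D.mem_P.1 hn).1, smul_zero]

theorem f_e₂_P {n : M} (hn : n ∈ D.P) (a : F) : D.f n (a • D.e₂) = 0 := by
  rw [map_smul, D.f_symm, (D.mem_P.1 hn).2, smul_zero]

/-- the pairing `Φ₁ × Φ₂ → F` -/
noncomputable def b : D.Φ₁ →ₗ[F] D.Φ₂ →ₗ[F] F :=
  D.K₁.liftQ (((Submodule.liftQ D.K₂ (D.β.flip) (by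
    intro n hn
    obtain ⟨a, ha⟩ := D.mem_K₂.1 hn
    rw [LinearMap.mem_ker]
    ext m
    rw [LinearMap.flip_apply, D.β_apply, ha, D.f_e₂_P (D.p₁_P m.2)]
    rfl)).flip)) (by
    intro m hm
    obtain ⟨a, ha⟩ := D.mem_K₁.1 hm
    rw [LinearMap.mem_ker]
    refine LinearMap.ext fun x => ?_
    obtain ⟨n, rfl⟩ := D.K₂.mkQ_surjective x
    change D.f (D.p₁ m) (D.p₂ n) = 0
    rw [ha, D.f_e₁_P (D.p₂_P n.2)])

theorem b_y {m n : M} (hm : m ∈ D.P) (hn : n ∈ D.P) : D.b (D.y₁ m) (D.y₂ n) = D.f (D.p₁ m) (D.p₂ n) := by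
  rw [D.y₁_eq hm, D.y₂_eq hn]
  rfl

theorem y₁_surj (x : D.Φ₁) : ∃ m ∈ D.P, m ∈ D.N₁ ∧ D.y₁ m = x := by
  obtain ⟨m, rfl⟩ := D.K₁.mkQ_surjective x
  refine ⟨D.p₁ m, D.p₁_P m.2, D.p₁_mem _, ?_⟩
  rw [← sub_eq_zero, D.y₁_eq (D.p₁_P m.2), ← map_sub, Submodule.mkQ_apply, Submodule.Quotient.mk_eq_zero,
    D.mem_K₁]
  refine ⟨0, ?_⟩
  change D.p₁ (D.p₁ m - m) = _
  rw [map_sub, D.p₁_of_mem (D.p₁_mem _), sub_self, zero_smul]

theorem y₂_surj (x : D.Φ₂) : ∃ m ∈ D.P, m ∈ D.N₂ ∧ D.y₂ m = x := by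
  obtain ⟨m, rfl⟩ := D.K₂.mkQ_surjective x
  refine ⟨D.p₂ m, D.p₂_P m.2, D.p₂_mem _, ?_⟩
  rw [← sub_eq_zero, D.y₂_eq (D.p₂_P m.2), ← map_sub, Submodule.mkQ_apply, Submodule.Quotient.mk_eq_zero,
    D.mem_K₂]
  refine ⟨0, ?_⟩
  change D.p₂ (D.p₂ m - m) = _
  rw [map_sub, D.p₂_of_mem (D.p₂_mem _), sub_self, zero_smul]

theorem y₁_N₂ {m : M} (hP : m ∈ D.P) (h : m ∈ D.N₂) : D.y₁ m = 0 :=
  (D.y₁_zero hP).2 ⟨0, by rw [D.p₁_zero h, zero_smul]⟩

theorem y₂_N₁ {m : M} (hP : m ∈ D.P) (h : m ∈ D.N₁) : D.y₂ m = 0 :=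
  (D.y₂_zero hP).2 ⟨0, by rw [D.p₂_zero h, zero_smul]⟩

theorem b_left (x : D.Φ₁) (h : ∀ y, D.b x y = 0) : x = 0 := by
  obtain ⟨m, hm, hm1, rfl⟩ := D.y₁_surj x
  obtain ⟨c, hc, hc1⟩ := D.exists_c₂
  rw [D.y₁_zero hm, D.p₁_of_mem hm1]
  refine ⟨D.f m c, ?_⟩
  rw [← sub_eq_zero]
  refine D.nondeg _ fun n => ?_
  have h1 : m - D.f m c • D.e₁ ∈ D.N₁ := sub_mem hm1 (Submodule.smul_mem _ _ D.e₁_mem)
  rw [D.p_add n, map_add, D.f_N₁ h1 (D.p₁_mem n), zero_add]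
  set z := D.p₂ n
  have hz : z ∈ D.N₂ := D.p₂_mem n
  have h2 : z - D.f D.e₁ z • c ∈ D.N₂ := sub_mem hz (Submodule.smul_mem _ _ hc)
  have h3 : z - D.f D.e₁ z • c ∈ D.P := by
    rw [mem_P]
    refine ⟨?_, D.f_N₂ D.e₂_mem h2⟩
    rw [map_sub, map_smul, hc1, smul_eq_mul, mul_one, sub_self]
  have h4 := h (D.y₂ (z - D.f D.e₁ z • c))
  rw [D.b_y hm h3, D.p₁_of_mem hm1, D.p₂_of_mem h2, map_sub, map_smul, smul_eq_mul] at h4
  rw [map_sub, LinearMap.sub_apply, map_smul, LinearMap.smul_apply, smul_eq_mul]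
  linear_combination h4

theorem b_right (y : D.Φ₂) (h : ∀ x, D.b x y = 0) : y = 0 := by
  obtain ⟨m, hm, hm1, rfl⟩ := D.y₂_surj y
  obtain ⟨c, hc, hc1⟩ := D.exists_c₁
  rw [D.y₂_zero hm, D.p₂_of_mem hm1]
  refine ⟨D.f m c, ?_⟩
  rw [← sub_eq_zero]
  refine D.nondeg _ fun n => ?_
  have h1 : m - D.f m c • D.e₂ ∈ D.N₂ := sub_mem hm1 (Submodule.smul_mem _ _ D.e₂_mem)
  rw [D.p_add n, map_add, D.f_N₂ h1 (D.p₂_mem n), add_zero]
  set z := D.p₁ n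
  have hz : z ∈ D.N₁ := D.p₁_mem n
  have h2 : z - D.f D.e₂ z • c ∈ D.N₁ := sub_mem hz (Submodule.smul_mem _ _ hc)
  have h3 : z - D.f D.e₂ z • c ∈ D.P := by
    rw [mem_P]
    refine ⟨D.f_N₁ D.e₁_mem h2, ?_⟩
    rw [map_sub, map_smul, hc1, smul_eq_mul, mul_one, sub_self]
  have h4 := h (D.y₁ (z - D.f D.e₂ z • c))
  rw [D.b_y h3 hm, D.p₁_of_mem h2, D.p₂_of_mem hm1, D.f_symm, map_sub, map_smul, smul_eq_mul] at h4
  rw [map_sub, LinearMap.sub_apply, map_smul, LinearMap.smul_apply, smul_eq_mul]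
  linear_combination h4

/-- the unipotent radical of the stabiliser of `e` in `H` -/
def J : Subgroup (M ≃ₗ[F] M) where
  carrier := {g | g ∈ D.H ∧ g D.e₁ = D.e₁ ∧ g D.e₂ = D.e₂ ∧
    (∀ m ∈ D.P, ∃ a c : F, g m - m = a • D.e₁ + c • D.e₂) ∧ ∀ m, g m - m ∈ D.P}
  mul_mem' := by
    rintro g h ⟨g1, g2, g3, g4, g5⟩ ⟨h1, h2, h3, h4, h5⟩
    refine ⟨D.H.mul_mem g1 h1, ?_, ?_, ?_, ?_⟩
    · rw [LinearEquiv.mul_apply, h2, g2]
    · rw [LinearEquiv.mul_apply, h3, g3]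
    · intro m hm
      obtain ⟨a, c, h6⟩ := h4 m hm
      obtain ⟨a', c', h7⟩ := g4 m hm
      refine ⟨a + a', c + c', ?_⟩
      have h8 : (g * h) m - m = g (h m - m) + (g m - m) := by
        rw [LinearEquiv.mul_apply, map_sub]; abel
      rw [h8, h6, h7, map_add, map_smul, map_smul, g2, g3]
      module
    · intro m
      have h8 : (g * h) m - m = (g (h m) - h m) + (h m - m) := by
        rw [LinearEquiv.mul_apply]; abel
      rw [h8]
      exact add_mem (g5 _) (h5 m)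
  one_mem' := ⟨D.H.one_mem, rfl, rfl, fun m _ => ⟨0, 0, by simp⟩, fun m => by simp⟩
  inv_mem' := by
    rintro g ⟨g1, g2, g3, g4, g5⟩
    have hinv : ∀ v, g (g⁻¹ v) = v := fun v => g.apply_symm_apply v
    have e1 : g⁻¹ D.e₁ = D.e₁ := by
      apply g.injective; rw [hinv, g2]
    have e2 : g⁻¹ D.e₂ = D.e₂ := by
      apply g.injective; rw [hinv, g3]
    have hP : ∀ m, g⁻¹ m - m ∈ D.P := by
      intro m
      have h1 := g5 (g⁻¹ m)
      rw [hinv] at h1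
      have := neg_mem h1
      rwa [neg_sub] at this
    refine ⟨D.H.inv_mem g1, e1, e2, ?_, hP⟩
    intro m hm
    have h2 : g⁻¹ m ∈ D.P := by
      have := add_mem (hP m) hm
      rwa [sub_add_cancel] at this
    obtain ⟨a, c, h3⟩ := g4 _ h2
    refine ⟨-a, -c, ?_⟩
    rw [hinv] at h3
    rw [← neg_sub, h3]
    module

theorem J_iff {g : M ≃ₗ[F] M} : g ∈ D.J ↔ g ∈ D.H ∧ g D.e₁ = D.e₁ ∧ g D.e₂ = D.e₂ ∧
    (∀ m ∈ D.P, ∃ a c : F, g m - m = a • D.e₁ + c • D.e₂) ∧ ∀ m, g m - m ∈ D.P := Iff.rfl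

noncomputable def c₁ : M := D.exists_c₁.choose
noncomputable def c₂ : M := D.exists_c₂.choose
theorem c₁_mem : D.c₁ ∈ D.N₁ := D.exists_c₁.choose_spec.1
theorem c₂_mem : D.c₂ ∈ D.N₂ := D.exists_c₂.choose_spec.1
theorem f_c₁ : D.f D.e₂ D.c₁ = 1 := D.exists_c₁.choose_spec.2
theorem f_c₂ : D.f D.e₁ D.c₂ = 1 := D.exists_c₂.choose_spec.2

theorem pres {g : M ≃ₗ[F] M} (h : g ∈ D.J) : (∀ m ∈ D.N₁, g m ∈ D.N₁) ∧ ∀ m ∈ D.N₂, g m ∈ D.N₂ :=
  D.Jpres g h.1 h.2.1 h.2.2.1 (fun m h1 h2 => h.2.2.2.1 m ⟨h1, h2⟩) fun m => D.mem_P.1 (h.2.2.2.2 m)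

theorem JP_aux {g : M ≃ₗ[F] M} (h : g ∈ D.J) {m : M} (hm : m ∈ D.P) :
    g m = m + D.b (D.y₁ m) (D.y₂ (g D.c₂ - D.c₂)) • D.e₁ + D.b (D.y₁ (g D.c₁ - D.c₁)) (D.y₂ m) • D.e₂ := by
  obtain ⟨h1, h2⟩ := D.pres h
  have hc₁ : g D.c₁ - D.c₁ ∈ D.N₁ := sub_mem (h1 _ D.c₁_mem) D.c₁_mem
  have hc₂ : g D.c₂ - D.c₂ ∈ D.N₂ := sub_mem (h2 _ D.c₂_mem) D.c₂_mem
  have hc₁P := h.2.2.2.2 D.c₁
  have hc₂P := h.2.2.2.2 D.c₂
  rw [D.b_y hm hc₂P, D.b_y hc₁P hm, D.p₂_of_mem hc₂, D.p₁_of_mem hc₁]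
  have hm₁ := D.p₁_P hm
  have hm₂ := D.p₂_P hm
  have k1 := D.p₁_mem m
  have k2 := D.p₂_mem m
  conv_lhs => rw [D.p_add m, map_add]
  have e1 : g (D.p₁ m) = D.p₁ m + D.f (D.p₁ m) (g D.c₂ - D.c₂) • D.e₁ := by
    obtain ⟨a, c, hac⟩ := h.2.2.2.1 _ hm₁
    have hc0 : c • D.e₂ = 0 := by
      refine D.disj ?_ (Submodule.smul_mem _ _ D.e₂_mem)
      have : c • D.e₂ = (g (D.p₁ m) - D.p₁ m) - a • D.e₁ := by rw [hac]; abel
      rw [this]
      exact sub_mem (sub_mem (h1 _ k1) k1) (Submodule.smul_mem _ _ D.e₁_mem)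
    rw [hc0, add_zero] at hac
    have h3 : g (D.p₁ m) = D.p₁ m + a • D.e₁ := by rw [← hac]; abel
    have h4 := D.isomf h.1 (D.p₁ m) D.c₂
    have h5 : D.f D.e₁ (g D.c₂) = 1 := by
      conv_lhs => rw [← h.2.1]
      rw [D.isomf h.1, D.f_c₂]
    rw [h3, map_add, LinearMap.add_apply, map_smul, LinearMap.smul_apply, h5, smul_eq_mul, mul_one] at h4
    have h6 : a = D.f (D.p₁ m) (g D.c₂ - D.c₂) := by
      rw [map_sub]
      linear_combination h4 - (D.f (D.p₁ m) (g D.c₂) - D.f (D.p₁ m) D.c₂) * D.two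
    rw [h3, ← h6]
  have e2 : g (D.p₂ m) = D.p₂ m + D.f (g D.c₁ - D.c₁) (D.p₂ m) • D.e₂ := by
    obtain ⟨a, c, hac⟩ := h.2.2.2.1 _ hm₂
    have hc0 : a • D.e₁ = 0 := by
      refine D.disj (Submodule.smul_mem _ _ D.e₁_mem) ?_
      have : a • D.e₁ = (g (D.p₂ m) - D.p₂ m) - c • D.e₂ := by rw [hac]; abel
      rw [this]
      exact sub_mem (sub_mem (h2 _ k2) k2) (Submodule.smul_mem _ _ D.e₂_mem)
    rw [hc0, zero_add] at hac
    have h3 : g (D.p₂ m) = D.p₂ m + c • D.e₂ := by rw [← hac]; abel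
    have h4 := D.isomf h.1 (D.p₂ m) D.c₁
    have h5 : D.f D.e₂ (g D.c₁) = 1 := by
      conv_lhs => rw [← h.2.2.1]
      rw [D.isomf h.1, D.f_c₁]
    rw [h3, map_add, LinearMap.add_apply, map_smul, LinearMap.smul_apply, h5, smul_eq_mul, mul_one] at h4
    have h6 : c = D.f (g D.c₁ - D.c₁) (D.p₂ m) := by
      rw [D.f_symm, map_sub]
      linear_combination h4 - (D.f (D.p₂ m) (g D.c₁) - D.f (D.p₂ m) D.c₁) * D.two
    rw [h3, ← h6]
  rw [e1, e2]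
  have e3 : D.f (D.p₁ m) (g D.c₂ - D.c₂) = D.f (D.p₁ m) (g D.c₂ - D.c₂) := rfl
  conv_rhs => rw [D.p_add m]
  have k3 : D.p₁ (D.p₁ m + D.p₂ m) = D.p₁ m := by rw [← D.p_add m]
  have k4 : D.p₂ (D.p₁ m + D.p₂ m) = D.p₂ m := by rw [← D.p_add m]
  rw [k3, k4]
  module

theorem J1_mem {φ : M} {j : M ≃ₗ[F] M} (hj : j ∈ D.H) (hφ : φ ∈ D.N₂) (hφ1 : D.f D.e₁ φ = 0)
    (h1 : ∀ m, D.f D.e₁ m = 0 → D.f D.e₂ m = 0 → j m = m + D.f m φ • D.e₁)
    (h2 : ∀ m, D.f D.e₁ (j m - m) = 0 ∧ D.f D.e₂ (j m - m) = 0) : j ∈ D.J := by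
  refine ⟨hj, ?_, ?_, fun m hm => ⟨D.f m φ, 0, ?_⟩, h2⟩
  · rw [h1 _ D.e₁_P.1 D.e₁_P.2, hφ1, zero_smul, add_zero]
  · rw [h1 _ D.e₂_P.1 D.e₂_P.2, D.f_N₂ D.e₂_mem hφ, zero_smul, add_zero]
  · rw [h1 m hm.1 hm.2]; module

theorem J2_mem {φ : M} {j : M ≃ₗ[F] M} (hj : j ∈ D.H) (hφ : φ ∈ D.N₁) (hφ1 : D.f D.e₂ φ = 0)
    (h1 : ∀ m, D.f D.e₁ m = 0 → D.f D.e₂ m = 0 → j m = m + D.f m φ • D.e₂)
    (h2 : ∀ m, D.f D.e₁ (j m - m) = 0 ∧ D.f D.e₂ (j m - m) = 0) : j ∈ D.J := by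
  refine ⟨hj, ?_, ?_, fun m hm => ⟨0, D.f m φ, ?_⟩, h2⟩
  · rw [h1 _ D.e₁_P.1 D.e₁_P.2, D.f_N₁ D.e₁_mem hφ, zero_smul, add_zero]
  · rw [h1 _ D.e₂_P.1 D.e₂_P.2, hφ1, zero_smul, add_zero]
  · rw [h1 m hm.1 hm.2]; module

/-- **The input of THEOREM SL.** -/
noncomputable def spl : Spl F M D.Φ₁ D.Φ₂ where
  two := D.two
  four := D.four
  f := D.f
  s := D.s
  s_add := D.s_add
  s_smul := D.s_smul
  nondeg := D.nondeg
  H := D.H
  isom := D.isom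
  b := D.b
  b_left := D.b_left
  b_right := D.b_right
  e₁ := D.e₁
  e₂ := D.e₂
  e_ind := fun _ _ h => D.e_ind h
  s₁ := D.sing₁ _ D.e₁_mem
  s₂ := D.sing₂ _ D.e₂_mem
  e_perp := D.perp
  y₁ := D.y₁
  y₂ := D.y₂
  y_surj := fun x₁ x₂ => by
    obtain ⟨m, hm, hm1, hx⟩ := D.y₁_surj x₁
    obtain ⟨n, hn, hn2, hy⟩ := D.y₂_surj x₂
    have hP := add_mem hm hn
    refine ⟨m + n, hP.1, hP.2, ?_, ?_⟩
    · rw [map_add, D.y₁_N₂ hn hn2, add_zero, hx]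
    · rw [map_add, D.y₂_N₁ hm hm1, zero_add, hy]
  y_e₁ := ⟨(D.y₁_zero D.e₁_P).2 ⟨1, by rw [D.p₁_of_mem D.e₁_mem, one_smul]⟩, D.y₂_N₁ D.e₁_P D.e₁_mem⟩
  y_e₂ := ⟨D.y₁_N₂ D.e₂_P D.e₂_mem, (D.y₂_zero D.e₂_P).2 ⟨1, by rw [D.p₂_of_mem D.e₂_mem, one_smul]⟩⟩
  y_ker := fun m h1 h2 h3 h4 => by
    obtain ⟨a, ha⟩ := (D.y₁_zero ⟨h1, h2⟩).1 h3
    obtain ⟨c, hc⟩ := (D.y₂_zero ⟨h1, h2⟩).1 h4
    exact ⟨a, c, by rw [← ha, ← hc]; exact D.p_add m⟩
  sy := fun m h1 h2 => by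
    rw [D.b_y ⟨h1, h2⟩ ⟨h1, h2⟩]
    conv_lhs => rw [D.p_add m]
    rw [D.s_add, D.sing₁ _ (D.p₁_mem m), D.sing₂ _ (D.p₂_mem m), zero_add, zero_add]
  J := D.J
  J_le := fun _ h => h.1
  χ₁ := fun g => D.y₁ (g D.c₁ - D.c₁)
  χ₂ := fun g => D.y₂ (g D.c₂ - D.c₂)
  JP := fun j hj m h1 h2 => D.JP_aux hj ⟨h1, h2⟩
  JM := fun j hj m => D.mem_P.1 (hj.2.2.2.2 m)
  Jall := fun x₁ x₂ => by
    obtain ⟨m, hm, hm1, hx⟩ := D.y₁_surj x₁
    obtain ⟨n, hn, hn2, hy⟩ := D.y₂_surj x₂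
    obtain ⟨j, hj, j1, j2⟩ := D.J1 n hn2 hn.1
    obtain ⟨k, hk, k1, k2⟩ := D.J2 m hm1 hm.2
    have hjJ := D.J1_mem hj hn2 hn.1 j1 j2
    have hkJ := D.J2_mem hk hm1 hm.2 k1 k2
    have hJ := D.J.mul_mem hjJ hkJ
    have key : ∀ w ∈ D.P, D.b (D.y₁ w) (D.y₂ ((j * k) D.c₂ - D.c₂)) = D.f w n ∧
        D.b (D.y₁ ((j * k) D.c₁ - D.c₁)) (D.y₂ w) = D.f w m := by
      intro w hw
      have h1 := D.JP_aux hJ hw
      have h2 : (j * k) w = w + D.f w n • D.e₁ + D.f w m • D.e₂ := by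
        rw [LinearEquiv.mul_apply, k1 w hw.1 hw.2, map_add, map_smul, hjJ.2.2.1, j1 w hw.1 hw.2]
      rw [h2] at h1
      have h3 := D.e_ind (a := D.f w n - D.b (D.y₁ w) (D.y₂ ((j * k) D.c₂ - D.c₂)))
        (c := D.f w m - D.b (D.y₁ ((j * k) D.c₁ - D.c₁)) (D.y₂ w)) (by
          linear_combination (norm := module) h1)
      exact ⟨(sub_eq_zero.1 h3.1).symm, (sub_eq_zero.1 h3.2).symm⟩
    refine ⟨j * k, hJ, ?_, ?_⟩
    · rw [← hx, ← sub_eq_zero]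
      refine D.b_left _ fun y => ?_
      obtain ⟨w, hw, hw2, rfl⟩ := D.y₂_surj y
      rw [map_sub, LinearMap.sub_apply, (key w hw).2, D.b_y hm hw, D.p₁_of_mem hm1, D.p₂_of_mem hw2, D.f_symm,
        sub_self]
    · rw [← hy, ← sub_eq_zero]
      refine D.b_right _ fun x => ?_
      obtain ⟨w, hw, hw2, rfl⟩ := D.y₁_surj x
      rw [map_sub, (key w hw).1, D.b_y hw hn, D.p₁_of_mem hw2, D.p₂_of_mem hn2, sub_self]
  Jn := fun a => by
    obtain ⟨j, hj, h1⟩ := D.J0 a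
    have h2 : ∀ m ∈ D.P, j m = m := by
      intro m hm
      rw [h1, D.f_symm m, D.f_symm m, (D.mem_P.1 hm).1, (D.mem_P.1 hm).2]
      simp
    refine ⟨j, ⟨hj, h2 _ D.e₁_P, h2 _ D.e₂_P, fun m hm => ⟨0, 0, by rw [h2 m hm]; simp⟩, fun m => ?_⟩, h1⟩
    rw [h1, add_sub_cancel_left]
    exact Submodule.smul_mem _ _ (add_mem (Submodule.smul_mem _ _ D.e₂_P) (Submodule.smul_mem _ _ D.e₁_P))
  Jmax := fun g hg h1 h2 h3 h4 => ⟨hg, h1, h2, fun m hm => h3 m hm.1 hm.2, fun m => h4 m⟩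
  Se := D.Se
  Om := D.Om

end Dec

/-! ### `M₁ = N₁` -/

namespace Spl

variable {F M Φ₁ Φ₂ : Type*} [Field F] [AddCommGroup M] [Module F M] [AddCommGroup Φ₁]
    [Module F Φ₁] [AddCommGroup Φ₂] [Module F Φ₂] {D : Spl F M Φ₁ Φ₂}

/-- a linear map normalising `H` and fixing `⟨e₁⟩`, `⟨e₂⟩` preserves `M₁`. -/
theorem Out.map_of_norm {M₁ M₂ : Submodule F M} (O : Out D M₁ M₂) {h : M ≃ₗ[F] M}
    (hH : ∀ g ∈ D.H, h * g * h⁻¹ ∈ D.H) (h₁ : ∃ l : F, h D.e₁ = l • D.e₁) {m : M} (hm : m ∈ M₁) :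
    h m ∈ M₁ := by
  obtain ⟨l, hl⟩ := h₁
  have key : ∀ m ∈ M₁, h m ∈ M₁ ∨ h m ∈ M₂ := by
    intro m hm
    by_cases hm0 : m = 0
    · left; rw [hm0, map_zero]; exact zero_mem _
    obtain ⟨A⟩ := D.exists_fr
    -- an incident partner
    have hex : ∃ φ ∈ M₂, φ ≠ 0 ∧ D.f m φ = 0 := by
      by_cases h1 : D.f m D.e₂ = 0
      · exact ⟨D.e₂, O.e₂_mem, D.e₂_ne, h1⟩
      · -- another vector of `M₂`
        have hx : ∃ x ∈ M₂, ∀ c : F, x ≠ c • D.e₂ := by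
          by_contra hcon
          push Not at hcon
          apply D.e₁_ne
          refine O.dual₁ _ O.e₁_mem fun φ hφ => ?_
          obtain ⟨c, hc⟩ := hcon φ hφ
          rw [hc, map_smul, D.e_perp, smul_zero]
        obtain ⟨x, hx, hxe⟩ := hx
        refine ⟨x - (D.f m x * (D.f m D.e₂)⁻¹) • D.e₂, sub_mem hx (Submodule.smul_mem _ _ O.e₂_mem), ?_, ?_⟩
        · intro h2
          exact hxe _ (sub_eq_zero.1 h2)
        · rw [map_sub, map_smul, smul_eq_mul, mul_assoc, inv_mul_cancel₀ h1, mul_one, sub_self]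
    obtain ⟨φ, hφ, hφ0, h0⟩ := hex
    obtain ⟨g, hg, -, a, c, ha, -, h1, -⟩ := O.orbit m hm φ hφ hm0 hφ0 h0
    have h2 : h m = (a⁻¹ * l) • (h * g * h⁻¹) D.e₁ := by
      have h3 : (h * g * h⁻¹) (h D.e₁) = h (g D.e₁) := by
        rw [LinearEquiv.mul_apply, LinearEquiv.mul_apply, show h⁻¹ (h D.e₁) = D.e₁ from h.symm_apply_apply _]
      rw [hl, map_smul, h1, map_smul] at h3
      rw [mul_smul, h3, inv_smul_smul₀ ha]
    rcases O.perm _ (hH g hg) with h3 | h3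
    · left
      rw [h2]
      exact Submodule.smul_mem _ _ (h3.1 _ O.e₁_mem)
    · right
      rw [h2]
      exact Submodule.smul_mem _ _ (h3.1 _ O.e₁_mem)
  have hl0 : h D.e₁ ∉ M₂ := by
    intro h1
    have h2 : h D.e₁ ∈ M₁ := by rw [hl]; exact Submodule.smul_mem _ _ O.e₁_mem
    have h3 := (Submodule.disjoint_def.1 O.isCompl.disjoint) _ h2 h1
    exact D.e₁_ne (by simpa using h3)
  by_contra hcon
  have h1 := (key m hm).resolve_left hcon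
  have h2 : h D.e₁ ∈ M₁ := by rw [hl]; exact Submodule.smul_mem _ _ O.e₁_mem
  rcases key _ (add_mem hm O.e₁_mem) with h3 | h3
  · rw [map_add] at h3
    exact hcon (by
      have := sub_mem h3 h2
      rwa [add_sub_cancel_right] at this)
  · rw [map_add] at h3
    exact hl0 (by
      have := sub_mem h3 h1
      rwa [add_sub_cancel_left] at this)

/-- the output for the swapped input -/
theorem Out.swap {M₁ M₂ : Submodule F M} (O : Out D M₁ M₂) : Out D.swap M₂ M₁ where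
  isCompl := O.isCompl.symm
  sing₁ := O.sing₂
  sing₂ := O.sing₁
  e₁_mem := O.e₂_mem
  e₂_mem := O.e₁_mem
  dual₁ := O.dual₂
  dual₂ := O.dual₁
  perm := fun g hg => by
    rcases O.perm g hg with h | h
    · exact Or.inl h.symm
    · exact Or.inr h.symm
  trans := fun m hm φ hφ h0 a => by
    have h0' : D.f φ m = 0 := by rw [D.f_symm]; exact h0
    obtain ⟨h, hh, hx⟩ := O.trans φ hφ m hm h0' a
    exact ⟨h, hh, fun x => by rw [hx, add_comm (D.f x φ • m)]; rfl⟩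
  conj := fun g hg => by
    obtain ⟨m, hm, φ, hφ, h1, h2, h3, h4⟩ := O.conj g hg
    refine ⟨φ, hφ, m, hm, h2, h1, ?_, ?_⟩
    · rw [← h3]; exact D.f_symm _ _
    · rw [E_swap, h4, Set.pair_comm]
  orbit := fun m hm φ hφ h1 h2 h3 => by
    have h3' : D.f φ m = 0 := by rw [D.f_symm]; exact h3
    obtain ⟨g, hg, h4, a, c, ha, hc, h5, h6⟩ := O.orbit φ hφ m hm h2 h1 h3'
    exact ⟨g, hg, h4.symm, c, a, hc, ha, h6, h5⟩
  J_full := fun g hs h1 h2 h3 h4 h5 => O.J_full g hs h2 h1 h4 h3 fun m h6 h7 => by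
    have := h5 m h7 h6
    rwa [E_swap] at this

/-- `y₂ = 0` on `M₁ ∩ P` -/
theorem Out.y₂_zero {M₁ M₂ : Submodule F M} (O : Out D M₁ M₂) {m : M} (hm : m ∈ M₁) (hP : D.InP m) :
    D.y₂ m = 0 := by
  by_contra h0
  obtain ⟨x, hx⟩ := D.exists_b₁ h0
  obtain ⟨j, hj, h1, h2⟩ := D.Jall x 0
  have hj1 : ∀ m ∈ M₁, j m ∈ M₁ := by
    rcases O.perm j (D.J_le hj) with h | h
    · exact h.1
    · exfalso
      have h3 := h.1 _ O.e₁_mem
      rw [D.j_e₁ hj] at h3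
      exact D.e₁_ne ((Submodule.disjoint_def.1 O.isCompl.disjoint) _ O.e₁_mem h3)
  have h3 := hj1 m hm
  rw [D.JP j hj m hP.1 hP.2, h1, h2, hx, map_zero, zero_smul, add_zero, one_smul] at h3
  have h4 : D.e₂ ∈ M₁ := by
    have := sub_mem h3 hm
    rwa [add_sub_cancel_left] at this
  exact D.e₂_ne ((Submodule.disjoint_def.1 O.isCompl.disjoint) _ h4 O.e₂_mem)

/-- comparison of two decompositions which agree on `P` -/
theorem Out.le_of_P {M₁ M₂ : Submodule F M} (O : Out D M₁ M₂) {N₁ N₂ : Submodule F M}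
    (hN : IsCompl N₁ N₂) (hs₁ : ∀ m ∈ N₁, D.s m = 0) (hs₂ : ∀ m ∈ N₂, D.s m = 0)
    (he₁ : D.e₁ ∈ N₁) (he₂ : D.e₂ ∈ N₂) (hx : ∀ x ∈ N₁, D.InP x → x ∈ M₁) : M₁ ≤ N₁ := by
  have fN₁ : ∀ x ∈ N₁, ∀ y ∈ N₁, D.f x y = 0 := by
    intro x hx y hy
    have h1 := D.s_add x y
    rw [hs₁ _ (add_mem hx hy), hs₁ _ hx, hs₁ _ hy] at h1
    linear_combination -h1
  have fN₂ : ∀ x ∈ N₂, ∀ y ∈ N₂, D.f x y = 0 := by
    intro x hx y hy
    have h1 := D.s_add x y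
    rw [hs₂ _ (add_mem hx hy), hs₂ _ hx, hs₂ _ hy] at h1
    linear_combination -h1
  have fM₁ : ∀ x ∈ M₁, ∀ y ∈ M₁, D.f x y = 0 := by
    intro x hx y hy
    have h1 := D.s_add x y
    rw [O.sing₁ _ (add_mem hx hy), O.sing₁ _ hx, O.sing₁ _ hy] at h1
    linear_combination -h1
  intro m hm
  have h1 : m ∈ N₁ ⊔ N₂ := by rw [hN.sup_eq_top]; trivial
  obtain ⟨n, hn, n', hn', hmn⟩ := Submodule.mem_sup.1 h1
  -- `c₁`
  obtain ⟨c₁, hc₁, hc⟩ : ∃ c ∈ N₁, D.f c D.e₂ = 1 := by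
    have h2 : ∃ w, D.f w D.e₂ ≠ 0 := by
      by_contra hcon
      push Not at hcon
      exact D.e₂_ne (D.nondeg _ fun w => by rw [D.f_symm]; exact hcon w)
    obtain ⟨w, hw⟩ := h2
    have h3 : w ∈ N₁ ⊔ N₂ := by rw [hN.sup_eq_top]; trivial
    obtain ⟨x, hx1, y, hy1, rfl⟩ := Submodule.mem_sup.1 h3
    rw [D.f_add_left, fN₂ y hy1 _ he₂, add_zero] at hw
    exact ⟨(D.f x D.e₂)⁻¹ • x, Submodule.smul_mem _ _ hx1, by
      rw [D.f_smul_left, inv_mul_cancel₀ hw]⟩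
  have key : n' - D.f n' c₁ • D.e₂ = 0 := by
    have hk : n' - D.f n' c₁ • D.e₂ ∈ N₂ := sub_mem hn' (Submodule.smul_mem _ _ he₂)
    refine D.nondeg _ fun w => ?_
    have h3 : w ∈ N₁ ⊔ N₂ := by rw [hN.sup_eq_top]; trivial
    obtain ⟨y, hy1, z, hz1, rfl⟩ := Submodule.mem_sup.1 h3
    rw [map_add, fN₂ _ hk z hz1, add_zero]
    have h4 : y - D.f y D.e₂ • c₁ ∈ N₁ := sub_mem hy1 (Submodule.smul_mem _ _ hc₁)
    have h5 : D.InP (y - D.f y D.e₂ • c₁) := by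
      refine ⟨fN₁ _ he₁ _ h4, ?_⟩
      rw [map_sub, map_smul, D.f_symm D.e₂ c₁, hc, D.f_symm D.e₂ y, smul_eq_mul, mul_one, sub_self]
    have h6 := fM₁ m hm _ (hx _ h4 h5)
    rw [← hmn, D.f_add_left, fN₁ n hn _ h4, zero_add, map_sub, map_smul, smul_eq_mul] at h6
    rw [map_sub, LinearMap.sub_apply, map_smul, LinearMap.smul_apply, smul_eq_mul, D.f_symm D.e₂ y]
    linear_combination h6
  have hn'e : n' = D.f n' c₁ • D.e₂ := sub_eq_zero.1 key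
  set c := D.f n' c₁ with hcd
  by_cases hc0 : c = 0
  · rw [← hmn, hn'e, hc0, zero_smul, add_zero]
    exact hn
  exfalso
  have h7 : c * D.f n D.e₂ = 0 := by
    have h8 := O.sing₁ m hm
    rw [← hmn, D.s_add, hs₁ n hn, hs₂ n' hn', hn'e, map_smul, smul_eq_mul] at h8
    linear_combination h8
  have h8 : D.f n D.e₂ = 0 := (mul_eq_zero.1 h7).resolve_left hc0
  have h9 : n ∈ M₁ := hx n hn ⟨fN₁ _ he₁ _ hn, by rw [D.f_symm]; exact h8⟩
  have h10 : n' ∈ M₁ := by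
    have := sub_mem hm h9
    rwa [← hmn, add_sub_cancel_left] at this
  rw [hn'e] at h10
  have h11 : D.e₂ ∈ M₁ := by
    have := Submodule.smul_mem _ c⁻¹ h10
    rwa [inv_smul_smul₀ hc0] at this
  exact D.e₂_ne ((Submodule.disjoint_def.1 O.isCompl.disjoint) _ h11 O.e₂_mem)

/-- **(I3)** of bb #15588: the torus element `h` identifies `M₁` with `N₁`. -/
theorem Out.eq_of_torus {M₁ M₂ : Submodule F M} (O : Out D M₁ M₂) {N₁ N₂ : Submodule F M}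
    (hN : IsCompl N₁ N₂) (hs₁ : ∀ m ∈ N₁, D.s m = 0) (hs₂ : ∀ m ∈ N₂, D.s m = 0) (he₁ : D.e₁ ∈ N₁)
    (he₂ : D.e₂ ∈ N₂) (hy₁ : ∀ m ∈ N₁, D.InP m → D.y₂ m = 0) (hy₂ : ∀ m ∈ N₂, D.InP m → D.y₁ m = 0)
    {h : M ≃ₗ[F] M} (hH : ∀ g ∈ D.H, h * g * h⁻¹ ∈ D.H) {l : F} (hl0 : l ≠ 0) (hl1 : l ≠ 1)
    (h₁ : h D.e₁ = l • D.e₁) (h₂ : h D.e₂ = l⁻¹ • D.e₂)
    (k₁ : ∀ m ∈ N₁, D.InP m → ∃ a : F, h m - l • m = a • D.e₁)
    (k₂ : ∀ m ∈ N₂, D.InP m → ∃ a : F, h m - m = a • D.e₂) : M₁ = N₁ ∧ M₂ = N₂ := by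
  have fN₁ : ∀ x ∈ N₁, ∀ y ∈ N₁, D.f x y = 0 := by
    intro x hx y hy
    have h1 := D.s_add x y
    rw [hs₁ _ (add_mem hx hy), hs₁ _ hx, hs₁ _ hy] at h1
    linear_combination -h1
  have fN₂ : ∀ x ∈ N₂, ∀ y ∈ N₂, D.f x y = 0 := by
    intro x hx y hy
    have h1 := D.s_add x y
    rw [hs₂ _ (add_mem hx hy), hs₂ _ hx, hs₂ _ hy] at h1
    linear_combination -h1
  have fM₁ : ∀ x ∈ M₁, ∀ y ∈ M₁, D.f x y = 0 := by
    intro x hx y hy
    have h1 := D.s_add x y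
    rw [O.sing₁ _ (add_mem hx hy), O.sing₁ _ hx, O.sing₁ _ hy] at h1
    linear_combination -h1
  have fM₂ : ∀ x ∈ M₂, ∀ y ∈ M₂, D.f x y = 0 := by
    intro x hx y hy
    have h1 := D.s_add x y
    rw [O.sing₂ _ (add_mem hx hy), O.sing₂ _ hx, O.sing₂ _ hy] at h1
    linear_combination -h1
  have hh₁ : ∀ m ∈ M₁, h m ∈ M₁ := fun m => O.map_of_norm hH ⟨l, h₁⟩
  have hh₂ : ∀ m ∈ M₂, h m ∈ M₂ := fun m => O.swap.map_of_norm hH ⟨l⁻¹, h₂⟩
  have hll : l⁻¹ - l ≠ 0 := by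
    intro h1
    have h2 : l * l = 1 := by
      have h3 : l⁻¹ = l := sub_eq_zero.1 h1
      have h4 := mul_inv_cancel₀ hl0
      rwa [h3] at h4
    have h3 : (l - 1) * (l - 1) = 0 := by linear_combination h2 - (l - 1) * D.two
    exact hl1 (sub_eq_zero.1 (mul_self_eq_zero.1 h3))
  have ned₁ : D.e₂ ∉ M₁ := fun h1 =>
    D.e₂_ne ((Submodule.disjoint_def.1 O.isCompl.disjoint) _ h1 O.e₂_mem)
  have ned₂ : D.e₁ ∉ M₂ := fun h1 =>
    D.e₁_ne ((Submodule.disjoint_def.1 O.isCompl.disjoint) _ O.e₁_mem h1)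
  -- components of elements of `P`
  have cP : ∀ {x y : M}, x ∈ N₁ → y ∈ N₂ → D.InP (x + y) → D.InP x ∧ D.InP y := by
    intro x y hx hy hP
    have a1 : D.f D.e₁ x = 0 := fN₁ _ he₁ _ hx
    have a2 : D.f D.e₂ y = 0 := fN₂ _ he₂ _ hy
    have a3 : D.f D.e₁ y = 0 := by
      have := hP.1; rwa [map_add, a1, zero_add] at this
    have a4 : D.f D.e₂ x = 0 := by
      have := hP.2; rwa [map_add, a2, add_zero] at this
    exact ⟨⟨a1, a4⟩, a3, a2⟩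
  have cM : ∀ {x y : M}, x ∈ M₁ → y ∈ M₂ → D.InP (x + y) → D.InP x ∧ D.InP y := by
    intro x y hx hy hP
    have a1 : D.f D.e₁ x = 0 := fM₁ _ O.e₁_mem _ hx
    have a2 : D.f D.e₂ y = 0 := fM₂ _ O.e₂_mem _ hy
    have a3 : D.f D.e₁ y = 0 := by
      have := hP.1; rwa [map_add, a1, zero_add] at this
    have a4 : D.f D.e₂ x = 0 := by
      have := hP.2; rwa [map_add, a2, add_zero] at this
    exact ⟨⟨a1, a4⟩, a3, a2⟩
  -- `M₁ ∩ P ≤ N₁`
  have m₁ : ∀ m ∈ M₁, D.InP m → m ∈ N₁ := by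
    intro m hm hP
    have h1 : m ∈ N₁ ⊔ N₂ := by rw [hN.sup_eq_top]; trivial
    obtain ⟨n, hn, n', hn', rfl⟩ := Submodule.mem_sup.1 h1
    obtain ⟨hnP, hn'P⟩ := cP hn hn' hP
    have h2 := O.y₂_zero hm hP
    rw [map_add, hy₁ n hn hnP, zero_add] at h2
    obtain ⟨a, c, h3⟩ := D.y_ker n' hn'P.1 hn'P.2 (hy₂ n' hn' hn'P) h2
    have h4 : a • D.e₁ = 0 := by
      refine (Submodule.disjoint_def.1 hN.disjoint) _ (Submodule.smul_mem _ _ he₁) ?_
      have : a • D.e₁ = n' - c • D.e₂ := by rw [h3]; abel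
      rw [this]
      exact sub_mem hn' (Submodule.smul_mem _ _ he₂)
    rw [h4, zero_add] at h3
    obtain ⟨a', h5⟩ := k₁ n hn hnP
    have h6 : (c * (l⁻¹ - l)) • D.e₂ ∈ M₁ := by
      have h7 := sub_mem (sub_mem (hh₁ _ hm) (Submodule.smul_mem _ l hm)) (Submodule.smul_mem _ a' O.e₁_mem)
      have h8 : h (n + n') - l • (n + n') - a' • D.e₁ = (c * (l⁻¹ - l)) • D.e₂ := by
        rw [map_add, h3, map_smul, h₂]
        linear_combination (norm := module) h5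
      rwa [h8] at h7
    have h7 : c = 0 := by
      by_contra hc
      apply ned₁
      have := Submodule.smul_mem _ (c * (l⁻¹ - l))⁻¹ h6
      rwa [inv_smul_smul₀ (mul_ne_zero hc hll)] at this
    rw [h3, h7, zero_smul, add_zero]
    exact hn
  -- `M₂ ∩ P ≤ N₂`
  have m₂ : ∀ m ∈ M₂, D.InP m → m ∈ N₂ := by
    intro m hm hP
    have h1 : m ∈ N₁ ⊔ N₂ := by rw [hN.sup_eq_top]; trivial
    obtain ⟨n, hn, n', hn', rfl⟩ := Submodule.mem_sup.1 h1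
    obtain ⟨hnP, hn'P⟩ := cP hn hn' hP
    have h2 : D.y₁ (n + n') = 0 := O.swap.y₂_zero hm (D.InP_swap.2 hP)
    rw [map_add, hy₂ n' hn' hn'P, add_zero] at h2
    obtain ⟨a, c, h3⟩ := D.y_ker n hnP.1 hnP.2 h2 (hy₁ n hn hnP)
    have h4 : c • D.e₂ = 0 := by
      refine (Submodule.disjoint_def.1 hN.disjoint) _ ?_ (Submodule.smul_mem _ _ he₂)
      have : c • D.e₂ = n - a • D.e₁ := by rw [h3]; abel
      rw [this]
      exact sub_mem hn (Submodule.smul_mem _ _ he₁)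
    rw [h4, add_zero] at h3
    obtain ⟨a', h5⟩ := k₂ n' hn' hn'P
    have h6 : (a * (l - 1)) • D.e₁ ∈ M₂ := by
      have h7 := sub_mem (sub_mem (hh₂ _ hm) hm) (Submodule.smul_mem _ a' O.e₂_mem)
      have h8 : h (n + n') - (n + n') - a' • D.e₂ = (a * (l - 1)) • D.e₁ := by
        rw [map_add, h3, map_smul, h₁]
        linear_combination (norm := module) h5
      rwa [h8] at h7
    have h7 : a = 0 := by
      by_contra hc
      apply ned₂
      have := Submodule.smul_mem _ (a * (l - 1))⁻¹ h6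
      rwa [inv_smul_smul₀ (mul_ne_zero hc (sub_ne_zero.2 hl1))] at this
    rw [h3, h7, zero_smul, zero_add]
    exact hn'
  -- `N_i ∩ P ≤ M_i`
  have x₁ : ∀ x ∈ N₁, D.InP x → x ∈ M₁ := by
    intro x hx hP
    have h1 : x ∈ M₁ ⊔ M₂ := by rw [O.isCompl.sup_eq_top]; trivial
    obtain ⟨y, hy, z, hz, rfl⟩ := Submodule.mem_sup.1 h1
    obtain ⟨hyP, hzP⟩ := cM hy hz hP
    have h2 := m₁ y hy hyP
    have h3 : z ∈ N₁ := by
      have := sub_mem hx h2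
      rwa [add_sub_cancel_left] at this
    have h4 : z = 0 := (Submodule.disjoint_def.1 hN.disjoint) _ h3 (m₂ z hz hzP)
    rw [h4, add_zero]
    exact hy
  have x₂ : ∀ x ∈ N₂, D.InP x → x ∈ M₂ := by
    intro x hx hP
    have h1 : x ∈ M₁ ⊔ M₂ := by rw [O.isCompl.sup_eq_top]; trivial
    obtain ⟨y, hy, z, hz, rfl⟩ := Submodule.mem_sup.1 h1
    obtain ⟨hyP, hzP⟩ := cM hy hz hP
    have h2 := m₂ z hz hzP
    have h3 : y ∈ N₂ := by
      have := sub_mem hx h2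
      rwa [add_sub_cancel_right] at this
    have h4 : y = 0 := (Submodule.disjoint_def.1 hN.disjoint) _ (m₁ y hy hyP) h3
    rw [h4, zero_add]
    exact hz
  have l₁ := O.le_of_P hN hs₁ hs₂ he₁ he₂ x₁
  have l₂ := O.swap.le_of_P hN.symm hs₂ hs₁ he₂ he₁ fun x hx hP => x₂ x hx (D.InP_swap.1 hP)
  refine ⟨le_antisymm l₁ fun x hx => ?_, le_antisymm l₂ fun x hx => ?_⟩
  · have h1 : x ∈ M₁ ⊔ M₂ := by rw [O.isCompl.sup_eq_top]; trivial
    obtain ⟨y, hy, z, hz, rfl⟩ := Submodule.mem_sup.1 h1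
    have h3 : z ∈ N₁ := by
      have := sub_mem hx (l₁ hy)
      rwa [add_sub_cancel_left] at this
    have h4 : z = 0 := (Submodule.disjoint_def.1 hN.disjoint) _ h3 (l₂ hz)
    rw [h4, add_zero]
    exact hy
  · have h1 : x ∈ M₁ ⊔ M₂ := by rw [O.isCompl.sup_eq_top]; trivial
    obtain ⟨y, hy, z, hz, rfl⟩ := Submodule.mem_sup.1 h1
    have h3 : y ∈ N₂ := by
      have := sub_mem hx (l₂ hz)
      rwa [add_sub_cancel_right] at this
    have h4 : y = 0 := (Submodule.disjoint_def.1 hN.disjoint) _ (l₁ hy) h3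
    rw [h4, zero_add]
    exact hz

end Spl

end Cfsg.Agent.Omega.NOne.SL

end

section


/-!
# Type (gamma), `q ≥ 4`: from `Gin` to the input of THEOREM SL

(I2) of bb #15588, second part.
-/

set_option autoImplicit false
set_option linter.unusedVariables false
set_option linter.unusedSectionVars false

open Subgroup
open scoped Pointwise commutatorElement

namespace Cfsg.Agent.Omega.NO1.Gamma

open Cfsg.Agent.Omega.NO1.Beta.Meet (cj mem_cj conj_mem_cj cj_mul cj_inj cj_eq_of_comm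
  mem_normalizer_of_cj cj_of_mem_normalizer)
open Cfsg.Agent.Omega.NOne

/-! ### the group-theoretic part of (J1), (J2) -/

namespace Grid

variable {G : Type*} [Group G] {I J : Type*} {V : Subgroup G} {R Q : I → J → Subgroup G} (g : Grid V R Q)
include g

theorem R_inj {i k : I} {j l : J} (h : R i j = R k l) : i = k ∧ j = l := by
  refine g.disj i j k l ?_
  rw [← h, inf_idem]
  exact g.ne i j

/-- an element of `⨆ colG` fixes the rows -/
theorem col_perm (rc : RC V R Q) {c : G} (hc : c ∈ ⨆ l, colG Q l) :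
    ∃ τ : J → J, ∀ k l, cj c (R k l) = R k (τ l) := by
  rcases isEmpty_or_nonempty I with hI | ⟨⟨i⟩⟩
  · exact ⟨id, fun k => hI.elim k⟩
  refine Subgroup.iSup_induction (fun l => colG Q l) (C := fun c => ∃ τ : J → J, ∀ k l, cj c (R k l) = R k (τ l))
    hc ?_ ?_ ?_
  · intro j y hy
    have hyQ : y ∈ Q i j := (mem_iInf.1 hy) i
    obtain ⟨σ, τ, -, -, h⟩ := g.perm i j y hyQ
    refine ⟨τ, fun k l => ?_⟩
    obtain ⟨l', h1⟩ := rc.col_fix j y hy k l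
    rw [h k l] at h1
    rw [h k l, (g.R_inj h1).1]
  · refine ⟨id, fun k l => ?_⟩
    exact cj_eq_of_comm fun r hr => by rw [one_mul, mul_one]
  · rintro x y ⟨τ, h1⟩ ⟨τ', h2⟩
    refine ⟨fun l => τ (τ' l), fun k l => ?_⟩
    rw [cj_mul, h2, h1]

/-- an element `c` of `⨆ colG` centralises `C_{A_i}(V)` modulo `V`. -/
theorem col_mod (rc : RC V R Q) {c : G} (hc : c ∈ ⨆ l, colG Q l) (i : I) :
    c ∈ normalizer (V : Set G) ∧ ∀ a ∈ rowG Q i, a ∈ centralizer (V : Set G) → a⁻¹ * (c * a * c⁻¹) ∈ V := by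
  refine Subgroup.iSup_induction (fun l => colG Q l) (C := fun c => c ∈ normalizer (V : Set G) ∧
    ∀ a ∈ rowG Q i, a ∈ centralizer (V : Set G) → a⁻¹ * (c * a * c⁻¹) ∈ V) hc ?_ ?_ ?_
  · intro j y hy
    have hyQ : y ∈ Q i j := (mem_iInf.1 hy) i
    refine ⟨g.Q_V i j hyQ, fun a ha haV => ?_⟩
    have haQ : a ∈ Q i j := (mem_iInf.1 ha) j
    have h1 := g.QQ i j _ hyQ _ haQ
    have h2 := g.RQ i j _ h1 _ haQ
    have h3 : a⁻¹ * (y * a * y⁻¹) = y * a * y⁻¹ * a⁻¹ := by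
      have : a⁻¹ * (y * a * y⁻¹) = a⁻¹ * ((y * a * y⁻¹ * a⁻¹) * a) := by group
      rw [this, h2]
      group
    rw [h3]
    exact g.R_le i j h1
  · refine ⟨one_mem _, fun a ha haV => ?_⟩
    simp
  · rintro x y ⟨h1, h2⟩ ⟨h3, h4⟩
    refine ⟨mul_mem h1 h3, fun a ha haV => ?_⟩
    have e : a⁻¹ * (x * y * a * (x * y)⁻¹) = (a⁻¹ * (x * a * x⁻¹)) * (x * (a⁻¹ * (y * a * y⁻¹)) * x⁻¹) := by
      group
    rw [e]
    exact mul_mem (h2 a ha haV) ((mem_normalizer_iff.1 h1 _).1 (h4 a ha haV))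

/-- **(J1), group-theoretically.** -/
theorem weyl (rc : RC V R Q) {i : I} {j j' : J} (hj : j ≠ j') {w : G} (hw : w ∈ ⨆ l, colG Q l)
    (hR : cj w (R i j) = R i j') {y : G} (hy : y ∈ colG Q j) (hyV : y ∈ centralizer (V : Set G)) :
    w * y * w⁻¹ ∈ centralizer (V : Set G) ∧ ∀ a ∈ rowG Q i, a ∈ centralizer (V : Set G) → ∀ b ∈ colG Q j,
      b ∈ centralizer (V : Set G) → ⁅w * y * w⁻¹, a * b⁆ = w * ⁅y, a⁆ * w⁻¹ := by
  obtain ⟨τ, hτ⟩ := g.col_perm rc hw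
  obtain ⟨hN, -⟩ := g.col_mod rc hw i
  have hτj : τ j = j' := by
    have h1 := hτ i j
    rw [hR] at h1
    exact (g.R_inj h1).2.symm
  have hz : w * y * w⁻¹ ∈ colG Q j' := by
    refine mem_iInf.2 fun k => ?_
    have h1 := g.conj w k j k (τ j) (hτ k j)
    rw [hτj] at h1
    rw [← h1]
    exact conj_mem_cj ((mem_iInf.1 hy) k)
  have hzV : w * y * w⁻¹ ∈ centralizer (V : Set G) := by
    rw [mem_centralizer_iff]
    intro x hx
    have h1 : w⁻¹ * x * w ∈ V := by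
      have := (mem_normalizer_iff.1 (inv_mem hN) x).1 hx
      rwa [inv_inv] at this
    have h2 := mem_centralizer_iff.1 hyV _ h1
    calc x * (w * y * w⁻¹) = w * ((w⁻¹ * x * w) * y) * w⁻¹ := by group
      _ = w * (y * (w⁻¹ * x * w)) * w⁻¹ := by rw [h2]
      _ = w * y * w⁻¹ * x := by group
  refine ⟨hzV, fun a ha haV b hb hbV => ?_⟩
  have h1 : w * y * w⁻¹ * b = b * (w * y * w⁻¹) := rc.col_col j' j hj.symm _ hz hzV _ hb hbV
  have h2 : ⁅w * y * w⁻¹, a * b⁆ = ⁅w * y * w⁻¹, a⁆ := by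
    have h3 : (w * y * w⁻¹)⁻¹ * b⁻¹ = b⁻¹ * (w * y * w⁻¹)⁻¹ := by
      rw [← mul_inv_rev, ← mul_inv_rev, h1]
    calc ⁅w * y * w⁻¹, a * b⁆ = (w * y * w⁻¹) * a * (b * ((w * y * w⁻¹)⁻¹ * b⁻¹)) * a⁻¹ := by
          simp only [commutatorElement_def]; group
      _ = (w * y * w⁻¹) * a * (b * (b⁻¹ * (w * y * w⁻¹)⁻¹)) * a⁻¹ := by rw [h3]
      _ = ⁅w * y * w⁻¹, a⁆ := by simp only [commutatorElement_def]; group
  rw [h2]
  -- `w⁻¹ a w = a u`
  have h4 := (g.col_mod rc (inv_mem hw) i).2 a ha haV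
  rw [inv_inv] at h4
  set u := a⁻¹ * (w⁻¹ * a * w) with hu
  have h5 : w⁻¹ * a * w = a * u := by rw [hu]; group
  have h6 : u * y = y * u := mem_centralizer_iff.1 hyV u h4
  have h7 : u * a = a * u := mem_centralizer_iff.1 haV u h4
  have h8 : u * y⁻¹ = y⁻¹ * u := by
    calc u * y⁻¹ = y⁻¹ * (y * u) * y⁻¹ := by group
      _ = y⁻¹ * (u * y) * y⁻¹ := by rw [h6]
      _ = y⁻¹ * u := by group
  calc ⁅w * y * w⁻¹, a⁆ = w * (y * (w⁻¹ * a * w) * y⁻¹ * (w⁻¹ * a * w)⁻¹) * w⁻¹ := by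
        simp only [commutatorElement_def]; group
    _ = w * (y * a * (u * y⁻¹) * u⁻¹ * a⁻¹) * w⁻¹ := by rw [h5]; group
    _ = w * (y * a * (y⁻¹ * u) * u⁻¹ * a⁻¹) * w⁻¹ := by rw [h8]
    _ = w * ⁅y, a⁆ * w⁻¹ := by simp only [commutatorElement_def]; group

end Grid

theorem RC.transpose {G : Type*} [Group G] {I J : Type*} {V : Subgroup G} {R Q : I → J → Subgroup G}
    (g : Grid V R Q) (rc : RC V R Q) : RC V (fun j i => R i j) (fun j i => Q i j) where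
  row_eq := fun j i k h => rc.col_eq i k j h
  col_eq := fun j l i h => rc.row_eq i j l h
  sup := fun j i => by rw [rc.sup i j, sup_comm]; rfl
  mul := fun j i x hx => by
    obtain ⟨a, ha, b, hb, h⟩ := rc.mul i j _ (inv_mem hx)
    exact ⟨b⁻¹, inv_mem hb, a⁻¹, inv_mem ha, by rw [← mul_inv_rev, ← h, inv_inv]⟩
  inf := fun j i => by rw [← rc.inf i j, inf_comm]; rfl
  R_row := fun j i => rc.R_col i j
  R_col := fun j i => rc.R_row i j
  row_comm := rc.col_comm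
  col_comm := rc.row_comm
  row_sq := rc.col_sq
  col_sq := rc.row_sq
  row_cent := fun j i x hx h => rc.col_cent i j x hx h
  col_cent := fun j i x hx h => rc.row_cent i j x hx h
  row_fix := fun j x hx k l => rc.col_fix j x hx l k
  col_fix := fun i x hx k l => rc.row_fix i x hx l k
  row_row := rc.col_col
  col_col := rc.row_row
  cenV := fun j i x hx hV => by
    obtain ⟨a, ha, b, hb, h1, h2, h⟩ := rc.cenV i j _ (inv_mem hx) (inv_mem hV)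
    exact ⟨b⁻¹, inv_mem hb, a⁻¹, inv_mem ha, inv_mem h2, inv_mem h1, by rw [← mul_inv_rev, ← h, inv_inv]⟩
  opp := fun j i x hx hV h => rc.opp i j x hx hV fun k l hk hl => h l k hl hk

end Cfsg.Agent.Omega.NO1.Gamma

end

section


/-!
# Type (gamma), `q ≥ 4`: the decomposition `Q/R = N₁ ⊕ N₂` and the input of THEOREM SL

(I2) of bb #15588, third part.
-/

set_option autoImplicit false
set_option linter.unusedVariables false
set_option linter.unusedSectionVars false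
set_option linter.unusedSimpArgs false

open Subgroup
open scoped Pointwise commutatorElement

namespace Cfsg.Agent.Omega.NO1.Gamma

open Cfsg.Agent.Omega.NO1.Beta.Meet (cj mem_cj conj_mem_cj cj_mul cj_inj cj_eq_of_comm
  mem_normalizer_of_cj cj_of_mem_normalizer)
open Cfsg.Agent.Omega.NOne

namespace Gin

variable {F : Type*} [Field F] {G : Type*} [Group G] {I J : Type*} {S : Sylow 2 G} {V : Subgroup G}
  {R Q : I → J → Subgroup G} {i0 i1 : I} {j0 j1 : J} {v : F → F → F → F → G} {p p' : G → F}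
  (D : Gin F S V R Q i0 i1 j0 j1 v p p') [Finite G]

include D

/-- the space `M = Q/R` -/
noncomputable abbrev Mo : Type _ := D.inp.M

/-- the projection -/
noncomputable def pi {x : G} (hx : x ∈ Q i0 j0) : D.Mo := D.inp.π x hx

/-- the forms -/
noncomputable def ff : D.Mo →ₗ[F] D.Mo →ₗ[F] F := D.inp.f

noncomputable def ss (m : D.Mo) : F := D.inp.s m

theorem pi_surj (m : D.Mo) : ∃ x, ∃ hx : x ∈ Q i0 j0, D.pi hx = m := D.inp.π_surj m

theorem pi_congr {x y : G} (hx : x ∈ Q i0 j0) (h : x = y) (hy : y ∈ Q i0 j0) : D.pi hx = D.pi hy := by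
  subst h; rfl

theorem pi_mul {x y : G} (hx : x ∈ Q i0 j0) (hy : y ∈ Q i0 j0) (hxy : x * y ∈ Q i0 j0) :
    D.pi hxy = D.pi hx + D.pi hy := D.inp.π_mul hx hy

theorem pi_eq_zero {x : G} (hx : x ∈ Q i0 j0) : D.pi hx = 0 ↔ x ∈ R i0 j0 := D.inp.π_eq_zero hx

theorem pi_eq_iff {x y : G} (hx : x ∈ Q i0 j0) (hy : y ∈ Q i0 j0) :
    D.pi hx = D.pi hy ↔ x⁻¹ * y ∈ R i0 j0 := D.inp.π_eq_iff hx hy

theorem ff_pi {x y : G} (hx : x ∈ Q i0 j0) (hy : y ∈ Q i0 j0) :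
    D.ff (D.pi hx) (D.pi hy) = ρ v ⁅x, y⁆ := D.inp.f_π hx hy

theorem ss_pi {x : G} (hx : x ∈ Q i0 j0) : D.ss (D.pi hx) = ρ v (x * x) := D.inp.s_π hx

theorem ρ_one : ρ v 1 = 0 := by
  rw [← D.v_zero]; exact D.ρ_v 0

theorem ρ_inj {r : G} (hr : r ∈ R i0 j0) (h : ρ v r = 0) : r = 1 := D.pre.ρ_inj r hr h

theorem ff_pi_iff {x y : G} (hx : x ∈ Q i0 j0) (hy : y ∈ Q i0 j0) :
    D.ff (D.pi hx) (D.pi hy) = 0 ↔ x * y = y * x := by
  rw [D.ff_pi]
  constructor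
  · intro h
    exact comm_of_eq_one (D.ρ_inj (D.grid.QQ i0 j0 x hx y hy) h)
  · intro h
    rw [commutatorElement_eq_one_iff_mul_comm.2 h, D.ρ_one]

theorem ss_pi_iff {x : G} (hx : x ∈ Q i0 j0) : D.ss (D.pi hx) = 0 ↔ x * x = 1 := by
  rw [D.ss_pi]
  constructor
  · intro h
    exact D.ρ_inj (D.grid.Qsq i0 j0 x hx) h
  · intro h
    rw [h, D.ρ_one]

theorem ff_symm (m n : D.Mo) : D.ff m n = D.ff n m := by
  obtain ⟨x, hx, rfl⟩ := D.pi_surj m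
  obtain ⟨y, hy, rfl⟩ := D.pi_surj n
  rw [D.ff_pi, D.ff_pi]
  exact congrArg (ρ v) (D.pre.comm_symm hx hy)

theorem ss_add (m n : D.Mo) : D.ss (m + n) = D.ss m + D.ss n + D.ff m n := D.inp.s_add m n

theorem ss_smul (a : F) (m : D.Mo) : D.ss (a • m) = a ^ 2 * D.ss m := D.inp.s_smul a m

theorem ff_nondeg (m : D.Mo) (h : ∀ n, D.ff m n = 0) : m = 0 := D.inp.nondeg m h

/-- the action of `K = C(R)` -/
noncomputable def ac {k : G} (hk : k ∈ centralizer (R i0 j0 : Set G)) : D.Mo ≃ₗ[F] D.Mo := D.inp.act ⟨k, hk⟩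

theorem ac_pi {k : G} (hk : k ∈ centralizer (R i0 j0 : Set G)) {x : G} (hx : x ∈ Q i0 j0) :
    D.ac hk (D.pi hx) = D.pi (D.K_norm hk hx) := D.inp.act_π ⟨k, hk⟩ hx

theorem ac_mul {k l : G} (hk : k ∈ centralizer (R i0 j0 : Set G)) (hl : l ∈ centralizer (R i0 j0 : Set G)) :
    D.ac (mul_mem hk hl) = D.ac hk * D.ac hl := D.inp.act.map_mul ⟨k, hk⟩ ⟨l, hl⟩

theorem ac_inv {k : G} (hk : k ∈ centralizer (R i0 j0 : Set G)) :
    D.ac (inv_mem hk) = (D.ac hk)⁻¹ := D.inp.act.map_inv ⟨k, hk⟩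

theorem ac_ss {k : G} (hk : k ∈ centralizer (R i0 j0 : Set G)) (m : D.Mo) : D.ss (D.ac hk m) = D.ss m :=
  D.inp.isom ⟨k, hk⟩ m

theorem ac_ff {k : G} (hk : k ∈ centralizer (R i0 j0 : Set G)) (m n : D.Mo) :
    D.ff (D.ac hk m) (D.ac hk n) = D.ff m n := by
  have h := D.ss_add (D.ac hk m) (D.ac hk n)
  rw [← map_add, D.ac_ss, D.ac_ss, D.ac_ss, D.ss_add] at h
  linear_combination -h

theorem ac_eq_one {k : G} (hk : k ∈ centralizer (R i0 j0 : Set G)) :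
    D.ac hk = 1 ↔ ∀ x ∈ Q i0 j0, ⁅k, x⁆ ∈ R i0 j0 := D.inp.act_eq_one

/-- the kernel of the action -/
theorem mem_Q_of_ac {k : G} (hk : k ∈ centralizer (R i0 j0 : Set G)) (h : D.ac hk = 1) : k ∈ Q i0 j0 := by
  let N : Subgroup G := D.inp.act.ker.map (Subgroup.subtype _)
  have hN : ∀ k, k ∈ N ↔ ∃ hk : k ∈ centralizer (R i0 j0 : Set G), D.ac hk = 1 := by
    intro k
    constructor
    · rintro ⟨k, h1, rfl⟩
      exact ⟨k.2, h1⟩
    · rintro ⟨hk, h1⟩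
      exact ⟨⟨k, hk⟩, h1, rfl⟩
  have hsq : ∀ k ∈ N, k * k ∈ Q i0 j0 := by
    intro k hk
    obtain ⟨hk, h1⟩ := (hN k).1 hk
    rw [D.ac_eq_one] at h1
    apply D.char2
    rw [mem_centralizer_iff]
    intro x hx
    have h2 := h1 x hx
    have h3 := D.mem_K.1 hk _ h2
    have h4 : ⁅k, x⁆ * ⁅k, x⁆ = 1 := D.grid.V_sq _ (D.R_le_V h2)
    have h5 : k * x = ⁅k, x⁆ * (x * k) := by simp only [commutatorElement_def]; group
    calc x * (k * k) = ⁅k, x⁆ * ⁅k, x⁆ * (x * (k * k)) := by rw [h4, one_mul]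
      _ = ⁅k, x⁆ * (⁅k, x⁆ * (x * k)) * k := by group
      _ = ⁅k, x⁆ * (k * x) * k := by rw [← h5]
      _ = ⁅k, x⁆ * k * (x * k) := by group
      _ = k * (⁅k, x⁆ * (x * k)) := by rw [← h3]; group
      _ = k * (k * x) := by rw [← h5]
      _ = k * k * x := by group
  have h2 : IsPGroup 2 N := by
    intro k
    have h3 := hsq k k.2
    obtain ⟨n, hn⟩ := D.Q_two ⟨_, h3⟩
    refine ⟨n + 1, ?_⟩
    have h4 : ((k : G) * k) ^ 2 ^ n = 1 := congrArg Subtype.val hn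
    apply Subtype.ext
    rw [Subgroup.coe_pow, pow_succ', pow_mul, sq]
    exact h4
  refine D.max N h2 (fun k hk => ((hN k).1 hk).1) ?_ ((hN k).2 ⟨hk, h⟩)
  intro c hc x hx
  obtain ⟨hxK, h1⟩ := (hN x).1 hx
  refine (hN _).2 ⟨mul_mem (mul_mem hc hxK) (inv_mem hc), ?_⟩
  rw [D.ac_mul (mul_mem hc hxK) (inv_mem hc), D.ac_mul hc hxK, D.ac_inv hc, h1, mul_one, mul_inv_cancel]

/-- `Q` acts trivially -/
theorem ac_Q {k : G} (hk : k ∈ Q i0 j0) : D.ac (D.Q_le_K hk) = 1 := by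
  rw [D.ac_eq_one]
  intro x hx
  exact D.grid.QQ i0 j0 k hk x hx

/-! ### the vectors `e₁`, `e₂` -/

noncomputable def e₁ : D.Mo := D.pi (D.v_Q 0 1 0)

noncomputable def e₂ : D.Mo := D.pi (D.v_Q 0 0 1)

theorem pi_v (a b c : F) : D.pi (D.v_Q a b c) = b • D.e₁ + c • D.e₂ := by
  refine Subtype.ext (funext fun z => ?_)
  have hz : (z : G) ∈ Q i0 j0 := z.2
  change ρ v ⁅v a b c 0, (z : G)⁆ = b * ρ v ⁅v 0 1 0 0, (z : G)⁆ + c * ρ v ⁅v 0 0 1 0, (z : G)⁆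
  rw [D.comm_v hz, D.comm_v hz, D.comm_v hz]
  simp only [mul_zero, mul_one, add_zero, zero_add]
  rw [D.ρ_v, D.ρ_v, D.ρ_v]
  ring

theorem ff_e₁ {x : G} (hx : x ∈ Q i0 j0) : D.ff (D.pi hx) D.e₁ = p' x := by
  rw [e₁, D.ff_pi, D.p'_eq hx]; rfl

theorem ff_e₂ {x : G} (hx : x ∈ Q i0 j0) : D.ff (D.pi hx) D.e₂ = p x := by
  rw [e₂, D.ff_pi, D.p_eq hx]; rfl

theorem mem_e {m : D.Mo} (b c : F) (h : m = b • D.e₁ + c • D.e₂) {x : G} (hx : x ∈ Q i0 j0)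
    (hm : D.pi hx = m) : ∃ a, x = v a b c 0 := by
  rw [h, ← D.pi_v 0 b c, D.pi_eq_iff] at hm
  obtain ⟨a, ha⟩ := (D.R00 _).1 hm
  refine ⟨a, ?_⟩
  have : x = v 0 b c 0 * (x⁻¹ * v 0 b c 0)⁻¹ := by group
  rw [this, ha, D.v_inv, D.v_mul]
  simp

theorem mem_e_E {x : G} (hx : x ∈ Q i0 j0) : (∃ b c : F, D.pi hx = b • D.e₁ + c • D.e₂) ↔ x ∈ V := by
  constructor
  · rintro ⟨b, c, h⟩
    obtain ⟨a, rfl⟩ := D.mem_e b c rfl hx h
    exact D.v_mem _ _ _ _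
  · intro h
    obtain ⟨a, b, c, rfl⟩ := D.mem_E.1 ⟨h, hx⟩
    exact ⟨b, c, D.pi_v a b c⟩

theorem rowG_le : rowG Q i0 ≤ Q i0 j0 := iInf_le _ _

theorem colG_le : colG Q j0 ≤ Q i0 j0 := iInf_le _ _

/-! ### `N₁`, `N₂` -/

/-- the image of the row group -/
noncomputable def N₁ : Submodule F D.Mo where
  carrier := {m | ∀ x, ∀ hx : x ∈ rowG Q i0, D.ff m (D.pi (D.rowG_le hx)) = 0}
  add_mem' h1 h2 x hx := by rw [map_add, LinearMap.add_apply, h1 x hx, h2 x hx, add_zero]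
  zero_mem' x hx := by rw [map_zero, LinearMap.zero_apply]
  smul_mem' a m h x hx := by rw [map_smul, LinearMap.smul_apply, h x hx, smul_zero]

/-- the image of the column group -/
noncomputable def N₂ : Submodule F D.Mo where
  carrier := {m | ∀ x, ∀ hx : x ∈ colG Q j0, D.ff m (D.pi (D.colG_le hx)) = 0}
  add_mem' h1 h2 x hx := by rw [map_add, LinearMap.add_apply, h1 x hx, h2 x hx, add_zero]
  zero_mem' x hx := by rw [map_zero, LinearMap.zero_apply]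
  smul_mem' a m h x hx := by rw [map_smul, LinearMap.smul_apply, h x hx, smul_zero]

theorem mem_N₁ {x : G} (hx : x ∈ Q i0 j0) : D.pi hx ∈ D.N₁ ↔ x ∈ rowG Q i0 := by
  constructor
  · intro h
    exact D.rc.row_cent i0 j0 x hx fun y hy => (D.ff_pi_iff hx (D.rowG_le hy)).1 (h y hy)
  · intro h y hy
    exact (D.ff_pi_iff hx (D.rowG_le hy)).2 (D.rc.row_comm i0 x h y hy)

theorem mem_N₂ {x : G} (hx : x ∈ Q i0 j0) : D.pi hx ∈ D.N₂ ↔ x ∈ colG Q j0 := by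
  constructor
  · intro h
    exact D.rc.col_cent i0 j0 x hx fun y hy => (D.ff_pi_iff hx (D.colG_le hy)).1 (h y hy)
  · intro h y hy
    exact (D.ff_pi_iff hx (D.colG_le hy)).2 (D.rc.col_comm j0 x h y hy)

theorem e₁_N₁ : D.e₁ ∈ D.N₁ := (D.mem_N₁ _).2 ((D.row_V 0 1 0 0).2 ⟨rfl, rfl⟩)

theorem e₂_N₂ : D.e₂ ∈ D.N₂ := (D.mem_N₂ _).2 ((D.col_V 0 0 1 0).2 ⟨rfl, rfl⟩)

theorem isCompl : IsCompl D.N₁ D.N₂ := by
  constructor
  · rw [Submodule.disjoint_def]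
    intro m h1 h2
    obtain ⟨x, hx, rfl⟩ := D.pi_surj m
    rw [D.mem_N₁] at h1
    rw [D.mem_N₂] at h2
    rw [D.pi_eq_zero, ← D.rc.inf i0 j0]
    exact ⟨h1, h2⟩
  · rw [codisjoint_iff, eq_top_iff]
    intro m _
    obtain ⟨x, hx, rfl⟩ := D.pi_surj m
    obtain ⟨a, ha, b, hb, rfl⟩ := D.rc.mul i0 j0 x hx
    rw [D.pi_mul (D.rowG_le ha) (D.colG_le hb)]
    exact Submodule.add_mem_sup ((D.mem_N₁ _).2 ha) ((D.mem_N₂ _).2 hb)

theorem e₁_ne : D.e₁ ≠ 0 := by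
  intro h
  rw [e₁, D.pi_eq_zero, D.R00] at h
  obtain ⟨a, ha⟩ := h
  exact one_ne_zero (D.v_ext ha).2.1

theorem e₂_ne : D.e₂ ≠ 0 := by
  intro h
  rw [e₂, D.pi_eq_zero, D.R00] at h
  obtain ⟨a, ha⟩ := h
  exact one_ne_zero (D.v_ext ha).2.2.1

theorem sing₁ {m : D.Mo} (h : m ∈ D.N₁) : D.ss m = 0 := by
  obtain ⟨x, hx, rfl⟩ := D.pi_surj m
  rw [D.mem_N₁] at h
  exact (D.ss_pi_iff hx).2 (D.rc.row_sq i0 x h)

theorem sing₂ {m : D.Mo} (h : m ∈ D.N₂) : D.ss m = 0 := by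
  obtain ⟨x, hx, rfl⟩ := D.pi_surj m
  rw [D.mem_N₂] at h
  exact (D.ss_pi_iff hx).2 (D.rc.col_sq j0 x h)

theorem ff_N₁ {m n : D.Mo} (hm : m ∈ D.N₁) (hn : n ∈ D.N₁) : D.ff m n = 0 := by
  have h := D.ss_add m n
  rw [D.sing₁ (add_mem hm hn), D.sing₁ hm, D.sing₁ hn] at h
  linear_combination -h

theorem ff_N₂ {m n : D.Mo} (hm : m ∈ D.N₂) (hn : n ∈ D.N₂) : D.ff m n = 0 := by
  have h := D.ss_add m n
  rw [D.sing₂ (add_mem hm hn), D.sing₂ hm, D.sing₂ hn] at h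
  linear_combination -h

theorem perp : D.ff D.e₁ D.e₂ = 0 := by
  rw [e₁, e₂, D.ff_pi_iff]
  exact D.V_comm (D.v_mem _ _ _ _) (D.v_mem _ _ _ _)

theorem exists_c₁ : ∃ c ∈ D.N₁, D.ff c D.e₂ = 1 := by
  obtain ⟨x, hx, h1, h2⟩ := D.p_surj 1 0
  obtain ⟨a, ha, b, hb, rfl⟩ := D.rc.mul i0 j0 x hx
  refine ⟨D.pi (D.rowG_le ha), (D.mem_N₁ _).2 ha, ?_⟩
  rw [D.p_mul (D.rowG_le ha) (D.colG_le hb), D.col_p b hb, add_zero] at h1
  rw [D.ff_e₂, h1]

theorem exists_c₂ : ∃ c ∈ D.N₂, D.ff c D.e₁ = 1 := by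
  obtain ⟨x, hx, h1, h2⟩ := D.p_surj 0 1
  obtain ⟨a, ha, b, hb, rfl⟩ := D.rc.mul i0 j0 x hx
  refine ⟨D.pi (D.colG_le hb), (D.mem_N₂ _).2 hb, ?_⟩
  rw [D.p'_mul (D.rowG_le ha) (D.colG_le hb), D.row_p a ha, zero_add] at h2
  rw [D.ff_e₁, h2]

/-- `C_Q(V)/R = P` -/
theorem mem_P {x : G} (hx : x ∈ Q i0 j0) :
    (D.ff D.e₁ (D.pi hx) = 0 ∧ D.ff D.e₂ (D.pi hx) = 0) ↔ x ∈ centralizer (V : Set G) := by
  rw [D.ff_symm D.e₁, D.ff_symm D.e₂, D.ff_e₁, D.ff_e₂, D.mem_CV hx, and_comm]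

/-- the form of an isometry which is trivial on `P` -/
theorem isom_P {g : D.Mo ≃ₗ[F] D.Mo} (hs : ∀ m, D.ss (g m) = D.ss m)
    (hP : ∀ m, D.ff D.e₁ m = 0 → D.ff D.e₂ m = 0 → g m = m) :
    ∃ a : F, ∀ m, g m = m + a • (D.ff m D.e₁ • D.e₂ + D.ff m D.e₂ • D.e₁) := by
  have hf : ∀ m n, D.ff (g m) (g n) = D.ff m n := by
    intro m n
    have h := D.ss_add (g m) (g n)
    rw [← map_add, hs, hs, hs, D.ss_add] at h
    linear_combination -h
  obtain ⟨c₁, hc₁, h1⟩ := D.exists_c₁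
  obtain ⟨c₂, hc₂, h2⟩ := D.exists_c₂
  have h3 : D.ff c₁ D.e₁ = 0 := D.ff_N₁ hc₁ D.e₁_N₁
  have h4 : D.ff c₂ D.e₂ = 0 := D.ff_N₂ hc₂ D.e₂_N₂
  -- `P^⊥ = e`
  have hdec : ∀ m, ∃ n, D.ff D.e₁ n = 0 ∧ D.ff D.e₂ n = 0 ∧ m = n + D.ff m D.e₂ • c₁ + D.ff m D.e₁ • c₂ := by
    intro m
    refine ⟨m - D.ff m D.e₂ • c₁ - D.ff m D.e₁ • c₂, ?_, ?_, by module⟩
    · rw [D.ff_symm]
      simp only [map_sub, map_smul, LinearMap.sub_apply, LinearMap.smul_apply, smul_eq_mul, h2, h3]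
      ring
    · rw [D.ff_symm]
      simp only [map_sub, map_smul, LinearMap.sub_apply, LinearMap.smul_apply, smul_eq_mul, h1, h4]
      ring
  have hperp : ∀ m, (∀ n, D.ff D.e₁ n = 0 → D.ff D.e₂ n = 0 → D.ff m n = 0) →
      m = D.ff m c₂ • D.e₁ + D.ff m c₁ • D.e₂ := by
    intro m hm
    rw [← sub_eq_zero]
    refine D.ff_nondeg _ fun n => ?_
    obtain ⟨n', hn1, hn2, h5⟩ := hdec n
    rw [h5]
    have e1 := hm n' hn1 hn2
    have e2 : D.ff D.e₁ c₁ = 0 := by rw [D.ff_symm, h3]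
    have e3 : D.ff D.e₂ c₁ = 1 := by rw [D.ff_symm, h1]
    have e4 : D.ff D.e₁ c₂ = 1 := by rw [D.ff_symm, h2]
    have e5 : D.ff D.e₂ c₂ = 0 := by rw [D.ff_symm, h4]
    simp only [map_sub, map_smul, map_add, LinearMap.sub_apply, LinearMap.smul_apply, LinearMap.add_apply,
      smul_eq_mul, e1, e2, e3, e4, e5, hn1, hn2]
    ring
  have hge : ∀ m, ∃ a c : F, g m = m + a • D.e₁ + c • D.e₂ := by
    intro m
    have h5 := hperp (g m - m) (fun n hn1 hn2 => by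
      rw [map_sub, LinearMap.sub_apply]
      have h6 := hf m n
      rw [hP n hn1 hn2] at h6
      rw [h6, sub_self])
    refine ⟨D.ff (g m - m) c₂, D.ff (g m - m) c₁, ?_⟩
    rw [add_assoc, ← h5]
    abel
  obtain ⟨a, c, h5⟩ := hge c₁
  obtain ⟨a', c', h6⟩ := hge c₂
  have hee : ∀ a c : F, D.ss (a • D.e₁ + c • D.e₂) = 0 := by
    intro a c
    rw [D.ss_add, D.ss_smul, D.ss_smul, D.sing₁ D.e₁_N₁, D.sing₂ D.e₂_N₂, map_smul, map_smul, LinearMap.smul_apply,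
      D.perp]
    simp
  have hc : c = 0 := by
    have h7 := hs c₁
    rw [h5, add_assoc, D.ss_add, hee, map_add, map_smul, map_smul, h1, h3] at h7
    simp only [smul_eq_mul] at h7
    linear_combination h7
  have ha' : a' = 0 := by
    have h7 := hs c₂
    rw [h6, add_assoc, D.ss_add, hee, map_add, map_smul, map_smul, h2, h4] at h7
    simp only [smul_eq_mul] at h7
    linear_combination h7
  have hac : c' = a := by
    have h7 := hf c₁ c₂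
    rw [h5, h6, hc, ha'] at h7
    simp only [map_smul, map_add, LinearMap.smul_apply, LinearMap.add_apply, smul_eq_mul, h1, h3,
      D.ff_symm D.e₁ c₂, h2, D.perp, zero_smul, map_zero, LinearMap.zero_apply, D.ff_symm D.e₂ c₂, h4] at h7
    linear_combination h7 - a * D.two
  refine ⟨a, fun m => ?_⟩
  obtain ⟨n, hn1, hn2, h7⟩ := hdec m
  have h8 : g m = n + D.ff m D.e₂ • (c₁ + a • D.e₁ + c • D.e₂) + D.ff m D.e₁ • (c₂ + a' • D.e₁ + c' • D.e₂) := by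
    conv_lhs => rw [h7]
    rw [map_add, map_add, map_smul, map_smul, hP n hn1 hn2, h5, h6]
  rw [h8, hc, ha', hac]
  conv_rhs => rw [h7]
  have k1 : D.ff (n + D.ff m D.e₂ • c₁ + D.ff m D.e₁ • c₂) D.e₁ = D.ff m D.e₁ := by rw [← h7]
  have k2 : D.ff (n + D.ff m D.e₂ • c₁ + D.ff m D.e₁ • c₂) D.e₂ = D.ff m D.e₂ := by rw [← h7]
  rw [k1, k2]
  module

/-- the elements of `Q` which centralise `C_Q(V)` -/
theorem cent_CV {x : G} (hx : x ∈ Q i0 j0)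
    (h : ∀ y ∈ Q i0 j0, y ∈ centralizer (V : Set G) → x * y = y * x) : x ∈ V := by
  rw [← D.mem_e_E hx]
  obtain ⟨c₁, hc₁, h1⟩ := D.exists_c₁
  obtain ⟨c₂, hc₂, h2⟩ := D.exists_c₂
  have h3 : D.ff c₁ D.e₁ = 0 := D.ff_N₁ hc₁ D.e₁_N₁
  have h4 : D.ff c₂ D.e₂ = 0 := D.ff_N₂ hc₂ D.e₂_N₂
  refine ⟨D.ff (D.pi hx) c₂, D.ff (D.pi hx) c₁, ?_⟩
  rw [← sub_eq_zero]
  refine D.ff_nondeg _ fun n => ?_
  obtain ⟨n', hn1, hn2, h5⟩ : ∃ n', D.ff D.e₁ n' = 0 ∧ D.ff D.e₂ n' = 0 ∧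
      n = n' + D.ff n D.e₂ • c₁ + D.ff n D.e₁ • c₂ := by
    refine ⟨n - D.ff n D.e₂ • c₁ - D.ff n D.e₁ • c₂, ?_, ?_, by module⟩
    · rw [D.ff_symm]
      simp only [map_sub, map_smul, LinearMap.sub_apply, LinearMap.smul_apply, smul_eq_mul, h2, h3]
      ring
    · rw [D.ff_symm]
      simp only [map_sub, map_smul, LinearMap.sub_apply, LinearMap.smul_apply, smul_eq_mul, h1, h4]
      ring
  have e1 : D.ff (D.pi hx) n' = 0 := by
    obtain ⟨y, hy, rfl⟩ := D.pi_surj n'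
    exact (D.ff_pi_iff hx hy).2 (h y hy ((D.mem_P hy).1 ⟨hn1, hn2⟩))
  rw [h5]
  have e2 : D.ff D.e₁ c₁ = 0 := by rw [D.ff_symm, h3]
  have e3 : D.ff D.e₂ c₁ = 1 := by rw [D.ff_symm, h1]
  have e4 : D.ff D.e₁ c₂ = 1 := by rw [D.ff_symm, h2]
  have e5 : D.ff D.e₂ c₂ = 0 := by rw [D.ff_symm, h4]
  simp only [map_sub, map_smul, map_add, LinearMap.sub_apply, LinearMap.smul_apply, LinearMap.add_apply,
    smul_eq_mul, e1, e2, e3, e4, e5, hn1, hn2]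
  ring

end Gin

end Cfsg.Agent.Omega.NO1.Gamma

end

end

-- merged: Cfsg.Agent.Mrg.Omega.NO1.Gamma.SLIn
section

section


/-!
# Type (gamma), `q ≥ 4`: the input of THEOREM SL

(I2) of bb #15588, last part.
-/

set_option autoImplicit false
set_option linter.unusedVariables false
set_option linter.unusedSectionVars false
set_option linter.unusedSimpArgs false

open Subgroup
open scoped Pointwise commutatorElement

namespace Cfsg.Agent.Omega.NO1.Gamma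

open Cfsg.Agent.Omega.NO1.Beta.Meet (cj mem_cj conj_mem_cj cj_mul cj_inj cj_eq_of_comm
  mem_normalizer_of_cj cj_of_mem_normalizer)
open Cfsg.Agent.Omega.NOne

namespace Gin

variable {F : Type*} [Field F] {G : Type*} [Group G] {I J : Type*} {S : Sylow 2 G} {V : Subgroup G}
  {R Q : I → J → Subgroup G} {i0 i1 : I} {j0 j1 : J} {v : F → F → F → F → G} {p p' : G → F}
  (D : Gin F S V R Q i0 i1 j0 j1 v p p') [Finite G]

include D

omit D in
theorem cj_eq_of_le {g : G} {H : Subgroup G} (h : ∀ x ∈ H, g * x * g⁻¹ ∈ H) : cj g H = H := by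
  refine Subgroup.eq_of_le_of_card_ge ?_ ?_
  · intro x hx
    rw [mem_cj] at hx
    have := h _ hx
    have e : g * (g⁻¹ * x * g) * g⁻¹ = x := by group
    rwa [e] at this
  · exact Nat.card_le_card_of_injective (fun x : H => (⟨g * x * g⁻¹, conj_mem_cj x.2⟩ : cj g H)) fun x y h => by
      have h1 : g * (x : G) * g⁻¹ = g * y * g⁻¹ := congrArg Subtype.val h
      exact Subtype.ext (mul_left_cancel (mul_right_cancel h1))

/-- the root group of `e` -/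
theorem ac_v (d : F) (m : D.Mo) : D.ac (D.V_le_K (D.v_mem 0 0 0 d)) m =
    m + d • (D.ff m D.e₁ • D.e₂ + D.ff m D.e₂ • D.e₁) := by
  obtain ⟨x, hx, rfl⟩ := D.pi_surj m
  rw [D.ac_pi, D.ff_e₁, D.ff_e₂]
  have h1 : v 0 0 0 d * x * (v 0 0 0 d)⁻¹ = v (p x * p' x * d) (p x * d) (p' x * d) 0 * x := by
    have h2 := D.comm_v hx 0 0 0 d
    rw [mul_zero, mul_zero, zero_add, zero_add] at h2
    rw [← h2]
    simp only [commutatorElement_def]
    group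
  rw [D.pi_congr _ h1 (mul_mem (D.v_Q _ _ _) hx), D.pi_mul (D.v_Q _ _ _) hx, D.pi_v]
  module

/-- **An element which normalises `R` and `E` normalises `V`.** -/
theorem cjV {g : G} (hR : cj g (R i0 j0) = R i0 j0) (hE : ∀ x ∈ V ⊓ Q i0 j0, g * x * g⁻¹ ∈ V) :
    cj g V = V := by
  have hQ := D.cj_Q hR
  have hE' : cj g (V ⊓ Q i0 j0) = V ⊓ Q i0 j0 :=
    cj_eq_of_le fun x hx => ⟨hE x hx, conj_of_cj hQ hx.2⟩
  refine cj_eq_of_le fun w hw => ?_
  have hK : g * w * g⁻¹ ∈ centralizer (R i0 j0 : Set G) := by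
    rw [D.mem_K]
    intro r hr
    have h1 := D.V_comm hw (D.R_le_V (conj_of_cj' hR hr))
    calc g * w * g⁻¹ * r = g * (w * (g⁻¹ * r * g)) * g⁻¹ := by group
      _ = g * ((g⁻¹ * r * g) * w) * g⁻¹ := by rw [h1]
      _ = r * (g * w * g⁻¹) := by group
  have hC : ∀ x ∈ Q i0 j0, x ∈ centralizer (V : Set G) → g * w * g⁻¹ * x = x * (g * w * g⁻¹) := by
    intro x hx hxV
    have h1 : g⁻¹ * x * g ∈ centralizer (V : Set G) := by
      refine D.mem_CV_of_E (conj_of_cj' hQ hx) fun e he => ?_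
      have h2 := mem_centralizer_iff.1 hxV (g * e * g⁻¹) (hE e he)
      calc g⁻¹ * x * g * e = g⁻¹ * (x * (g * e * g⁻¹)) * g := by group
        _ = g⁻¹ * ((g * e * g⁻¹) * x) * g := by rw [h2]
        _ = e * (g⁻¹ * x * g) := by group
    have h2 := mem_centralizer_iff.1 h1 w hw
    calc g * w * g⁻¹ * x = g * (w * (g⁻¹ * x * g)) * g⁻¹ := by group
      _ = g * ((g⁻¹ * x * g) * w) * g⁻¹ := by rw [h2]
      _ = x * (g * w * g⁻¹) := by group
  obtain ⟨a, ha⟩ := D.isom_P (g := D.ac hK) (D.ac_ss hK) (fun m h1 h2 => by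
    obtain ⟨x, hx, rfl⟩ := D.pi_surj m
    have h3 := hC x hx ((D.mem_P hx).1 ⟨h1, h2⟩)
    rw [D.ac_pi]
    refine D.pi_congr _ ?_ _
    rw [h3]
    group)
  have hvK := D.V_le_K (D.v_mem 0 0 0 a)
  have h1 : D.ac hK = D.ac hvK := LinearEquiv.ext fun m => by rw [ha, D.ac_v]
  have h2 : D.ac (mul_mem hK (inv_mem hvK)) = 1 := by
    rw [D.ac_mul hK (inv_mem hvK), D.ac_inv hvK, h1, mul_inv_cancel]
  have h3 := D.mem_Q_of_ac _ h2
  have h4 : g * w * g⁻¹ * (v 0 0 0 a)⁻¹ ∈ V := by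
    refine D.cent_CV h3 fun y hy hyV => ?_
    have e1 := hC y hy hyV
    have e2 := mem_centralizer_iff.1 hyV _ (inv_mem (D.v_mem 0 0 0 a))
    rw [mul_assoc, e2, ← mul_assoc, e1, mul_assoc]
  have h5 := mul_mem h4 (D.v_mem 0 0 0 a)
  rwa [inv_mul_cancel_right] at h5

/-! ### the action on `N₁`, `N₂` -/

theorem ac_N₁₁ {k : G} (hk : k ∈ centralizer (R i0 j0 : Set G)) (h : cj k (rowG Q i0) = rowG Q i0)
    {m : D.Mo} (hm : m ∈ D.N₁) : D.ac hk m ∈ D.N₁ := by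
  obtain ⟨x, hx, rfl⟩ := D.pi_surj m
  rw [D.mem_N₁] at hm
  rw [D.ac_pi, D.mem_N₁, ← h]
  exact conj_mem_cj hm

theorem ac_N₂₂ {k : G} (hk : k ∈ centralizer (R i0 j0 : Set G)) (h : cj k (colG Q j0) = colG Q j0)
    {m : D.Mo} (hm : m ∈ D.N₂) : D.ac hk m ∈ D.N₂ := by
  obtain ⟨x, hx, rfl⟩ := D.pi_surj m
  rw [D.mem_N₂] at hm
  rw [D.ac_pi, D.mem_N₂, ← h]
  exact conj_mem_cj hm

theorem ac_N₁₂ {k : G} (hk : k ∈ centralizer (R i0 j0 : Set G)) (h : cj k (rowG Q i0) = colG Q j0)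
    {m : D.Mo} (hm : m ∈ D.N₁) : D.ac hk m ∈ D.N₂ := by
  obtain ⟨x, hx, rfl⟩ := D.pi_surj m
  rw [D.mem_N₁] at hm
  rw [D.ac_pi, D.mem_N₂, ← h]
  exact conj_mem_cj hm

theorem ac_N₂₁ {k : G} (hk : k ∈ centralizer (R i0 j0 : Set G)) (h : cj k (colG Q j0) = rowG Q i0)
    {m : D.Mo} (hm : m ∈ D.N₂) : D.ac hk m ∈ D.N₁ := by
  obtain ⟨x, hx, rfl⟩ := D.pi_surj m
  rw [D.mem_N₂] at hm
  rw [D.ac_pi, D.mem_N₁, ← h]
  exact conj_mem_cj hm

theorem mem_e_of_N₁ {a c : F} (h : a • D.e₁ + c • D.e₂ ∈ D.N₁) : c • D.e₂ = 0 := by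
  have h1 : c • D.e₂ ∈ D.N₁ := by
    have := sub_mem h (Submodule.smul_mem _ a D.e₁_N₁)
    rwa [add_sub_cancel_left] at this
  exact (Submodule.disjoint_def.1 D.isCompl.disjoint) _ h1 (Submodule.smul_mem _ _ D.e₂_N₂)

theorem mem_e_of_N₂ {a c : F} (h : a • D.e₁ + c • D.e₂ ∈ D.N₂) : a • D.e₁ = 0 := by
  have h1 : a • D.e₁ ∈ D.N₂ := by
    have := sub_mem h (Submodule.smul_mem _ c D.e₂_N₂)
    rwa [add_sub_cancel_right] at this
  exact (Submodule.disjoint_def.1 D.isCompl.disjoint) _ (Submodule.smul_mem _ _ D.e₁_N₁) h1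

theorem ac_e₁ {k : G} (hk : k ∈ centralizer (V : Set G)) : D.ac (D.CV_le_K hk) D.e₁ = D.e₁ := by
  rw [e₁, D.ac_pi]
  refine D.pi_congr _ ?_ _
  rw [← mem_centralizer_iff.1 hk _ (D.v_mem 0 1 0 0)]
  group

theorem ac_e₂ {k : G} (hk : k ∈ centralizer (V : Set G)) : D.ac (D.CV_le_K hk) D.e₂ = D.e₂ := by
  rw [e₂, D.ac_pi]
  refine D.pi_congr _ ?_ _
  rw [← mem_centralizer_iff.1 hk _ (D.v_mem 0 0 1 0)]
  group

theorem ac_CV {k : G} (hk : k ∈ centralizer (V : Set G)) (m : D.Mo) :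
    D.ff D.e₁ (D.ac (D.CV_le_K hk) m - m) = 0 ∧ D.ff D.e₂ (D.ac (D.CV_le_K hk) m - m) = 0 := by
  constructor
  · have h := D.ac_ff (D.CV_le_K hk) D.e₁ m
    rw [D.ac_e₁ hk] at h
    rw [map_sub, h, sub_self]
  · have h := D.ac_ff (D.CV_le_K hk) D.e₂ m
    rw [D.ac_e₂ hk] at h
    rw [map_sub, h, sub_self]

theorem J1 {φ : D.Mo} (hφ : φ ∈ D.N₂) (h0 : D.ff D.e₁ φ = 0) : ∃ z, ∃ hz : z ∈ centralizer (V : Set G),
    ∀ m, D.ff D.e₁ m = 0 → D.ff D.e₂ m = 0 → D.ac (D.CV_le_K hz) m = m + D.ff m φ • D.e₁ := by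
  obtain ⟨y, hy, rfl⟩ := D.pi_surj φ
  rw [D.mem_N₂] at hφ
  rw [D.ff_symm, D.ff_e₁] at h0
  have hyV : y ∈ centralizer (V : Set G) := (D.mem_CV hy).2 ⟨D.col_p y hφ, h0⟩
  obtain ⟨w, hw, hv⟩ := D.wey
  have hR : cj w (R i0 j0) = R i0 j1 := by
    ext x
    rw [mem_cj, D.R00, D.R01]
    constructor
    · rintro ⟨a, ha⟩
      refine ⟨a, ?_⟩
      rw [← hv a 0 0 0, ← ha]
      group
    · rintro ⟨a, rfl⟩
      refine ⟨a, ?_⟩
      rw [← hv a 0 0 0]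
      group
  obtain ⟨hz, h1⟩ := D.grid.weyl D.rc D.hj hw hR hφ hyV
  refine ⟨_, hz, fun m hm1 hm2 => ?_⟩
  obtain ⟨x, hx, rfl⟩ := D.pi_surj m
  have hxV := (D.mem_P hx).1 ⟨hm1, hm2⟩
  obtain ⟨a, ha, b, hb, haV, hbV, rfl⟩ := D.rc.cenV i0 j0 x hx hxV
  have haQ := D.rowG_le ha
  have hbQ := D.colG_le hb
  have h2 := h1 a ha haV b hb hbV
  obtain ⟨r, hr⟩ := (D.R00 _).1 (D.grid.QQ i0 j0 y hy a haQ)
  have hr' : ⁅y, a⁆ = v r 0 0 0 := hr
  rw [hr', hv] at h2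
  have h3 : w * y * w⁻¹ * (a * b) * (w * y * w⁻¹)⁻¹ = v 0 r 0 0 * (a * b) := by
    rw [← h2]
    simp only [commutatorElement_def]
    group
  have h4 : D.ff (D.pi hx) (D.pi hy) = r := by
    rw [D.pi_mul haQ hbQ, map_add, LinearMap.add_apply, D.ff_N₂ ((D.mem_N₂ hbQ).2 hb) ((D.mem_N₂ hy).2 hφ), add_zero,
      D.ff_symm, D.ff_pi, hr', D.ρ_v]
  rw [h4, D.ac_pi, D.pi_congr _ h3 (mul_mem (D.v_Q 0 r 0) hx), D.pi_mul (D.v_Q 0 r 0) hx, D.pi_v, zero_smul, add_zero,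
    add_comm]

theorem J2 {φ : D.Mo} (hφ : φ ∈ D.N₁) (h0 : D.ff D.e₂ φ = 0) : ∃ z, ∃ hz : z ∈ centralizer (V : Set G),
    ∀ m, D.ff D.e₁ m = 0 → D.ff D.e₂ m = 0 → D.ac (D.CV_le_K hz) m = m + D.ff m φ • D.e₂ := by
  obtain ⟨y, hy, rfl⟩ := D.pi_surj φ
  rw [D.mem_N₁] at hφ
  rw [D.ff_symm, D.ff_e₂] at h0
  have hyV : y ∈ centralizer (V : Set G) := (D.mem_CV hy).2 ⟨h0, D.row_p y hφ⟩
  obtain ⟨w, hw, hv⟩ := D.wey'
  have hR : cj w (R i0 j0) = R i1 j0 := by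
    ext x
    rw [mem_cj, D.R00, D.R10]
    constructor
    · rintro ⟨a, ha⟩
      refine ⟨a, ?_⟩
      rw [← hv a 0 0 0, ← ha]
      group
    · rintro ⟨a, rfl⟩
      refine ⟨a, ?_⟩
      rw [← hv a 0 0 0]
      group
  obtain ⟨hz, h1⟩ := D.grid.transpose.weyl (RC.transpose D.grid D.rc) D.hi hw hR hφ hyV
  refine ⟨_, hz, fun m hm1 hm2 => ?_⟩
  obtain ⟨x, hx, rfl⟩ := D.pi_surj m
  have hxV := (D.mem_P hx).1 ⟨hm1, hm2⟩
  obtain ⟨b, hb, a, ha, hbV, haV, rfl⟩ := (RC.transpose D.grid D.rc).cenV j0 i0 x hx hxV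
  have haQ : a ∈ Q i0 j0 := D.rowG_le ha
  have hbQ : b ∈ Q i0 j0 := D.colG_le hb
  have h2 := h1 b hb hbV a ha haV
  obtain ⟨r, hr⟩ := (D.R00 _).1 (D.grid.QQ i0 j0 y hy b hbQ)
  have hr' : ⁅y, b⁆ = v r 0 0 0 := hr
  rw [hr', hv] at h2
  have h3 : w * y * w⁻¹ * (b * a) * (w * y * w⁻¹)⁻¹ = v 0 0 r 0 * (b * a) := by
    rw [← h2]
    simp only [commutatorElement_def]
    group
  have h4 : D.ff (D.pi hx) (D.pi hy) = r := by
    rw [D.pi_mul hbQ haQ, map_add, LinearMap.add_apply, D.ff_N₁ ((D.mem_N₁ haQ).2 ha) ((D.mem_N₁ hy).2 hφ), add_zero,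
      D.ff_symm, D.ff_pi, hr', D.ρ_v]
  rw [h4, D.ac_pi, D.pi_congr _ h3 (mul_mem (D.v_Q 0 0 r) hx), D.pi_mul (D.v_Q 0 0 r) hx, D.pi_v, zero_smul, zero_add,
    add_comm]

/-- an element of `K` whose image preserves `e` -/
theorem norm_e {k : G} (hk : k ∈ centralizer (R i0 j0 : Set G))
    (h₁ : ∃ a c : F, D.ac hk D.e₁ = a • D.e₁ + c • D.e₂) (h₂ : ∃ a c : F, D.ac hk D.e₂ = a • D.e₁ + c • D.e₂) :
    cj k V = V := by
  refine D.cjV (D.cj_R_of_K hk) fun x hx => ?_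
  obtain ⟨a, b, c, rfl⟩ := D.mem_E.1 hx
  obtain ⟨a₁, c₁, h₁⟩ := h₁
  obtain ⟨a₂, c₂, h₂⟩ := h₂
  rw [← D.mem_e_E (D.K_norm hk hx.2), ← D.ac_pi hk hx.2]
  refine ⟨b * a₁ + c * a₂, b * c₁ + c * c₂, ?_⟩
  have h3 : D.pi hx.2 = b • D.e₁ + c • D.e₂ := D.pi_v a b c
  rw [h3, map_add, map_smul, map_smul, h₁, h₂]
  module

theorem Se {k : G} (hk : k ∈ centralizer (R i0 j0 : Set G))
    (h₁ : ∃ a c : F, D.ac hk D.e₁ = a • D.e₁ + c • D.e₂) (h₂ : ∃ a c : F, D.ac hk D.e₂ = a • D.e₁ + c • D.e₂) :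
    ((∃ a : F, D.ac hk D.e₁ = a • D.e₁) ∧ ∃ a : F, D.ac hk D.e₂ = a • D.e₂) ∨
      ((∃ a : F, D.ac hk D.e₁ = a • D.e₂) ∧ ∃ a : F, D.ac hk D.e₂ = a • D.e₁) := by
  have hV := D.norm_e hk h₁ h₂
  obtain ⟨a₁, c₁, h₁⟩ := h₁
  obtain ⟨a₂, c₂, h₂⟩ := h₂
  rcases D.norm k hV (D.cj_R_of_K hk) with ⟨hA, hB⟩ | ⟨hA, hB⟩
  · left
    have k1 := D.ac_N₁₁ hk hA D.e₁_N₁
    have k2 := D.ac_N₂₂ hk hB D.e₂_N₂
    rw [h₁] at k1
    rw [h₂] at k2
    refine ⟨⟨a₁, ?_⟩, c₂, ?_⟩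
    · rw [h₁, D.mem_e_of_N₁ k1, add_zero]
    · rw [h₂, D.mem_e_of_N₂ k2, zero_add]
  · right
    have k1 := D.ac_N₁₂ hk hA D.e₁_N₁
    have k2 := D.ac_N₂₁ hk hB D.e₂_N₂
    rw [h₁] at k1
    rw [h₂] at k2
    refine ⟨⟨c₁, ?_⟩, a₂, ?_⟩
    · rw [h₁, D.mem_e_of_N₂ k1, zero_add]
    · rw [h₂, D.mem_e_of_N₁ k2, add_zero]

/-- `C_G(V)` normalises the row group and the column group -/
theorem CV_norm {c : G} (hc : c ∈ centralizer (V : Set G)) : cj c (rowG Q i0) = rowG Q i0 ∧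
    cj c (colG Q j0) = colG Q j0 := by
  have h1 : ∀ i j, cj c (Q i j) = Q i j := fun i j => D.grid.conj c i j i j
    (cj_eq_of_comm fun r hr => (mem_centralizer_iff.1 hc r (D.grid.R_le _ _ hr)).symm)
  constructor
  · refine cj_eq_of_le fun x hx => mem_iInf.2 fun j => ?_
    rw [← h1 i0 j]
    exact conj_mem_cj (mem_iInf.1 hx j)
  · refine cj_eq_of_le fun x hx => mem_iInf.2 fun i => ?_
    rw [← h1 i j0]
    exact conj_mem_cj (mem_iInf.1 hx i)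

/-- `Q` normalises the row group and the column group -/
theorem Q_norm {c : G} (hc : c ∈ Q i0 j0) : cj c (rowG Q i0) = rowG Q i0 ∧ cj c (colG Q j0) = colG Q j0 := by
  constructor
  · refine cj_eq_of_le fun x hx => ?_
    have h1 := D.rc.R_row i0 j0 (D.grid.QQ i0 j0 c hc x (D.rowG_le hx))
    have h2 := mul_mem h1 hx
    rwa [inv_mul_cancel_right] at h2
  · refine cj_eq_of_le fun x hx => ?_
    have h1 := D.rc.R_col i0 j0 (D.grid.QQ i0 j0 c hc x (D.colG_le hx))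
    have h2 := mul_mem h1 hx
    rwa [inv_mul_cancel_right] at h2

theorem Jpres {k : G} (hk : k ∈ centralizer (R i0 j0 : Set G)) (h₁ : D.ac hk D.e₁ = D.e₁)
    (h₂ : D.ac hk D.e₂ = D.e₂) : cj k (rowG Q i0) = rowG Q i0 ∧ cj k (colG Q j0) = colG Q j0 := by
  have hV := D.norm_e hk ⟨1, 0, by rw [h₁]; module⟩ ⟨0, 1, by rw [h₂]; module⟩
  have hN := mem_normalizer_of_cj hV
  obtain ⟨x, hx, h3⟩ := D.actU k hN
    (fun a => by
      have := D.mem_K.1 hk _ ((D.R00 _).2 ⟨a, rfl⟩)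
      rw [this]; group)
    (fun b c => by
      have h4 : D.pi (D.K_norm hk (D.v_Q 0 b c)) = b • D.e₁ + c • D.e₂ := by
        rw [← D.ac_pi hk (D.v_Q 0 b c), D.pi_v, map_add, map_smul, map_smul, h₁, h₂]
      obtain ⟨a, ha⟩ := D.mem_e b c rfl (D.K_norm hk (D.v_Q 0 b c)) h4
      exact ⟨a, ha⟩)
    (fun d => by
      have h4 := conj_of_cj hV (D.v_mem 0 0 0 d)
      obtain ⟨a, b, c, d', h5⟩ := D.v_surj _ h4
      have h6 : d' = d := by
        -- compare the actions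
        obtain ⟨c₁, hc₁, k1⟩ := D.exists_c₁
        have k2 : D.ff c₁ D.e₁ = 0 := D.ff_N₁ hc₁ D.e₁_N₁
        have hkinv : ∀ m, D.ac (inv_mem hk) m = (D.ac hk)⁻¹ m := fun m => by rw [D.ac_inv hk]
        have hconj : k * v 0 0 0 d = (v a b c d') * k := by rw [h5]; group
        have hvK := D.V_le_K (D.v_mem 0 0 0 d)
        have hvK' := D.V_le_K (D.v_mem a b c d')
        have hvK'' := D.V_le_K (D.v_mem 0 0 0 d')
        have e1 : D.ac hk * D.ac hvK = D.ac hvK' * D.ac hk := by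
          rw [← D.ac_mul hk hvK, ← D.ac_mul hvK' hk]
          congr 1
        have e2 : D.ac hvK' = D.ac hvK'' := by
          have e3 : v a b c d' = v a b c 0 * v 0 0 0 d' := by
            rw [D.v_mul]; simp
          have e4 : D.ac hvK' = D.ac (D.Q_le_K (D.v_Q a b c)) * D.ac hvK'' := by
            rw [← D.ac_mul]
            congr 1
          rw [e4, D.ac_Q (D.v_Q a b c), one_mul]
        -- evaluate
        have hc : ∃ m, D.ac hk m = c₁ := ⟨(D.ac hk)⁻¹ c₁, (D.ac hk).apply_symm_apply c₁⟩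
        obtain ⟨m, hm⟩ := hc
        have e5 := LinearEquiv.congr_fun e1 m
        rw [LinearEquiv.mul_apply, LinearEquiv.mul_apply, e2, D.ac_v, D.ac_v, hm, map_add, hm, map_smul, map_add,
          map_smul, map_smul, h₁, h₂] at e5
        have e6 : D.ff m D.e₁ = 0 := by
          rw [← D.ac_ff hk, h₁, hm, k2]
        have e7 : D.ff m D.e₂ = 1 := by
          rw [← D.ac_ff hk, h₂, hm, k1]
        rw [e6, e7, k1, k2, zero_smul, zero_add, one_smul] at e5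
        have e8 : d • D.e₁ = d' • D.e₁ := add_left_cancel e5
        exact (smul_left_injective F D.e₁_ne e8).symm
      rw [← h5, h6]
      exact ⟨a, b, c, rfl⟩)
  obtain ⟨q1, q2⟩ := D.Q_norm hx
  obtain ⟨q3, q4⟩ := D.CV_norm h3
  have e : k = k * x⁻¹ * x := by group
  constructor
  · rw [e, cj_mul, q1, q3]
  · rw [e, cj_mul, q2, q4]

/-- **The input of THEOREM SL.** -/
noncomputable def dec : SL.Dec F D.Mo where
  two := D.two
  four := D.four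
  f := D.ff
  s := D.ss
  s_add := D.ss_add
  s_smul := D.ss_smul
  nondeg := D.ff_nondeg
  H := D.inp.act.range
  isom := by
    rintro _ ⟨k, rfl⟩ m
    exact D.ac_ss k.2 m
  N₁ := D.N₁
  N₂ := D.N₂
  isCompl := D.isCompl
  sing₁ := fun _ => D.sing₁
  sing₂ := fun _ => D.sing₂
  e₁ := D.e₁
  e₂ := D.e₂
  e₁_mem := D.e₁_N₁
  e₂_mem := D.e₂_N₂
  e₁_ne := D.e₁_ne
  e₂_ne := D.e₂_ne
  perp := D.perp
  Jpres := by
    rintro _ ⟨k, rfl⟩ h1 h2 _ _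
    obtain ⟨h3, h4⟩ := D.Jpres k.2 h1 h2
    exact ⟨fun m hm => D.ac_N₁₁ k.2 h3 hm, fun m hm => D.ac_N₂₂ k.2 h4 hm⟩
  J0 := fun a => ⟨D.ac (D.V_le_K (D.v_mem 0 0 0 a)), ⟨_, rfl⟩, D.ac_v a⟩
  J1 := fun φ hφ h0 => by
    obtain ⟨z, hz, h⟩ := D.J1 hφ h0
    exact ⟨_, ⟨_, rfl⟩, h, D.ac_CV hz⟩
  J2 := fun φ hφ h0 => by
    obtain ⟨z, hz, h⟩ := D.J2 hφ h0
    exact ⟨_, ⟨_, rfl⟩, h, D.ac_CV hz⟩
  Se := by
    rintro _ ⟨k, rfl⟩ h1 h2
    exact D.Se k.2 h1 h2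
  Om := fun N h => by
    refine D.inp.span N fun k x hx => ?_
    obtain ⟨a, b, c, rfl⟩ := D.mem_E.1 hx
    have h1 := h (D.inp.act k) ⟨k, rfl⟩
    have h2 : D.inp.π (v a b c 0) (D.inp.E_le hx) = b • D.e₁ + c • D.e₂ := D.pi_v a b c
    rw [h2, map_add, map_smul, map_smul]
    exact add_mem (Submodule.smul_mem _ _ h1.1) (Submodule.smul_mem _ _ h1.2)

end Gin

end Cfsg.Agent.Omega.NO1.Gamma

end

section


/-!
# Type (gamma), `q ≥ 4`: (I2), (I3) of bb #15588: `N_G(R)` permutes the row group and the column group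

`Gin.pout : POut V (R i0 j0) (rowG Q i0) (colG Q j0)`.
-/

set_option autoImplicit false
set_option linter.unusedVariables false
set_option linter.unusedSectionVars false
set_option linter.unusedSimpArgs false

open Subgroup
open scoped Pointwise commutatorElement

namespace Cfsg.Agent.Omega.NO1.Gamma

open Cfsg.Agent.Omega.NO1.Beta.Meet (cj mem_cj conj_mem_cj cj_mul cj_inj cj_eq_of_comm
  mem_normalizer_of_cj cj_of_mem_normalizer)
open Cfsg.Agent.Omega.NOne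

namespace Gin

variable {F : Type*} [Field F] {G : Type*} [Group G] {I J : Type*} {S : Sylow 2 G} {V : Subgroup G}
  {R Q : I → J → Subgroup G} {i0 i1 : I} {j0 j1 : J} {v : F → F → F → F → G} {p p' : G → F}
  (D : Gin F S V R Q i0 i1 j0 j1 v p p') [Finite G]

include D

omit D in
theorem card_cj (g : G) (H : Subgroup G) : Nat.card (cj g H) = Nat.card H :=
  Nat.card_congr
    ⟨fun x => ⟨g⁻¹ * x * g, mem_cj.1 x.2⟩, fun x => ⟨g * x * g⁻¹, conj_mem_cj x.2⟩,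
      fun x => Subtype.ext (by change g * (g⁻¹ * (x : G) * g) * g⁻¹ = x; group),
      fun x => Subtype.ext (by change g⁻¹ * (g * (x : G) * g⁻¹) * g = x; group)⟩

omit D in
theorem cj_le {g : G} {A B : Subgroup G} (h : ∀ x ∈ A, g * x * g⁻¹ ∈ B) : cj g A ≤ B := by
  intro x hx
  rw [mem_cj] at hx
  have := h _ hx
  have e : g * (g⁻¹ * x * g) * g⁻¹ = x := by group
  rwa [e] at this

omit D in
theorem cj_swap {g : G} {A B : Subgroup G} (h1 : ∀ x ∈ A, g * x * g⁻¹ ∈ B) (h2 : ∀ x ∈ B, g * x * g⁻¹ ∈ A) :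
    cj g A = B ∧ cj g B = A := by
  have l1 := cj_le h1
  have l2 := cj_le h2
  have c1 : Nat.card A ≤ Nat.card B := by rw [← card_cj g A]; exact Subgroup.card_le_of_le l1
  have c2 : Nat.card B ≤ Nat.card A := by rw [← card_cj g B]; exact Subgroup.card_le_of_le l2
  exact ⟨Subgroup.eq_of_le_of_card_ge l1 (by rw [card_cj]; exact c2),
    Subgroup.eq_of_le_of_card_ge l2 (by rw [card_cj]; exact c1)⟩

theorem norm_of_ac {k : G} (hk : k ∈ centralizer (R i0 j0 : Set G))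
    (h : ((∀ m ∈ D.N₁, D.ac hk m ∈ D.N₁) ∧ ∀ m ∈ D.N₂, D.ac hk m ∈ D.N₂) ∨
      ((∀ m ∈ D.N₁, D.ac hk m ∈ D.N₂) ∧ ∀ m ∈ D.N₂, D.ac hk m ∈ D.N₁)) :
    (cj k (rowG Q i0) = rowG Q i0 ∧ cj k (colG Q j0) = colG Q j0) ∨
      (cj k (rowG Q i0) = colG Q j0 ∧ cj k (colG Q j0) = rowG Q i0) := by
  rcases h with ⟨h1, h2⟩ | ⟨h1, h2⟩
  · left
    refine ⟨cj_eq_of_le fun x hx => ?_, cj_eq_of_le fun x hx => ?_⟩
    · have := h1 _ ((D.mem_N₁ (D.rowG_le hx)).2 hx)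
      rwa [D.ac_pi, D.mem_N₁] at this
    · have := h2 _ ((D.mem_N₂ (D.colG_le hx)).2 hx)
      rwa [D.ac_pi, D.mem_N₂] at this
  · right
    refine cj_swap (fun x hx => ?_) fun x hx => ?_
    · have := h1 _ ((D.mem_N₁ (D.rowG_le hx)).2 hx)
      rwa [D.ac_pi, D.mem_N₂] at this
    · have := h2 _ ((D.mem_N₂ (D.colG_le hx)).2 hx)
      rwa [D.ac_pi, D.mem_N₁] at this

/-- conjugation by an element of `N_G(R)` normalises `C_G(R)` -/
theorem conj_K {g : G} (hR : cj g (R i0 j0) = R i0 j0) {k : G} (hk : k ∈ centralizer (R i0 j0 : Set G)) :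
    g * k * g⁻¹ ∈ centralizer (R i0 j0 : Set G) := by
  rw [D.mem_K]
  intro r hr
  have h1 := D.mem_K.1 hk _ (conj_of_cj' hR hr)
  calc g * k * g⁻¹ * r = g * (k * (g⁻¹ * r * g)) * g⁻¹ := by group
    _ = g * ((g⁻¹ * r * g) * k) * g⁻¹ := by rw [h1]
    _ = r * (g * k * g⁻¹) := by group

/-! ### (I3) -/

/-- **THEOREM SL with `M_i = N_i`.** -/
theorem out : SL.Spl.Out D.dec.spl D.N₁ D.N₂ := by
  obtain ⟨M₁, M₂, O⟩ := D.dec.spl.main
  obtain ⟨y, hy0, hy1⟩ := D.four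
  obtain ⟨t, ht, hv⟩ := D.tor' y hy0
  -- `t` normalises `R`, `Q`, `V`, the row group and the column group
  have hR : cj t (R i0 j0) = R i0 j0 := cj_eq_of_le fun x hx => by
    obtain ⟨a, rfl⟩ := (D.R00 x).1 hx
    rw [hv]
    simp only [mul_zero]
    exact (D.R00 _).2 ⟨_, rfl⟩
  have hQ := D.cj_Q hR
  have hV : cj t V = V := cj_eq_of_le fun x hx => by
    obtain ⟨a, b, c, d, rfl⟩ := D.v_surj x hx
    rw [hv]
    exact D.v_mem _ _ _ _
  have hAB : cj t (rowG Q i0) = rowG Q i0 ∧ cj t (colG Q j0) = colG Q j0 := by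
    refine (D.norm t hV hR).resolve_right ?_
    rintro ⟨h1, -⟩
    have h2 := conj_mem_cj (c := t) ((D.row_V 0 1 0 0).2 ⟨rfl, rfl⟩)
    rw [h1, hv, D.col_V] at h2
    rw [mul_one] at h2
    exact hy0 h2.1
  have nor : FStr.Inp.Nor D.inp t y :=
    { Q₁ := fun x hx => conj_of_cj hQ hx
      Q₂ := fun x hx => conj_of_cj' hQ hx
      R₁ := fun r hr => by
        obtain ⟨a, rfl⟩ := (D.R00 r).1 hr
        refine ⟨conj_of_cj hR hr, ?_⟩
        change ρ v (t * v a 0 0 0 * t⁻¹) = y * ρ v (v a 0 0 0)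
        rw [hv]
        simp only [mul_zero]
        rw [D.ρ_v, D.ρ_v] }
  have hR' : ∀ r ∈ D.inp.R, t⁻¹ * r * t ∈ D.inp.R := fun r hr => conj_of_cj' hR hr
  let h : D.Mo ≃ₗ[F] D.Mo := nor.equiv hy0 hR'
  have h_pi : ∀ {x : G} (hx : x ∈ Q i0 j0), h (D.pi hx) = D.pi (conj_of_cj hQ hx) := fun hx =>
    nor.equiv_π hy0 hR' hx
  have h₁ : h D.e₁ = y • D.e₁ := by
    rw [e₁, h_pi]
    have e : t * v 0 1 0 0 * t⁻¹ = v 0 y 0 0 := by rw [hv]; simp
    rw [D.pi_congr _ e (D.v_Q 0 y 0), D.pi_v, zero_smul, add_zero]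
    rfl
  have h₂ : h D.e₂ = y⁻¹ • D.e₂ := by
    rw [e₂, h_pi]
    have e : t * v 0 0 1 0 * t⁻¹ = v 0 0 y⁻¹ 0 := by rw [hv]; simp
    rw [D.pi_congr _ e (D.v_Q 0 0 y⁻¹), D.pi_v, zero_smul, zero_add]
    rfl
  have hff : ∀ m n, D.ff (h m) (h n) = y * D.ff m n := by
    intro m n
    obtain ⟨x, hx, rfl⟩ := D.pi_surj m
    obtain ⟨z, hz, rfl⟩ := D.pi_surj n
    rw [h_pi, h_pi, D.ff_pi, D.ff_pi]
    have h3 := (nor.R₁ _ (D.grid.QQ i0 j0 x hx z hz)).2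
    have e : ⁅t * x * t⁻¹, t * z * t⁻¹⁆ = t * (x * z * x⁻¹ * z⁻¹) * t⁻¹ := by
      simp only [commutatorElement_def]; group
    rw [e]
    exact h3
  have hN₁ : ∀ m ∈ D.N₁, h m ∈ D.N₁ := by
    intro m hm
    obtain ⟨x, hx, rfl⟩ := D.pi_surj m
    rw [D.mem_N₁] at hm
    rw [h_pi, D.mem_N₁]
    exact conj_of_cj hAB.1 hm
  have k₂ : ∀ m ∈ D.N₂, (D.ff D.e₁ m = 0 ∧ D.ff D.e₂ m = 0) → ∃ a : F, h m - m = a • D.e₂ := by
    intro m hm hP
    obtain ⟨x, hx, rfl⟩ := D.pi_surj m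
    rw [D.mem_N₂] at hm
    have hxV := (D.mem_P hx).1 hP
    have h3 := (D.grid.transpose.col_mod (RC.transpose D.grid D.rc) ht j0).2 x hm hxV
    have h4 : x⁻¹ * (t * x * t⁻¹) ∈ colG Q j0 := mul_mem (inv_mem hm) (conj_of_cj hAB.2 hm)
    obtain ⟨a, b, c, d, h5⟩ := D.v_surj _ h3
    obtain ⟨hb, hd⟩ := (D.col_V a b c d).1 (by rw [h5]; exact h4)
    subst hb hd
    refine ⟨c, ?_⟩
    have h6 : t * x * t⁻¹ = x * v a 0 c 0 := by rw [h5]; group
    rw [h_pi, D.pi_congr _ h6 (mul_mem hx (D.v_Q a 0 c)), D.pi_mul hx (D.v_Q a 0 c), D.pi_v]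
    module
  have k₁ : ∀ m ∈ D.N₁, (D.ff D.e₁ m = 0 ∧ D.ff D.e₂ m = 0) → ∃ a : F, h m - y • m = a • D.e₁ := by
    intro m hm hP
    have hz1 : h m - y • m ∈ D.N₁ := sub_mem (hN₁ m hm) (Submodule.smul_mem _ _ hm)
    obtain ⟨w, hw, hwz⟩ := D.pi_surj (h m - y • m)
    have h3 : w ∈ V := by
      refine D.cent_CV hw fun u hu huV => ?_
      rw [← D.ff_pi_iff hw hu, hwz]
      obtain ⟨a, ha, b, hb, haV, hbV, rfl⟩ := D.rc.cenV i0 j0 u hu huV
      have hbQ := D.colG_le hb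
      rw [D.pi_mul (D.rowG_le ha) hbQ, map_add, D.ff_N₁ hz1 ((D.mem_N₁ _).2 ha), zero_add]
      obtain ⟨c, hc⟩ := k₂ _ ((D.mem_N₂ hbQ).2 hb) ((D.mem_P hbQ).2 hbV)
      have h4 := hff m (D.pi hbQ)
      have h5 : h (D.pi hbQ) = D.pi hbQ + c • D.e₂ := by rw [← hc]; abel
      have h6 : D.ff (h m) D.e₂ = 0 := by
        have h7 := hff m D.e₂
        rw [h₂, D.ff_symm m, hP.2, mul_zero, map_smul, smul_eq_mul] at h7
        exact (mul_eq_zero.1 h7).resolve_left (inv_ne_zero hy0)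
      rw [h5, map_add, map_smul, h6, smul_zero, add_zero] at h4
      rw [map_sub, LinearMap.sub_apply, h4, map_smul, LinearMap.smul_apply, smul_eq_mul, sub_self]
    obtain ⟨b, c, h4⟩ := (D.mem_e_E hw).2 h3
    rw [hwz] at h4
    rw [h4] at hz1
    exact ⟨b, by rw [h4, D.mem_e_of_N₁ hz1, add_zero]⟩
  have hH : ∀ g ∈ D.dec.spl.H, h * g * h⁻¹ ∈ D.dec.spl.H := by
    rintro _ ⟨k, rfl⟩
    exact ⟨⟨t * k * t⁻¹, D.conj_K hR k.2⟩, (nor.conj_act hy0 hR' k _).symm⟩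
  obtain ⟨e1, e2⟩ := O.eq_of_torus D.isCompl (fun _ => D.sing₁) (fun _ => D.sing₂) D.e₁_N₁ D.e₂_N₂
    (fun m hm hP => D.dec.y₂_N₁ (m := m) hP hm) (fun m hm hP => D.dec.y₁_N₂ (m := m) hP hm)
    hH hy0 hy1 h₁ h₂ k₁ k₂
  rwa [e1, e2] at O

/-! ### `POut` -/

theorem perm_K {k : G} (hk : k ∈ centralizer (R i0 j0 : Set G)) :
    (cj k (rowG Q i0) = rowG Q i0 ∧ cj k (colG Q j0) = colG Q j0) ∨
      (cj k (rowG Q i0) = colG Q j0 ∧ cj k (colG Q j0) = rowG Q i0) :=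
  D.norm_of_ac hk (D.out.perm (D.ac hk) ⟨⟨k, hk⟩, rfl⟩)

/-- transitivity on the incident pairs -/
theorem orbit {m φ : D.Mo} (hm : m ∈ D.N₁) (hφ : φ ∈ D.N₂) (h1 : m ≠ 0) (h2 : φ ≠ 0) (h3 : D.ff m φ = 0) :
    ∃ k, ∃ hk : k ∈ centralizer (R i0 j0 : Set G), cj k (rowG Q i0) = rowG Q i0 ∧ cj k (colG Q j0) = colG Q j0 ∧
      ∃ a c : F, D.ac hk m = a • D.e₁ ∧ D.ac hk φ = c • D.e₂ := by
  obtain ⟨_, ⟨k, rfl⟩, h4, a, c, ha, hc, h5, h6⟩ := D.out.orbit m hm φ hφ h1 h2 h3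
  have h7 : cj (k : G) (rowG Q i0) = rowG Q i0 ∧ cj (k : G) (colG Q j0) = colG Q j0 := by
    constructor
    · refine cj_eq_of_le fun x hx => ?_
      have := h4.1 _ ((D.mem_N₁ (D.rowG_le hx)).2 hx)
      exact (D.mem_N₁ _).1 ((D.ac_pi k.2 (D.rowG_le hx)) ▸ this)
    · refine cj_eq_of_le fun x hx => ?_
      have := h4.2 _ ((D.mem_N₂ (D.colG_le hx)).2 hx)
      exact (D.mem_N₂ _).1 ((D.ac_pi k.2 (D.colG_le hx)) ▸ this)
  have h5' : D.ac k.2 D.e₁ = a • m := h5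
  have h6' : D.ac k.2 D.e₂ = c • φ := h6
  refine ⟨(k : G)⁻¹, inv_mem k.2, cj_inv_of h7.1, cj_inv_of h7.2, a⁻¹, c⁻¹, ?_, ?_⟩
  · rw [D.ac_inv k.2, ← inv_smul_smul₀ ha m, ← h5', map_smul]
    congr 1
    exact (D.ac k.2).symm_apply_apply _
  · rw [D.ac_inv k.2, ← inv_smul_smul₀ hc φ, ← h6', map_smul]
    congr 1
    exact (D.ac k.2).symm_apply_apply _

theorem tran {x : G} (hx : x ∈ rowG Q i0) (hx0 : x ∉ R i0 j0) {y : G} (hy : y ∈ colG Q j0) (hy0 : y ∉ R i0 j0)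
    (hxy : x * y = y * x) : ∃ g : G, cj g (R i0 j0) = R i0 j0 ∧ cj g (rowG Q i0) = rowG Q i0 ∧
      cj g (colG Q j0) = colG Q j0 ∧ g * x * g⁻¹ ∈ V ∧ g * y * g⁻¹ ∈ V := by
  have hxQ := D.rowG_le hx
  have hyQ := D.colG_le hy
  obtain ⟨k, hk, h1, h2, a, c, h3, h4⟩ := D.orbit ((D.mem_N₁ hxQ).2 hx) ((D.mem_N₂ hyQ).2 hy)
    (fun h => hx0 ((D.pi_eq_zero _).1 h)) (fun h => hy0 ((D.pi_eq_zero _).1 h)) ((D.ff_pi_iff hxQ hyQ).2 hxy)
  rw [D.ac_pi] at h3 h4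
  exact ⟨k, D.cj_R_of_K hk, h1, h2, (D.mem_e_E _).1 ⟨a, 0, by rw [h3]; module⟩,
    (D.mem_e_E _).1 ⟨0, c, by rw [h4]; module⟩⟩

/-- an incident partner -/
theorem partner₁ (m : D.Mo) : ∃ φ ∈ D.N₂, φ ≠ 0 ∧ D.ff m φ = 0 := by
  by_cases h1 : D.ff m D.e₂ = 0
  · exact ⟨D.e₂, D.e₂_N₂, D.e₂_ne, h1⟩
  · obtain ⟨c, hc, h2⟩ := D.exists_c₂
    refine ⟨c - (D.ff m c * (D.ff m D.e₂)⁻¹) • D.e₂, sub_mem hc (Submodule.smul_mem _ _ D.e₂_N₂), ?_, ?_⟩
    · intro h3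
      have h4 : D.ff (c - (D.ff m c * (D.ff m D.e₂)⁻¹) • D.e₂) D.e₁ = 0 := by rw [h3, map_zero, LinearMap.zero_apply]
      rw [map_sub, LinearMap.sub_apply, h2, map_smul, LinearMap.smul_apply, D.ff_symm D.e₂, D.perp, smul_zero,
        sub_zero] at h4
      exact one_ne_zero h4
    · rw [map_sub, map_smul, smul_eq_mul, mul_assoc, inv_mul_cancel₀ h1, mul_one, sub_self]

theorem partner₂ (m : D.Mo) : ∃ φ ∈ D.N₁, φ ≠ 0 ∧ D.ff m φ = 0 := by
  by_cases h1 : D.ff m D.e₁ = 0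
  · exact ⟨D.e₁, D.e₁_N₁, D.e₁_ne, h1⟩
  · obtain ⟨c, hc, h2⟩ := D.exists_c₁
    refine ⟨c - (D.ff m c * (D.ff m D.e₁)⁻¹) • D.e₁, sub_mem hc (Submodule.smul_mem _ _ D.e₁_N₁), ?_, ?_⟩
    · intro h3
      have h4 : D.ff (c - (D.ff m c * (D.ff m D.e₁)⁻¹) • D.e₁) D.e₂ = 0 := by rw [h3, map_zero, LinearMap.zero_apply]
      rw [map_sub, LinearMap.sub_apply, h2, map_smul, LinearMap.smul_apply, D.perp, smul_zero, sub_zero] at h4
      exact one_ne_zero h4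
    · rw [map_sub, map_smul, smul_eq_mul, mul_assoc, inv_mul_cancel₀ h1, mul_one, sub_self]

/-- **`N_G(R)` permutes the row group and the column group.** -/
theorem perm {g : G} (hR : cj g (R i0 j0) = R i0 j0) :
    (cj g (rowG Q i0) = rowG Q i0 ∧ cj g (colG Q j0) = colG Q j0) ∨
      (cj g (rowG Q i0) = colG Q j0 ∧ cj g (colG Q j0) = rowG Q i0) := by
  have hfin := D.finite_F
  have hQ := D.cj_Q hR
  -- an element of `V ∖ Q` whose conjugate preserves the row group and the column group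
  obtain ⟨d, hd, hdA, hdB⟩ : ∃ d : F, d ≠ 0 ∧ cj (g * v 0 0 0 d * g⁻¹) (rowG Q i0) = rowG Q i0 ∧
      cj (g * v 0 0 0 d * g⁻¹) (colG Q j0) = colG Q j0 := by
    obtain ⟨y, hy0, hy1⟩ := D.four
    have hK : ∀ d, g * v 0 0 0 d * g⁻¹ ∈ centralizer (R i0 j0 : Set G) := fun d =>
      D.conj_K hR (D.V_le_K (D.v_mem _ _ _ _))
    rcases D.perm_K (hK 1) with h1 | h1
    · exact ⟨1, one_ne_zero, h1⟩
    rcases D.perm_K (hK y) with h2 | h2
    · exact ⟨y, hy0, h2⟩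
    refine ⟨1 + y, ?_, ?_⟩
    · intro h3
      exact hy1 (by linear_combination h3 - D.two)
    · have e : g * v 0 0 0 (1 + y) * g⁻¹ = (g * v 0 0 0 1 * g⁻¹) * (g * v 0 0 0 y * g⁻¹) := by
        have e1 : v 0 0 0 (1 + y) = v 0 0 0 1 * v 0 0 0 y := by
          rw [D.v_mul]; simp
        rw [e1]; group
      rw [e]
      generalize g * v 0 0 0 1 * g⁻¹ = k₁ at h1 ⊢
      generalize g * v 0 0 0 y * g⁻¹ = k₂ at h2 ⊢
      rw [cj_mul, cj_mul, h2.1, h2.2, h1.1, h1.2]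
      exact ⟨rfl, rfl⟩
  set u := g * v 0 0 0 d * g⁻¹ with hu
  have huK : u ∈ centralizer (R i0 j0 : Set G) := D.conj_K hR (D.V_le_K (D.v_mem _ _ _ _))
  -- `(τ - 1) M = g E g⁻¹ / R`
  have hgQ : ∀ b c, g * v 0 b c 0 * g⁻¹ ∈ Q i0 j0 := fun b c => conj_of_cj hQ (D.v_Q 0 b c)
  have key : ∀ {x : G} (hx : x ∈ Q i0 j0), D.ac huK (D.pi (conj_of_cj hQ hx)) - D.pi (conj_of_cj hQ hx) =
      D.pi (hgQ (p x * d) (p' x * d)) := by
    intro x hx
    rw [D.ac_pi, sub_eq_iff_eq_add, ← D.pi_mul (hgQ _ _) (conj_of_cj hQ hx) (mul_mem (hgQ _ _) (conj_of_cj hQ hx)),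
      D.pi_eq_iff]
    have e1 := D.comm_v hx 0 0 0 d
    rw [mul_zero, mul_zero, zero_add, zero_add] at e1
    have e2 : u * (g * x * g⁻¹) * u⁻¹ = g * (⁅v 0 0 0 d, x⁆ * x) * g⁻¹ := by
      rw [hu]; simp only [commutatorElement_def]; group
    have e3 : v (p x * p' x * d) (p x * d) (p' x * d) 0 = v (p x * p' x * d) 0 0 0 * v 0 (p x * d) (p' x * d) 0 := by
      rw [D.v_mul]; simp
    rw [e2, e1, e3]
    have e4 : (g * (v (p x * p' x * d) 0 0 0 * v 0 (p x * d) (p' x * d) 0 * x) * g⁻¹)⁻¹ *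
        (g * v 0 (p x * d) (p' x * d) 0 * g⁻¹ * (g * x * g⁻¹)) =
        g * ((v 0 (p x * d) (p' x * d) 0 * x)⁻¹ * (v (p x * p' x * d) 0 0 0)⁻¹ * (v 0 (p x * d) (p' x * d) 0 * x)) *
          g⁻¹ := by
      group
    rw [e4]
    apply conj_of_cj hR
    have e5 : (v (p x * p' x * d) 0 0 0)⁻¹ ∈ R i0 j0 := inv_mem ((D.R00 _).2 ⟨_, rfl⟩)
    have e6 := D.grid.RQ i0 j0 _ e5 _ (mul_mem (D.v_Q 0 (p x * d) (p' x * d)) hx)
    rw [mul_assoc, e6, inv_mul_cancel_left]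
    exact e5
  -- the map `F × F → M`
  let E' : F × F → D.Mo := fun bc => D.pi (hgQ bc.1 bc.2)
  have hE1 : ∀ m, ∃ bc, D.ac huK m - m = E' bc := by
    intro m
    obtain ⟨x, hx, rfl⟩ := D.pi_surj m
    have hx' : g⁻¹ * x * g ∈ Q i0 j0 := conj_of_cj' hQ hx
    refine ⟨⟨p (g⁻¹ * x * g) * d, p' (g⁻¹ * x * g) * d⟩, ?_⟩
    have e1 := key hx'
    have e2 : D.pi (conj_of_cj hQ hx') = D.pi hx := D.pi_congr _ (by group) _
    rw [e2] at e1
    exact e1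
  have hE2 : ∀ bc, ∃ m, D.ac huK m - m = E' bc := by
    rintro ⟨b, c⟩
    obtain ⟨x, hx, h1, h2⟩ := D.p_surj (b * d⁻¹) (c * d⁻¹)
    refine ⟨_, (key hx).trans ?_⟩
    refine D.pi_congr _ ?_ _
    rw [h1, h2, inv_mul_cancel_right₀ hd, inv_mul_cancel_right₀ hd]
  have hcomm : ∀ bc bc', D.ff (E' bc) (E' bc') = 0 := by
    intro bc bc'
    rw [D.ff_pi_iff]
    have e1 := D.V_comm (D.v_mem 0 bc.1 bc.2 0) (D.v_mem 0 bc'.1 bc'.2 0)
    calc g * v 0 bc.1 bc.2 0 * g⁻¹ * (g * v 0 bc'.1 bc'.2 0 * g⁻¹) =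
        g * (v 0 bc.1 bc.2 0 * v 0 bc'.1 bc'.2 0) * g⁻¹ := by group
      _ = g * (v 0 bc'.1 bc'.2 0 * v 0 bc.1 bc.2 0) * g⁻¹ := by rw [e1]
      _ = _ := by group
  -- `τ` preserves `N₁` and `N₂`
  have hτ₁ : ∀ m ∈ D.N₁, D.ac huK m ∈ D.N₁ := fun m => D.ac_N₁₁ huK hdA
  have hτ₂ : ∀ m ∈ D.N₂, D.ac huK m ∈ D.N₂ := fun m => D.ac_N₂₂ huK hdB
  have hne : D.ac huK ≠ 1 := by
    intro h1
    have h2 := D.mem_Q_of_ac huK h1
    have h3 := conj_of_cj' hQ h2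
    have h4 : g⁻¹ * u * g = v 0 0 0 d := by rw [hu]; group
    rw [h4, D.V_Q] at h3
    exact hd h3
  have hsup : ∀ w : D.Mo, ∃ a ∈ D.N₁, ∃ b ∈ D.N₂, w = a + b := by
    intro w
    have : w ∈ D.N₁ ⊔ D.N₂ := by rw [D.isCompl.sup_eq_top]; trivial
    obtain ⟨a, ha, b, hb, h⟩ := Submodule.mem_sup.1 this
    exact ⟨a, ha, b, hb, h.symm⟩
  have hff := D.ac_ff huK
  obtain ⟨m, hm, hm0⟩ : ∃ m ∈ D.N₁, D.ac huK m - m ≠ 0 := by
    by_contra hcon
    push Not at hcon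
    apply hne
    refine LinearEquiv.ext fun w => ?_
    obtain ⟨a, ha, b, hb, rfl⟩ := hsup w
    have h1 : D.ac huK b - b = 0 := by
      refine D.ff_nondeg _ fun n => ?_
      obtain ⟨a', ha', b', hb', rfl⟩ := hsup n
      rw [map_add, D.ff_N₂ (sub_mem (hτ₂ b hb) hb) hb', add_zero, map_sub, LinearMap.sub_apply]
      have h2 := hff b a'
      rw [sub_eq_zero.1 (hcon a' ha')] at h2
      rw [h2, sub_self]
    rw [map_add, sub_eq_zero.1 (hcon a ha), sub_eq_zero.1 h1]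
    rfl
  obtain ⟨φ, hφ, hφ0⟩ : ∃ φ ∈ D.N₂, D.ac huK φ - φ ≠ 0 := by
    by_contra hcon
    push Not at hcon
    apply hne
    refine LinearEquiv.ext fun w => ?_
    obtain ⟨a, ha, b, hb, rfl⟩ := hsup w
    have h1 : D.ac huK a - a = 0 := by
      refine D.ff_nondeg _ fun n => ?_
      obtain ⟨a', ha', b', hb', rfl⟩ := hsup n
      rw [map_add, D.ff_N₁ (sub_mem (hτ₁ a ha) ha) ha', zero_add, map_sub, LinearMap.sub_apply]
      have h2 := hff a b'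
      rw [sub_eq_zero.1 (hcon b' hb')] at h2
      rw [h2, sub_self]
    rw [map_add, sub_eq_zero.1 (hcon b hb), sub_eq_zero.1 h1]
    rfl
  -- `L = (τ - 1) M`
  let T : D.Mo →ₗ[F] D.Mo := (D.ac huK).toLinearMap - LinearMap.id
  have hT : ∀ w, T w = D.ac huK w - w := fun w => rfl
  let f₁ : F × F → LinearMap.range T := fun ac =>
    ⟨ac.1 • T m + ac.2 • T φ, add_mem (Submodule.smul_mem _ _ ⟨m, rfl⟩) (Submodule.smul_mem _ _ ⟨φ, rfl⟩)⟩
  have hinj : Function.Injective f₁ := by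
    rintro ⟨a, c⟩ ⟨a', c'⟩ h
    have h1 : a • T m + c • T φ = a' • T m + c' • T φ := congrArg Subtype.val h
    have h2 : (a - a') • T m = (c' - c) • T φ := by linear_combination (norm := module) h1
    have n1 : T m ∈ D.N₁ := sub_mem (hτ₁ m hm) hm
    have n2 : T φ ∈ D.N₂ := sub_mem (hτ₂ φ hφ) hφ
    have h3 : (a - a') • T m = 0 := (Submodule.disjoint_def.1 D.isCompl.disjoint) _ (Submodule.smul_mem _ _ n1)
      (by rw [h2]; exact Submodule.smul_mem _ _ n2)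
    have h4 : (c' - c) • T φ = 0 := by rw [← h2, h3]
    have h5 : a - a' = 0 := (smul_eq_zero.1 h3).resolve_right hm0
    have h6 : c' - c = 0 := (smul_eq_zero.1 h4).resolve_right hφ0
    rw [sub_eq_zero.1 h5, sub_eq_zero.1 h6]
  let f₂ : F × F → LinearMap.range T := fun bc => ⟨E' bc, by
    obtain ⟨w, hw⟩ := hE2 bc
    exact ⟨w, hw⟩⟩
  have hsurj : Function.Surjective f₂ := by
    rintro ⟨_, w, rfl⟩
    obtain ⟨bc, h1⟩ := hE1 w
    exact ⟨bc, Subtype.ext h1.symm⟩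
  have hbij : Function.Bijective f₁ := by
    have : Finite (LinearMap.range T) := Finite.of_surjective f₂ hsurj
    exact hinj.bijective_of_nat_card_le (Nat.card_le_card_of_surjective f₂ hsurj)
  have hTm : ∃ bc, T m = E' bc := hE1 m
  have hTφ : ∃ bc, T φ = E' bc := hE1 φ
  obtain ⟨k, hk, hkA, hkB, a, c, h1, h2⟩ := D.orbit (sub_mem (hτ₁ m hm) hm) (sub_mem (hτ₂ φ hφ) hφ) hm0 hφ0 (by
    obtain ⟨bc, h1⟩ := hTm
    obtain ⟨bc', h2⟩ := hTφ
    rw [hT] at h1 h2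
    rw [h1, h2]
    exact hcomm _ _)
  -- `k g` normalises `V`
  have hkR : cj (k * g) (R i0 j0) = R i0 j0 := by rw [cj_mul, hR, D.cj_R_of_K hk]
  have hkV : cj (k * g) V = V := by
    refine D.cjV hkR fun x hx => ?_
    obtain ⟨α, b', c', rfl⟩ := D.mem_E.1 hx
    have hgx := conj_of_cj hQ hx.2
    have e1 : k * g * v α b' c' 0 * (k * g)⁻¹ = k * (g * v α b' c' 0 * g⁻¹) * k⁻¹ := by group
    rw [e1, ← D.mem_e_E (D.K_norm hk hgx), ← D.ac_pi hk hgx]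
    have e2 : D.pi hgx = E' (b', c') := by
      rw [D.pi_eq_iff]
      have e3 : v α b' c' 0 = v α 0 0 0 * v 0 b' c' 0 := by rw [D.v_mul]; simp
      rw [e3]
      have e4 : (g * (v α 0 0 0 * v 0 b' c' 0) * g⁻¹)⁻¹ * (g * v 0 b' c' 0 * g⁻¹) =
          g * ((v 0 b' c' 0)⁻¹ * (v α 0 0 0)⁻¹ * v 0 b' c' 0) * g⁻¹ := by group
      change (g * (v α 0 0 0 * v 0 b' c' 0) * g⁻¹)⁻¹ * (g * v 0 b' c' 0 * g⁻¹) ∈ R i0 j0
      rw [e4]
      apply conj_of_cj hR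
      have e5 : (v α 0 0 0)⁻¹ ∈ R i0 j0 := inv_mem ((D.R00 _).2 ⟨_, rfl⟩)
      have e6 := D.grid.RQ i0 j0 _ e5 _ (D.v_Q 0 b' c')
      rw [mul_assoc, e6, inv_mul_cancel_left]
      exact e5
    obtain ⟨⟨x, y⟩, hxy⟩ := hbij.2 (f₂ (b', c'))
    have e3 : x • T m + y • T φ = E' (b', c') := congrArg Subtype.val hxy
    refine ⟨x * a, y * c, ?_⟩
    rw [e2, ← e3, map_add, map_smul, map_smul, hT, hT, h1, h2, smul_smul, smul_smul]
  have e : ∀ H : Subgroup G, cj (k * g) H = cj k (cj g H) := fun H => cj_mul k g H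
  rcases D.norm (k * g) hkV hkR with ⟨h3, h4⟩ | ⟨h3, h4⟩
  · left
    constructor
    · apply cj_inj (c := k)
      rw [← e, h3, hkA]
    · apply cj_inj (c := k)
      rw [← e, h4, hkB]
  · right
    constructor
    · apply cj_inj (c := k)
      rw [← e, h3, hkB]
    · apply cj_inj (c := k)
      rw [← e, h4, hkA]

/-- **(I2), (I3) of bb #15588.** -/
theorem pout : POut V (R i0 j0) (rowG Q i0) (colG Q j0) where
  perm := fun g => D.perm
  tran := fun x hx hx0 y hy hy0 h => D.tran hx hx0 hy hy0 h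
  tranA := fun x hx hx0 => by
    obtain ⟨φ, hφ, hφ0, h⟩ := D.partner₁ (D.pi (D.rowG_le hx))
    obtain ⟨y, hy, rfl⟩ := D.pi_surj φ
    rw [D.mem_N₂] at hφ
    obtain ⟨g, h1, h2, h3, h4, -⟩ := D.tran hx hx0 hφ (fun h => hφ0 ((D.pi_eq_zero _).2 h))
      ((D.ff_pi_iff _ _).1 h)
    exact ⟨g, h1, h2, h3, h4⟩
  tranB := fun y hy hy0 => by
    obtain ⟨φ, hφ, hφ0, h⟩ := D.partner₂ (D.pi (D.colG_le hy))
    obtain ⟨x, hx, rfl⟩ := D.pi_surj φ
    rw [D.mem_N₁] at hφ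
    obtain ⟨g, h1, h2, h3, -, h4⟩ := D.tran hφ (fun h => hφ0 ((D.pi_eq_zero _).2 h)) hy hy0
      ((D.ff_pi_iff _ _).1 h).symm
    exact ⟨g, h1, h2, h3, h4⟩

end Gin

end Cfsg.Agent.Omega.NO1.Gamma

end

section


/-!
# NO-1' (gamma), `q ≥ 4`: the closing argument (text bb OMEGA #15588 (I5), helper983)

`A₁`, `A₂` subgroups of `G` exchanged by some `s`, `R = A₁ ⊓ A₂ ≠ 1`.
`Adj A₁ A₂ X Y`: the pair `(X, Y)` is conjugate to `(A₁, A₂)`; `Eqv A₁ A₂ X Y`: `X`, `Y` have a common neighbour.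

* `Pre A₁ A₂` : `[A₁, A₂] ≤ R`, `C_{A₁}(A₂) ≤ A₂`, `R` is TI, `N(R)` permutes `{A₁, A₂}`;
* `Bip A₁ A₂` : moreover `G = ⟨N(A₁), N(A₂)⟩`, `quad` (two neighbours `X` of `A₁`, `W` of `A₂` whose points `X ⊓ A₁`, `A₂ ⊓ W` commute are adjacent), `cnt`
  (for neighbours `X` of `A₁`, `Z` of `A₂`, `Y` of `Z` there is a neighbour `W` of `A₂` whose point commutes with
  `X ⊓ A₁` and `Z ⊓ Y`);
* `Bip.false` : impossible;
* `Pre.cnt_of_card` : `cnt` from `|R|² < |A₂|` and `A₂^# ⊆` points;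
* `Pre.quad_of_trans` : `quad` from the transitivity of `N(A₁) ∩ N(A₂)` on the commuting pairs of points.
-/

set_option autoImplicit false

namespace Cfsg.Agent.Omega.NO1.Gamma.BipA

open Subgroup
open Cfsg.Agent.Omega.NoFF.Basic (conj_conj mem_conj conj_le_iff conj_le_centralizer comm_symm comm_mono)
open scoped Pointwise

variable {G : Type*} [Group G]

/-! ### Conjugation -/

theorem conj_inv_conj (g : G) (A : Subgroup G) : MulAut.conj g⁻¹ • (MulAut.conj g • A) = A := by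
  rw [conj_conj, inv_mul_cancel, map_one, one_smul]

theorem conj_conj_inv (g : G) (A : Subgroup G) : MulAut.conj g • (MulAut.conj g⁻¹ • A) = A := by
  rw [conj_conj, mul_inv_cancel, map_one, one_smul]

theorem conj_one (A : Subgroup G) : MulAut.conj (1 : G) • A = A := by
  rw [map_one, one_smul]

theorem conj_inj {g : G} {A B : Subgroup G} (h : MulAut.conj g • A = MulAut.conj g • B) : A = B := by
  have h1 := congrArg (fun C => MulAut.conj g⁻¹ • C) h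
  simpa only [conj_inv_conj] using h1

theorem conj_eq_iff {g : G} {A B : Subgroup G} : MulAut.conj g • A = B ↔ A = MulAut.conj g⁻¹ • B := by
  constructor
  · rintro rfl
    rw [conj_inv_conj]
  · rintro rfl
    rw [conj_conj_inv]

theorem conj_ne_bot {g : G} {A : Subgroup G} (h : A ≠ ⊥) : MulAut.conj g • A ≠ ⊥ := by
  intro h1
  apply h
  apply conj_inj (g := g)
  rw [h1, smul_bot]

/-! ### The relation -/

/-- the pair `(X, Y)` is conjugate to `(A₁, A₂)` -/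
def Adj (A₁ A₂ X Y : Subgroup G) : Prop := ∃ g : G, X = MulAut.conj g • A₁ ∧ Y = MulAut.conj g • A₂

/-- `X`, `Y` have a common neighbour. -/
def Eqv (A₁ A₂ X Y : Subgroup G) : Prop := ∃ Z : Subgroup G, Adj A₁ A₂ X Z ∧ Adj A₁ A₂ Z Y

variable {A₁ A₂ : Subgroup G}

theorem adj_base : Adj A₁ A₂ A₁ A₂ := ⟨1, by rw [conj_one], by rw [conj_one]⟩

theorem Adj.conj {X Y : Subgroup G} (h : Adj A₁ A₂ X Y) (g : G) :
    Adj A₁ A₂ (MulAut.conj g • X) (MulAut.conj g • Y) := by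
  obtain ⟨k, rfl, rfl⟩ := h
  exact ⟨g * k, by rw [conj_conj], by rw [conj_conj]⟩

theorem Adj.of_conj {X Y : Subgroup G} {g : G} (h : Adj A₁ A₂ (MulAut.conj g • X) (MulAut.conj g • Y)) :
    Adj A₁ A₂ X Y := by
  have h1 := h.conj g⁻¹
  rwa [conj_inv_conj, conj_inv_conj] at h1

theorem Eqv.conj {X Y : Subgroup G} (h : Eqv A₁ A₂ X Y) (g : G) :
    Eqv A₁ A₂ (MulAut.conj g • X) (MulAut.conj g • Y) := by
  obtain ⟨Z, h1, h2⟩ := h
  exact ⟨_, h1.conj g, h2.conj g⟩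

theorem Adj.symm (hs : ∃ s : G, MulAut.conj s • A₁ = A₂ ∧ MulAut.conj s • A₂ = A₁) {X Y : Subgroup G}
    (h : Adj A₁ A₂ X Y) : Adj A₁ A₂ Y X := by
  obtain ⟨s, h1, h2⟩ := hs
  obtain ⟨k, rfl, rfl⟩ := h
  exact ⟨k * s, by rw [← conj_conj, h1], by rw [← conj_conj, h2]⟩

/-! ### The hypotheses -/

/-- The pair `(A₁, A₂)`: the local hypotheses. -/
structure Pre (A₁ A₂ : Subgroup G) : Prop where
  ne : A₁ ≠ A₂
  ne_bot : A₁ ⊓ A₂ ≠ ⊥
  swap : ∃ s : G, MulAut.conj s • A₁ = A₂ ∧ MulAut.conj s • A₂ = A₁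
  comm : ∀ a ∈ A₁, ∀ b ∈ A₂, a * b * a⁻¹ * b⁻¹ ∈ A₁ ⊓ A₂
  cen : A₁ ⊓ centralizer (A₂ : Set G) ≤ A₂
  ti : ∀ g : G, (MulAut.conj g • (A₁ ⊓ A₂)) ⊓ (A₁ ⊓ A₂) ≠ ⊥ → MulAut.conj g • (A₁ ⊓ A₂) = A₁ ⊓ A₂
  perm : ∀ g : G, MulAut.conj g • (A₁ ⊓ A₂) = A₁ ⊓ A₂ → MulAut.conj g • A₂ = A₂ → MulAut.conj g • A₁ = A₁

/-- The hypotheses of the closing argument. -/
structure Bip (A₁ A₂ : Subgroup G) : Prop extends Pre A₁ A₂ where
  quad : ∀ X W : Subgroup G, Adj A₁ A₂ X A₁ → Adj A₁ A₂ A₂ W →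
    X ⊓ A₁ ≤ centralizer ((A₂ ⊓ W : Subgroup G) : Set G) → Adj A₁ A₂ X W
  cnt : ∀ X Y Z : Subgroup G, Adj A₁ A₂ X A₁ → Adj A₁ A₂ A₂ Z → Adj A₁ A₂ Z Y →
    ∃ W : Subgroup G, Adj A₁ A₂ A₂ W ∧ X ⊓ A₁ ≤ centralizer ((A₂ ⊓ W : Subgroup G) : Set G) ∧
      A₂ ⊓ W ≤ centralizer ((Z ⊓ Y : Subgroup G) : Set G)
  gen : normalizer (A₁ : Set G) ⊔ normalizer (A₂ : Set G) = ⊤

namespace Pre

variable (h : Pre A₁ A₂)
include h

theorem symm {X Y : Subgroup G} (hXY : Adj A₁ A₂ X Y) : Adj A₁ A₂ Y X := hXY.symm h.swap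

theorem eqv_symm {X Y : Subgroup G} (hXY : Eqv A₁ A₂ X Y) : Eqv A₁ A₂ Y X := by
  obtain ⟨Z, h1, h2⟩ := hXY
  exact ⟨Z, h.symm h2, h.symm h1⟩

/-- `[X, Z] ≤ X ⊓ Z` -/
theorem comm' {X Z : Subgroup G} (hXZ : Adj A₁ A₂ X Z) {x z : G} (hx : x ∈ X) (hz : z ∈ Z) :
    x * z * x⁻¹ * z⁻¹ ∈ X ⊓ Z := by
  obtain ⟨g, rfl, rfl⟩ := hXZ
  rw [mem_conj] at hx hz
  have h1 := h.comm _ hx _ hz
  rw [← Subgroup.smul_inf, mem_conj]
  have e : g⁻¹ * (x * z * x⁻¹ * z⁻¹) * g =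
      g⁻¹ * x * g * (g⁻¹ * z * g) * (g⁻¹ * x * g)⁻¹ * (g⁻¹ * z * g)⁻¹ := by group
  rwa [e]

/-- `C_X(Z) ≤ Z` -/
theorem cen' {X Z : Subgroup G} (hXZ : Adj A₁ A₂ X Z) : X ⊓ centralizer (Z : Set G) ≤ Z := by
  obtain ⟨g, rfl, rfl⟩ := hXZ
  rintro x ⟨hx, hxc⟩
  have hx' : x ∈ MulAut.conj g • A₁ := hx
  rw [mem_conj] at hx' ⊢
  refine h.cen ⟨hx', mem_centralizer_iff.2 ?_⟩
  intro a ha
  have h1 : g * a * g⁻¹ ∈ MulAut.conj g • A₂ := by
    rw [mem_conj]; simpa [mul_assoc] using ha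
  have h2 := mem_centralizer_iff.1 hxc _ h1
  have h3 := congrArg (fun t => g⁻¹ * t * g) h2
  simpa [mul_assoc] using h3

/-- Two points are equal or meet trivially. -/
theorem ti' {X Z X' Z' : Subgroup G} (hXZ : Adj A₁ A₂ X Z) (hXZ' : Adj A₁ A₂ X' Z')
    (hne : (X ⊓ Z) ⊓ (X' ⊓ Z') ≠ ⊥) : X ⊓ Z = X' ⊓ Z' := by
  obtain ⟨g, rfl, rfl⟩ := hXZ
  obtain ⟨k, rfl, rfl⟩ := hXZ'
  rw [← Subgroup.smul_inf, ← Subgroup.smul_inf] at hne ⊢
  have e : MulAut.conj g • (A₁ ⊓ A₂) = MulAut.conj k • (MulAut.conj (k⁻¹ * g) • (A₁ ⊓ A₂)) := by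
    rw [conj_conj, mul_inv_cancel_left]
  rw [e] at hne ⊢
  rw [← Subgroup.smul_inf] at hne
  rw [h.ti _ fun h1 => hne (by rw [h1, smul_bot])]

/-- The point determines the second neighbour. -/
theorem uniq {X Y Z : Subgroup G} (hX : Adj A₁ A₂ X Z) (hY : Adj A₁ A₂ Y Z) (hp : X ⊓ Z = Y ⊓ Z) :
    X = Y := by
  obtain ⟨g, rfl, rfl⟩ := hX
  obtain ⟨k, rfl, hk⟩ := hY
  have h1 : MulAut.conj (g⁻¹ * k) • A₂ = A₂ := by
    rw [← conj_conj, ← hk, conj_inv_conj]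
  have h2 : MulAut.conj (g⁻¹ * k) • (A₁ ⊓ A₂) = A₁ ⊓ A₂ := by
    rw [← conj_conj]
    have h3 : MulAut.conj k • (A₁ ⊓ A₂) = MulAut.conj g • (A₁ ⊓ A₂) := by
      rw [Subgroup.smul_inf, Subgroup.smul_inf, ← hk, ← hp]
    rw [h3, conj_inv_conj]
  have h3 := h.perm _ h2 h1
  rw [← conj_conj, conj_eq_iff, inv_inv] at h3
  exact h3.symm

/-- (i) -/
theorem inf_eq_bot {X Y Z : Subgroup G} (hX : Adj A₁ A₂ X Z) (hY : Adj A₁ A₂ Y Z) (hne : X ≠ Y) :
    X ⊓ Y = ⊥ := by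
  have h1 : (X ⊓ Z) ⊓ (Y ⊓ Z) = ⊥ := by
    by_contra h2
    exact hne (h.uniq hX hY (h.ti' hX hY h2))
  rw [eq_bot_iff]
  rintro y ⟨hyX, hyY⟩
  have h2 : y ∈ Z := by
    refine h.cen' hX ⟨hyX, mem_centralizer_iff.2 ?_⟩
    intro z hz
    have h3 := h.comm' hX hyX hz
    have h4 := h.comm' hY hyY hz
    have h5 : y * z * y⁻¹ * z⁻¹ ∈ (X ⊓ Z) ⊓ (Y ⊓ Z) := ⟨h3, h4⟩
    rw [h1, mem_bot] at h5
    have h6 : y * z = z * y := by
      have := congrArg (fun t => t * (z * y)) h5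
      simpa [mul_assoc] using this
    exact h6.symm
  rw [← h1]
  exact ⟨⟨hyX, h2⟩, hyY, h2⟩

/-! ### `cnt` by counting -/

theorem isMulComm (hab : A₁ ≤ centralizer (A₁ : Set G)) {X Z : Subgroup G} (hXZ : Adj A₁ A₂ X Z) {x y : G}
    (hx : x ∈ X) (hy : y ∈ X) : x * y = y * x := by
  obtain ⟨g, rfl, -⟩ := hXZ
  exact (mem_centralizer_iff.1 (conj_le_centralizer hab hy) x hx)

theorem isMulComm' (hab : A₁ ≤ centralizer (A₁ : Set G)) {X Z : Subgroup G} (hXZ : Adj A₁ A₂ X Z) {x y : G}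
    (hx : x ∈ Z) (hy : y ∈ Z) : x * y = y * x := h.isMulComm hab (h.symm hXZ) hx hy

/-- the conjugate of a point by an element which commutes with a nontrivial element of it. -/
theorem conj_mem_point {X Z : Subgroup G} (hXZ : Adj A₁ A₂ X Z) {g r r' : G} (hr : r ∈ X ⊓ Z) (hr1 : r ≠ 1)
    (hg : g * r = r * g) (hr' : r' ∈ X ⊓ Z) : g * r' * g⁻¹ ∈ X ⊓ Z := by
  have h1 : (MulAut.conj g • X) ⊓ (MulAut.conj g • Z) = X ⊓ Z := by
    refine h.ti' (hXZ.conj g) hXZ fun h2 => hr1 ?_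
    have h3 : r ∈ (MulAut.conj g • X ⊓ MulAut.conj g • Z) ⊓ (X ⊓ Z) := by
      refine ⟨?_, hr⟩
      rw [← Subgroup.smul_inf]
      change r ∈ MulAut.conj g • (X ⊓ Z)
      rw [mem_conj]
      have e : g⁻¹ * r * g = r := by
        rw [mul_assoc, ← hg, inv_mul_cancel_left]
      rwa [e]
    rw [h2, mem_bot] at h3
    exact h3
  rw [← h1, ← Subgroup.smul_inf, mem_conj]
  simpa [mul_assoc] using hr'

/-- An element of `V₁` which commutes with one nontrivial element of the point `V₂ ⊓ W` commutes with the point. -/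
theorem comm_point (hab : A₁ ≤ centralizer (A₁ : Set G)) {V₁ V₂ W : Subgroup G} (h1 : Adj A₁ A₂ V₁ V₂)
    (h2 : Adj A₁ A₂ V₂ W) {p r r' : G} (hp : p ∈ V₁) (hr : r ∈ V₂ ⊓ W) (hr1 : r ≠ 1) (hpr : p * r = r * p)
    (hr' : r' ∈ V₂ ⊓ W) : p * r' = r' * p := by
  by_cases he : V₁ ⊓ V₂ = V₂ ⊓ W
  · have h3 : r' ∈ V₁ ⊓ V₂ := by rw [he]; exact hr'
    exact h.isMulComm hab h1 hp h3.1
  · have h3 : (V₁ ⊓ V₂) ⊓ (V₂ ⊓ W) = ⊥ := by
      by_contra h4
      exact he (h.ti' h1 h2 h4)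
    have h4 := h.comm' h1 hp hr'.1
    have h5 : p * r' * p⁻¹ * r'⁻¹ ∈ V₂ ⊓ W :=
      mul_mem (h.conj_mem_point h2 hr hr1 hpr hr') (inv_mem hr')
    have h6 : p * r' * p⁻¹ * r'⁻¹ ∈ (V₁ ⊓ V₂) ⊓ (V₂ ⊓ W) := ⟨h4, h5⟩
    rw [h3, mem_bot] at h6
    have := congrArg (fun t => t * (r' * p)) h6
    simpa [mul_assoc] using this

/-- `|V₂ : C_{V₂}(P)| ≤ |R|` for a point `P = X ⊓ V₁` of `V₁`. -/
theorem relIndex_le [Finite G] (hab : A₁ ≤ centralizer (A₁ : Set G)) {X V₁ V₂ : Subgroup G}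
    (h1 : Adj A₁ A₂ V₁ V₂) (h2 : Adj A₁ A₂ X V₁) :
    (centralizer ((X ⊓ V₁ : Subgroup G) : Set G)).relIndex V₂ ≤ Nat.card (V₁ ⊓ V₂ : Subgroup G) := by
  have hpos : 0 < Nat.card (V₁ ⊓ V₂ : Subgroup G) := Nat.card_pos
  have hne : X ⊓ V₁ ≠ ⊥ := by
    obtain ⟨g, rfl, rfl⟩ := h2
    rw [← Subgroup.smul_inf]
    exact conj_ne_bot h.ne_bot
  obtain ⟨p, hp, hp1⟩ : ∃ p : G, p ∈ X ⊓ V₁ ∧ p ≠ 1 := by
    obtain ⟨a, ha⟩ := (Subgroup.ne_bot_iff_exists_ne_one).1 hne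
    exact ⟨a, a.2, fun h3 => ha (Subtype.ext h3)⟩
  -- the kernel centralises the point
  have hker : ∀ a ∈ V₂, a * (p : G) = p * a → a ∈ centralizer ((X ⊓ V₁ : Subgroup G) : Set G) := by
    intro a ha hap
    refine mem_centralizer_iff.2 fun p' hp' => ?_
    have h3 : a * p' = p' * a := h.comm_point hab (h.symm h1) (h.symm h2) ha
      (by rw [inf_comm]; exact hp) hp1 hap (by rw [inf_comm]; exact hp')
    exact h3.symm
  let f : V₂ →* (V₁ ⊓ V₂ : Subgroup G) :=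
    MonoidHom.mk' (fun a => ⟨p * a * (p : G)⁻¹ * (a : G)⁻¹, h.comm' h1 hp.2 a.2⟩) (by
      intro a b
      apply Subtype.ext
      change (p : G) * (a * b) * (p : G)⁻¹ * ((a : G) * b)⁻¹ =
        p * a * (p : G)⁻¹ * (a : G)⁻¹ * (p * b * (p : G)⁻¹ * (b : G)⁻¹)
      have h3 : (p : G) * b * (p : G)⁻¹ * (b : G)⁻¹ ∈ V₂ := (h.comm' h1 hp.2 b.2).2
      have h4 := h.isMulComm' hab h1 a.2 h3
      calc (p : G) * (a * b) * (p : G)⁻¹ * ((a : G) * b)⁻¹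
          = p * a * (p : G)⁻¹ * ((p * b * (p : G)⁻¹ * (b : G)⁻¹) * (a : G)⁻¹) := by group
        _ = p * a * (p : G)⁻¹ * ((a : G)⁻¹ * (a * (p * b * (p : G)⁻¹ * (b : G)⁻¹)) * (a : G)⁻¹) := by group
        _ = p * a * (p : G)⁻¹ * ((a : G)⁻¹ * ((p * b * (p : G)⁻¹ * (b : G)⁻¹) * a) * (a : G)⁻¹) := by rw [h4]
        _ = _ := by group)
  have h3 : f.ker ≤ (centralizer ((X ⊓ V₁ : Subgroup G) : Set G)).subgroupOf V₂ := by
    intro a ha
    rw [MonoidHom.mem_ker] at ha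
    rw [mem_subgroupOf]
    have h4 : (p : G) * a * (p : G)⁻¹ * (a : G)⁻¹ = 1 := congrArg Subtype.val ha
    refine hker a a.2 ?_
    have := congrArg (fun t => t * ((a : G) * p)) h4
    simpa [mul_assoc] using this.symm
  calc (centralizer ((X ⊓ V₁ : Subgroup G) : Set G)).relIndex V₂ ≤ f.ker.index :=
        Nat.le_of_dvd (Nat.pos_of_ne_zero Subgroup.index_ne_zero_of_finite) (Subgroup.index_dvd_of_le h3)
    _ = Nat.card f.range := Subgroup.index_ker f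
    _ ≤ Nat.card (V₁ ⊓ V₂ : Subgroup G) := Subgroup.card_le_card_group _

/-- `cnt` from `|R|² < |A₂|` if the nontrivial elements of `A₂` are in points. -/
theorem cnt_of_card [Finite G] (hab : A₁ ≤ centralizer (A₁ : Set G))
    (hc : Nat.card (A₁ ⊓ A₂ : Subgroup G) ^ 2 < Nat.card A₂)
    (cover : ∀ r ∈ A₂, r ≠ 1 → ∃ W : Subgroup G, Adj A₁ A₂ A₂ W ∧ r ∈ W) (X Y Z : Subgroup G)
    (hX : Adj A₁ A₂ X A₁) (hZ : Adj A₁ A₂ A₂ Z) (hY : Adj A₁ A₂ Z Y) :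
    ∃ W : Subgroup G, Adj A₁ A₂ A₂ W ∧ X ⊓ A₁ ≤ centralizer ((A₂ ⊓ W : Subgroup G) : Set G) ∧
      A₂ ⊓ W ≤ centralizer ((Z ⊓ Y : Subgroup G) : Set G) := by
  have h1 := h.relIndex_le hab adj_base hX
  have h2 := h.relIndex_le hab (h.symm hZ) (h.symm hY)
  have h3 : Nat.card (Z ⊓ A₂ : Subgroup G) = Nat.card (A₁ ⊓ A₂ : Subgroup G) := by
    obtain ⟨g, e1, e2⟩ := h.symm hZ
    rw [e1]
    conv_lhs => rw [e2, ← Subgroup.smul_inf]
    exact Nat.card_congr (Subgroup.equivSMul (MulAut.conj g) _).toEquiv.symm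
  rw [h3, inf_comm] at h2
  have h4 := Subgroup.relIndex_inf_le (H := centralizer ((X ⊓ A₁ : Subgroup G) : Set G))
    (K := centralizer ((Z ⊓ Y : Subgroup G) : Set G)) (L := A₂)
  have h5 : (centralizer ((X ⊓ A₁ : Subgroup G) : Set G) ⊓
      centralizer ((Z ⊓ Y : Subgroup G) : Set G)).relIndex A₂ < Nat.card A₂ := by
    refine lt_of_le_of_lt (h4.trans (Nat.mul_le_mul h1 h2)) ?_
    rwa [← pow_two]
  have h6 : ∃ r ∈ A₂, r ≠ 1 ∧ r ∈ centralizer ((X ⊓ A₁ : Subgroup G) : Set G) ∧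
      r ∈ centralizer ((Z ⊓ Y : Subgroup G) : Set G) := by
    by_contra hcon
    push Not at hcon
    have h7 : (centralizer ((X ⊓ A₁ : Subgroup G) : Set G) ⊓
        centralizer ((Z ⊓ Y : Subgroup G) : Set G)).subgroupOf A₂ = ⊥ := by
      rw [eq_bot_iff]
      intro r hr
      rw [mem_subgroupOf] at hr
      rw [mem_bot]
      by_contra hr1
      exact hcon r r.2 (fun h8 => hr1 (Subtype.ext h8)) hr.1 hr.2
    rw [Subgroup.relIndex, h7, Subgroup.index_bot] at h5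
    exact lt_irrefl _ h5
  obtain ⟨r, hr, hr1, hr2, hr3⟩ := h6
  obtain ⟨W, hW, hrW⟩ := cover r hr hr1
  refine ⟨W, hW, ?_, ?_⟩
  · intro p hp
    refine mem_centralizer_iff.2 fun r' hr' => ?_
    exact (h.comm_point hab adj_base hW hp.2 ⟨hr, hrW⟩ hr1 (mem_centralizer_iff.1 hr2 p hp) hr').symm
  · refine comm_symm ?_
    intro p hp
    refine mem_centralizer_iff.2 fun r' hr' => ?_
    exact (h.comm_point hab (h.symm hZ) hW hp.1 ⟨hr, hrW⟩ hr1 (mem_centralizer_iff.1 hr3 p hp) hr').symm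

/-- `quad` from the transitivity of `N(A₁) ∩ N(A₂)` on the pairs of commuting points and one example. -/
theorem quad_of_trans {X₀ W₀ : Subgroup G} (hX₀ : Adj A₁ A₂ X₀ A₁) (hW₀ : Adj A₁ A₂ A₂ W₀)
    (h₀ : Adj A₁ A₂ X₀ W₀)
    (tr : ∀ X W : Subgroup G, Adj A₁ A₂ X A₁ → Adj A₁ A₂ A₂ W →
      X ⊓ A₁ ≤ centralizer ((A₂ ⊓ W : Subgroup G) : Set G) → X ⊓ A₁ ≠ A₁ ⊓ A₂ → A₂ ⊓ W ≠ A₁ ⊓ A₂ →
      ∃ g : G, MulAut.conj g • A₁ = A₁ ∧ MulAut.conj g • A₂ = A₂ ∧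
        MulAut.conj g • (X ⊓ A₁) = X₀ ⊓ A₁ ∧ MulAut.conj g • (A₂ ⊓ W) = A₂ ⊓ W₀)
    (X W : Subgroup G) (hX : Adj A₁ A₂ X A₁) (hW : Adj A₁ A₂ A₂ W)
    (hc : X ⊓ A₁ ≤ centralizer ((A₂ ⊓ W : Subgroup G) : Set G)) : Adj A₁ A₂ X W := by
  by_cases h1 : X ⊓ A₁ = A₁ ⊓ A₂
  · have h2 : X = A₂ := h.uniq hX (h.symm adj_base) (by rw [h1, inf_comm])
    rw [h2]
    exact hW
  by_cases h2 : A₂ ⊓ W = A₁ ⊓ A₂
  · have h3 : W = A₁ := h.uniq (h.symm hW) adj_base (by rw [inf_comm, h2])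
    rw [h3]
    exact hX
  obtain ⟨g, e1, e2, e3, e4⟩ := tr X W hX hW hc h1 h2
  have h3 : MulAut.conj g • X = X₀ := by
    refine h.uniq (Z := A₁) ?_ hX₀ ?_
    · have := hX.conj g
      rwa [e1] at this
    · rw [← e3, Subgroup.smul_inf, e1]
  have h4 : MulAut.conj g • W = W₀ := by
    refine h.uniq (Z := A₂) ?_ (h.symm hW₀) ?_
    · have := (h.symm hW).conj g
      rwa [e2] at this
    · rw [inf_comm W₀, ← e4, Subgroup.smul_inf, e2, inf_comm]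
  apply Adj.of_conj (g := g)
  rw [h3, h4]
  exact h₀

end Pre

namespace Bip

variable (h : Bip A₁ A₂)
include h

/-- `quad` for conjugates. -/
theorem quad' {X V₁ V₂ W : Subgroup G} (h1 : Adj A₁ A₂ X V₁) (h2 : Adj A₁ A₂ V₁ V₂) (h3 : Adj A₁ A₂ V₂ W)
    (h4 : X ⊓ V₁ ≤ centralizer ((V₂ ⊓ W : Subgroup G) : Set G)) : Adj A₁ A₂ X W := by
  obtain ⟨g, rfl, rfl⟩ := h2
  obtain ⟨X', rfl⟩ : ∃ X' : Subgroup G, X = MulAut.conj g • X' := ⟨_, (conj_conj_inv g X).symm⟩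
  obtain ⟨W', rfl⟩ : ∃ W' : Subgroup G, W = MulAut.conj g • W' := ⟨_, (conj_conj_inv g W).symm⟩
  refine (h.quad X' W' h1.of_conj h3.of_conj ?_).conj g
  rw [← Subgroup.smul_inf, ← Subgroup.smul_inf] at h4
  have h5 := conj_le_centralizer (g := g⁻¹) h4
  rwa [conj_inv_conj, conj_inv_conj] at h5

/-- (ii) -/
theorem trans {X V Y : Subgroup G} (h1 : Eqv A₁ A₂ X V) (h2 : Eqv A₁ A₂ V Y) : Eqv A₁ A₂ X Y := by
  obtain ⟨V₁, h3, g, rfl, rfl⟩ := h1
  obtain ⟨Z, h4, h5⟩ := h2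
  obtain ⟨X', rfl⟩ : ∃ X' : Subgroup G, X = MulAut.conj g • X' := ⟨_, (conj_conj_inv g X).symm⟩
  obtain ⟨Y', rfl⟩ : ∃ Y' : Subgroup G, Y = MulAut.conj g • Y' := ⟨_, (conj_conj_inv g Y).symm⟩
  obtain ⟨Z', rfl⟩ : ∃ Z' : Subgroup G, Z = MulAut.conj g • Z' := ⟨_, (conj_conj_inv g Z).symm⟩
  have h3 := h3.of_conj
  have h4 := h4.of_conj
  have h5 := h5.of_conj
  obtain ⟨W, h6, h7, h8⟩ := h.cnt X' Y' Z' h3 h4 h5
  have h9 : Adj A₁ A₂ X' W := h.quad X' W h3 h6 h7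
  have h10 : Adj A₁ A₂ W Y' := by
    refine h.quad' (h.toPre.symm h6) h4 h5 ?_
    rw [inf_comm]
    exact h8
  exact Eqv.conj ⟨W, h9, h10⟩ g

/-- **(I5)** -/
theorem false : False := by
  obtain ⟨s, hs1, hs2⟩ := h.swap
  let T : Subgroup G :=
    { carrier := {g | Eqv A₁ A₂ A₂ (MulAut.conj g • A₂)}
      one_mem' := by
        change Eqv A₁ A₂ A₂ (MulAut.conj (1 : G) • A₂)
        rw [conj_one]
        exact ⟨A₁, h.toPre.symm adj_base, adj_base⟩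
      mul_mem' := by
        intro a b ha hb
        change Eqv A₁ A₂ A₂ (MulAut.conj (a * b) • A₂)
        rw [← conj_conj]
        exact h.trans ha (Eqv.conj hb a)
      inv_mem' := by
        intro a ha
        change Eqv A₁ A₂ A₂ (MulAut.conj a⁻¹ • A₂)
        have h1 := Eqv.conj (show Eqv A₁ A₂ A₂ (MulAut.conj a • A₂) from ha) a⁻¹
        rw [conj_inv_conj] at h1
        exact h.toPre.eqv_symm h1 }
  have hT : T = ⊤ := by
    rw [eq_top_iff, ← h.gen]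
    refine sup_le ?_ ?_
    · intro g hg
      have h1 : MulAut.conj g • A₁ = A₁ := conj_eq hg
      have h2 : Adj A₁ A₂ A₁ (MulAut.conj g • A₂) := by
        have h3 := (adj_base (A₁ := A₁) (A₂ := A₂)).conj g
        rwa [h1] at h3
      exact ⟨A₁, h.toPre.symm adj_base, h2⟩
    · intro g hg
      have h1 : MulAut.conj g • A₂ = A₂ := conj_eq hg
      change Eqv A₁ A₂ A₂ (MulAut.conj g • A₂)
      rw [h1]
      exact ⟨A₁, h.toPre.symm adj_base, adj_base⟩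
  have h1 : s ∈ T := by rw [hT]; exact mem_top s
  have h2 : Eqv A₁ A₂ A₂ A₁ := by
    have h3 : Eqv A₁ A₂ A₂ (MulAut.conj s • A₂) := h1
    rwa [hs2] at h3
  obtain ⟨Z, h3, h4⟩ := h2
  apply h.ne_bot
  rw [inf_comm]
  exact h.toPre.inf_eq_bot h3 (h.toPre.symm h4) h.ne.symm
where
  conj_eq {B : Subgroup G} {g : G} (hg : g ∈ normalizer (B : Set G)) : MulAut.conj g • B = B := by
    ext x
    rw [mem_conj]
    have := (mem_normalizer_iff.1 ((normalizer (B : Set G)).inv_mem hg)) x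
    rw [inv_inv] at this
    exact this.symm

end Bip

end Cfsg.Agent.Omega.NO1.Gamma.BipA

namespace Cfsg.Agent.Omega.NO1.Gamma

open Subgroup
open scoped Pointwise
open Cfsg.Agent.Omega.NO1.Beta.Meet (cj cj_inj mem_cj)
open BipA (Adj adj_base conj_conj_inv conj_inv_conj)

variable {G : Type*} [Group G] {R A B : Subgroup G}

namespace Bip

theorem ne' [Finite G] (h : Bip R A B) : A ≠ B := by
  rintro rfl
  have h1 := h.inf
  have h2 := h.big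
  rw [inf_idem] at h1
  rw [h1] at h2
  have h3 : 0 < Nat.card R := Nat.card_pos
  nlinarith

/-- the local hypotheses of `BipA` -/
theorem pre [Finite G] (h : Bip R A B) : BipA.Pre A B where
  ne := h.ne'
  ne_bot := by rw [h.inf]; exact h.ne
  swap := by
    obtain ⟨s, -, h1, h2⟩ := h.swap
    exact ⟨s, h1, h2⟩
  comm := by
    intro a ha b hb
    rw [h.inf]
    exact h.comm a ha b hb
  cen := by
    rintro x ⟨hx, hx'⟩
    have h1 : x ∈ R := h.cenA x hx fun y hy => (mem_centralizer_iff.1 hx' y hy).symm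
    rw [← h.inf] at h1
    exact h1.2
  ti := by
    intro g hg
    rw [h.inf] at hg ⊢
    exact h.ti g (by rwa [inf_comm])
  perm := by
    intro g h1 h2
    rw [h.inf] at h1
    rcases h.nor g h1 with h3 | h3
    · exact h3.1
    · exact absurd (cj_inj (c := g) (h3.1.trans h2.symm)) h.ne'

/-- the hypotheses of `BipA` -/
theorem bip [Finite G] (h : Bip R A B) : BipA.Bip A B where
  toPre := h.pre
  quad := by
    intro X W hX hW hc
    obtain ⟨s, -, hs1, hs2⟩ := h.swap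
    -- `X = cj n B`, `cj n A = A`
    obtain ⟨n, hn1, rfl⟩ : ∃ n : G, cj n A = A ∧ X = cj n B := by
      obtain ⟨k, e1, e2⟩ := hX
      refine ⟨k * s, ?_, ?_⟩
      · rw [Beta.Meet.cj_mul, hs1]
        exact e2.symm
      · rw [Beta.Meet.cj_mul, hs2]
        exact e1
    obtain ⟨m, hm1, rfl⟩ : ∃ m : G, cj m B = B ∧ W = cj m A := by
      obtain ⟨k, e1, e2⟩ := hW
      refine ⟨k * s, ?_, ?_⟩
      · rw [Beta.Meet.cj_mul, hs2]
        exact e1.symm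
      · rw [Beta.Meet.cj_mul, hs1]
        exact e2
    have e1 : cj n B ⊓ A = cj n R := by
      conv_lhs => rw [← hn1]
      rw [← h.inf, inf_comm]
      exact (Subgroup.smul_inf _ _ _).symm
    have e2 : B ⊓ cj m A = cj m R := by
      conv_lhs => rw [← hm1]
      rw [← h.inf, inf_comm]
      exact (Subgroup.smul_inf _ _ _).symm
    rw [e1, e2] at hc
    by_cases hn : cj n R = R
    · have h1 : cj n B = B := by
        rcases h.nor n hn with h3 | h3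
        · exact h3.2
        · exact absurd (hn1.symm.trans h3.1) h.ne'
      rw [h1]
      exact hW
    by_cases hm : cj m R = R
    · have h1 : cj m A = A := by
        rcases h.nor m hm with h3 | h3
        · exact h3.1
        · exact absurd (h3.2.symm.trans hm1) h.ne'
      rw [h1]
      exact hX
    obtain ⟨g, h1, h2⟩ := h.key m n hm1 hn1 hm hn (by
      intro x hx y hy
      exact mem_centralizer_iff.1 (hc hy) x hx)
    exact h.pre.symm ⟨g, h1, h2⟩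
  cnt := by
    refine h.pre.cnt_of_card ?_ ?_ ?_
    · intro x hx
      exact mem_centralizer_iff.2 fun y hy => h.comA y hy x hx
    · rw [h.inf]
      exact h.big
    · intro r hr _
      obtain ⟨g, h1, h2⟩ := h.covB r hr
      refine ⟨cj g⁻¹ A, ?_, ?_⟩
      · have h3 := h.pre.symm ((adj_base (A₁ := A) (A₂ := B)).conj g⁻¹)
        have h4 : cj g⁻¹ B = B := by
          conv_lhs => rw [← h1]
          exact conj_inv_conj g B
        have h5 : MulAut.conj g⁻¹ • B = B := h4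
        rwa [h5] at h3
      · rw [mem_cj, inv_inv]
        rw [← h.inf] at h2
        exact h2.1
  gen := h.gen

/-- **(I5)** of text #15588. -/
theorem false [Finite G] (h : Bip R A B) : False := h.bip.false

end Bip

end Cfsg.Agent.Omega.NO1.Gamma

end

section


/-!
# Type (gamma): the contradiction

`Gin0.false : Gin0 → POut → R TI → G = ⟨N(R), N(V)⟩ → G simple → False`.
-/

set_option autoImplicit false
set_option linter.unusedVariables false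
set_option linter.unusedSectionVars false

open Subgroup
open scoped Pointwise

namespace Cfsg.Agent.Omega.NO1.Gamma

open Cfsg.Agent.Omega.NO1.Beta.Meet (cj mem_cj conj_mem_cj cj_mul cj_inj cj_eq_of_comm cj_eq_of_mem
  mem_normalizer_of_cj cj_of_mem_normalizer)

variable {G : Type*} [Group G] {I J : Type*}

theorem POut.transpose {V R A B : Subgroup G} (o : POut V R A B) : POut V R B A where
  perm g hg := by
    rcases o.perm g hg with ⟨h1, h2⟩ | ⟨h1, h2⟩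
    · exact Or.inl ⟨h2, h1⟩
    · exact Or.inr ⟨h2, h1⟩
  tran x hx hxR y hy hyR h := by
    obtain ⟨g, h1, h2, h3, h4, h5⟩ := o.tran y hy hyR x hx hxR h.symm
    exact ⟨g, h1, h3, h2, h5, h4⟩
  tranA y hy hyR := by
    obtain ⟨g, h1, h2, h3, h4⟩ := o.tranB y hy hyR
    exact ⟨g, h1, h3, h2, h4⟩
  tranB x hx hxR := by
    obtain ⟨g, h1, h2, h3, h4⟩ := o.tranA x hx hxR
    exact ⟨g, h1, h3, h2, h4⟩

namespace Grid

variable {V : Subgroup G} {R Q : I → J → Subgroup G} (g : Grid V R Q)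
include g

/-- `Q i j` normalises the row group `A_i` -/
theorem Q_nor_row {i : I} {j : J} {x : G} (hx : x ∈ Q i j) : x ∈ normalizer (rowG Q i : Set G) := by
  have h1 : ∀ a ∈ Q i j, ∀ b ∈ rowG Q i, a * b * a⁻¹ ∈ rowG Q i := by
    intro a ha b hb
    have h2 := g.R_row i j (g.QQ i j a ha b (g.rowG_le i j hb))
    have e : a * b * a⁻¹ = (a * b * a⁻¹ * b⁻¹) * b := by group
    rw [e]; exact mul_mem h2 hb
  rw [mem_normalizer_iff]
  intro b
  constructor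
  · intro hb; exact h1 x hx b hb
  · intro hb
    have := h1 x⁻¹ (inv_mem hx) _ hb
    have e : x⁻¹ * (x * b * x⁻¹) * x⁻¹⁻¹ = b := by group
    rwa [e] at this

/-- every column group normalises every row group -/
theorem col_nor_row (i : I) : (⨆ j, colG Q j) ≤ normalizer (rowG Q i : Set G) :=
  iSup_le fun j x hx => g.Q_nor_row (i := i) (j := j) (g.transpose.rowG_le j i hx)

theorem row_nor_col (j : J) : (⨆ i, rowG Q i) ≤ normalizer (colG Q j : Set G) :=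
  g.transpose.col_nor_row j

theorem Q_le_sup {A B : Subgroup G} {i0 : I} {j0 : J} (i : I) (j : J) :
    Q i j ≤ normalizer (rowG Q i0 : Set G) ⊔ normalizer (colG Q j0 : Set G) := by
  rw [g.Q_sup]
  refine sup_le ?_ ?_
  · exact (((le_iSup (rowG Q) i).trans (g.row_nor_col j0))).trans le_sup_right
  · exact (((le_iSup (colG Q) j).trans (g.col_nor_row i0))).trans le_sup_left

end Grid

theorem normalizer_sup_swap {A B : Subgroup G} {g : G} (h : (cj g A = A ∧ cj g B = B) ∨ (cj g A = B ∧ cj g B = A)) :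
    g ∈ normalizer ((normalizer (A : Set G) ⊔ normalizer (B : Set G) : Subgroup G) : Set G) := by
  have hN : ∀ (X : Subgroup G), cj g (normalizer (X : Set G)) = normalizer ((cj g X : Subgroup G) : Set G) := by
    intro X
    ext x
    rw [mem_cj]
    constructor
    · intro hx
      apply mem_normalizer_of_cj
      have h1 := cj_of_mem_normalizer hx
      have e : x = g * (g⁻¹ * x * g) * g⁻¹ := by group
      have h2 : cj x (cj g X) = cj g (cj (g⁻¹ * x * g) X) := by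
        rw [← cj_mul, ← cj_mul]; congr 1; group
      rw [h2, h1]
    · intro hx
      apply mem_normalizer_of_cj
      have h1 := cj_of_mem_normalizer hx
      apply cj_inj (c := g)
      rw [← cj_mul]
      have e : g * (g⁻¹ * x * g) = x * g := by group
      rw [e, cj_mul, h1]
  apply mem_normalizer_of_cj
  have h1 : cj g (normalizer (A : Set G) ⊔ normalizer (B : Set G)) =
      cj g (normalizer (A : Set G)) ⊔ cj g (normalizer (B : Set G)) := Subgroup.smul_sup _ _ _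
  rw [h1, hN, hN]
  rcases h with ⟨h2, h3⟩ | ⟨h2, h3⟩
  · rw [h2, h3]
  · rw [h2, h3, sup_comm]

namespace Gin0

variable {F : Type*} [Field F] {S : Sylow 2 G} {V : Subgroup G} {R Q : I → J → Subgroup G} {i0 i1 : I}
  {j0 j1 : J} {v : F → F → F → F → G} {p p' : G → F} (h : Gin0 F S V R Q i0 i1 j0 j1 v p p')
include h

/-- `V ⊓ A = {v a b 0 0}` -/
theorem mem_V_row {x : G} (hV : x ∈ V) (hx : x ∈ rowG Q i0) : ∃ a b, x = v a b 0 0 := by
  obtain ⟨a, b, c, d, rfl⟩ := h.v_surj x hV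
  obtain ⟨rfl, rfl⟩ := (h.row_V a b c d).1 hx
  exact ⟨a, b, rfl⟩

/-- `1 × w` maps `R i0 j0` to `R i0 j1` -/
theorem wey_facts : ∃ w ∈ ⨆ l, colG Q l, (∀ a b c d, w * v a b c d * w⁻¹ = v b a d c) ∧
    cj w (R i0 j0) = R i0 j1 ∧ cj w (rowG Q i0) = rowG Q i0 ∧ cj w (colG Q j0) = colG Q j1 := by
  obtain ⟨w, hw, h1⟩ := h.gin.wey
  have e1 : cj w (R i0 j0) = R i0 j1 := by
    ext x
    rw [mem_cj, h.R00, h.R01]
    constructor
    · rintro ⟨a, ha⟩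
      refine ⟨a, ?_⟩
      rw [← h1 a 0 0 0, ← ha]; group
    · rintro ⟨a, rfl⟩
      refine ⟨a, ?_⟩
      rw [← h1 a 0 0 0]; group
  have e2 : cj w (R i1 j0) = R i1 j1 := by
    ext x
    rw [mem_cj, h.R10, h.R11]
    constructor
    · rintro ⟨a, ha⟩
      refine ⟨a, ?_⟩
      rw [← h1 0 0 a 0, ← ha]; group
    · rintro ⟨a, rfl⟩
      refine ⟨a, ?_⟩
      rw [← h1 0 0 a 0]; group
  refine ⟨w, hw, h1, e1, ?_, ?_⟩
  · exact cj_of_mem_normalizer (h.grid.col_nor_row i0 hw)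
  · have h2 := h.grid.transpose.row_eq j0 h.hi
    have h3 := h.grid.transpose.row_eq j1 h.hi
    change Q i0 j0 ⊓ Q i1 j0 = colG Q j0 at h2
    change Q i0 j1 ⊓ Q i1 j1 = colG Q j1 at h3
    rw [← h2, cj_inf', h.grid.conj w _ _ _ _ e1, h.grid.conj w _ _ _ _ e2, h3]

theorem cov (o : POut V (R i0 j0) (rowG Q i0) (colG Q j0)) {x : G} (hx : x ∈ rowG Q i0) :
    ∃ g : G, cj g (rowG Q i0) = rowG Q i0 ∧ g * x * g⁻¹ ∈ R i0 j0 := by
  by_cases hxR : x ∈ R i0 j0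
  · exact ⟨1, cj_one' _, by simpa using hxR⟩
  obtain ⟨g, h1, h2, h3, h4⟩ := o.tranA x hx hxR
  obtain ⟨a, b, hab⟩ := h.mem_V_row h4 (mem_of_cj h2 hx)
  have hb : b ≠ 0 := by
    rintro rfl
    apply hxR
    have h5 : g * x * g⁻¹ ∈ R i0 j0 := (h.R00 _).2 ⟨a, hab⟩
    have h6 := mem_of_cj' h1 h5
    have e : g⁻¹ * (g * x * g⁻¹) * g = x := by group
    rwa [e] at h6
  obtain ⟨z, hz, hz1, hz2⟩ := h.p_surj 0 (-a / b)
  obtain ⟨w, hw, w1, w2, w3, w4⟩ := h.wey_facts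
  have e1 : z * v a b 0 0 * z⁻¹ = v 0 b 0 0 := by
    rw [h.act z hz, hz1, hz2]
    have : a + -a / b * b = 0 := by field_simp; ring
    rw [this]
    congr 1 <;> ring
  refine ⟨w * z * g, ?_, ?_⟩
  · rw [cj_mul, cj_mul, h2, cj_of_mem_normalizer (h.grid.Q_nor_row hz), w3]
  · have e : w * z * g * x * (w * z * g)⁻¹ = w * (z * (g * x * g⁻¹) * z⁻¹) * w⁻¹ := by group
    rw [e, hab, e1, w1]
    exact (h.R00 _).2 ⟨b, rfl⟩

theorem sup_eq_top (o : POut V (R i0 j0) (rowG Q i0) (colG Q j0))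
    (gen : normalizer (R i0 j0 : Set G) ⊔ normalizer (V : Set G) = ⊤) [hs : IsSimpleGroup G] :
    normalizer (rowG Q i0 : Set G) ⊔ normalizer (colG Q j0 : Set G) = ⊤ := by
  set Y := normalizer (rowG Q i0 : Set G) ⊔ normalizer (colG Q j0 : Set G) with hY
  have hR : normalizer (R i0 j0 : Set G) ≤ normalizer (Y : Set G) := by
    intro g hg
    exact normalizer_sup_swap (o.perm g (cj_of_mem_normalizer hg))
  have hQ : ∀ i j, Q i j ≤ Y := fun i j => h.grid.Q_le_sup (A := ⊥) (B := ⊥) i j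
  have hV : normalizer (V : Set G) ≤ normalizer (Y : Set G) := by
    intro g hg
    obtain ⟨i, j, hij⟩ : ∃ i j, cj g (R i0 j0) = R i j := by
      rcases h.norm g (cj_of_mem_normalizer hg) with ⟨σ, τ, h1⟩ | ⟨σ, τ, h1⟩
      · exact ⟨_, _, h1 i0 j0⟩
      · exact ⟨_, _, h1 i0 j0⟩
    obtain ⟨k, hk1, hk2⟩ := h.grid.threeI i0 i
    obtain ⟨l, hl1, hl2⟩ := h.grid.threeJ j0 j
    obtain ⟨y, hy, hyR⟩ := h.grid.tran k l i0 j0 i j hk1.symm hk2.symm hl1.symm hl2.symm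
    have h1 : y ∈ normalizer (Y : Set G) := le_normalizer (hQ k l hy)
    have h2 : y⁻¹ * g ∈ normalizer (Y : Set G) := by
      apply hR
      apply mem_normalizer_of_cj
      rw [cj_mul, hij]
      exact cj_inv_of hyR
    have := mul_mem h1 h2
    rwa [mul_inv_cancel_left] at this
  have hnor : normalizer (Y : Set G) = ⊤ := by
    rw [eq_top_iff, ← gen]
    exact sup_le hR hV
  have hn : Y.Normal := normalizer_eq_top_iff.1 hnor
  rcases hn.eq_bot_or_eq_top with h1 | h1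
  · exfalso
    apply h.grid.ne i0 j0
    rw [eq_bot_iff, ← h1]
    exact (h.grid.R_Q i0 j0).trans (hQ i0 j0)
  · exact h1

theorem bip [Finite G] (o : POut V (R i0 j0) (rowG Q i0) (colG Q j0))
    (ti : ∀ g : G, R i0 j0 ⊓ cj g (R i0 j0) ≠ ⊥ → cj g (R i0 j0) = R i0 j0)
    (gen : normalizer (R i0 j0 : Set G) ⊔ normalizer (V : Set G) = ⊤) [hs : IsSimpleGroup G] :
    Bip (R i0 j0) (rowG Q i0) (colG Q j0) := by
  have := h.nonI
  have := h.nonJ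
  have hG := h.gin
  have rc := hG.rc
  have hcen : ∀ x ∈ Q i0 j0, (∀ y ∈ rowG Q i0, x * y = y * x) → (∀ y ∈ colG Q j0, x * y = y * x) →
      x ∈ R i0 j0 := by
    intro x hx h1 h2
    apply h.grid.cen i0 j0 x hx
    intro z hz
    obtain ⟨a, ha, b, hb, rfl⟩ := h.grid.Q_mul hz
    calc x * (a * b) = (x * a) * b := by group
      _ = a * (x * b) := by rw [h1 a ha]; group
      _ = a * b * x := by rw [h2 b hb]; group
  have hrow : rowG Q i0 ≤ Q i0 j0 := h.grid.rowG_le i0 j0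
  have hcol : colG Q j0 ≤ Q i0 j0 := h.grid.transpose.rowG_le j0 i0
  have hAB : rowG Q i0 ≠ colG Q j0 := by
    intro he
    have h1 : v 0 1 0 0 ∈ colG Q j0 := by rw [← he]; exact h.v_row 0 1
    exact one_ne_zero ((hG.col_V 0 1 0 0).1 h1).1
  obtain ⟨w, hw, w1, w2, w3, w4⟩ := h.wey_facts
  obtain ⟨w', hw', w1', w2', w3', w4'⟩ := h.transpose.wey_facts
  change w' ∈ ⨆ l, rowG Q l at hw'
  change cj w' (R i0 j0) = R i1 j0 at w2'
  change cj w' (colG Q j0) = colG Q j0 at w3'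
  change cj w' (rowG Q i0) = rowG Q i1 at w4'
  -- TI for two conjugates
  have ti2 : ∀ a b : G, cj a (R i0 j0) ⊓ cj b (R i0 j0) ≠ ⊥ → cj a (R i0 j0) = cj b (R i0 j0) := by
    intro a b hab
    have h1 : R i0 j0 ⊓ cj (a⁻¹ * b) (R i0 j0) ≠ ⊥ := by
      intro h0
      apply hab
      rw [eq_bot_iff]
      intro x hx
      rw [mem_inf, mem_cj, mem_cj] at hx
      have h2 : a⁻¹ * x * a ∈ R i0 j0 ⊓ cj (a⁻¹ * b) (R i0 j0) := by
        refine mem_inf.2 ⟨hx.1, ?_⟩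
        rw [mem_cj]
        have e : (a⁻¹ * b)⁻¹ * (a⁻¹ * x * a) * (a⁻¹ * b) = b⁻¹ * x * b := by group
        rw [e]; exact hx.2
      rw [h0, mem_bot] at h2
      rw [mem_bot]
      calc x = a * (a⁻¹ * x * a) * a⁻¹ := by group
        _ = 1 := by rw [h2]; group
    have h3 := ti _ h1
    rw [cj_mul] at h3
    have h4 := congrArg (cj a) h3
    rw [← cj_mul, mul_inv_cancel, cj_one'] at h4
    exact h4.symm
  -- the partner is determined
  have fixB : ∀ a b : G, cj a (R i0 j0) = cj b (R i0 j0) → cj a (rowG Q i0) = cj b (rowG Q i0) →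
      cj a (colG Q j0) = cj b (colG Q j0) := by
    intro a b h1 h2
    have h3 : cj (b⁻¹ * a) (R i0 j0) = R i0 j0 := by
      rw [cj_mul, h1, ← cj_mul, inv_mul_cancel, cj_one']
    have h4 : cj (b⁻¹ * a) (rowG Q i0) = rowG Q i0 := by
      rw [cj_mul, h2, ← cj_mul, inv_mul_cancel, cj_one']
    rcases o.perm _ h3 with ⟨-, h5⟩ | ⟨h5, -⟩
    · have h6 := congrArg (cj b) h5
      rw [← cj_mul, mul_inv_cancel_left] at h6
      exact h6
    · exact absurd (h4.symm.trans h5) hAB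
  have fixA : ∀ a b : G, cj a (R i0 j0) = cj b (R i0 j0) → cj a (colG Q j0) = cj b (colG Q j0) →
      cj a (rowG Q i0) = cj b (rowG Q i0) := by
    intro a b h1 h2
    have h3 : cj (b⁻¹ * a) (R i0 j0) = R i0 j0 := by
      rw [cj_mul, h1, ← cj_mul, inv_mul_cancel, cj_one']
    have h4 : cj (b⁻¹ * a) (colG Q j0) = colG Q j0 := by
      rw [cj_mul, h2, ← cj_mul, inv_mul_cancel, cj_one']
    rcases o.perm _ h3 with ⟨h5, -⟩ | ⟨-, h5⟩
    · have h6 := congrArg (cj b) h5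
      rw [← cj_mul, mul_inv_cancel_left] at h6
      exact h6
    · exact absurd (h5.symm.trans h4) hAB
  refine ⟨h.grid.ne i0 j0, ti, rc.inf i0 j0, rc.row_comm i0, rc.col_comm j0, ?_, o.perm, ?_, ?_, ?_, ?_, ?_, ?_, ?_, ?_⟩
  · intro x hx y hy
    exact h.grid.QQ i0 j0 x (hrow hx) y (hcol hy)
  · intro x hx h1
    exact hcen x (hrow hx) (rc.row_comm i0 x hx) h1
  · intro y hy h1
    exact hcen y (hcol hy) (fun x hx => (h1 x hx).symm) (rc.col_comm j0 y hy)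
  · intro x hx
    exact h.cov o hx
  · intro y hy
    exact h.transpose.cov o.transpose hy
  · -- big
    have hFfin : Finite F := Finite.of_injective (fun a => v a 0 0 0) fun a b e => (h.inj e).1
    have hRc : Nat.card (R i0 j0) = Nat.card F := by
      apply Nat.card_congr
      refine (Equiv.ofBijective (fun a : F => (⟨v a 0 0 0, (h.R00 _).2 ⟨a, rfl⟩⟩ : R i0 j0)) ⟨?_, ?_⟩).symm
      · intro a b e
        exact (h.inj (congrArg Subtype.val e)).1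
      · rintro ⟨x, hx⟩
        obtain ⟨a, rfl⟩ := (h.R00 _).1 hx
        exact ⟨a, rfl⟩
    -- an injection `F × F × F → colG Q j0`
    have hsec : ∀ t : F, ∃ x ∈ colG Q j0, p' x = t := by
      intro t
      obtain ⟨x, hx, h1, h2⟩ := h.p_surj 0 t
      obtain ⟨a, ha, b, hb, rfl⟩ := h.grid.Q_mul hx
      refine ⟨b, hb, ?_⟩
      rw [← h2, (h.p_mul (hrow ha) (hcol hb)).2, h.row_p ha, zero_add]
    choose s hs1 hs2 using hsec
    have hp'V : ∀ a c : F, p' (v a 0 c 0) = 0 := by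
      intro a c
      have h1 : v a 0 c 0 ∈ Q i0 j0 := hcol (h.v_col a c)
      have h2 := h.act _ h1 0 0 0 1
      have h3 := h.grid.comm _ (h.v_mem a 0 c 0) _ (h.v_mem 0 0 0 1)
      rw [h3, mul_inv_cancel_right] at h2
      have h4 := (h.inj h2).2.2.1
      simpa using h4.symm
    let f : F × F × F → colG Q j0 := fun x =>
      ⟨v x.1 0 x.2.1 0 * s x.2.2, mul_mem (h.v_col _ _) (hs1 _)⟩
    have hf : Function.Injective f := by
      rintro ⟨a, c, t⟩ ⟨a', c', t'⟩ e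
      have e1 : v a 0 c 0 * s t = v a' 0 c' 0 * s t' := congrArg Subtype.val e
      have e2 : t = t' := by
        have h1 := (h.p_mul (hcol (h.v_col a c)) (hcol (hs1 t))).2
        have h2 := (h.p_mul (hcol (h.v_col a' c')) (hcol (hs1 t'))).2
        rw [e1, h2, hp'V, hp'V, hs2, hs2] at h1
        linear_combination -h1
      subst e2
      have e3 := mul_right_cancel e1
      obtain ⟨h1, -, h3, -⟩ := h.inj e3
      rw [h1, h3]
    have h1 := Nat.card_le_card_of_injective f hf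
    rw [Nat.card_prod, Nat.card_prod] at h1
    have h2 : 2 ≤ Nat.card F := by
      have : Nontrivial F := inferInstance
      exact Finite.one_lt_card
    rw [hRc]
    have h3 : Nat.card F ^ 2 < Nat.card F * (Nat.card F * Nat.card F) := by
      have h4 : 0 < Nat.card F := by omega
      nlinarith [Nat.mul_pos h4 h4]
    exact lt_of_lt_of_le h3 h1
  · obtain ⟨s, -, -, h2, h3, h4⟩ := hG.swap
    exact ⟨s, h2, h3, h4⟩
  · -- key
    intro m n hm hn hmR hnR hcomm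
    have hne : ∀ a : G, cj a (R i0 j0) ≠ ⊥ := by
      intro a ha
      apply h.grid.ne i0 j0
      rw [← cj_one' (R i0 j0), ← inv_mul_cancel a, cj_mul, ha]
      exact Subgroup.smul_bot _
    obtain ⟨y, hy, hy1⟩ := (Subgroup.bot_or_exists_ne_one (cj m (R i0 j0))).resolve_left (hne m)
    obtain ⟨x, hx, hx1⟩ := (Subgroup.bot_or_exists_ne_one (cj n (R i0 j0))).resolve_left (hne n)
    have hmA : cj m (R i0 j0) ≤ colG Q j0 := by
      rw [← hm]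
      intro z hz
      rw [mem_cj] at hz ⊢
      exact rc.R_col i0 j0 hz
    have hnA : cj n (R i0 j0) ≤ rowG Q i0 := by
      rw [← hn]
      intro z hz
      rw [mem_cj] at hz ⊢
      exact rc.R_row i0 j0 hz
    have hxR : x ∉ R i0 j0 := by
      intro hxR
      apply hnR
      apply ti
      intro h0
      apply hx1
      have : x ∈ R i0 j0 ⊓ cj n (R i0 j0) := mem_inf.2 ⟨hxR, hx⟩
      rwa [h0, mem_bot] at this
    have hyR : y ∉ R i0 j0 := by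
      intro hyR
      apply hmR
      apply ti
      intro h0
      apply hy1
      have : y ∈ R i0 j0 ⊓ cj m (R i0 j0) := mem_inf.2 ⟨hyR, hy⟩
      rwa [h0, mem_bot] at this
    obtain ⟨g, g1, g2, g3, g4, g5⟩ := o.tran x (hnA hx) hxR y (hmA hy) hyR (hcomm y hy x hx).symm
    obtain ⟨a, b, hab⟩ := h.mem_V_row g4 (mem_of_cj g2 (hnA hx))
    obtain ⟨a', c, hac⟩ := h.transpose.mem_V_row g5 (mem_of_cj g3 (hmA hy))
    change g * y * g⁻¹ = v a' 0 c 0 at hac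
    have notR : ∀ z : G, z ∉ R i0 j0 → g * z * g⁻¹ ∉ R i0 j0 := by
      intro z hz h5
      apply hz
      have h6 := mem_of_cj' g1 h5
      have e : g⁻¹ * (g * z * g⁻¹) * g = z := by group
      rwa [e] at h6
    have hb : b ≠ 0 := by
      rintro rfl
      exact notR x hxR ((h.R00 _).2 ⟨a, hab⟩)
    have hc : c ≠ 0 := by
      rintro rfl
      exact notR y hyR ((h.R00 _).2 ⟨a', hac⟩)
    obtain ⟨z, hz, hz1, hz2⟩ := h.p_surj (-a' / c) (-a / b)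
    have e1 : z * v a b 0 0 * z⁻¹ = v 0 b 0 0 := by
      rw [h.act z hz, hz1, hz2]
      have : a + -a / b * b = 0 := by field_simp; ring
      rw [this]
      congr 1 <;> ring
    have e2 : z * v a' 0 c 0 * z⁻¹ = v 0 0 c 0 := by
      rw [h.act z hz, hz1, hz2]
      have : a' + -a' / c * c = 0 := by field_simp; ring
      have e3 : a' + -a / b * 0 + -a' / c * c + -a' / c * (-a / b) * 0 = 0 := by
        rw [mul_zero, mul_zero, add_zero, add_zero, this]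
      rw [e3]
      congr 1 <;> ring
    have zR : cj z (R i0 j0) = R i0 j0 := h.grid.fix_R hz
    have zA : cj z (rowG Q i0) = rowG Q i0 := cj_of_mem_normalizer (h.grid.Q_nor_row hz)
    have zB : cj z (colG Q j0) = colG Q j0 := cj_of_mem_normalizer (h.grid.transpose.Q_nor_row (i := j0) (j := i0) hz)
    set k := z * g with hk
    have kR : cj k (R i0 j0) = R i0 j0 := by rw [hk, cj_mul, g1, zR]
    have kA : cj k (rowG Q i0) = rowG Q i0 := by rw [hk, cj_mul, g2, zA]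
    have kB : cj k (colG Q j0) = colG Q j0 := by rw [hk, cj_mul, g3, zB]
    have kx : k * x * k⁻¹ = v 0 b 0 0 := by
      have e : k * x * k⁻¹ = z * (g * x * g⁻¹) * z⁻¹ := by rw [hk]; group
      rw [e, hab, e1]
    have ky : k * y * k⁻¹ = v 0 0 c 0 := by
      have e : k * y * k⁻¹ = z * (g * y * g⁻¹) * z⁻¹ := by rw [hk]; group
      rw [e, hac, e2]
    have n1 : cj (k * n) (R i0 j0) = cj w (R i0 j0) := by
      apply ti2
      intro h0
      have h5 : v 0 b 0 0 ∈ cj (k * n) (R i0 j0) ⊓ cj w (R i0 j0) := by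
        refine mem_inf.2 ⟨?_, ?_⟩
        · rw [← kx, cj_mul]
          exact conj_mem_cj hx
        · rw [w2]; exact (h.R01 _).2 ⟨b, rfl⟩
      rw [h0, mem_bot] at h5
      exact hb (h.v_inj _ _ _ _ h5).2.1
    have m1 : cj (k * m) (R i0 j0) = cj w' (R i0 j0) := by
      apply ti2
      intro h0
      have h5 : v 0 0 c 0 ∈ cj (k * m) (R i0 j0) ⊓ cj w' (R i0 j0) := by
        refine mem_inf.2 ⟨?_, ?_⟩
        · rw [← ky, cj_mul]
          exact conj_mem_cj hy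
        · rw [w2']; exact (h.R10 _).2 ⟨c, rfl⟩
      rw [h0, mem_bot] at h5
      exact hc (h.v_inj _ _ _ _ h5).2.2.1
    have n2 : cj (k * n) (colG Q j0) = cj w (colG Q j0) := by
      apply fixB _ _ n1
      rw [cj_mul, hn, kA, w3]
    have m2 : cj (k * m) (rowG Q i0) = cj w' (rowG Q i0) := by
      apply fixA _ _ m1
      rw [cj_mul, hm, kB, w3']
    -- `w'` normalises `colG Q j1`
    have w5 : cj w' (colG Q j1) = colG Q j1 := cj_of_mem_normalizer (h.grid.row_nor_col j1 hw')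
    refine ⟨k⁻¹ * (w' * w), ?_, ?_⟩
    · have h6 := congrArg (cj k⁻¹) m2
      rw [← cj_mul, inv_mul_cancel_left] at h6
      rw [h6, cj_mul k⁻¹, cj_mul w', w3]
    · have h6 := congrArg (cj k⁻¹) n2
      rw [← cj_mul, inv_mul_cancel_left] at h6
      rw [h6, cj_mul k⁻¹, cj_mul w', w4, w5]
  · exact h.sup_eq_top o gen

/-- **The contradiction.** -/
theorem false [Finite G] (o : POut V (R i0 j0) (rowG Q i0) (colG Q j0))
    (ti : ∀ g : G, R i0 j0 ⊓ cj g (R i0 j0) ≠ ⊥ → cj g (R i0 j0) = R i0 j0)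
    (gen : normalizer (R i0 j0 : Set G) ⊔ normalizer (V : Set G) = ⊤) [hs : IsSimpleGroup G] : False :=
  (h.bip o ti gen).false

end Gin0

end Cfsg.Agent.Omega.NO1.Gamma

end

end

-- merged: Cfsg.Agent.Mrg.Omega.Node.EndPlusQ
section

section


/-!
# `EndPlusQ`: type (γ) of the leaf N1 (= NO-1'), `q ≥ 4` (text: bb OMEGA #15588; cut: helper983)

* `exists_gin1` : `Cfg S P`, `PlusQ F P V` (`|F| ≥ 4`, `|V/E| ≥ 4`) give `Gamma.Gin1` (914, 198, 983); no open input;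
* `ExtPlus` : `All.NOne.Ext` for type (γ) (owner: helper869, helper647);
* `Hty` : the cores of all `P' ∈ P*(S)` with `V_{P'} ≰ Q` (owner: helper940, helper177);
* `false_of`, `endPlusQ_of` : the end is a contradiction (321: `Gin.pout`; 749: `Bip.false`; 983).
-/

set_option autoImplicit false
set_option linter.unusedSectionVars false

namespace Cfsg.Agent.Omega.NO1.EndP

open Subgroup Cfsg Cfsg.Agent.ZN Cfsg.Agent.Omega.MinPar Cfsg.Agent.Omega.Frame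
open Cfsg.Agent.Omega.NO1.Beta.Meet (cj mem_cj cj_of_mem_normalizer)
open Cfsg.Agent.Omega.NO1.BetaPlus (QQ)
open Cfsg.Agent.Omega.NO1.Gamma

universe u

section pre

variable {G : Type u} [Group G] [Finite G] {S : Sylow 2 G} {P : Subgroup G} {F : Type} [Field F] [Finite F]
  [CharP F 2]

/-- **BETA (γ) in the configuration of N1**: the grid, the coordinates and `Core`. -/
theorem exists_gin1 (h : Cfg S P) (m : PlusQ F P (zl (S : Subgroup G) P)) (h4 : 4 ≤ Nat.card F)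
    (hE : 4 ≤ (EE (S : Subgroup G) P).relIndex (zl (S : Subgroup G) P)) :
    ∃ D : PlusQ F (P ⊔ centralizer (zl (S : Subgroup G) P : Set G)) (zl (S : Subgroup G) P),
      Gin1 F S (zl (S : Subgroup G) P) (fun i j => D.R i j) (fun i j => QQ (D.R i j)) none (some 0) none (some 0)
        (fun a b c d => D.v !![a, b; c, d]) D.al D.be := by
  obtain ⟨D, hD, hR, hZ, hC, -⟩ := m.main h h4 hE
  exact ⟨D, hC.gin1 hD.meet S h.V_le_S hD.S_N (fun s hs => (hR s hs).mem_nor) hZ h4⟩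

/-- `R` is a TI subgroup. -/
theorem ti_of {T : Type*} [AddCommGroup T] [Module F T] {V R Q X : Subgroup G} {e : F → T → F → G} {N : T → F}
    {B : T → T → F} (c : All.NOne.Core (S : Subgroup G) V R Q X e N B) (hG : IsCharacteristicTwoType G)
    (hZ : zc (S : Subgroup G) ≠ ⊥) (g : G) (hg : R ⊓ cj g R ≠ ⊥) : cj g R = R := by
  obtain ⟨⟨r, hr⟩, hr1⟩ := ne_bot_iff_exists_ne_one.1 hg
  have hr1' : r ≠ 1 := fun e => hr1 (Subtype.ext e)
  obtain ⟨hrR, hrg⟩ := mem_inf.1 hr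
  rw [mem_cj] at hrg
  refine cj_of_mem_normalizer (c.ti S hG hZ hrg (fun h0 => hr1' ?_) ?_)
  · calc r = g * (g⁻¹ * r * g) * g⁻¹ := by group
      _ = 1 := by rw [h0]; group
  · have e : g * (g⁻¹ * r * g) * g⁻¹ = r := by group
    rw [e]; exact hrR

end pre

/-- **`All.NOne.Ext` for type (γ)**.  Owner: helper869 (`Pair.ext`), helper647 (`OfGamma`). -/
def ExtPlus : Prop :=
  ∀ (G : Type u) [Group G] [Finite G] (F : Type) [Field F] [Finite F] (S : Sylow 2 G) (V : Subgroup G)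
    (R Q : Option F → Option F → Subgroup G) (i0 i1 j0 j1 : Option F) (v : F → F → F → F → G) (p p' : G → F),
    Gin1 F S V R Q i0 i1 j0 j1 v p p' → IsCharacteristicTwoType G → zc (S : Subgroup G) ≠ ⊥ →
      ∃ D : Subgroup G, All.NOne.Ext (S : Subgroup G) V (R i0 j0) (Q i0 j0) D
        (fun a (b : F × F) d => v a b.1 b.2 d)

/-- **All members of `P*(S)` with `V_P ≰ Q` have a core** (`q ≥ 4`), if one of them has one.
Owner: helper940 (small types), helper177 (`minusQ`). -/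
def Hty : Prop :=
  ∀ (G : Type u) [Group G] [Finite G] (S : Sylow 2 G), Ctx G → Full (S : Subgroup G) →
    ∀ (F T : Type) [Field F] [AddCommGroup T] [Module F T] (V R Q X : Subgroup G) (e : F → T → F → G)
      (N : T → F) (B : T → T → F), All.NOne.Core (S : Subgroup G) V R Q X e N B →
      ∀ P : Subgroup G, IsParS (S : Subgroup G) P → ¬ zl (S : Subgroup G) P ≤ o2 (FrameNOFF.CZ (S : Subgroup G)) →
        ∃ (F' T' : Type) (_ : Field F') (_ : AddCommGroup T') (_ : Module F' T') (R' Q' X' : Subgroup G)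
          (e' : F' → T' → F' → G) (N' : T' → F') (B' : T' → T' → F'),
          All.NOne.Core (S : Subgroup G) (zl (S : Subgroup G) P) R' Q' X' e' N' B'

/-- **Type (γ), `q ≥ 4`, does not occur.** -/
theorem false_of (hExt : ExtPlus.{u}) (hty : Hty.{u}) {G : Type u} [Group G] [Finite G] {S : Sylow 2 G}
    {P : Subgroup G} (h : Cfg S P) {F : Type} [Field F] [Finite F] [CharP F 2] (h4 : 4 ≤ Nat.card F)
    (hE : 4 ≤ (EE (S : Subgroup G) P).relIndex (zl (S : Subgroup G) P)) (m : PlusQ F P (zl (S : Subgroup G) P)) :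
    False := by
  have hG := h.ctx.char2
  have hZ : zc (S : Subgroup G) ≠ ⊥ := MinSimple.Basic.zc_ne_bot S.isPGroup' (h.ctx.sylow_ne_bot S)
  obtain ⟨D, g1⟩ := exists_gin1 h m h4 hE
  have g0 := g1.gin0 hG hZ
  obtain ⟨E, hEx⟩ := hExt G F S _ _ _ _ _ _ _ _ _ _ g1 hG hZ
  have := h.ctx.simple
  refine g0.false g0.gin.pout (ti_of g1.core hG hZ) ?_
  exact All.NOne.sup_eq_top S g1.core hG hZ hEx
    (fun P' hP' hV => hty G S h.ctx h.full F (F × F) _ _ _ _ _ _ _ g1.core P' hP' hV) h.full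

/-- **`EndPlusQ` from its parts.** -/
theorem endPlusQ_of {K : Cls.{u}} (hExt : ExtPlus.{u}) (hty : Hty.{u}) : EndPlusQ K :=
  fun _ _ _ _ _ h _ _ _ _ _ h4 hE m => (false_of hExt hty h h4 hE m).elim

end Cfsg.Agent.Omega.NO1.EndP

end

section


/-!
# THEOREM ALL-N1: the hypothesis `hty` of `Core.par_le`, `sup_eq_top`

From (BT) (the five types), the exclusion of the small types (`Small`, `SmallTypes`, `SmallNat`) and `Core` for the
types `PlusQ` (`corePlus`: helper914, helper983) and `MinusQ` (`CoreMinus`: helper177).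

* `hty : BT → CoreMinus → EndP.Hty`;
* `Core.sup_eq_top_of` : `G = ⟨N_G(R), N_G(V)⟩`.
-/

set_option autoImplicit false
set_option linter.unusedSectionVars false

namespace Cfsg.Agent.Omega.All.NOne

open Subgroup Cfsg Cfsg.Agent.ZN Cfsg.Agent.Omega.MinPar Cfsg.Agent.Omega.Frame
open Cfsg.Agent.Omega.FrameNOFF (CZ)

universe u

variable {G : Type u} [Group G]

/-- `W` is of BETA level: `Core` for some data. -/
def HasCore (S W : Subgroup G) : Prop :=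
  ∃ (F' T' : Type) (_ : Field F') (_ : AddCommGroup T') (_ : Module F' T') (R' Q' X' : Subgroup G)
    (e' : F' → T' → F' → G) (N' : T' → F') (B' : T' → T' → F'), Core S W R' Q' X' e' N' B'

/-- `MinusQ` gives `Core`.  Owner: helper177 (`GIn → Two → Core`). -/
def CoreMinus : Prop :=
  ∀ (G : Type u) [Group G] [Finite G] (S : Sylow 2 G) (P : Subgroup G), NO1.Cfg S P →
    ∀ (K : Type) [Field K] [Finite K] [CharP K 2] (σ : K ≃+* K), σ ≠ RingEquiv.refl K → (∀ x, σ (σ x) = x) →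
      16 ≤ Nat.card K → NO1.MinusQ K σ P (zl (S : Subgroup G) P) →
        HasCore (S : Subgroup G) (zl (S : Subgroup G) P)

variable [Finite G]

/-- Type `PlusQ`: helper914's coordinates, helper983's `PlusQ.Cx.core`. -/
theorem corePlus {S : Sylow 2 G} {P : Subgroup G} (h : NO1.Cfg S P) {F : Type} [Field F] [Finite F] [CharP F 2]
    (h4 : 4 ≤ Nat.card F) (hE : 4 ≤ (NO1.EE (S : Subgroup G) P).relIndex (zl (S : Subgroup G) P))
    (m : NO1.PlusQ F P (zl (S : Subgroup G) P)) : HasCore (S : Subgroup G) (zl (S : Subgroup G) P) := by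
  obtain ⟨D, g1⟩ := NO1.EndP.exists_gin1 h m h4 hE
  exact ⟨F, F × F, _, _, _, _, _, _, _, _, _, g1.core⟩

/-- **`hty`.** -/
theorem Core.hty_of {F T : Type*} [Field F] [AddCommGroup T] [Module F T]
    {V R Q X : Subgroup G} {e : F → T → F → G} {N : T → F} {B : T → T → F}
    (S : Sylow 2 G) (h : Core (S : Subgroup G) V R Q X e N B) (hctx : Ctx G) (hF : Full (S : Subgroup G))
    (hBT : NO1.BT.{u}) (cM : CoreMinus.{u}) (P : Subgroup G) (hP : IsParS (S : Subgroup G) P)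
    (hV : ¬ zl (S : Subgroup G) P ≤ o2 (CZ (S : Subgroup G))) :
    HasCore (S : Subgroup G) (zl (S : Subgroup G) P) := by
  have hZ : zc (S : Subgroup G) ≠ ⊥ := ZN.zc_ne_bot S.isPGroup' (hctx.sylow_ne_bot S)
  have hG := hctx.char2
  have hVQ : ¬ zl (S : Subgroup G) P ≤ Q := by rwa [h.o2_CZ S hG hZ] at hV
  have hC := NO1.Cfg.of hctx hF hP hV
  rcases hBT G S P hC with ⟨z, hz⟩ | ⟨z, hz⟩ | hn | ⟨K, σ, ha, hb, hc, ⟨M⟩⟩ | ⟨K, hc, hE, ⟨M⟩⟩
  · exact (h.not_minus2 S hG hZ hP hz hVQ).elim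
  · exact (h.not_plus2 S hG hZ hP hz hVQ).elim
  · exact (h.not_nat4 S hG hZ hP hn hVQ).elim
  · exact cM G S P hC K σ ha hb hc M
  · exact corePlus hC hc hE M

/-- **THEOREM ALL-N1 for the frame**: `G = ⟨N_G(R), N_G(V)⟩`, inputs (BT), `Core` for `MinusQ`, and `Ext`. -/
theorem Core.sup_eq_top_of {F T : Type*} [Field F] [AddCommGroup T] [Module F T]
    {V R Q X D : Subgroup G} {e : F → T → F → G} {N : T → F} {B : T → T → F}
    (S : Sylow 2 G) (h : Core (S : Subgroup G) V R Q X e N B) (E : Ext (S : Subgroup G) V R Q D e) (hctx : Ctx G)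
    (hF : Full (S : Subgroup G)) (hBT : NO1.BT.{u}) (cM : CoreMinus.{u}) :
    normalizer (R : Set G) ⊔ normalizer (V : Set G) = ⊤ :=
  sup_eq_top S h hctx.char2 (ZN.zc_ne_bot S.isPGroup' (hctx.sylow_ne_bot S)) E
    (fun P hP hV => h.hty_of S hctx hF hBT cM P hP hV) hF

/-- **`EndP.Hty`** from (BT) and `Core` for `MinusQ`. -/
theorem hty (hBT : NO1.BT.{u}) (cM : CoreMinus.{u}) : NO1.EndP.Hty.{u} :=
  fun _ _ _ S hctx hF _ _ _ _ _ _ _ _ _ _ _ _ h P hP hV => h.hty_of S hctx hF hBT cM P hP hV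

end Cfsg.Agent.Omega.All.NOne

end

section


/-!
# `ExtPlus`, and `EndPlusQ` from `Hty` (type (γ) of the leaf N1)
-/

set_option autoImplicit false

namespace Cfsg.Agent.Omega.NO1.EndP

open Cfsg Cfsg.Agent.Omega.Frame Cfsg.Agent.ZN Cfsg.Agent.Omega.MinPar

universe u

/-- **`ExtPlus`.** -/
theorem extPlus : ExtPlus.{u} :=
  fun _ _ _ _ _ _ _ _ _ _ _ _ _ _ _ _ _ h hG hZ => ⟨_, h.ext hG hZ⟩

/-- **`EndPlusQ` from `Hty`.** -/
theorem endPlusQ_of_hty {K : Cls.{u}} (hty : Hty.{u}) : EndPlusQ K :=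
  endPlusQ_of extPlus hty

end Cfsg.Agent.Omega.NO1.EndP

end

section


/-!
# `EndPlusQ` from (BT) and `CoreMinus` (type (γ) of the leaf N1; helper983)
-/

set_option autoImplicit false

namespace Cfsg.Agent.Omega.NO1.EndP

open Cfsg Cfsg.Agent.Omega.Frame

universe u

/-- **`EndPlusQ`** from (BT) (the five types) and `CoreMinus` (coordinates of type (β)). -/
theorem endPlusQ_of_bt {K : Cls.{u}} (hBT : BT.{u}) (cM : All.NOne.CoreMinus.{u}) : EndPlusQ K :=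
  endPlusQ_of_hty (All.NOne.hty hBT cM)

end Cfsg.Agent.Omega.NO1.EndP

end

end
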