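import Cfsg.Agent.Mrg.Omega.SQEnd.E
import Cfsg.Agent.Mrg.Omega.SQEnd.ExcOf
import Cfsg.Agent.Mrg.Omega.GTwoFour.Pos
import Cfsg.Agent.Mrg.Omega.BTwo.Conj
import Cfsg.Agent.HexGlob.FinalS
import Cfsg.Prelude.Def_Classification2
import Cfsg.Agent.HexRec.Instances
import Cfsg.Agent.Mrg.Omega.SQEnd.GZeroOf
import Cfsg.Agent.Mrg.Omega.IIa4.Lay
import Cfsg.Agent.HexGlob.GlobFrame
import Cfsg.Agent.StrongEmb.Main
import Cfsg.Agent.Mrg.Omega.Lie.End.Real
import Cfsg.Agent.Mrg.Omega.Lie.End.ExcDead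
import Cfsg.Agent.Mrg.Omega.Lie.KRowsPlug
import Cfsg.Agent.Mrg.Omega.Lie.End.RSNode
import Cfsg.Agent.Mrg.Omega.Lie.Nodes.Res0Mov
import Cfsg.Agent.Mrg.Omega.Lie.End.ZeroLone
import Cfsg.Agent.Mrg.Omega.Lie.Nodes.AptR
import Cfsg.Agent.Mrg.Omega.HOne.EndRes0
import Cfsg.Agent.Mrg.Omega.Lie.Nodes.NodeMult
import Cfsg.Agent.Mrg.Omega.Lie.End.Gam
import Cfsg.Agent.Mrg.Omega.Lie.End.RowFE

-- merged: Cfsg.Agent.Mrg.Omega.SQEnd.PLocOf
section

/-!
# `PLoc` and `CfgI` from `BTC`, `Coord`, `KD`, `C(W) ≤ R`, a Sylow 2-subgroup of `N(R)` in `N(V)`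
-/

set_option autoImplicit false

universe u v w z

namespace Cfsg.Agent.Omega.SQEnd

open Subgroup Cfsg.Agent.Omega.BTwo Cfsg.Agent.Lib.SL2Mat Cfsg.Agent.Omega.Hex

variable {G : Type u} [Group G] [Finite G] {ι : Type v} {V : Subgroup G} {R : ι → Subgroup G} {i j : ι} {k : Type w}
  [Field k] {K : Subgroup G} {φ : K →* Matrix.SpecialLinearGroup (Fin 2) k} {F : Type z} [Field F] [Finite F]
  [CharP F 2] {v : F → F → G} {w1 w2 : F → G}

/-- **`PLoc` from `KD`**, no hypothesis `NA` -/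
theorem ploc_of (b : BTC V R) (c : Coord V R i j v w1 w2) (kd : KD V R i j K φ)
    (hC : centralizer (WW V (R i) : Set G) ≤ R i) (hF : 4 ≤ Nat.card F)
    (hS : Odd ((normalizer (V : Set G) ⊓ normalizer (R i : Set G)).relIndex (normalizer (R i : Set G)))) :
    PLoc V R i K (Nat.card k) ∧ 4 ≤ Nat.card k :=
  have h := NAe b hC c kd hF hS
  ⟨ploc b c kd hC h hF, four_le_card b c kd h hF⟩

end Cfsg.Agent.Omega.SQEnd

end

-- merged: Cfsg.Agent.Mrg.Omega.GTwoFour.Long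
section

section


/-!
# The pair of type `G₂(4)`: `|O₂(C(z))| ≥ 256` for a long root involution `z`
-/

set_option autoImplicit false

namespace Cfsg.Agent.Omega.GTwoFour

open Cfsg.Agent.HexRec Subgroup Cfsg.Agent.Omega.GTwoFour.Cor Cfsg

universe u v

variable {F : Type v} [Field F] {G : Type u} [Group G] {X : Tup F F → G} {f : G} {ja jb : G}

/-- the action of `x1(t)` on `Q2` -/
def aA (t : F) (a : Tup F F) : Tup F F :=
  ⟨0, a.a2 + a.a6 * t ^ 3 + t * a.a3 + t ^ 2 * a.a5, a.a3 + a.a6 * t ^ 2,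
    a.a4 + a.a6 ^ 2 * t ^ 3 + t * a.a5 ^ 2 + a.a6 * t ^ 2 * a.a5, a.a5 + a.a6 * t, a.a6⟩

/-- the action of `ja` on `Q2` -/
def jA (a : Tup F F) : Tup F F := ⟨0, a.a6, a.a5, a.a4 + a.a2 * a.a6 + a.a3 * a.a5, a.a3, a.a2⟩

/-- the action of `x1(t) x1(t)^{ja}` on `Q2` -/
def gA (t : F) (a : Tup F F) : Tup F F := aA t (jA (aA t (jA a)))

theorem gA_one (hF : Nat.card F = 4) : gA 1 ⟨0, 0, 0, 0, 0, 1⟩ = (⟨0, 1, 1, 1, 1, 1⟩ : Tup F F) ∧
    gA 1 ⟨0, 1, 1, 1, 1, 1⟩ = (⟨0, 1, 0, 0, 0, 0⟩ : Tup F F) ∧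
    gA 1 ⟨0, 1, 0, 0, 0, 0⟩ = (⟨0, 0, 0, 0, 0, 1⟩ : Tup F F) := by
  have h2 := two hF
  refine ⟨?_, ?_, ?_⟩ <;> ext <;> simp only [gA, aA, jA] <;> grind

theorem gA_w (hF : Nat.card F = 4) {t : F} (ht : t ^ 2 + t + 1 = 0) :
    gA t ⟨0, 0, 0, 0, 0, 1⟩ = (⟨0, 1, t ^ 2, 1, t, 1⟩ : Tup F F) ∧
    gA t ⟨0, 1, t ^ 2, 1, t, 1⟩ = (⟨0, 1, t, 1, t ^ 2, 1⟩ : Tup F F) ∧
    gA t ⟨0, 1, t, 1, t ^ 2, 1⟩ = (⟨0, 1, 0, 0, 0, 0⟩ : Tup F F) ∧
    gA t ⟨0, 1, 0, 0, 0, 0⟩ = (⟨0, 1, 1, 1, 1, 1⟩ : Tup F F) ∧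
    gA t ⟨0, 1, 1, 1, 1, 1⟩ = (⟨0, 0, 0, 0, 0, 1⟩ : Tup F F) := by
  have h2 := two hF
  have h3 : t ^ 3 = 1 := by linear_combination (t - 1) * ht
  have h4 : t ^ 2 = t + 1 := by linear_combination ht - (t + 1) * h2
  refine ⟨?_, ?_, ?_, ?_, ?_⟩ <;> ext <;> simp only [gA, aA, jA] <;> grind

namespace Dat

variable (h : Dat X f ja jb)
include h

theorem z_sq : X (e4 1) * X (e4 1) = 1 := by
  have h2 := two h.card
  rw [h.mul, ← h.X_one]
  congr 1
  ext <;> simp only [mu, e4, one0] <;> grind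

theorem z_ne : X (e4 1) ≠ 1 := by
  intro hc
  have h1 := congrArg Tup.a4 (h.eq_one hc)
  simp only [e4, one0] at h1
  exact one_ne_zero h1

/-- `x4` is central in `T` -/
theorem e4_cen (a : Tup F F) (s : F) : X a * X (e4 s) = X (e4 s) * X a := by
  rw [h.mul, h.mul]
  congr 1
  ext <;> simp only [mu, e4] <;> ring

theorem S0_cen {g : G} (hg : g ∈ h.S0) : g * X (e4 1) = X (e4 1) * g := by
  have key : ∀ x ∈ h.T, x * X (e4 1) = X (e4 1) * x := by
    rintro _ ⟨a, rfl⟩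
    exact h.e4_cen a 1
  rcases hg with hg | hg
  · exact key g hg
  · have h1 := key _ hg
    have h3 : f * X (e4 1) = X (e4 1) * f := by
      rw [h.comm_iff]
      ext <;> simp only [fr, e4] <;> ring
    have h4 : f * (g * X (e4 1)) = f * (X (e4 1) * g) := by
      rw [← mul_assoc, h1, ← mul_assoc, ← mul_assoc, h3]
    exact mul_left_cancel h4

theorem J_cen : ja * X (e4 1) = X (e4 1) * ja := by
  have := h.cA 0 0 1 0 0
  rw [mul_inv_eq_iff_eq_mul] at this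
  simpa [e4] using this

/-- `{a1 = 0}` -/
def Q2 : Subgroup G where
  carrier := {g | ∃ a : Tup F F, a.a1 = 0 ∧ g = X a}
  one_mem' := ⟨one0, rfl, h.X_one.symm⟩
  mul_mem' := by
    rintro _ _ ⟨a, ha, rfl⟩ ⟨b, hb, rfl⟩
    exact ⟨mu a b, by simp [mu, ha, hb], h.mul a b⟩
  inv_mem' := by
    rintro _ ⟨a, ha, rfl⟩
    exact ⟨iv a, ha, h.inv a⟩

theorem Q2_le : h.Q2 ≤ h.T := by
  rintro _ ⟨a, _, rfl⟩
  exact h.X_mem a

theorem Q2_J {q : G} (hq : q ∈ h.Q2) : ja * q * (ja)⁻¹ ∈ h.Q2 := by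
  obtain ⟨⟨a1, a2, a3, a4, a5, a6⟩, ha, rfl⟩ := hq
  simp only at ha
  subst ha
  exact ⟨_, rfl, h.cA _ _ _ _ _⟩

theorem Q2_up (t : F) {q : G} (hq : q ∈ h.Q2) : X (e1 t) * q * (X (e1 t))⁻¹ ∈ h.Q2 := by
  obtain ⟨⟨a1, a2, a3, a4, a5, a6⟩, ha, rfl⟩ := hq
  simp only at ha
  subst ha
  exact ⟨_, rfl, h.cj1 _ _ _ _ _ _⟩

/-- the centre of `Q2` -/
def Z4 : Subgroup G where
  carrier := {g | ∃ s : F, g = X (e4 s)}
  one_mem' := ⟨0, h.X_one.symm⟩
  mul_mem' := by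
    rintro _ _ ⟨a, rfl⟩ ⟨b, rfl⟩
    refine ⟨a + b, ?_⟩
    rw [h.mul]
    congr 1
    ext <;> simp only [mu, e4] <;> ring
  inv_mem' := by
    rintro _ ⟨a, rfl⟩
    refine ⟨a, ?_⟩
    rw [h.inv]
    congr 1
    ext <;> simp only [iv, e4] <;> ring

theorem mem_Z4 {g : G} : g ∈ h.Z4 ↔ ∃ s : F, g = X (e4 s) := Iff.rfl

variable [Finite G] (S : Sylow 2 G) (hS : (S : Subgroup G) = h.S0)
include hS

theorem N_le : R (X (e4 1)) ≤ h.S0 := by
  have h1 : h.S0 ≤ normalizer (R (X (e4 1)) : Set G) := fun p hp => Cfsg.Agent.MinSimple.VModule.le_normalizer_o2 _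
    (mem_centralizer_singleton_iff.mpr (h.S0_cen hp))
  have h2 : IsPGroup 2 (R (X (e4 1)) ⊔ h.S0 : Subgroup G) :=
    (R_two _).to_sup_of_normal_left' h.two_S0 h1
  have h3 : R (X (e4 1)) ⊔ h.S0 = S := S.is_maximal' h2 (by rw [hS]; exact le_sup_right)
  rw [← hS, ← h3]
  exact le_sup_left

/-- no element of `N` has `a1 ≠ 0` -/
theorem N_a1 {a : Tup F F} (ha : X a ∈ R (X (e4 1))) : a.a1 = 0 := by
  by_contra ht
  have h2 := two h.card
  obtain ⟨a1, a2, a3, a4, a5, a6⟩ := a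
  simp only at ht
  set N := R (X (e4 1)) with hN
  have hQ : h.Q2 ≤ normalizer (N : Set G) := fun p hp => Cfsg.Agent.MinSimple.VModule.le_normalizer_o2 _
    (mem_centralizer_singleton_iff.mpr (h.S0_cen (h.T_le_S0 (h.Q2_le hp))))
  have hW : IsPGroup 2 (N ⊔ h.Q2 : Subgroup G) :=
    (R_two _).to_sup_of_normal_left' (h.two_T.to_le h.Q2_le) hQ
  have hJ : ∀ x ∈ N ⊔ h.Q2, ja * x * ja⁻¹ ∈ N ⊔ h.Q2 := by
    have h3 : N ⊔ h.Q2 ≤ (N ⊔ h.Q2).comap (MulAut.conj ja).toMonoidHom := by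
      refine sup_le ?_ ?_
      · intro n hn
        exact mem_sup_left (R_norm h.J_cen hn)
      · intro q hq
        exact mem_sup_right (h.Q2_J hq)
    intro x hx
    exact h3 hx
  have h3 : X (e1 a1) ∈ N ⊔ h.Q2 := by
    have h4 : X (e1 a1) * X ⟨0, a2, a3, a4, a5, a6⟩ ∈ N ⊔ h.Q2 → X (e1 a1) ∈ N ⊔ h.Q2 := by
      intro h5
      have h6 := mul_mem h5 (inv_mem (mem_sup_right (S := N) (T := h.Q2) ⟨⟨0, a2, a3, a4, a5, a6⟩, rfl, rfl⟩))
      rwa [mul_inv_cancel_right] at h6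
    apply h4
    rw [h.mul]
    convert mem_sup_left (S := N) (T := h.Q2) ha using 2
    ext <;> simp only [mu, e1] <;> ring
  set g := X (e1 a1) * (ja * X (e1 a1) * ja⁻¹) with hg
  have hgN : g ∈ N ⊔ h.Q2 := mul_mem h3 (hJ _ h3)
  have hgc : ∀ b : Tup F F, b.a1 = 0 → g * X b * g⁻¹ = X (gA a1 b) := by
    rintro ⟨b1, b2, b3, b4, b5, b6⟩ hb
    simp only at hb
    subst hb
    have k1 := h.cA' b2 b3 b4 b5 b6
    have k2 := h.cj1 a1 b6 b5 (b4 + b2 * b6 + b3 * b5) b3 b2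
    have k3 := h.cA (b6 + b2 * a1 ^ 3 + a1 * b5 + a1 ^ 2 * b3) (b5 + b2 * a1 ^ 2)
      (b4 + b2 * b6 + b3 * b5 + b2 ^ 2 * a1 ^ 3 + a1 * b3 ^ 2 + b2 * a1 ^ 2 * b3) (b3 + b2 * a1) b2
    have k4 := h.cj1 a1 b2 (b3 + b2 * a1)
      (b4 + b2 * b6 + b3 * b5 + b2 ^ 2 * a1 ^ 3 + a1 * b3 ^ 2 + b2 * a1 ^ 2 * b3 +
        (b6 + b2 * a1 ^ 3 + a1 * b5 + a1 ^ 2 * b3) * b2 + (b5 + b2 * a1 ^ 2) * (b3 + b2 * a1))
      (b5 + b2 * a1 ^ 2) (b6 + b2 * a1 ^ 3 + a1 * b5 + a1 ^ 2 * b3)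
    change _ = X ⟨0, _, _, _, _, _⟩
    simp only [aA, jA]
    rw [← k4, ← k3, ← k2, ← k1, hg]
    group
  have hp : ∀ m : ℕ, Odd m → g ^ m * X ⟨0, 0, 0, 0, 0, 1⟩ = X ⟨0, 0, 0, 0, 0, 1⟩ * g ^ m →
      g * X ⟨0, 0, 0, 0, 0, 1⟩ * g⁻¹ = X ⟨0, 0, 0, 0, 0, 1⟩ := by
    intro m hm hgm
    have k5 := mem_centralizer_singleton_iff.mp
      (mem_of_odd hW hgN hm (H := centralizer ({X ⟨0, 0, 0, 0, 0, 1⟩} : Set G))
        (mem_centralizer_singleton_iff.mpr hgm))
    rw [k5, mul_inv_cancel_right]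
  have h3' := cube h.card ht
  have h4 : (a1 - 1) * (a1 ^ 2 + a1 + 1) = 0 := by linear_combination h3'
  rcases mul_eq_zero.mp h4 with h5 | h5
  · have h6 : a1 = 1 := sub_eq_zero.mp h5
    rw [h6] at hgc
    obtain ⟨k1, k2, k3⟩ := gA_one h.card
    have c1 := hgc _ (rfl : (⟨0, 0, 0, 0, 0, 1⟩ : Tup F F).a1 = 0)
    have c2 := hgc _ (rfl : (⟨0, 1, 1, 1, 1, 1⟩ : Tup F F).a1 = 0)
    have c3 := hgc _ (rfl : (⟨0, 1, 0, 0, 0, 0⟩ : Tup F F).a1 = 0)
    rw [k1] at c1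
    rw [k2] at c2
    rw [k3] at c3
    have c4 := hp 3 (by decide) (conj_three c1 c2 c3)
    rw [c1] at c4
    have c5 := congrArg Tup.a2 (h.inj c4)
    simp only at c5
    exact one_ne_zero c5
  · obtain ⟨k1, k2, k3, k4, k5⟩ := gA_w h.card h5
    have c1 := hgc _ (rfl : (⟨0, 0, 0, 0, 0, 1⟩ : Tup F F).a1 = 0)
    have c2 := hgc _ (rfl : (⟨0, 1, a1 ^ 2, 1, a1, 1⟩ : Tup F F).a1 = 0)
    have c3 := hgc _ (rfl : (⟨0, 1, a1, 1, a1 ^ 2, 1⟩ : Tup F F).a1 = 0)
    have c4 := hgc _ (rfl : (⟨0, 1, 0, 0, 0, 0⟩ : Tup F F).a1 = 0)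
    have c5 := hgc _ (rfl : (⟨0, 1, 1, 1, 1, 1⟩ : Tup F F).a1 = 0)
    rw [k1] at c1
    rw [k2] at c2
    rw [k3] at c3
    rw [k4] at c4
    rw [k5] at c5
    have c6 := hp 5 (by decide) (conj_five c1 c2 c3 c4 c5)
    rw [c1] at c6
    have c7 := congrArg Tup.a2 (h.inj c6)
    simp only at c7
    exact one_ne_zero c7

theorem N_le_Q2 : R (X (e4 1)) ≤ h.Q2 := by
  intro n hn
  rcases h.N_le S hS hn with h1 | h1
  · obtain ⟨a, rfl⟩ := h1
    exact ⟨a, h.N_a1 S hS hn, rfl⟩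
  · exfalso
    obtain ⟨a, ha⟩ := h1
    obtain ⟨w, hw⟩ := exists_w h.card
    have h2 := two h.card
    have hn' : n = f * X a := by rw [← ha, ← mul_assoc, h.ff, one_mul]
    have h3 := mul_mem (R_norm (h.e4_cen (e1 w) 1) hn) (inv_mem hn)
    have h4 : X (e1 w) * n * (X (e1 w))⁻¹ * n⁻¹ =
        X (fr (mu (mu (mu (fr (e1 w)) a) (iv (e1 w))) (iv a))) := by
      rw [← h.fX, ← h.mul, ← h.mul, ← h.mul, ← h.inv, ← h.inv, hn', ← mul_assoc (X (e1 w)), h.Xf, mul_inv_rev,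
        h.f_inv]
      group
    rw [h4] at h3
    have h5 := h.N_a1 S hS h3
    simp only [fr, mu, e1, iv] at h5
    have h6 : (1 : F) = 0 := by grind
    exact one_ne_zero h6

theorem Z4_le (hG : IsCharacteristicTwoType G) : h.Z4 ≤ R (X (e4 1)) := by
  have h2 := two h.card
  by_cases hc : R (X (e4 1)) ≤ h.Z4
  · exfalso
    have h3 : X (e1 1) ∈ R (X (e4 1)) := by
      refine R_self hG h.z_sq h.z_ne (h.e4_cen _ _) ?_
      intro r hr
      obtain ⟨s, rfl⟩ := hc hr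
      exact h.e4_cen _ _
    have h4 := h.N_a1 S hS h3
    simp only [e1] at h4
    exact one_ne_zero h4
  · obtain ⟨n, hn, hn2⟩ := SetLike.not_le_iff_exists.mp hc
    obtain ⟨⟨a1, a2, a3, a4, a5, a6⟩, ha, rfl⟩ := h.N_le_Q2 S hS hn
    simp only at ha
    subst ha
    rintro _ ⟨s, rfl⟩
    have hcm : ∀ d e : Tup F F, X d * X ⟨0, a2, a3, a4, a5, a6⟩ * (X d)⁻¹ = X e →
        mu e (iv ⟨0, a2, a3, a4, a5, a6⟩) = e4 s → X (e4 s) ∈ R (X (e4 1)) := by
      intro d e he1 he2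
      have h3 := mul_mem (R_norm (h.e4_cen d 1) hn) (inv_mem hn)
      rwa [he1, h.inv, h.mul, he2] at h3
    by_cases k2 : a2 = 0
    · by_cases k3 : a3 = 0
      · by_cases k5 : a5 = 0
        · by_cases k6 : a6 = 0
          · exfalso
            subst k2 k3 k5 k6
            exact hn2 ⟨a4, rfl⟩
          · obtain ⟨r, hr⟩ : ∃ r : F, r * a6 = s := ⟨_, div_mul_cancel₀ _ k6⟩
            refine hcm _ _ (h.cj2 r _ _ _ _ _ _) ?_
            ext <;> simp only [mu, iv, e4] <;> grind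
        · obtain ⟨r, hr⟩ : ∃ r : F, r * a5 = s := ⟨_, div_mul_cancel₀ _ k5⟩
          refine hcm _ _ (h.cj3 r _ _ _ _ _ _) ?_
          ext <;> simp only [mu, iv, e4] <;> grind
      · obtain ⟨r, hr⟩ : ∃ r : F, r * a3 = s := ⟨_, div_mul_cancel₀ _ k3⟩
        refine hcm _ _ (h.cj5 r _ _ _ _ _ _) ?_
        ext <;> simp only [mu, iv, e4] <;> grind
    · obtain ⟨r, hr⟩ : ∃ r : F, r * a2 = s := ⟨_, div_mul_cancel₀ _ k2⟩
      refine hcm _ _ (h.cj6 r _ _ _ _ _ _) ?_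
      ext <;> simp only [mu, iv, e4] <;> grind

/-- the centre of `N` lies in `Z4` -/
theorem cen_le {n : G} (hn : n ∈ R (X (e4 1))) (hc : ∀ m ∈ R (X (e4 1)), n * m = m * n) : n ∈ h.Z4 := by
  have h2 := two h.card
  -- closure properties of the centre
  let P : G → Prop := fun x => x ∈ R (X (e4 1)) ∧ ∀ m ∈ R (X (e4 1)), x * m = m * x
  have hPc : ∀ g x, g * X (e4 1) = X (e4 1) * g → P x → P (g * x * g⁻¹) := by
    intro g x hg ⟨hx1, hx2⟩
    refine ⟨R_norm hg hx1, fun m hm => ?_⟩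
    have h3 : g⁻¹ * X (e4 1) = X (e4 1) * g⁻¹ := by
      rw [inv_mul_eq_iff_eq_mul, ← mul_assoc, hg, mul_inv_cancel_right]
    have h4 := hx2 _ (R_norm h3 hm)
    rw [inv_inv] at h4
    calc g * x * g⁻¹ * m = g * (x * (g⁻¹ * m * g)) * g⁻¹ := by group
      _ = g * ((g⁻¹ * m * g) * x) * g⁻¹ := by rw [h4]
      _ = _ := by group
  have hPm : ∀ x y, P x → P y → P (x * y) := by
    intro x y ⟨hx1, hx2⟩ ⟨hy1, hy2⟩
    refine ⟨mul_mem hx1 hy1, fun m hm => ?_⟩
    rw [mul_assoc, hy2 m hm, ← mul_assoc, hx2 m hm, mul_assoc]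
  have hPi : ∀ x, P x → P x⁻¹ := by
    intro x ⟨hx1, hx2⟩
    refine ⟨inv_mem hx1, fun m hm => ?_⟩
    rw [inv_mul_eq_iff_eq_mul, ← mul_assoc, hx2 m hm, mul_inv_cancel_right]
  have hcm : ∀ (t : F) (a e : Tup F F), P (X a) → X (e1 t) * X a * (X (e1 t))⁻¹ = X e →
      P (X (mu e (iv a))) := by
    intro t a e ha he
    have h3 := hPm _ _ (hPc _ _ (h.e4_cen (e1 t) 1) ha) (hPi _ ha)
    rwa [he, h.inv, h.mul] at h3
  -- the bad element
  have key : ∀ c2 c4 : F, c2 ≠ 0 → ¬ P (X ⟨0, c2, 0, c4, 0, 0⟩) := by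
    intro c2 c4 hc2 hP
    have h3 := hPc _ _ h.J_cen hP
    rw [h.cA] at h3
    have h4 := hP.2 _ h3.1
    rw [h.mul, h.mul] at h4
    have h5 := congrArg Tup.a4 (h.inj h4)
    simp only [mu] at h5
    apply hc2
    have h6 : c2 ^ 2 = 0 := by grind
    exact (pow_eq_zero_iff two_ne_zero).mp h6
  by_contra hn2
  obtain ⟨⟨a1, a2, a3, a4, a5, a6⟩, ha, rfl⟩ := h.N_le_Q2 S hS hn
  simp only at ha
  subst ha
  have k6 : ∀ c2 c3 c4 c5 : F, ¬ (c2 = 0 ∧ c3 = 0 ∧ c5 = 0) → ¬ P (X ⟨0, c2, c3, c4, c5, 0⟩) := by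
    intro c2 c3 c4 c5 hne hP
    by_cases k5 : c5 = 0
    · subst k5
      by_cases k3 : c3 = 0
      · subst k3
        exact key c2 c4 (fun hc' => hne ⟨hc', rfl, rfl⟩) hP
      · have h3 := hcm 1 _ _ hP (h.cj1 _ _ _ _ _ _)
        refine key c3 0 k3 ?_
        convert h3 using 2
        ext <;> simp only [mu, iv] <;> grind
    · obtain ⟨t, ht⟩ : ∃ t : F, t * c3 + t ^ 2 * c5 ≠ 0 := by
        by_contra hcon
        push Not at hcon
        obtain ⟨w, hw⟩ := exists_w h.card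
        have q1 := hcon 1
        have q2 := hcon w
        apply k5
        have q3 : c3 = c5 := by grind
        subst q3
        have q4 : w ^ 2 + w = 1 := by grind
        linear_combination q2 - c3 * q4
      have h3 := hcm t _ _ hP (h.cj1 _ _ _ _ _ _)
      refine key (t * c3 + t ^ 2 * c5) (t * c5 ^ 2) ht ?_
      convert h3 using 2
      ext <;> simp only [mu, iv] <;> grind
  by_cases k6' : a6 = 0
  · subst k6'
    refine k6 a2 a3 a4 a5 ?_ ⟨hn, hc⟩
    rintro ⟨rfl, rfl, rfl⟩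
    exact hn2 ⟨a4, rfl⟩
  · have h3 := hcm 1 _ _ ⟨hn, hc⟩ (h.cj1 _ _ _ _ _ _)
    have h4 : mu ⟨0, a2 + a6 * 1 ^ 3 + 1 * a3 + 1 ^ 2 * a5, a3 + a6 * 1 ^ 2,
      a4 + a6 ^ 2 * 1 ^ 3 + 1 * a5 ^ 2 + a6 * 1 ^ 2 * a5, a5 + a6 * 1, a6⟩ (iv ⟨0, a2, a3, a4, a5, a6⟩) =
      ⟨0, (mu ⟨0, a2 + a6 * 1 ^ 3 + 1 * a3 + 1 ^ 2 * a5, a3 + a6 * 1 ^ 2,
      a4 + a6 ^ 2 * 1 ^ 3 + 1 * a5 ^ 2 + a6 * 1 ^ 2 * a5, a5 + a6 * 1, a6⟩ (iv ⟨0, a2, a3, a4, a5, a6⟩)).a2,
      (mu ⟨0, a2 + a6 * 1 ^ 3 + 1 * a3 + 1 ^ 2 * a5, a3 + a6 * 1 ^ 2,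
      a4 + a6 ^ 2 * 1 ^ 3 + 1 * a5 ^ 2 + a6 * 1 ^ 2 * a5, a5 + a6 * 1, a6⟩ (iv ⟨0, a2, a3, a4, a5, a6⟩)).a3,
      (mu ⟨0, a2 + a6 * 1 ^ 3 + 1 * a3 + 1 ^ 2 * a5, a3 + a6 * 1 ^ 2,
      a4 + a6 ^ 2 * 1 ^ 3 + 1 * a5 ^ 2 + a6 * 1 ^ 2 * a5, a5 + a6 * 1, a6⟩ (iv ⟨0, a2, a3, a4, a5, a6⟩)).a4,
      a6, 0⟩ := by
      ext <;> simp only [mu, iv] <;> grind
    rw [h4] at h3
    exact k6 _ _ _ _ (fun hc' => k6' hc'.2.2) h3

end Dat

end Cfsg.Agent.Omega.GTwoFour

end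

section


/-!
# The pair of type `G₂(4)`: `O₂(C(z)) = Q2`
-/

set_option autoImplicit false

namespace Cfsg.Agent.Omega.GTwoFour

open Cfsg.Agent.HexRec Subgroup Cfsg.Agent.Omega.GTwoFour.Cor Cfsg

universe u v

variable {F : Type v} [Field F] {G : Type u} [Group G] {X : Tup F F → G} {f : G} {ja jb : G}

namespace Dat

variable (h : Dat X f ja jb)
include h
variable [Finite G] (S : Sylow 2 G) (hS : (S : Subgroup G) = h.S0)
include hS

/-- `Z4` is normalised by `C(z)` -/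
theorem Z4_norm (hG : IsCharacteristicTwoType G) {g x : G} (hg : g * X (e4 1) = X (e4 1) * g)
    (hx : x ∈ h.Z4) : g * x * g⁻¹ ∈ h.Z4 := by
  have h1 := h.Z4_le S hS hG hx
  have h2 : ∀ m ∈ R (X (e4 1)), x * m = m * x := by
    intro m hm
    obtain ⟨s, rfl⟩ := hx
    obtain ⟨a, -, rfl⟩ := h.N_le_Q2 S hS hm
    exact (h.e4_cen a s).symm
  refine h.cen_le S hS (R_norm hg h1) fun m hm => ?_
  have h3 : g⁻¹ * X (e4 1) = X (e4 1) * g⁻¹ := by
    rw [inv_mul_eq_iff_eq_mul, ← mul_assoc, hg, mul_inv_cancel_right]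
  have h4 := h2 _ (R_norm h3 hm)
  rw [inv_inv] at h4
  calc g * x * g⁻¹ * m = g * (x * (g⁻¹ * m * g)) * g⁻¹ := by group
    _ = g * ((g⁻¹ * m * g) * x) * g⁻¹ := by rw [h4]
    _ = _ := by group

theorem Q2_le_R (hG : IsCharacteristicTwoType G) : h.Q2 ≤ R (X (e4 1)) := by
  have h2 := two h.card
  have hinv : ∀ g : G, g * X (e4 1) = X (e4 1) * g → g⁻¹ * X (e4 1) = X (e4 1) * g⁻¹ := by
    intro g hg
    rw [inv_mul_eq_iff_eq_mul, ← mul_assoc, hg, mul_inv_cancel_right]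
  have hZn : ∀ c ∈ h.Z4, ∀ n ∈ R (X (e4 1)), n * c = c * n := by
    rintro _ ⟨s, rfl⟩ n hn
    obtain ⟨a, -, rfl⟩ := h.N_le_Q2 S hS hn
    exact h.e4_cen a s
  have hz : X (e4 1) ∈ h.Z4 := ⟨1, rfl⟩
  -- the group `D`
  let D : Subgroup G :=
    { carrier := {g | (∀ c ∈ h.Z4, g * c = c * g) ∧ ∀ n ∈ R (X (e4 1)), g * n * g⁻¹ * n⁻¹ ∈ h.Z4}
      one_mem' := by
        refine ⟨fun c _ => by rw [one_mul, mul_one], fun n _ => ?_⟩
        rw [one_mul, inv_one, mul_one, mul_inv_cancel]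
        exact one_mem _
      mul_mem' := by
        rintro a b ⟨ha1, ha2⟩ ⟨hb1, hb2⟩
        refine ⟨fun c hc => by rw [mul_assoc, hb1 c hc, ← mul_assoc, ha1 c hc, mul_assoc], fun n hn => ?_⟩
        have h3 := ha2 n hn
        have h4 := hb2 n hn
        have h5 := ha1 _ h4
        have h6 : a * b * n * (a * b)⁻¹ * n⁻¹ =
            (a * (b * n * b⁻¹ * n⁻¹)) * (n * a⁻¹ * n⁻¹) := by group
        rw [h6, h5]
        have h7 : b * n * b⁻¹ * n⁻¹ * a * (n * a⁻¹ * n⁻¹) =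
          (b * n * b⁻¹ * n⁻¹) * (a * n * a⁻¹ * n⁻¹) := by group
        rw [h7]
        exact mul_mem h4 h3
      inv_mem' := by
        rintro a ⟨ha1, ha2⟩
        have ha3 : ∀ c ∈ h.Z4, a⁻¹ * c = c * a⁻¹ := by
          intro c hc
          rw [inv_mul_eq_iff_eq_mul, ← mul_assoc, ha1 c hc, mul_inv_cancel_right]
        refine ⟨ha3, fun n hn => ?_⟩
        have h3 := ha2 n hn
        have h4 := ha3 _ h3
        have h5 : a⁻¹ * n * a⁻¹⁻¹ * n⁻¹ = a⁻¹ * (a * n * a⁻¹ * n⁻¹)⁻¹ * a := by group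
        have h6 := ha3 _ (inv_mem h3)
        rw [h5, h6, inv_mul_cancel_right]
        exact inv_mem h3 }
  have hD : ∀ {g : G}, g ∈ D ↔ (∀ c ∈ h.Z4, g * c = c * g) ∧
      ∀ n ∈ R (X (e4 1)), g * n * g⁻¹ * n⁻¹ ∈ h.Z4 := Iff.rfl
  have hDz : ∀ g ∈ D, g * X (e4 1) = X (e4 1) * g := fun g hg => (hD.mp hg).1 _ hz
  have hD2 : IsPGroup 2 D := by
    rintro ⟨g, hg⟩
    have h3 : g * g ∈ R (X (e4 1)) := by
      refine R_self hG h.z_sq h.z_ne ?_ ?_
      · rw [mul_assoc, hDz g hg, ← mul_assoc, hDz g hg, mul_assoc]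
      · intro n hn
        obtain ⟨s, hs⟩ := (hD.mp hg).2 n hn
        have h4 := (hD.mp hg).1 _ ⟨s, rfl⟩
        have h5 : g * n = X (e4 s) * n * g := by
          rw [← hs]; group
        have h6 : X (e4 s) * X (e4 s) = 1 := by
          rw [h.mul, ← h.X_one]
          congr 1
          ext <;> simp only [mu, e4, one0] <;> grind
        calc g * g * n = g * (g * n) := by group
          _ = (g * X (e4 s)) * n * g := by rw [h5]; group
          _ = X (e4 s) * (g * n) * g := by rw [h4]; group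
          _ = (X (e4 s) * X (e4 s)) * n * g * g := by rw [h5]; group
          _ = n * (g * g) := by rw [h6]; group
    obtain ⟨k, hk⟩ := R_two _ ⟨g * g, h3⟩
    refine ⟨k + 1, Subtype.ext ?_⟩
    have hk' : (g * g) ^ 2 ^ k = 1 := congrArg Subtype.val hk
    change g ^ 2 ^ (k + 1) = 1
    rw [pow_succ', pow_mul, pow_two, hk']
  have hDn : ∀ g, g * X (e4 1) = X (e4 1) * g → ∀ n ∈ D, g * n * g⁻¹ ∈ D := by
    intro g hg d hd
    obtain ⟨hd1, hd2⟩ := hD.mp hd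
    refine hD.mpr ⟨fun c hc => ?_, fun n hn => ?_⟩
    · have h3 := hd1 _ (h.Z4_norm S hS hG (hinv g hg) hc)
      rw [inv_inv] at h3
      calc g * d * g⁻¹ * c = g * (d * (g⁻¹ * c * g)) * g⁻¹ := by group
        _ = g * ((g⁻¹ * c * g) * d) * g⁻¹ := by rw [h3]
        _ = _ := by group
    · have h3 := hd2 _ (R_norm (hinv g hg) hn)
      have h4 := h.Z4_norm S hS hG hg h3
      convert h4 using 1
      group
  have hDR : D ≤ R (X (e4 1)) := le_R hDz hD2 hDn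
  refine le_trans ?_ hDR
  rintro _ ⟨a, ha, rfl⟩
  refine hD.mpr ⟨?_, ?_⟩
  · rintro _ ⟨s, rfl⟩
    exact h.e4_cen a s
  · intro n hn
    obtain ⟨b, hb, rfl⟩ := h.N_le_Q2 S hS hn
    refine ⟨(mu (mu (mu a b) (iv a)) (iv b)).a4, ?_⟩
    rw [h.mul, h.inv, h.inv, h.mul, h.mul]
    congr 1
    ext <;> simp only [mu, iv, e4, ha, hb] <;> grind

/-- `|O₂(C(z))| ≥ 256` -/
theorem card_R_z (hG : IsCharacteristicTwoType G) : 256 ≤ Nat.card (R (X (e4 1))) := by
  have h1 : Nat.card (F × F × F × F) = 256 := by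
    simp only [Nat.card_prod, h.card]
  rw [← h1]
  refine Nat.card_le_card_of_injective (fun p : F × F × F × F =>
    (⟨X ⟨0, p.1, p.2.1, 0, p.2.2.1, p.2.2.2⟩, h.Q2_le_R S hS hG ⟨_, rfl, rfl⟩⟩ : R (X (e4 1)))) ?_
  rintro ⟨p1, p2, p3, p4⟩ ⟨q1, q2, q3, q4⟩ hpq
  have h2 := h.inj (congrArg Subtype.val hpq)
  have k1 := congrArg Tup.a2 h2
  have k2 := congrArg Tup.a3 h2
  have k3 := congrArg Tup.a5 h2
  have k4 := congrArg Tup.a6 h2
  simp only at k1 k2 k3 k4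
  rw [k1, k2, k3, k4]

omit [Finite G] hS in
/-- a long root element is conjugate to `x4(1)` -/
theorem ZT_one {x : G} (hx : ZT X x) : ∃ g : G, g * x * g⁻¹ = X (e4 1) := by
  have h2 := two h.card
  obtain ⟨g, s, hs, hg⟩ := hx
  have hi : s⁻¹ * s = 1 := inv_mul_cancel₀ hs
  have k1 := h.cB 0 0 0 s 0
  have k2 := h.cj6 s⁻¹ 0 s 0 0 0 0
  have k3 := h.cB 0 s 0 1 0
  have k4 := h.cj6 s 0 1 0 s 0 0
  have k5 := h.cB 0 1 0 0 0
  have q1 : (⟨0, s + 0 * 0 + 0 * 0 ^ 2, 0, 0 + 0 * 0 + 0 ^ 2 * 0, 0, 0⟩ : Tup F F) = ⟨0, s, 0, 0, 0, 0⟩ := by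
    ext <;> simp only <;> ring
  have q2 : (⟨0, s + s⁻¹ * 0 ^ 3, 0 + s⁻¹ * 0 ^ 2, 0 + s⁻¹ ^ 2 * 0 ^ 3 + s⁻¹ * s + s⁻¹ * 0 * 0,
      0 + s⁻¹ * 0, 0⟩ : Tup F F) = ⟨0, s, 0, 1, 0, 0⟩ := by
    rw [hi]
    ext <;> simp only <;> ring
  have q3 : (⟨0, 1 + 0 * 0 + 0 * 0 ^ 2, 0, s + 0 * 0 + 0 ^ 2 * 0, 0, 0⟩ : Tup F F) = ⟨0, 1, 0, s, 0, 0⟩ := by
    ext <;> simp only <;> ring
  have q4 : (⟨0, 1 + s * 0 ^ 3, 0 + s * 0 ^ 2, s + s ^ 2 * 0 ^ 3 + s * 1 + s * 0 * 0,
      0 + s * 0, 0⟩ : Tup F F) = ⟨0, 1, 0, 0, 0, 0⟩ := by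
    ext <;> simp only <;> grind
  have q5 : (⟨0, 0 + 0 * 0 + 0 * 0 ^ 2, 0, 1 + 0 * 0 + 0 ^ 2 * 0, 0, 0⟩ : Tup F F) = e4 1 := by
    ext <;> simp only [e4] <;> ring
  rw [q1] at k1
  rw [q2] at k2
  rw [q3] at k3
  rw [q4] at k4
  rw [q5] at k5
  exact ⟨_, trans_conj hg (trans_conj (trans_conj (trans_conj (trans_conj k1 k2) k3) k4) k5)⟩

end Dat

end Cfsg.Agent.Omega.GTwoFour

end

section


/-!
# The pair of type `G₂(4)`: `|O₂(C(u))| > 8` for a short root involution `u`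
-/

set_option autoImplicit false

namespace Cfsg.Agent.Omega.GTwoFour

open Cfsg.Agent.HexRec Subgroup Cfsg.Agent.Omega.GTwoFour.Cor Cfsg

universe u v

variable {F : Type v} [Field F] {G : Type u} [Group G] {X : Tup F F → G} {f : G} {ja jb : G}

/-- an automorphism of order dividing five of a 2-group of order at most eight is trivial -/
theorem triv_of_fifth {N : Subgroup G} [Finite N] (hN : IsPGroup 2 N) (hc : Nat.card N ≤ 8) {m : G}
    (hm : ∀ n ∈ N, m * n * m⁻¹ ∈ N) (h5 : ∀ n ∈ N, m ^ 5 * n = n * m ^ 5) : ∀ n ∈ N, m * n = n * m := by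
  classical
  have hp : Fact (Nat.Prime 5) := ⟨by norm_num⟩
  have := Fintype.ofFinite N
  let φ : Function.End N := fun n => ⟨m * n * m⁻¹, hm n n.2⟩
  have hφk : ∀ k : ℕ, ∀ n : N, (((φ ^ k) n : N) : G) = m ^ k * n * (m ^ k)⁻¹ := by
    intro k
    induction k with
    | zero =>
      intro n
      simp only [pow_zero, one_mul, inv_one, mul_one]
      rfl
    | succ k ih =>
      intro n
      have h1 : (φ ^ (k + 1)) n = φ ((φ ^ k) n) := by
        rw [pow_succ']; rfl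
      rw [h1]
      change m * (((φ ^ k) n : N) : G) * m⁻¹ = _
      rw [ih]
      group
  have hφ : φ ^ 5 ^ 1 = 1 := by
    funext n
    apply Subtype.ext
    rw [hφk, pow_one, h5 n n.2, mul_inv_cancel_right]
    rfl
  have h1 := Equiv.Perm.card_fixedPoints_modEq hφ
  -- the fixed points
  let K : Subgroup N := (centralizer ({m} : Set G)).subgroupOf N
  have h2 : Fintype.card φ.fixedPoints = Nat.card K := by
    rw [← Nat.card_eq_fintype_card]
    refine Nat.card_congr (Equiv.subtypeEquivRight fun n => ?_)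
    rw [mem_subgroupOf, mem_centralizer_singleton_iff]
    constructor
    · intro h3
      have h4 : m * (n : G) * m⁻¹ = n := congrArg Subtype.val h3
      rw [mul_inv_eq_iff_eq_mul] at h4
      exact h4.symm
    · intro h3
      apply Subtype.ext
      change m * (n : G) * m⁻¹ = n
      rw [mul_inv_eq_iff_eq_mul]
      exact h3.symm
  rw [h2, ← Nat.card_eq_fintype_card] at h1
  have h3 : Nat.card K ∣ Nat.card N := Subgroup.card_subgroup_dvd_card K
  obtain ⟨k, hk⟩ := IsPGroup.iff_card.mp hN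
  have h4 : k ≤ 3 := by
    by_contra hcon
    have h6 : 2 ^ 4 ≤ 2 ^ k := Nat.pow_le_pow_right (by norm_num) (by omega)
    omega
  have h7 : Nat.card K = Nat.card N := by
    have h8 : 0 < Nat.card K := Nat.card_pos
    have h9 : Nat.card K ≤ Nat.card N := Nat.le_of_dvd Nat.card_pos h3
    generalize Nat.card K = c at *
    rw [hk] at h1 h3 h9 ⊢
    interval_cases k
    all_goals
      norm_num at h1 h3 h9 ⊢
      unfold Nat.ModEq at h1
      interval_cases c <;> omega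
  have h8 : K = ⊤ := Subgroup.eq_top_of_card_eq K h7
  intro n hn
  have h9 : (⟨n, hn⟩ : N) ∈ K := by rw [h8]; exact mem_top _
  rw [mem_subgroupOf, mem_centralizer_singleton_iff] at h9
  exact h9.symm

/-- the power `m ^ 8!` of an element acting on a set of at most eight elements acts trivially -/
theorem factorial_triv {N : Subgroup G} [Finite N] (hc : Nat.card N ≤ 8) {m : G}
    (hm : ∀ n ∈ N, m * n * m⁻¹ ∈ N) : ∀ n ∈ N, m ^ 40320 * n = n * m ^ 40320 := by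
  classical
  have := Fintype.ofFinite N
  let σ0 : N → N := fun n => ⟨m * n * m⁻¹, hm n n.2⟩
  have hinj : Function.Injective σ0 := by
    intro a b hab
    have h1 : m * (a : G) * m⁻¹ = m * (b : G) * m⁻¹ := congrArg Subtype.val hab
    exact Subtype.ext (mul_left_cancel (mul_right_cancel h1))
  let σ : Equiv.Perm N := Equiv.ofBijective σ0 (Finite.injective_iff_bijective.mp hinj)
  have hσ : ∀ k : ℕ, ∀ n : N, (((σ ^ k) n : N) : G) = m ^ k * n * (m ^ k)⁻¹ := by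
    intro k
    induction k with
    | zero =>
      intro n
      simp only [pow_zero, one_mul, inv_one, mul_one]
      rfl
    | succ k ih =>
      intro n
      have h1 : (σ ^ (k + 1)) n = σ ((σ ^ k) n) := by
        rw [pow_succ']; rfl
      rw [h1]
      change m * (((σ ^ k) n : N) : G) * m⁻¹ = _
      rw [ih]
      group
  have h1 : σ ^ 40320 = 1 := by
    have h2 : Fintype.card (Equiv.Perm N) ∣ 40320 := by
      rw [Fintype.card_perm]
      have h3 : Fintype.card N ≤ 8 := by rwa [← Nat.card_eq_fintype_card]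
      exact (Nat.factorial_dvd_factorial h3).trans (by decide)
    exact orderOf_dvd_iff_pow_eq_one.mp ((orderOf_dvd_card).trans h2)
  intro n hn
  have h2 := hσ 40320 ⟨n, hn⟩
  rw [h1] at h2
  have h3 : n = m ^ 40320 * n * (m ^ 40320)⁻¹ := h2
  exact (mul_inv_eq_iff_eq_mul.mp h3.symm)

namespace Dat

variable (h : Dat X f ja jb)
include h

theorem card_R_u [Finite G] (hG : IsCharacteristicTwoType G) {s : F} (hs : s ≠ 0) :
    8 < Nat.card (R (X (e3 s))) := by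
  by_contra hcon
  push Not at hcon
  have h2 := two h.card
  obtain ⟨w, hw⟩ := exists_w h.card
  have hJ : jb * X (e3 s) = X (e3 s) * jb := by
    have := h.cB 0 0 s 0 0
    rw [mul_inv_eq_iff_eq_mul] at this
    simpa [e3] using this
  have hU : X (e6 w) * X (e3 s) = X (e3 s) * X (e6 w) := by
    have := h.cj6 w 0 0 s 0 0 0
    rw [mul_inv_eq_iff_eq_mul] at this
    simpa [e3] using this
  set g := X (e6 w) * (jb * X (e6 w) * jb⁻¹) with hg
  have hM : g * X (e3 s) = X (e3 s) * g := by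
    have c1 : Commute jb (X (e3 s)) := hJ
    have c2 : Commute (X (e6 w)) (X (e3 s)) := hU
    exact (c2.mul_left ((c1.mul_left c2).mul_left c1.inv_left))
  have hu2 : X (e3 s) * X (e3 s) = 1 := by
    rw [h.mul, ← h.X_one]
    congr 1
    ext <;> simp only [mu, e3, one0] <;> grind
  have hu1 : X (e3 s) ≠ 1 := by
    intro hc
    have h1 := congrArg Tup.a3 (h.eq_one hc)
    simp only [e3, one0] at h1
    exact hs h1
  -- `g` acts on `V` with order five
  have k0 := h.gV w 1 0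
  have k1 := h.gV w 1 w
  have k2 := h.gV w w 1
  have k3 := h.gV w 0 1
  have k4 := h.gV w w w
  rw [← hg] at k0 k1 k2 k3 k4
  have q0 : (⟨0, 1 + w * 0, 0, 0 + w * (1 + w * 0), 0, 0⟩ : Tup F F) = ⟨0, 1, 0, w, 0, 0⟩ := by
    ext <;> simp only <;> ring
  have q1 : (⟨0, 1 + w * w, 0, w + w * (1 + w * w), 0, 0⟩ : Tup F F) = ⟨0, w, 0, 1, 0, 0⟩ := by
    ext <;> simp only <;> grind
  have q2 : (⟨0, w + w * 1, 0, 1 + w * (w + w * 1), 0, 0⟩ : Tup F F) = ⟨0, 0, 0, 1, 0, 0⟩ := by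
    ext <;> simp only <;> grind
  have q3 : (⟨0, 0 + w * 1, 0, 1 + w * (0 + w * 1), 0, 0⟩ : Tup F F) = ⟨0, w, 0, w, 0, 0⟩ := by
    ext <;> simp only <;> grind
  have q4 : (⟨0, w + w * w, 0, w + w * (w + w * w), 0, 0⟩ : Tup F F) = ⟨0, 1, 0, 0, 0, 0⟩ := by
    ext <;> simp only <;> grind
  rw [q0] at k0
  rw [q1] at k1
  rw [q2] at k2
  rw [q3] at k3
  rw [q4] at k4
  have k5 := conj_five k0 k1 k2 k3 k4
  -- the power `m`
  have hgR : ∀ j : ℕ, ∀ n ∈ R (X (e3 s)), g ^ j * n * (g ^ j)⁻¹ ∈ R (X (e3 s)) := by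
    intro j n hn
    exact R_norm ((show Commute g (X (e3 s)) from hM).pow_left j) hn
  have h40 := factorial_triv hcon (fun n hn => R_norm hM hn)
  have h6 := triv_of_fifth (R_two (X (e3 s))) hcon (m := g ^ 8064) (hgR 8064)
    (fun n hn => by rw [← pow_mul]; exact h40 n hn)
  have h7 := R_self hG hu2 hu1 ((show Commute g (X (e3 s)) from hM).pow_left 8064) h6
  -- `g ^ 64512 = 1`
  have h8 : (g ^ 8064) ^ 8 = 1 := by
    obtain ⟨k, hk⟩ := IsPGroup.iff_card.mp (R_two (X (e3 s)))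
    have h9 : k ≤ 3 := by
      by_contra hcon'
      have h6 : 2 ^ 4 ≤ 2 ^ k := Nat.pow_le_pow_right (by norm_num) (by omega)
      omega
    have h10 : Nat.card (R (X (e3 s))) ∣ 2 ^ 3 := by rw [hk]; exact pow_dvd_pow 2 h9
    have h11 : (⟨g ^ 8064, h7⟩ : R (X (e3 s))) ^ 8 = 1 :=
      orderOf_dvd_iff_pow_eq_one.mp ((_root_.orderOf_dvd_natCard _).trans h10)
    exact congrArg Subtype.val h11
  have h9 : g * X ⟨0, 1, 0, 0, 0, 0⟩ = X ⟨0, 1, 0, 0, 0, 0⟩ * g := by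
    have c1 : Commute (g ^ 5) (X ⟨0, 1, 0, 0, 0, 0⟩) := k5
    have c2 : (g ^ 5) ^ 38707 * g = 1 := by
      rw [← pow_mul, ← pow_succ, show 5 * 38707 + 1 = 8064 * 8 * 3 from by norm_num, pow_mul, pow_mul, h8,
        one_pow]
    have c3 : g = ((g ^ 5) ^ 38707)⁻¹ := (inv_eq_of_mul_eq_one_right c2).symm
    have c4 : Commute ((g ^ 5) ^ 38707)⁻¹ (X ⟨0, 1, 0, 0, 0, 0⟩) := (c1.pow_left 38707).inv_left
    rw [← c3] at c4
    exact c4
  rw [h9, mul_inv_cancel_right] at k0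
  have h10 := congrArg Tup.a4 (h.inj k0)
  simp only at h10
  rw [← h10] at hw
  simp at hw

end Dat

end Cfsg.Agent.Omega.GTwoFour

end

section


/-!
# No group of characteristic 2 type has a Sylow 2-subgroup of type `G₂(4)⟨f⟩`

`Dat.false_of_field` : a finite group of characteristic 2 type whose Sylow 2-subgroup is the Sylow
2-subgroup `T = X(F⁶)` of a pair of type `G₂(4)` extended by a field involution `f` does not exist.
-/

set_option autoImplicit false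

namespace Cfsg.Agent.Omega.GTwoFour

open Cfsg.Agent.HexRec Subgroup Cfsg.Agent.Omega.GTwoFour.Cor Cfsg

universe u v

variable {F : Type v} [Field F] {G : Type u} [Group G] {X : Tup F F → G} {f : G} {ja jb : G}

namespace Dat

variable (h : Dat X f ja jb)
include h

theorem f_ne : f ≠ 1 := fun hc => h.f_not one0 (hc.trans h.X_one.symm)

/-- `|O₂(C(f))| > 2` -/
theorem card_R_f [Finite G] (hG : IsCharacteristicTwoType G) : 2 < Nat.card (R f) := by
  by_contra hcon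
  push Not at hcon
  have h1 : f ∈ R f := y_mem_R h.ff
  -- the elements of `R f`
  have h2 : ∀ r ∈ R f, r = 1 ∨ r = f := by
    intro r hr
    by_contra hne
    push Not at hne
    have h3 : 3 ≤ Nat.card (R f) := by
      classical
      have := Fintype.ofFinite (R f)
      rw [Nat.card_eq_fintype_card]
      have h4 : ({1, ⟨f, h1⟩, ⟨r, hr⟩} : Finset (R f)).card = 3 := by
        rw [Finset.card_eq_three]
        refine ⟨_, _, _, ?_, ?_, ?_, rfl⟩
        · intro hc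
          exact h.f_ne (congrArg Subtype.val hc).symm
        · intro hc
          exact hne.1 (congrArg Subtype.val hc).symm
        · intro hc
          exact hne.2 (congrArg Subtype.val hc).symm
      rw [← h4]
      exact Finset.card_le_univ _
    omega
  have h5 : f * X (e4 1) = X (e4 1) * f := by
    rw [h.comm_iff]
    ext <;> simp only [fr, e4] <;> ring
  have h6 : X (e4 1) ∈ R f := by
    refine R_self hG h.ff h.f_ne h5.symm ?_
    intro r hr
    rcases h2 r hr with rfl | rfl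
    · rw [one_mul, mul_one]
    · exact h5.symm
  have h7 := h.eq_one (h.R_inf h6 (h.X_mem _))
  have h8 := congrArg Tup.a4 h7
  simp only [e4, one0] at h8
  exact one_ne_zero h8

/-- **no field involution in the pair of type `G₂(4)`** -/
theorem false_of_field [Finite G] (hG : IsCharacteristicTwoType G) (S : Sylow 2 G)
    (hS : (S : Subgroup G) = h.S0) : False := by
  have : Finite F := fin h.card
  obtain ⟨g, hg, hmax⟩ := extremal S h.ff
  rw [hS] at hg hmax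
  have hle := h.card_R_le hmax
  set y := g * f * g⁻¹ with hy
  have hyy : y * y = 1 := conj_sq h.ff rfl
  have hRy : Nat.card (R y) = Nat.card (R f) := card_R_conj g f
  have hc := h.card_cent_S0 y
  rcases h.mem_S0.mp hg with h1 | h1
  · -- `y` in `T`
    obtain ⟨a, ha⟩ := h1
    have ha1 : a ≠ one0 := by
      intro hc'
      rw [hc', h.X_one] at ha
      apply h.f_ne
      have : g * f * g⁻¹ = 1 := ha
      rwa [mul_inv_eq_one, mul_eq_left] at this
    rw [ha] at hyy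
    rcases h.classify hyy ha1 with h2 | ⟨h2, h3⟩
    · obtain ⟨k, hk⟩ := h.ZT_one h2
      have h4 := h.card_R_z S hS hG
      rw [← hk, card_R_conj, ← ha, hRy] at h4
      have h5 : Nat.card (h.S0 ⊓ centralizer ({y} : Set G) : Subgroup G) ≤ Nat.card h.S0 :=
        Subgroup.card_le_of_le inf_le_left
      rw [h.card_S0] at h5
      omega
    · obtain ⟨k, s, hs, hk⟩ := h2
      have h4 := h.card_R_u hG hs
      rw [← hk, card_R_conj, ← ha, hRy] at h4
      have h5 := h.small hyy h3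
      rw [← ha] at h5
      omega
  · -- `y` outside `T`
    obtain ⟨a, ha⟩ := h1
    have ha' : y = f * X a := by rw [← ha, ← mul_assoc, h.ff, one_mul]
    rw [ha'] at hyy
    obtain ⟨k, hkT, hk⟩ := h.exists_conj_f hyy
    have hky : k * y * k⁻¹ = f := by rw [ha']; exact hk
    have h2 : Nat.card (h.T ⊓ centralizer ({y} : Set G) : Subgroup G) ≤ Nat.card h.T1 := by
      have hmem : ∀ x : (h.T ⊓ centralizer ({y} : Set G) : Subgroup G), k * (x : G) * k⁻¹ ∈ h.T1 := by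
        intro x
        obtain ⟨hx1, hx2⟩ := mem_inf.mp x.2
        refine mem_inf.mpr ⟨h.T.mul_mem (h.T.mul_mem hkT hx1) (h.T.inv_mem hkT),
          mem_centralizer_singleton_iff.mpr ?_⟩
        have h3 : (x : G) * y = y * (x : G) := mem_centralizer_singleton_iff.mp hx2
        calc k * (x : G) * k⁻¹ * f = k * (x : G) * k⁻¹ * (k * y * k⁻¹) := by rw [hky]
          _ = k * ((x : G) * y) * k⁻¹ := by group
          _ = k * (y * x) * k⁻¹ := by rw [h3]
          _ = (k * y * k⁻¹) * (k * (x : G) * k⁻¹) := by group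
          _ = _ := by rw [hky]
      refine Nat.card_le_card_of_injective
        (fun x : (h.T ⊓ centralizer ({y} : Set G) : Subgroup G) => (⟨_, hmem x⟩ : h.T1)) ?_
      intro a b hab
      have h8 : k * (a : G) * k⁻¹ = k * (b : G) * k⁻¹ := congrArg Subtype.val hab
      exact Subtype.ext (mul_left_cancel (mul_right_cancel h8))
    rw [h.card_T1] at h2
    have h3 := h.card_R_f hG
    omega

end Dat

end Cfsg.Agent.Omega.GTwoFour

end

section


/-!
# The apartment of the pair of type `G₂(4)`: an involution normalising the root groups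

`Apt X H T ja jb` : coordinates `X` on the Sylow 2-subgroup, the torus `H` acting diagonally, the
stabiliser `T` of the apartment normalises every root group, `ja`, `jb` are the fundamental
involutions.  If `T` contains an involution, then there is a `Dat` (field involution).
-/

set_option autoImplicit false

namespace Cfsg.Agent.Omega.GTwoFour

open Cfsg.Agent.HexRec Subgroup Cfsg.Agent.Omega.GTwoFour.Cor Cfsg

universe u v

variable {F : Type v} [Field F]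

/-- the apartment -/
structure Apt {G : Type u} [Group G] (X : Tup F F → G) (H T : Subgroup G) (ja jb : G) : Prop where
  card : Nat.card F = 4
  inj : Function.Injective X
  mul : ∀ a b, X a * X b = X (mu a b)
  tor : ∀ t ∈ H, ∃ l m : F, l ≠ 0 ∧ m ≠ 0 ∧ ∀ a, t * X a * t⁻¹ = X (dg l m a)
  surj : ∀ l m : F, l ≠ 0 → m ≠ 0 → ∃ t ∈ H, ∀ a, t * X a * t⁻¹ = X (dg l m a)
  HT : H ≤ T
  TH : ∀ t ∈ T, ∀ h ∈ H, t * h * t⁻¹ ∈ H
  cen : ∀ t ∈ T, (∀ a, t * X a = X a * t) → t = 1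
  T1 : ∀ t ∈ T, ∀ a, ∃ b, t * X (e1 a) * t⁻¹ = X (e1 b)
  T5 : ∀ t ∈ T, ∀ a, ∃ b, t * X (e5 a) * t⁻¹ = X (e5 b)
  T6 : ∀ t ∈ T, ∀ a, ∃ b, t * X (e6 a) * t⁻¹ = X (e6 b)
  jaT : ∀ t ∈ T, ja * t * ja ∈ T
  jbT : ∀ t ∈ T, jb * t * jb ∈ T
  ja_sq : ja * ja = 1
  jb_sq : jb * jb = 1
  nA : ∀ a2 a3 a4 a5 a6 : F, ja * X ⟨0, a2, a3, a4, a5, a6⟩ =
    X ⟨0, a6, a5, a4 + a2 * a6 + a3 * a5, a3, a2⟩ * ja
  nB : ∀ a1 a2 a3 a4 a5 : F, jb * X ⟨a1, a2, a3, a4, a5, 0⟩ =
    X ⟨a5, a4 + a3 * a5 + a1 * a5 ^ 2, a3, a2 + a1 * a3 + a1 ^ 2 * a5, a1, 0⟩ * jb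

/-! ### injective maps of the field with four elements -/

theorem elems (hF : Nat.card F = 4) {w : F} (hw : w ^ 2 + w + 1 = 0) (a : F) :
    a = 0 ∨ a = 1 ∨ a = w ∨ a = w ^ 2 := by
  by_cases h0 : a = 0
  · exact Or.inl h0
  · right
    have h3 := cube hF h0
    have h4 : (a - 1) * ((a - w) * (a - w ^ 2)) = 0 := by
      have hw3 : w ^ 3 = 1 := by linear_combination (w - 1) * hw
      linear_combination h3 - (a ^ 2 - a) * hw + (a - 1) * hw3
    rcases mul_eq_zero.mp h4 with h5 | h5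
    · exact Or.inl (sub_eq_zero.mp h5)
    · right
      rcases mul_eq_zero.mp h5 with h6 | h6
      · exact Or.inl (sub_eq_zero.mp h6)
      · exact Or.inr (sub_eq_zero.mp h6)

/-- an injective map fixing `0` is `a ↦ c a` or `a ↦ c a²` -/
theorem inj_form (hF : Nat.card F = 4) {φ : F → F} (hφ : Function.Injective φ) (h0 : φ 0 = 0) :
    ∃ c : F, c ≠ 0 ∧ ((∀ a, φ a = c * a) ∨ (∀ a, φ a = c * a ^ 2)) := by
  obtain ⟨w, hw⟩ := exists_w hF
  have h2 := two hF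
  have hw3 : w ^ 3 = 1 := by linear_combination (w - 1) * hw
  have hw0 : w ≠ 0 := by rintro rfl; simp at hw
  have hw1 : w ≠ 1 := by
    rintro rfl
    apply one_ne_zero (α := F)
    linear_combination hw - h2
  have hw2 : w ^ 2 ≠ 1 := by
    intro hc
    apply hw1
    rw [pow_succ, hc, one_mul] at hw3
    exact hw3
  have hww : w ^ 2 ≠ w := by
    intro hc
    rw [hc] at hw
    apply one_ne_zero (α := F)
    linear_combination hw - w * h2
  have c1 : φ 1 ≠ 0 := fun hc => one_ne_zero (hφ (hc.trans h0.symm))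
  have cw : φ w ≠ 0 := fun hc => hw0 (hφ (hc.trans h0.symm))
  have cw2 : φ (w ^ 2) ≠ 0 := fun hc => pow_ne_zero 2 hw0 (hφ (hc.trans h0.symm))
  have d1 : φ w ≠ φ 1 := fun hc => hw1 (hφ hc)
  have d2 : φ (w ^ 2) ≠ φ 1 := fun hc => hw2 (hφ hc)
  have d3 : φ (w ^ 2) ≠ φ w := fun hc => hww (hφ hc)
  refine ⟨φ 1, c1, ?_⟩
  -- the quotients
  obtain ⟨r, hr⟩ : ∃ r, φ w = φ 1 * r := ⟨φ w / φ 1, (mul_div_cancel₀ _ c1).symm⟩
  obtain ⟨s, hs⟩ : ∃ s, φ (w ^ 2) = φ 1 * s := ⟨φ (w ^ 2) / φ 1, (mul_div_cancel₀ _ c1).symm⟩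
  rcases elems hF hw r with rfl | rfl | rfl | rfl
  · exact absurd (by rw [hr, mul_zero]) cw
  · exact absurd (by rw [hr, mul_one]) d1
  · left
    have hs' : s = r ^ 2 := by
      rcases elems hF hw s with rfl | rfl | rfl | h
      · exact absurd (by rw [hs, mul_zero]) cw2
      · exact absurd (by rw [hs, mul_one]) d2
      · exact absurd (by rw [hs, hr]) d3
      · exact h
    intro a
    rcases elems hF hw a with rfl | rfl | rfl | rfl
    · rw [h0, mul_zero]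
    · rw [mul_one]
    · exact hr
    · rw [hs, hs']
  · right
    have hs' : s = w := by
      rcases elems hF hw s with rfl | rfl | rfl | h
      · exact absurd (by rw [hs, mul_zero]) cw2
      · exact absurd (by rw [hs, mul_one]) d2
      · rfl
      · exact absurd (by rw [hs, hr, h]) d3
    intro a
    rcases elems hF hw a with rfl | rfl | rfl | rfl
    · rw [h0]; ring
    · rw [one_pow, mul_one]
    · exact hr
    · rw [hs, hs']
      congr 1
      linear_combination -w * hw3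

/-! ### the group -/

section group

variable {G : Type u} [Group G] {X : Tup F F → G} {H T : Subgroup G} {ja jb : G}

/-- the decomposition into root elements -/
theorem decomp (hmul : ∀ a b, X a * X b = X (mu a b)) (a : Tup F F) :
    X a = X (e1 a.a1) * X (e2 a.a2) * X (e3 a.a3) * X (e4 a.a4) * X (e5 a.a5) * X (e6 a.a6) := by
  simp only [hmul]
  congr 1
  ext <;> simp only [mu, e1, e2, e3, e4, e5, e6] <;> ring

/-- the commutator of `x1 a` and `x6 b` -/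
def Pt (a b : F) : Tup F F := ⟨0, b * a ^ 3, b * a ^ 2, b ^ 2 * a ^ 3, b * a, 0⟩

namespace Apt

variable (h : Apt X H T ja jb)
include h

theorem X_one : X one0 = 1 := by
  have h1 := h.mul one0 one0
  rw [one0_mu] at h1
  exact mul_eq_left.mp h1

theorem comm_Pt (a b : F) : X (e1 a) * X (Pt a b) * X (e6 b) = X (e6 b) * X (e1 a) := by
  simp only [h.mul]
  congr 1
  ext <;> simp only [mu, e1, e6, Pt] <;> ring

/-- the form of a map between two root groups -/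
theorem root_form {g : G} {e e' : F → Tup F F} (he : Function.Injective e)
    (he0 : e 0 = one0) (he' : Function.Injective e') (he0' : e' 0 = one0)
    (hg : ∀ a, ∃ b, g * X (e a) * g⁻¹ = X (e' b)) : ∃ c : F, c ≠ 0 ∧
      ((∀ a, g * X (e a) * g⁻¹ = X (e' (c * a))) ∨ (∀ a, g * X (e a) * g⁻¹ = X (e' (c * a ^ 2)))) := by
  choose φ hφ using hg
  have h1 : Function.Injective φ := by
    intro a b hab
    have h2 : g * X (e a) * g⁻¹ = g * X (e b) * g⁻¹ := by rw [hφ, hφ, hab]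
    exact he (h.inj (mul_left_cancel (mul_right_cancel h2)))
  have h0 : φ 0 = 0 := by
    have h2 := hφ 0
    rw [he0, h.X_one, mul_one, mul_inv_cancel, ← h.X_one, ← he0'] at h2
    exact (he' (h.inj h2)).symm
  obtain ⟨c, hc, hc'⟩ := inj_form h.card h1 h0
  refine ⟨c, hc, ?_⟩
  rcases hc' with hc' | hc'
  · exact Or.inl fun a => by rw [hφ, hc']
  · exact Or.inr fun a => by rw [hφ, hc']

/-- `U` is generated by `X₁`, `X₆` -/
theorem gen {K : Subgroup G} (h1 : ∀ a, X (e1 a) ∈ K) (h6 : ∀ a, X (e6 a) ∈ K) : ∀ a, X a ∈ K := by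
  have h2 := two h.card
  obtain ⟨w, hw⟩ := exists_w h.card
  have hw3 : w ^ 3 = 1 := by linear_combination (w - 1) * hw
  -- the commutators
  have hP : ∀ a b : F, X (Pt a b) ∈ K := by
    intro a b
    have k2 : X (Pt a b) = (X (e1 a))⁻¹ * (X (e6 b) * X (e1 a)) * (X (e6 b))⁻¹ := by
      rw [← h.comm_Pt a b]; group
    rw [k2]
    exact mul_mem (mul_mem (inv_mem (h1 a)) (mul_mem (h6 b) (h1 a))) (inv_mem (h6 b))
  have hPP : ∀ a b a' b' a'' b'' : F, X (mu (mu (Pt a b) (Pt a' b')) (Pt a'' b'')) ∈ K := by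
    intro a b a' b' a'' b''
    rw [← h.mul, ← h.mul]
    exact mul_mem (mul_mem (hP _ _) (hP _ _)) (hP _ _)
  -- pure root elements up to `X₄`
  have hQ2 : ∀ b : F, ∃ d, X ⟨0, b, 0, d, 0, 0⟩ ∈ K := by
    intro b
    refine ⟨(mu (mu (Pt 1 b) (Pt w b)) (Pt (w ^ 2) b)).a4, ?_⟩
    convert hPP 1 b w b (w ^ 2) b using 2
    ext
    case a4 => rfl
    all_goals simp only [mu, Pt]
    all_goals grind
  have hQ3 : ∀ b : F, ∃ d, X ⟨0, 0, b, d, 0, 0⟩ ∈ K := by
    intro b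
    refine ⟨(mu (mu (Pt 1 b) (Pt w (w * b))) (Pt (w ^ 2) (w ^ 2 * b))).a4, ?_⟩
    convert hPP 1 b w (w * b) (w ^ 2) (w ^ 2 * b) using 2
    ext
    case a4 => rfl
    all_goals simp only [mu, Pt]
    all_goals grind
  have hQ5 : ∀ b : F, ∃ d, X ⟨0, 0, 0, d, b, 0⟩ ∈ K := by
    intro b
    refine ⟨(mu (mu (Pt 1 b) (Pt w (w ^ 2 * b))) (Pt (w ^ 2) (w * b))).a4, ?_⟩
    convert hPP 1 b w (w ^ 2 * b) (w ^ 2) (w * b) using 2
    ext
    case a4 => rfl
    all_goals simp only [mu, Pt]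
    all_goals grind
  have hQ4 : ∀ b : F, X (e4 b) ∈ K := by
    intro b
    obtain ⟨d, hd⟩ := hQ3 b
    obtain ⟨d', hd'⟩ := hQ5 1
    have k1 : X ⟨0, 0, b, d, 0, 0⟩ * X ⟨0, 0, 0, d', 1, 0⟩ * X (e4 b) =
        X ⟨0, 0, 0, d', 1, 0⟩ * X ⟨0, 0, b, d, 0, 0⟩ := by
      simp only [h.mul]
      congr 1
      ext <;> simp only [mu, e4] <;> ring
    have k2 : X (e4 b) = (X ⟨0, 0, b, d, 0, 0⟩ * X ⟨0, 0, 0, d', 1, 0⟩)⁻¹ *
        (X ⟨0, 0, 0, d', 1, 0⟩ * X ⟨0, 0, b, d, 0, 0⟩) := by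
      rw [← k1]; group
    rw [k2]
    exact mul_mem (inv_mem (mul_mem hd hd')) (mul_mem hd' hd)
  have hR : ∀ {a2 a3 a5 d : F}, X ⟨0, a2, a3, d, a5, 0⟩ ∈ K → X ⟨0, a2, a3, 0, a5, 0⟩ ∈ K := by
    intro a2 a3 a5 d hd
    have k1 : X ⟨0, a2, a3, d, a5, 0⟩ * X (e4 d) = X ⟨0, a2, a3, 0, a5, 0⟩ := by
      simp only [h.mul]
      congr 1
      ext <;> simp only [mu, e4] <;> grind
    rw [← k1]
    exact mul_mem hd (hQ4 d)
  intro a
  rw [decomp h.mul a]
  obtain ⟨d2, hd2⟩ := hQ2 a.a2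
  obtain ⟨d3, hd3⟩ := hQ3 a.a3
  obtain ⟨d5, hd5⟩ := hQ5 a.a5
  exact mul_mem (mul_mem (mul_mem (mul_mem (mul_mem (h1 _) (hR hd2)) (hR hd3)) (hQ4 _)) (hR hd5)) (h6 _)

/-- an element of `T` centralising `X₁`, `X₆` is trivial -/
theorem eq_one_of {t : G} (ht : t ∈ T) (h1 : ∀ a, t * X (e1 a) * t⁻¹ = X (e1 a))
    (h6 : ∀ a, t * X (e6 a) * t⁻¹ = X (e6 a)) : t = 1 := by
  refine h.cen t ht fun a => ?_
  have k := h.gen (K := centralizer ({t} : Set G))
    (fun a => mem_centralizer_singleton_iff.mpr (mul_inv_eq_iff_eq_mul.mp (h1 a)).symm)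
    (fun a => mem_centralizer_singleton_iff.mpr (mul_inv_eq_iff_eq_mul.mp (h6 a)).symm) a
  exact (mem_centralizer_singleton_iff.mp k).symm

end Apt

theorem e1_inj : Function.Injective (e1 : F → Tup F F) := fun _ _ hab => congrArg Tup.a1 hab
theorem e2_inj : Function.Injective (e2 : F → Tup F F) := fun _ _ hab => congrArg Tup.a2 hab
theorem e3_inj : Function.Injective (e3 : F → Tup F F) := fun _ _ hab => congrArg Tup.a3 hab
theorem e4_inj : Function.Injective (e4 : F → Tup F F) := fun _ _ hab => congrArg Tup.a4 hab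
theorem e5_inj : Function.Injective (e5 : F → Tup F F) := fun _ _ hab => congrArg Tup.a5 hab
theorem e6_inj : Function.Injective (e6 : F → Tup F F) := fun _ _ hab => congrArg Tup.a6 hab

namespace Apt

variable (h : Apt X H T ja jb)
include h

/-- an involution of `T` acts by `a ↦ c a²` on `X₁`, `X₆` -/
theorem inv_form {g : G} (hg : g ∈ T) (hgg : g * g = 1) (hg1 : g ≠ 1) :
    ∃ c d : F, c ≠ 0 ∧ d ≠ 0 ∧ (∀ a, g * X (e1 a) * g⁻¹ = X (e1 (c * a ^ 2))) ∧
      (∀ a, g * X (e6 a) * g⁻¹ = X (e6 (d * a ^ 2))) := by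
  have h2 := two h.card
  obtain ⟨w, hw⟩ := exists_w h.card
  have hw3 : w ^ 3 = 1 := by linear_combination (w - 1) * hw
  have hw0 : w ≠ 0 := by rintro rfl; simp at hw
  have hw1 : w ≠ 1 := by
    rintro rfl
    apply one_ne_zero (α := F)
    linear_combination hw - h2
  have hww : w ^ 2 ≠ w := by
    intro hc
    rw [hc] at hw
    apply one_ne_zero (α := F)
    linear_combination hw - w * h2
  have hw2 : w ^ 2 ≠ 1 := by
    intro hc
    apply hw1
    rw [pow_succ, hc, one_mul] at hw3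
    exact hw3
  obtain ⟨c, hc, hc'⟩ := h.root_form e1_inj rfl e1_inj rfl (h.T1 g hg)
  obtain ⟨d, hd, hd'⟩ := h.root_form e6_inj rfl e6_inj rfl (h.T6 g hg)
  obtain ⟨b, hb, hb'⟩ := h.root_form e5_inj rfl e5_inj rfl (h.T5 g hg)
  -- equivariance
  have heq : ∀ t ∈ H, ∀ l m : F, (∀ a, t * X a * t⁻¹ = X (dg l m a)) → ∃ l' m' : F, l' ≠ 0 ∧ m' ≠ 0 ∧
      (∀ a, (g * t * g⁻¹) * X a * (g * t * g⁻¹)⁻¹ = X (dg l' m' a)) := by
    intro t ht l m _
    exact h.tor _ (h.TH g hg t ht)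
  have key1 : ∀ t ∈ H, ∀ l m l' m' : F, (∀ a, t * X a * t⁻¹ = X (dg l m a)) →
      (∀ a, (g * t * g⁻¹) * X a * (g * t * g⁻¹)⁻¹ = X (dg l' m' a)) → ∀ e : F → Tup F F, ∀ φ : F → F,
      (∀ a, g * X (e a) * g⁻¹ = X (e (φ a))) → ∀ x y : F, (dg l m (e 1) = e x) → (dg l' m' (e (φ 1)) = e y) →
      X (e (φ x)) = X (e y) := by
    intro t _ l m l' m' htl htl' e φ hφ x y hx hy
    rw [← hφ, ← hy, ← htl', ← hx, ← htl, ← hφ]
    group
  -- the types of `X₁` and `X₆` agree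
  obtain ⟨t, ht, htw⟩ := h.surj w w hw0 hw0
  obtain ⟨l', m', hl', hm', hlm'⟩ := heq t ht w w htw
  have E1 : ∀ (φ : F → F) (k l l' m m' : F), dg l m (e1 1) = e1 l ∧ dg l' m' (e1 k) = e1 (l' * k) := by
    intro φ k l l' m m'
    constructor <;> ext <;> simp only [dg, e1] <;> ring
  have E6 : ∀ (φ : F → F) (k l l' m m' : F), dg l m (e6 1) = e6 m ∧ dg l' m' (e6 k) = e6 (m' * k) := by
    intro φ k l l' m m'
    constructor <;> ext <;> simp only [dg, e6] <;> ring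
  have E5 : ∀ (φ : F → F) (k l l' m m' : F), dg l m (e5 1) = e5 (l * m) ∧
      dg l' m' (e5 k) = e5 (l' * m' * k) := by
    intro φ k l l' m m'
    constructor <;> ext <;> simp only [dg, e5] <;> ring
  have k1 : ∀ φ : F → F, (∀ a, g * X (e1 a) * g⁻¹ = X (e1 (φ a))) → φ w = l' * φ 1 := fun φ hφ =>
    e1_inj (h.inj (key1 t ht w w l' m' htw hlm' e1 φ hφ w (l' * φ 1) (E1 φ (φ 1) w l' w m').1
      (E1 φ (φ 1) w l' w m').2))
  have k6 : ∀ φ : F → F, (∀ a, g * X (e6 a) * g⁻¹ = X (e6 (φ a))) → φ w = m' * φ 1 := fun φ hφ =>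
    e6_inj (h.inj (key1 t ht w w l' m' htw hlm' e6 φ hφ w (m' * φ 1) (E6 φ (φ 1) w l' w m').1
      (E6 φ (φ 1) w l' w m').2))
  have k5 : ∀ φ : F → F, (∀ a, g * X (e5 a) * g⁻¹ = X (e5 (φ a))) → φ (w * w) = l' * m' * φ 1 := fun φ hφ =>
    e5_inj (h.inj (key1 t ht w w l' m' htw hlm' e5 φ hφ (w * w) (l' * m' * φ 1) (E5 φ (φ 1) w l' w m').1
      (E5 φ (φ 1) w l' w m').2))
  have hgi : g⁻¹ = g := inv_eq_of_mul_eq_one_right hgg
  have hlm5 : l' * m' = w ^ 2 ∨ l' * m' = w := by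
    rcases hb' with hb' | hb'
    · left
      have := k5 _ hb'
      apply mul_left_cancel₀ hb
      linear_combination -this
    · right
      have := k5 _ hb'
      apply mul_left_cancel₀ hb
      linear_combination -this + b * w * hw3
  rcases hc' with hc' | hc' <;> rcases hd' with hd' | hd'
  · -- both linear: `g = 1`
    exfalso
    apply hg1
    have j1 : c * (c * 1) = 1 := by
      apply e1_inj
      apply h.inj
      rw [← hc', ← hc', hgi]
      calc g * (g * X (e1 1) * g) * g = (g * g) * X (e1 1) * (g * g) := by group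
        _ = X (e1 1) := by rw [hgg]; group
    have j6 : d * (d * 1) = 1 := by
      apply e6_inj
      apply h.inj
      rw [← hd', ← hd', hgi]
      calc g * (g * X (e6 1) * g) * g = (g * g) * X (e6 1) * (g * g) := by group
        _ = X (e6 1) := by rw [hgg]; group
    have c1 : c = 1 := by
      have := cube h.card hc
      linear_combination this - c * j1
    have d1 : d = 1 := by
      have := cube h.card hd
      linear_combination this - d * j6
    refine h.eq_one_of hg (fun a => ?_) (fun a => ?_)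
    · rw [hc', c1, one_mul]
    · rw [hd', d1, one_mul]
  · exfalso
    have j1 := k1 _ hc'
    have j6 := k6 _ hd'
    have l1 : l' = w := by
      apply mul_left_cancel₀ hc
      linear_combination -j1
    have m1 : m' = w ^ 2 := by
      apply mul_left_cancel₀ hd
      linear_combination -j6
    rw [l1, m1] at hlm5
    rcases hlm5 with h5 | h5
    · exact hw2 (by rw [← h5]; linear_combination hw3)
    · exact hw1 (by rw [← h5]; linear_combination hw3)
  · exfalso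
    have j1 := k1 _ hc'
    have j6 := k6 _ hd'
    have l1 : l' = w ^ 2 := by
      apply mul_left_cancel₀ hc
      linear_combination -j1
    have m1 : m' = w := by
      apply mul_left_cancel₀ hd
      linear_combination -j6
    rw [l1, m1] at hlm5
    rcases hlm5 with h5 | h5
    · exact hw2 (by rw [← h5]; linear_combination hw3)
    · exact hw1 (by rw [← h5]; linear_combination hw3)
  · exact ⟨c, d, hc, hd, hc', hd'⟩

end Apt

theorem conj_rel {c x p y x' p' y' : G} (hx : c * x * c⁻¹ = x') (hp : c * p * c⁻¹ = p')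
    (hy : c * y * c⁻¹ = y') (hr : x * p * y = y * x) : x' * p' * y' = y' * x' := by
  rw [← hx, ← hp, ← hy]
  calc c * x * c⁻¹ * (c * p * c⁻¹) * (c * y * c⁻¹) = c * (x * p * y) * c⁻¹ := by group
    _ = c * (y * x) * c⁻¹ := by rw [hr]
    _ = _ := by group

theorem fr_mu' (hF : Nat.card F = 4) (a b : Tup F F) : fr (mu a b) = mu (fr a) (fr b) := by
  have h2 := two hF
  ext <;> simp only [mu, fr] <;> grind

theorem fr_iv' (hF : Nat.card F = 4) (a : Tup F F) : fr (iv a) = iv (fr a) := by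
  have h2 := two hF
  ext <;> simp only [iv, fr] <;> grind

namespace Apt

variable (h : Apt X H T ja jb)
include h

theorem inv (a : Tup F F) : (X a)⁻¹ = X (iv a) := by
  rw [inv_eq_iff_mul_eq_one, h.mul, mu_iv h.card, h.X_one]

/-- an element acting as the Frobenius on `X₁` and `X₆` acts as the Frobenius on `U` -/
theorem frob {f : G} (f1 : ∀ a, f * X (e1 a) * f⁻¹ = X (e1 (a ^ 2)))
    (f6 : ∀ a, f * X (e6 a) * f⁻¹ = X (e6 (a ^ 2))) (a : Tup F F) : f * X a * f⁻¹ = X (fr a) := by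
  let K : Subgroup G :=
    { carrier := {g | ∃ a, g = X a ∧ f * g * f⁻¹ = X (fr a)}
      one_mem' := by
        refine ⟨one0, h.X_one.symm, ?_⟩
        have : fr (one0 : Tup F F) = one0 := by ext <;> simp [fr, one0]
        rw [this, h.X_one]; group
      mul_mem' := by
        rintro _ _ ⟨a, rfl, ha⟩ ⟨b, rfl, hb⟩
        refine ⟨mu a b, h.mul a b, ?_⟩
        rw [fr_mu' h.card, ← h.mul, ← ha, ← hb]; group
      inv_mem' := by
        rintro _ ⟨a, rfl, ha⟩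
        refine ⟨iv a, h.inv a, ?_⟩
        rw [fr_iv' h.card, ← h.inv, ← ha]; group }
  have hK : X a ∈ K := by
    refine h.gen (K := K) (fun a => ⟨e1 a, rfl, ?_⟩) (fun a => ⟨e6 a, rfl, ?_⟩) a
    · rw [f1]
      congr 1
      ext <;> simp [fr, e1]
    · rw [f6]
      congr 1
      ext <;> simp [fr, e6]
  obtain ⟨b, hb, hb'⟩ := hK
  rw [hb', h.inj hb]

theorem ja_inv : ja⁻¹ = ja := inv_eq_of_mul_eq_one_right h.ja_sq
theorem jb_inv : jb⁻¹ = jb := inv_eq_of_mul_eq_one_right h.jb_sq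

theorem cjA (a2 a3 a4 a5 a6 : F) : ja * X ⟨0, a2, a3, a4, a5, a6⟩ * ja⁻¹ =
    X ⟨0, a6, a5, a4 + a2 * a6 + a3 * a5, a3, a2⟩ := by
  rw [h.nA, mul_inv_cancel_right]

theorem cjB (a1 a2 a3 a4 a5 : F) : jb * X ⟨a1, a2, a3, a4, a5, 0⟩ * jb⁻¹ =
    X ⟨a5, a4 + a3 * a5 + a1 * a5 ^ 2, a3, a2 + a1 * a3 + a1 ^ 2 * a5, a1, 0⟩ := by
  rw [h.nB, mul_inv_cancel_right]

/-- an involution in the stabiliser of the apartment gives a field involution -/
theorem exists_dat {t : G} (ht : t ∈ T) (htt : t * t = 1) (ht1 : t ≠ 1) : ∃ f ∈ T, Dat X f ja jb := by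
  have h2 := two h.card
  obtain ⟨w, hw⟩ := exists_w h.card
  have hww : w ^ 2 ≠ w := by
    intro hc
    rw [hc] at hw
    apply one_ne_zero (α := F)
    linear_combination hw - w * h2
  obtain ⟨c, d, hc, hd, hc', hd'⟩ := h.inv_form ht htt ht1
  have hc3 := cube h.card hc
  have hd3 := cube h.card hd
  obtain ⟨x, hx, hxX⟩ := h.surj (c ^ 2) (d ^ 2) (pow_ne_zero 2 hc) (pow_ne_zero 2 hd)
  obtain ⟨f, hf⟩ : ∃ f, f = x * t := ⟨_, rfl⟩
  have hfT : f ∈ T := by rw [hf]; exact T.mul_mem (h.HT hx) ht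
  have f1 : ∀ a, f * X (e1 a) * f⁻¹ = X (e1 (a ^ 2)) := by
    intro a
    have : f * X (e1 a) * f⁻¹ = x * (t * X (e1 a) * t⁻¹) * x⁻¹ := by rw [hf]; group
    rw [this, hc', hxX]
    congr 1
    ext <;> simp only [dg, e1] <;> grind
  have f6 : ∀ a, f * X (e6 a) * f⁻¹ = X (e6 (a ^ 2)) := by
    intro a
    have : f * X (e6 a) * f⁻¹ = x * (t * X (e6 a) * t⁻¹) * x⁻¹ := by rw [hf]; group
    rw [this, hd', hxX]
    congr 1
    ext <;> simp only [dg, e6] <;> grind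
  have fX := h.frob f1 f6
  have p4 : ∀ a : F, (a ^ 2) ^ 2 = a := fun a => by
    have := pow4 h.card a
    linear_combination this
  have ff : f * f = 1 := by
    refine h.eq_one_of (T.mul_mem hfT hfT) (fun a => ?_) (fun a => ?_)
    · have : f * f * X (e1 a) * (f * f)⁻¹ = f * (f * X (e1 a) * f⁻¹) * f⁻¹ := by group
      rw [this, f1, f1, p4]
    · have : f * f * X (e6 a) * (f * f)⁻¹ = f * (f * X (e6 a) * f⁻¹) * f⁻¹ := by group
      rw [this, f6, f6, p4]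
  have finv : f⁻¹ = f := inv_eq_of_mul_eq_one_right ff
  -- commutation with `ja`
  have fA : ja * f * ja * f = 1 := by
    have hcT : ja * f * ja * f ∈ T := T.mul_mem (h.jaT f hfT) hfT
    have hW : ∀ a2 a3 a4 a5 a6 : F, (ja * f * ja * f) * X ⟨0, a2, a3, a4, a5, a6⟩ * (ja * f * ja * f)⁻¹ =
        X ⟨0, a2, a3, a4, a5, a6⟩ := by
      intro a2 a3 a4 a5 a6
      have : (ja * f * ja * f) * X ⟨0, a2, a3, a4, a5, a6⟩ * (ja * f * ja * f)⁻¹ =
        ja * (f * (ja * (f * X ⟨0, a2, a3, a4, a5, a6⟩ * f⁻¹) * ja⁻¹) * f⁻¹) * ja⁻¹ := by group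
      rw [this, fX]
      have z : (0 : F) ^ 2 = 0 := by ring
      simp only [fr, z]
      rw [h.cjA, fX]
      simp only [fr, z]
      rw [h.cjA]
      congr 1
      ext <;> simp only [p4] <;> grind
    refine h.eq_one_of hcT (fun a => ?_) (fun a => hW _ _ _ _ _)
    obtain ⟨b, hb⟩ := h.T1 _ hcT a
    have k2 : X (e1 b) * X (Pt a 1) * X (e6 1) = X (e6 1) * X (e1 b) :=
      conj_rel hb (hW _ _ _ _ _) (hW _ _ _ _ _) (h.comm_Pt a 1)
    rw [← h.comm_Pt b 1] at k2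
    have k3 := congrArg Tup.a5 (h.inj (mul_left_cancel (mul_right_cancel k2)))
    simp only [Pt, one_mul] at k3
    rw [hb, k3]
  have fB : jb * f * jb * f = 1 := by
    have hcT : jb * f * jb * f ∈ T := T.mul_mem (h.jbT f hfT) hfT
    have hY : ∀ a1 a2 a3 a4 a5 : F, (jb * f * jb * f) * X ⟨a1, a2, a3, a4, a5, 0⟩ * (jb * f * jb * f)⁻¹ =
        X ⟨a1, a2, a3, a4, a5, 0⟩ := by
      intro a1 a2 a3 a4 a5
      have : (jb * f * jb * f) * X ⟨a1, a2, a3, a4, a5, 0⟩ * (jb * f * jb * f)⁻¹ =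
        jb * (f * (jb * (f * X ⟨a1, a2, a3, a4, a5, 0⟩ * f⁻¹) * jb⁻¹) * f⁻¹) * jb⁻¹ := by group
      rw [this, fX]
      have z : (0 : F) ^ 2 = 0 := by ring
      simp only [fr, z]
      rw [h.cjB, fX]
      simp only [fr, z]
      rw [h.cjB]
      have q1 := pow4 h.card a1
      have q2 := pow4 h.card a2
      have q3 := pow4 h.card a3
      have q4 := pow4 h.card a4
      have q5 := pow4 h.card a5
      congr 1
      ext <;> simp only [p4] <;> grind
    refine h.eq_one_of hcT (fun a => hY _ _ _ _ _) (fun a => ?_)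
    obtain ⟨b, hb⟩ := h.T6 _ hcT a
    have k2 : X (e1 1) * X (Pt 1 a) * X (e6 b) = X (e6 b) * X (e1 1) :=
      conj_rel (hY _ _ _ _ _) (hY _ _ _ _ _) hb (h.comm_Pt 1 a)
    rw [← h.comm_Pt 1 b] at k2
    have k3 := congrArg Tup.a5 (h.inj (mul_left_cancel (mul_right_cancel k2)))
    simp only [Pt, mul_one] at k3
    rw [hb, k3]
  have comm_of : ∀ j : G, j⁻¹ = j → j * f * j * f = 1 → f * j = j * f := by
    intro j hj hjf
    have h3 : (j * f)⁻¹ = j * f := inv_eq_of_mul_eq_one_right (by rw [← mul_assoc]; exact hjf)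
    rw [mul_inv_rev, hj, finv] at h3
    exact h3
  exact ⟨f, hfT,
    { card := h.card
      inj := h.inj
      mul := h.mul
      ff := ff
      fX := fun a => by rw [← fX, finv]
      f_not := by
        intro a ha
        have k1 := mul_inv_eq_iff_eq_mul.mp (f1 w)
        rw [ha, h.mul, h.mul] at k1
        have k2 := congrArg Tup.a1 (h.inj k1)
        simp only [mu, e1] at k2
        exact hww (by linear_combination -k2)
      fA := comm_of ja h.ja_inv fA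
      fB := comm_of jb h.jb_inv fB
      nA := h.nA
      nB := h.nB }⟩

end Apt

end group

end Cfsg.Agent.Omega.GTwoFour

end

section


/-!
# The stabiliser of the apartment for the node `b = 2`, `q = r = 4`; no field involution

`Hex … 4 4`, coordinates `Pos24`, `C_B(U) ≤ U`, `G` of characteristic 2 type, `U ≤ S ≤ B`, `S` a
Sylow 2-subgroup of `G` ⟹ `S = U`.
-/

set_option autoImplicit false

namespace Cfsg.Agent.Omega.GTwoFour

open Cfsg.Agent.HexRec Subgroup Cfsg.Agent.Omega.GTwoFour.Cor Cfsg Cfsg.Agent.Omega.BTwo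
  Cfsg.Agent.Omega.Hex

universe u v

variable {F : Type v} [Field F] {G : Type u} [Group G]
  {P₁ P₂ B U H V R W Y D : Subgroup G} {n₁ n₂ : G} {X : Tup F F → G} {ja jb : G} {q r : ℕ}

namespace Pos24

variable (p : Pos24 P₁ P₂ H U R V D W Y X ja jb)
include p

theorem X_mem (a : Tup F F) : X a ∈ U := (p.mem_U _).mpr ⟨a, rfl⟩

theorem X_one : X one0 = 1 := by
  have h1 := p.mul one0 one0
  rw [one0_mu] at h1
  exact mul_eq_left.mp h1

theorem ja_inv : ja⁻¹ = ja := inv_eq_of_mul_eq_one_right p.ja_sq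
theorem jb_inv : jb⁻¹ = jb := inv_eq_of_mul_eq_one_right p.jb_sq

theorem ja_e2 (a : F) : ja * X (e2 a) * ja⁻¹ = X (e6 a) := by
  have := p.nA a 0 0 0 0
  rw [e2, this, mul_inv_cancel_right]
  congr 1
  ext <;> simp only [e6]
  ring

theorem ja_e6 (a : F) : ja * X (e6 a) * ja⁻¹ = X (e2 a) := by
  have := p.nA 0 0 0 0 a
  rw [e6, this, mul_inv_cancel_right]
  congr 1
  ext <;> simp only [e2]
  ring

theorem jb_e4 (a : F) : jb * X (e4 a) * jb⁻¹ = X (e2 a) := by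
  have := p.nB 0 0 0 a 0
  rw [e4, this, mul_inv_cancel_right]
  congr 1
  simp [e2]

theorem ja_not (h : Hex P₁ P₂ B U H V R W Y D n₁ n₂ q r) : ja ∉ B := by
  intro hB
  have h1 : X (e2 1) ∈ Y := (p.mem_Y _).mpr rfl
  have h2 := conj_mem_of_normalizer (h.nY (h.B₁ hB)) h1
  rw [p.ja_e2] at h2
  exact one_ne_zero ((p.mem_Y _).mp h2)

theorem jb_not (h : Hex P₁ P₂ B U H V R W Y D n₁ n₂ q r) : jb ∉ B := by
  intro hB
  have h1 : X (e4 1) ∈ R := (p.mem_R _).mpr ⟨rfl, rfl, rfl, rfl, rfl⟩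
  have h2 := conj_mem_of_normalizer (h.nR (h.B₂ hB)) h1
  rw [p.jb_e4] at h2
  exact one_ne_zero ((p.mem_R _).mp h2).2.1

/-- the stabiliser of the apartment -/
theorem ja_T (h : Hex P₁ P₂ B U H V R W Y D n₁ n₂ q r) {t : G} (ht : t ∈ B ⊓ normalizer (H : Set G)) :
    ja * t * ja ∈ B ⊓ normalizer (H : Set G) := by
  have key : ∀ g ∈ P₂, g ∈ normalizer (H : Set G) → g ∈ B ∨ n₂⁻¹ * g ∈ B := fun g hg hgN =>
    h.two₂ g hg fun x hx => h.HB (conj_inv_mem_of_normalizer hgN hx)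
  have h1 : n₂⁻¹ * ja ∈ B := (key ja p.ja_mem p.ja_H).resolve_left (p.ja_not h)
  have h2 : n₂⁻¹ * (t * ja) ∈ B := by
    refine (key (t * ja) (P₂.mul_mem (h.B₂ ht.1) p.ja_mem) (mul_mem ht.2 p.ja_H)).resolve_left fun hc => ?_
    exact p.ja_not h ((B.mul_mem_cancel_left ht.1).1 hc)
  have h3 : ja * t * ja = (n₂⁻¹ * ja)⁻¹ * (n₂⁻¹ * (t * ja)) := by
    calc ja * t * ja = ja⁻¹ * t * ja := by rw [p.ja_inv]
      _ = _ := by group
  refine ⟨?_, mul_mem (mul_mem p.ja_H ht.2) p.ja_H⟩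
  rw [h3]
  exact B.mul_mem (B.inv_mem h1) h2

theorem jb_T (h : Hex P₁ P₂ B U H V R W Y D n₁ n₂ q r) {t : G} (ht : t ∈ B ⊓ normalizer (H : Set G)) :
    jb * t * jb ∈ B ⊓ normalizer (H : Set G) := by
  have key : ∀ g ∈ P₁, g ∈ normalizer (H : Set G) → g ∈ B ∨ n₁⁻¹ * g ∈ B := fun g hg hgN =>
    h.two₁ g hg fun x hx => h.HB (conj_inv_mem_of_normalizer hgN hx)
  have h1 : n₁⁻¹ * jb ∈ B := (key jb p.jb_mem p.jb_H).resolve_left (p.jb_not h)
  have h2 : n₁⁻¹ * (t * jb) ∈ B := by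
    refine (key (t * jb) (P₁.mul_mem (h.B₁ ht.1) p.jb_mem) (mul_mem ht.2 p.jb_H)).resolve_left fun hc => ?_
    exact p.jb_not h ((B.mul_mem_cancel_left ht.1).1 hc)
  have h3 : jb * t * jb = (n₁⁻¹ * jb)⁻¹ * (n₁⁻¹ * (t * jb)) := by
    calc jb * t * jb = jb⁻¹ * t * jb := by rw [p.jb_inv]
      _ = _ := by group
  refine ⟨?_, mul_mem (mul_mem p.jb_H ht.2) p.jb_H⟩
  rw [h3]
  exact B.mul_mem (B.inv_mem h1) h2

/-- `U ∩ N(H) = 1` -/
theorem U_inf (h : Hex P₁ P₂ B U H V R W Y D n₁ n₂ q r) [Finite G] {x : G} (hx : x ∈ U)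
    (hN : x ∈ normalizer (H : Set G)) : x = 1 := by
  have hF := p.card
  have h2 := two hF
  obtain ⟨w, hw⟩ := exists_w hF
  have hw3 : w ^ 3 = 1 := by linear_combination (w - 1) * hw
  have hw0 : w ≠ 0 := by rintro rfl; simp at hw
  have hw1 : w ≠ 1 := by
    rintro rfl
    apply one_ne_zero (α := F)
    linear_combination hw - h2
  obtain ⟨a, rfl⟩ := (p.mem_U x).mp hx
  -- `H ∩ U = 1`
  have hHU : ∀ y ∈ H, y ∈ U → y = 1 := by
    intro y hy hyU
    have h3 : orderOf y ∣ Nat.card H := Subgroup.orderOf_dvd_natCard H hy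
    obtain ⟨k, hk⟩ := (IsPGroup.iff_orderOf.mp h.two) ⟨y, hyU⟩
    rw [Subgroup.orderOf_mk] at hk
    have h4 : Odd (orderOf y) := Odd.of_dvd_nat h.oddH h3
    rw [hk] at h4
    rcases Nat.eq_zero_or_pos k with h5 | h5
    · rw [h5, pow_zero] at hk
      exact orderOf_eq_one_iff.mp hk
    · exact absurd h4 (by rw [Nat.not_odd_iff_even]; exact (Nat.even_pow.mpr ⟨even_two, by omega⟩))
  have hcom : ∀ y ∈ H, y * X a * y⁻¹ = X a := by
    intro y hy
    have h3 : y * X a * y⁻¹ * (X a)⁻¹ = 1 := by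
      apply hHU
      · have h4 := conj_mem_of_normalizer hN (H.inv_mem hy)
        have h5 : y * X a * y⁻¹ * (X a)⁻¹ = y * (X a * y⁻¹ * (X a)⁻¹) := by group
        rw [h5]
        exact H.mul_mem hy h4
      · exact U.mul_mem (conj_mem_of_normalizer (h.nU (h.HB hy)) hx) (U.inv_mem hx)
    exact mul_inv_eq_one.mp h3
  have hdg : ∀ l m : F, l ≠ 0 → m ≠ 0 → dg l m a = a := by
    intro l m hl hm
    obtain ⟨y, hy, hyX⟩ := p.diag' l m hl hm
    exact p.inj ((hyX a).symm.trans (hcom y hy))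
  have k1 := hdg w 1 hw0 one_ne_zero
  have k2 := hdg 1 w one_ne_zero hw0
  have hz : ∀ c b : F, c ≠ 1 → c * b = b → b = 0 := by
    intro c b hc hb
    by_contra hb0
    exact hc (mul_right_cancel₀ hb0 (hb.trans (one_mul b).symm))
  have hw2 : w ^ 2 ≠ 1 := by
    intro hc
    apply hw1
    rw [pow_succ, hc, one_mul] at hw3
    exact hw3
  have : a = one0 := by
    have c1 := congrArg Tup.a1 k1
    have c3 := congrArg Tup.a3 k1
    have c5 := congrArg Tup.a5 k1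
    have c2 := congrArg Tup.a2 k2
    have c4 := congrArg Tup.a4 k2
    have c6 := congrArg Tup.a6 k2
    simp only [dg] at c1 c2 c3 c4 c5 c6
    rw [mul_one] at c3 c5
    ext
    · exact hz _ _ hw1 c1
    · exact hz _ _ hw1 c2
    · exact hz _ _ hw2 c3
    · exact hz _ _ hw2 c4
    · exact hz _ _ hw1 c5
    · exact hz _ _ hw1 c6
  rw [this, p.X_one]

/-- an element of `H` centralising `U` is trivial -/
theorem H_cen (h : Hex P₁ P₂ B U H V R W Y D n₁ n₂ q r) [Finite G] (hc : B ⊓ centralizer (U : Set G) ≤ U)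
    {t : G} (ht : t ∈ B ⊓ normalizer (H : Set G)) (hX : ∀ a, t * X a = X a * t) : t = 1 := by
  refine p.U_inf h (hc ⟨ht.1, mem_centralizer_iff.mpr fun x hx => ?_⟩) ht.2
  obtain ⟨a, rfl⟩ := (p.mem_U x).mp hx
  exact (hX a).symm

omit p in
theorem eq_zero_of {c b : F} (hc : c ≠ 1) (hb : c * b = b) : b = 0 := by
  by_contra hb0
  exact hc (mul_right_cancel₀ hb0 (hb.trans (one_mul b).symm))

omit p in
theorem eq_one_of_mul {c b : F} (hb0 : b ≠ 0) (hb : c * b = b) : c = 1 :=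
  mul_right_cancel₀ hb0 (hb.trans (one_mul b).symm)

/-- the action of `t` : the parameters of a conjugate of an element of the torus -/
theorem conj_par (h : Hex P₁ P₂ B U H V R W Y D n₁ n₂ q r) [Finite G]
    (hc : B ⊓ centralizer (U : Set G) ≤ U) {t : G} (ht : t ∈ B ⊓ normalizer (H : Set G)) {l m : F}
    (hl : l ≠ 0) (hm : m ≠ 0) (hlm : ¬ (l = 1 ∧ m = 1)) {a : Tup F F} (ha : dg l m a = a)
    {b : Tup F F} (hb : t * X a * t⁻¹ = X b) :
    ∃ l' m' : F, l' ≠ 0 ∧ m' ≠ 0 ∧ ¬ (l' = 1 ∧ m' = 1) ∧ dg l' m' b = b := by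
  obtain ⟨x, hx, hxX⟩ := p.diag' l m hl hm
  have hxH : t * x * t⁻¹ ∈ H := conj_mem_of_normalizer ht.2 hx
  obtain ⟨l', m', hl', hm', hlm'⟩ := p.diag _ hxH
  refine ⟨l', m', hl', hm', ?_, ?_⟩
  · rintro ⟨rfl, rfl⟩
    have h1 : t * x * t⁻¹ = 1 := by
      refine p.H_cen h hc ⟨h.HB hxH, le_normalizer hxH⟩ fun c => ?_
      rw [← mul_inv_eq_iff_eq_mul, hlm']
      congr 1
      ext <;> simp [dg]
    have h2 : x = 1 := by
      have h3 : t * x = t := by rw [← mul_inv_eq_one]; exact h1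
      exact mul_eq_left.mp h3
    have h3 : ∀ c, dg l m c = c := fun c => by
      apply p.inj
      rw [← hxX, h2]; group
    apply hlm
    constructor
    · have := congrArg Tup.a1 (h3 (e1 1))
      simpa [dg, e1] using this
    · have := congrArg Tup.a2 (h3 (e2 1))
      simpa [dg, e2] using this
  · apply p.inj
    rw [← hlm', ← hb]
    calc t * x * t⁻¹ * (t * X a * t⁻¹) * (t * x * t⁻¹)⁻¹ = t * (x * X a * x⁻¹) * t⁻¹ := by group
      _ = t * X a * t⁻¹ := by rw [hxX, ha]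

section T

variable (h : Hex P₁ P₂ B U H V R W Y D n₁ n₂ q r) [Finite G] (hc : B ⊓ centralizer (U : Set G) ≤ U)
  {t : G} (ht : t ∈ B ⊓ normalizer (H : Set G))
include h hc ht

omit hc [Finite G] in
theorem exists_tup (a : Tup F F) : ∃ b, t * X a * t⁻¹ = X b := by
  obtain ⟨b, hb⟩ := (p.mem_U _).mp (conj_mem_of_normalizer (h.nU ht.1) (p.X_mem a))
  exact ⟨b, hb.symm⟩

omit hc [Finite G] p in
/-- `t` moves no normalised subgroup -/
theorem mem_iff_of {K : Subgroup G} (hK : B ≤ normalizer (K : Set G)) {x y : G} (hxy : t * x * t⁻¹ = y) :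
    y ∈ K ↔ x ∈ K := by
  rw [← hxy]
  exact (mem_normalizer_iff.mp (hK ht.1) x).symm

theorem T1 (a : F) : ∃ b, t * X (e1 a) * t⁻¹ = X (e1 b) := by
  have hF := p.card
  obtain ⟨w, hw⟩ := exists_w hF
  have hw3 : w ^ 3 = 1 := by linear_combination (w - 1) * hw
  have hw0 : w ≠ 0 := by rintro rfl; simp at hw
  have hw1 : w ≠ 1 := by
    rintro rfl
    apply one_ne_zero (α := F)
    linear_combination hw - two hF
  by_cases ha : a = 0
  · subst ha
    refine ⟨0, ?_⟩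
    have : (e1 0 : Tup F F) = one0 := rfl
    rw [this, p.X_one]; group
  obtain ⟨b, hb⟩ := p.exists_tup h ht (e1 a)
  obtain ⟨l, m, hl, hm, hlm, hd⟩ := p.conj_par h hc ht (l := 1) (m := w) one_ne_zero hw0
    (fun hh => hw1 hh.2) (a := e1 a) (by ext <;> simp [dg, e1]) hb
  have hbW : b.a1 ≠ 0 := by
    rw [Ne, ← p.mem_W, mem_iff_of h ht (h.B₂.trans h.nW) hb, p.mem_W]
    exact ha
  have d1 := congrArg Tup.a1 hd
  have d2 := congrArg Tup.a2 hd
  have d3 := congrArg Tup.a3 hd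
  have d4 := congrArg Tup.a4 hd
  have d5 := congrArg Tup.a5 hd
  have d6 := congrArg Tup.a6 hd
  simp only [dg] at d1 d2 d3 d4 d5 d6
  have l1 : l = 1 := eq_one_of_mul hbW d1
  have m1 : m ≠ 1 := fun hh => hlm ⟨l1, hh⟩
  have m3 := cube hF hm
  have m2 : m ^ 2 ≠ 1 := by
    intro hh
    apply m1
    rw [pow_succ, hh, one_mul] at m3
    exact m3
  subst l1
  rw [one_pow, one_mul] at d3
  rw [one_mul] at d5
  have hbb : b = e1 b.a1 := by
    ext
    · rfl
    · exact eq_zero_of m1 d2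
    · exact eq_zero_of m1 d3
    · exact eq_zero_of m2 d4
    · exact eq_zero_of m1 d5
    · exact eq_zero_of m1 d6
  exact ⟨b.a1, by rw [hb, hbb]; rfl⟩

theorem T3 (a : F) : ∃ b, t * X (e3 a) * t⁻¹ = X (e3 b) := by
  have hF := p.card
  obtain ⟨w, hw⟩ := exists_w hF
  have hw3 : w ^ 3 = 1 := by linear_combination (w - 1) * hw
  have hw0 : w ≠ 0 := by rintro rfl; simp at hw
  have hw1 : w ≠ 1 := by
    rintro rfl
    apply one_ne_zero (α := F)
    linear_combination hw - two hF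
  by_cases ha : a = 0
  · subst ha
    refine ⟨0, ?_⟩
    have : (e3 0 : Tup F F) = one0 := rfl
    rw [this, p.X_one]; group
  obtain ⟨b, hb⟩ := p.exists_tup h ht (e3 a)
  obtain ⟨l, m, hl, hm, hlm, hd⟩ := p.conj_par h hc ht (l := w) (m := w) hw0 hw0
    (fun hh => hw1 hh.2) (a := e3 a) (by
      ext <;> simp only [dg, e3, mul_zero]
      rw [← pow_succ, hw3, one_mul]) hb
  have hbD : b.a1 = 0 ∧ b.a5 = 0 ∧ b.a6 = 0 := by
    rw [← p.mem_D, mem_iff_of h ht (h.B₁.trans h.nD) hb, p.mem_D]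
    exact ⟨rfl, rfl, rfl⟩
  have hbV : b.a3 ≠ 0 := by
    intro h3
    have : X b ∈ V := (p.mem_V _).mpr ⟨hbD.1, h3, hbD.2.1, hbD.2.2⟩
    rw [mem_iff_of h ht (h.B₁.trans h.nV) hb, p.mem_V] at this
    exact ha this.2.1
  have d2 := congrArg Tup.a2 hd
  have d3 := congrArg Tup.a3 hd
  have d4 := congrArg Tup.a4 hd
  simp only [dg] at d2 d3 d4
  have l1 : l ^ 2 * m = 1 := eq_one_of_mul hbV d3
  have m3 := cube hF hm
  have l3 := cube hF hl
  have ml : m = l := by linear_combination l * l1 - m * l3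
  have m1 : m ≠ 1 := fun hh => hlm ⟨ml.symm.trans hh, hh⟩
  have m2 : m ^ 2 ≠ 1 := by
    intro hh
    apply m1
    rw [pow_succ, hh, one_mul] at m3
    exact m3
  have hbb : b = e3 b.a3 := by
    ext
    · exact hbD.1
    · exact eq_zero_of m1 d2
    · rfl
    · exact eq_zero_of m2 d4
    · exact hbD.2.1
    · exact hbD.2.2
  exact ⟨b.a3, by rw [hb, hbb]; rfl⟩

theorem T5 (a : F) : ∃ b, t * X (e5 a) * t⁻¹ = X (e5 b) := by
  have hF := p.card
  obtain ⟨w, hw⟩ := exists_w hF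
  have hw3 : w ^ 3 = 1 := by linear_combination (w - 1) * hw
  have hw0 : w ≠ 0 := by rintro rfl; simp at hw
  have hw1 : w ≠ 1 := by
    rintro rfl
    apply one_ne_zero (α := F)
    linear_combination hw - two hF
  by_cases ha : a = 0
  · subst ha
    refine ⟨0, ?_⟩
    have : (e5 0 : Tup F F) = one0 := rfl
    rw [this, p.X_one]; group
  obtain ⟨b, hb⟩ := p.exists_tup h ht (e5 a)
  obtain ⟨l, m, hl, hm, hlm, hd⟩ := p.conj_par h hc ht (l := w) (m := w ^ 2) hw0 (pow_ne_zero 2 hw0)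
    (fun hh => hw1 hh.1) (a := e5 a) (by
      ext <;> simp only [dg, e5, mul_zero]
      have : w * w ^ 2 = 1 := by linear_combination hw3
      rw [this, one_mul]) hb
  have hb1 : b.a1 = 0 := by
    rw [← p.mem_W, mem_iff_of h ht (h.B₂.trans h.nW) hb, p.mem_W]
    rfl
  have hb6 : b.a6 = 0 := by
    rw [← p.mem_Y, mem_iff_of h ht (h.B₁.trans h.nY) hb, p.mem_Y]
    rfl
  have hb5 : b.a5 ≠ 0 := by
    intro h5
    have : X b ∈ D := (p.mem_D _).mpr ⟨hb1, h5, hb6⟩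
    rw [mem_iff_of h ht (h.B₁.trans h.nD) hb, p.mem_D] at this
    exact ha this.2.1
  have d2 := congrArg Tup.a2 hd
  have d3 := congrArg Tup.a3 hd
  have d4 := congrArg Tup.a4 hd
  have d5 := congrArg Tup.a5 hd
  simp only [dg] at d2 d3 d4 d5
  have l1 : l * m = 1 := eq_one_of_mul hb5 d5
  have m3 := cube hF hm
  have l3 := cube hF hl
  have lne : l ≠ 1 := by
    intro hh
    rw [hh, one_mul] at l1
    exact hlm ⟨hh, l1⟩
  have m1 : m ≠ 1 := by
    intro hh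
    rw [hh, mul_one] at l1
    exact hlm ⟨l1, hh⟩
  have m2 : m ^ 2 ≠ 1 := by
    intro hh
    apply m1
    rw [pow_succ, hh, one_mul] at m3
    exact m3
  have hlm2 : l ^ 2 * m = l := by linear_combination l * l1
  rw [hlm2] at d3
  have hbb : b = e5 b.a5 := by
    ext
    · exact hb1
    · exact eq_zero_of m1 d2
    · exact eq_zero_of lne d3
    · exact eq_zero_of m2 d4
    · rfl
    · exact hb6
  exact ⟨b.a5, by rw [hb, hbb]; rfl⟩

theorem T2 (a : F) : ∃ b, t * X (e2 a) * t⁻¹ = X (e2 b) := by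
  obtain ⟨b, hb⟩ := p.T1 h hc ht 1
  obtain ⟨c, hc'⟩ := p.T3 h hc ht a
  have key : ∀ x y : F, X (e2 (x * y)) = (X (e1 x))⁻¹ * (X (e3 y) * X (e1 x)) * (X (e3 y))⁻¹ := by
    intro x y
    have k : X (e1 x) * X (e2 (x * y)) * X (e3 y) = X (e3 y) * X (e1 x) := by
      simp only [p.mul]
      congr 1
      ext <;> simp only [mu, e1, e2, e3] <;> ring
    rw [← k]; group
  refine ⟨b * c, ?_⟩
  have k := key 1 a
  rw [one_mul] at k
  rw [k, key b c, ← hb, ← hc']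
  group

theorem T6 (a : F) : ∃ b, t * X (e6 a) * t⁻¹ = X (e6 b) := by
  obtain ⟨b, hb⟩ := p.T2 h hc (p.ja_T h ht) a
  refine ⟨b, ?_⟩
  rw [← p.ja_e2 a, ← p.ja_e2 b, ← hb, p.ja_inv]
  have e1 : (ja * t * ja)⁻¹ = ja * t⁻¹ * ja := by
    rw [mul_inv_rev, mul_inv_rev, p.ja_inv]; group
  rw [e1]
  have hj := p.ja_sq
  calc t * (ja * X (e2 a) * ja) * t⁻¹ = (ja * ja) * t * (ja * X (e2 a) * ja) * t⁻¹ * (ja * ja) := by
        rw [hj]; group
    _ = _ := by group

end T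

/-- the apartment -/
theorem apt (h : Hex P₁ P₂ B U H V R W Y D n₁ n₂ q r) [Finite G] (hc : B ⊓ centralizer (U : Set G) ≤ U) :
    Apt X H (B ⊓ normalizer (H : Set G)) ja jb where
  card := p.card
  inj := p.inj
  mul := p.mul
  tor := p.diag
  surj := p.diag'
  HT := le_inf h.HB le_normalizer
  TH := fun _ ht _ hx => conj_mem_of_normalizer ht.2 hx
  cen := fun _ ht hX => p.H_cen h hc ht hX
  T1 := fun _ ht a => p.T1 h hc ht a
  T5 := fun _ ht a => p.T5 h hc ht a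
  T6 := fun _ ht a => p.T6 h hc ht a
  jaT := fun _ ht => p.ja_T h ht
  jbT := fun _ ht => p.jb_T h ht
  ja_sq := p.ja_sq
  jb_sq := p.jb_sq
  nA := p.nA
  nB := p.nB

/-- the 2-part of the stabiliser of the apartment has exponent two -/
theorem six (h : Hex P₁ P₂ B U H V R W Y D n₁ n₂ q r) [Finite G] (hc : B ⊓ centralizer (U : Set G) ≤ U)
    {x : G} (hx : x ∈ B ⊓ normalizer (H : Set G)) : x ^ 6 = 1 := by
  have A := p.apt h hc
  have hF := p.card
  have key : ∀ e : F → Tup F F, Function.Injective e → e 0 = one0 →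
      (∀ a, ∃ b, x * X (e a) * x⁻¹ = X (e b)) → ∀ a, x ^ 6 * X (e a) * (x ^ 6)⁻¹ = X (e a) := by
    intro e he he0 hb a
    obtain ⟨c, hc, hc'⟩ := A.root_form he he0 he he0 hb
    have c3 := cube hF hc
    have a4 := pow4 hF a
    have e6 : x ^ 6 * X (e a) * (x ^ 6)⁻¹ =
        x * (x * (x * (x * (x * (x * X (e a) * x⁻¹) * x⁻¹) * x⁻¹) * x⁻¹) * x⁻¹) * x⁻¹ := by
      simp only [pow_succ, pow_zero, one_mul, mul_inv_rev, mul_assoc]
    rcases hc' with hc' | hc'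
    · rw [e6, hc', hc', hc', hc', hc', hc']
      congr 2
      linear_combination (c ^ 3 + 1) * a * c3
    · rw [e6, hc', hc', hc', hc', hc', hc']
      have k : ∀ b : F, c * (c * b ^ 2) ^ 2 = b := by
        intro b
        have := pow4 hF b
        linear_combination b ^ 4 * c3 + this
      rw [k, k, k]
  exact A.eq_one_of (pow_mem hx 6) (key e1 e1_inj rfl fun a => p.T1 h hc hx a)
    (key e6 e6_inj rfl fun a => p.T6 h hc hx a)

/-- **No field involution**: the Sylow 2-subgroup is `U`. -/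
theorem sylow_eq (h : Hex P₁ P₂ B U H V R W Y D n₁ n₂ q r) [Finite G]
    (hc : B ⊓ centralizer (U : Set G) ≤ U) (hG : IsCharacteristicTwoType G) (S : Sylow 2 G)
    (hUS : U ≤ S) (hSB : (S : Subgroup G) ≤ B) : (S : Subgroup G) = U := by
  have A := p.apt h hc
  have hF := p.card
  obtain ⟨w, hw⟩ := exists_w hF
  have hww : w ^ 2 ≠ w := by
    intro hc
    rw [hc] at hw
    apply one_ne_zero (α := F)
    linear_combination hw - w * two hF
  -- involutions
  have hsq : ∀ x : G, x ∈ (S : Subgroup G) → x ∈ B ⊓ normalizer (H : Set G) → x * x = 1 := by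
    intro x hxS hx
    have h6 := p.six h hc hx
    obtain ⟨k, hk⟩ := (IsPGroup.iff_orderOf.mp S.isPGroup') ⟨x, hxS⟩
    rw [Subgroup.orderOf_mk] at hk
    have h7 : orderOf x ∣ 6 := orderOf_dvd_of_pow_eq_one h6
    have h8 : orderOf x ∣ 2 := by
      rw [hk] at h7 ⊢
      have h9 : Nat.Coprime (2 ^ k) 3 := Nat.Coprime.pow_left _ (by norm_num)
      exact h9.dvd_of_dvd_mul_right (by simpa using h7)
    rw [← pow_two]
    exact orderOf_dvd_iff_pow_eq_one.mp h8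
  have huniq : ∀ x y : G, x ∈ (S : Subgroup G) → x ∈ B ⊓ normalizer (H : Set G) → x ≠ 1 →
      y ∈ (S : Subgroup G) → y ∈ B ⊓ normalizer (H : Set G) → y ≠ 1 → x = y := by
    intro x y hxS hx hx1 hyS hy hy1
    by_contra hne
    have hxy : x * y ≠ 1 := by
      intro hxy
      apply hne
      have h1 := inv_eq_of_mul_eq_one_right (hsq y hyS hy)
      rw [← mul_inv_eq_one, h1, hxy]
    obtain ⟨c, -, -, -, hc1, -⟩ := A.inv_form hx (hsq x hxS hx) hx1
    obtain ⟨d, -, -, -, hd1, -⟩ := A.inv_form hy (hsq y hyS hy) hy1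
    obtain ⟨e, -, he, -, he1, -⟩ := A.inv_form (mul_mem hx hy)
      (hsq _ (mul_mem hxS hyS) (mul_mem hx hy)) hxy
    have k : ∀ a, c * (d * a ^ 2) ^ 2 = e * a ^ 2 := by
      intro a
      apply e1_inj
      apply p.inj
      rw [← hc1, ← hd1, ← he1]
      group
    have k1 := k 1
    have kw := k w
    have w4 := pow4 hF w
    apply hww
    apply mul_left_cancel₀ he
    linear_combination -kw + w ^ 4 * k1 + e * w4
  by_contra hne
  -- an involution in the stabiliser of the apartment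
  obtain ⟨s, hsS, hsU⟩ : ∃ s ∈ (S : Subgroup G), s ∉ U := by
    by_contra hcon
    push Not at hcon
    exact hne (le_antisymm hcon hUS)
  obtain ⟨u, hu, hun⟩ := h.frat s (hSB hsS)
  obtain ⟨t, htd⟩ : ∃ t, t = u⁻¹ * s := ⟨_, rfl⟩
  have htS : t ∈ (S : Subgroup G) := by rw [htd]; exact mul_mem (inv_mem (hUS hu)) hsS
  have htT : t ∈ B ⊓ normalizer (H : Set G) := ⟨hSB htS, by rw [htd]; exact hun⟩
  have ht1 : t ≠ 1 := by
    intro h1
    rw [h1] at htd
    apply hsU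
    have : s = u := (inv_mul_eq_one.mp htd.symm).symm
    rw [this]; exact hu
  have htt := hsq t htS htT
  -- the order of `S`
  have hcard : Nat.card (S : Subgroup G) ≤ Nat.card U * 2 := by
    have hf : ∀ z : U × Bool, (z.1 : G) * (bif z.2 then t else 1) ∈ (S : Subgroup G) := by
      rintro ⟨v, b⟩
      refine mul_mem (hUS v.2) ?_
      cases b
      · exact one_mem _
      · exact htS
    have h1 : Function.Surjective (fun z : U × Bool => (⟨_, hf z⟩ : (S : Subgroup G))) := by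
      rintro ⟨x, hx⟩
      obtain ⟨v, hv, hvn⟩ := h.frat x (hSB hx)
      have hyS : v⁻¹ * x ∈ (S : Subgroup G) := mul_mem (inv_mem (hUS hv)) hx
      by_cases hy1 : v⁻¹ * x = 1
      · refine ⟨(⟨v, hv⟩, false), Subtype.ext ?_⟩
        simp only [cond_false, mul_one]
        exact (inv_mul_eq_one.mp hy1)
      · have h2 := huniq _ t hyS ⟨hSB hyS, hvn⟩ hy1 htS htT ht1
        refine ⟨(⟨v, hv⟩, true), Subtype.ext ?_⟩
        simp only [cond_true]
        rw [← h2]; group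
    have h2 := Nat.card_le_card_of_surjective _ h1
    rw [Nat.card_prod] at h2
    simpa using h2
  obtain ⟨f, -, E⟩ := A.exists_dat htT htt ht1
  have hEU : E.T = U := by
    ext x
    rw [E.mem_T, p.mem_U]
    exact ⟨fun ⟨a, ha⟩ => ⟨a, ha.symm⟩, fun ⟨a, ha⟩ => ⟨a, ha.symm⟩⟩
  have hU : Nat.card U = 4096 := by rw [← hEU]; exact E.card_T
  obtain ⟨Q, hQ⟩ := E.two_S0.exists_le_sylow
  have hQS : Nat.card (Q : Subgroup G) = Nat.card (S : Subgroup G) :=
    Nat.card_congr (Sylow.equiv Q S).toEquiv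
  have hQ' : (Q : Subgroup G) = E.S0 := by
    refine (eq_of_le_of_card_ge hQ ?_).symm
    rw [hQS, E.card_S0]
    rw [hU] at hcard
    exact hcard
  exact E.false_of_field hG Q hQ'

end Pos24

end Cfsg.Agent.Omega.GTwoFour

end

section


/-!
# The pair of type `G₂(4)`: the Sylow 2-subgroup of `G` is that of `G₂(4)`

`Hex … 4 4`, `Four`, `C_B(U) ≤ U`, `G` of characteristic 2 type: `S = U` has the coordinates of the Sylow
2-subgroup of `G₂(4)`.
-/

set_option autoImplicit false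

namespace Cfsg.Agent.Omega.GTwoFour

open Cfsg.Agent.HexRec Subgroup Cfsg Cfsg.Agent.Omega.BTwo Cfsg.Agent.Omega.Hex Cfsg.Agent.Hex.Defs

universe u v

/-- larger parabolic subgroups -/
theorem Pos24.mono {F : Type v} [Field F] {G : Type u} [Group G] {X₁ X₂ P₁ P₂ H U V R W Y D : Subgroup G}
    {X : Tup F F → G} {ja jb : G} (p : Pos24 X₁ X₂ H U R V D W Y X ja jb) (h₁ : X₁ ≤ P₁) (h₂ : X₂ ≤ P₂) :
    Pos24 P₁ P₂ H U R V D W Y X ja jb :=
  { card := p.card, inj := p.inj, mul := p.mul, mem_U := p.mem_U, diag := p.diag, diag' := p.diag'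
    ja_mem := h₂ p.ja_mem, jb_mem := h₁ p.jb_mem, ja_sq := p.ja_sq, jb_sq := p.jb_sq
    ja_H := p.ja_H, jb_H := p.jb_H, nA := p.nA, nB := p.nB, mem_R := p.mem_R, mem_V := p.mem_V
    mem_D := p.mem_D, mem_W := p.mem_W, mem_Y := p.mem_Y }

/-- **coordinates of the pair** -/
theorem exists_pos24 {F : Type v} [Field F] {G : Type u} [Group G] [Finite G]
    {X₁ X₂ P₁ P₂ U V R W Y D : Subgroup G} {h₁ h₂ : G} (f : Id.Four F X₁ X₂ U V R W Y D h₁ h₂)
    (hX₁ : X₁ ≤ P₁) (hX₂ : X₂ ≤ P₂) : ∃ (X : Tup F F → G) (ja jb : G),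
      Pos24 P₁ P₂ (zpowers h₁ ⊔ zpowers h₂) U R V D W Y X ja jb := by
  obtain ⟨h, w, na, nb, x1, x2, x3, x4, x5, x6, hh, f', r⟩ := f.exists_rts
  have h1 : zpowers h = zpowers h₁ := by
    rcases hh with rfl | rfl
    · rfl
    · exact zpowers_inv
  have p := (r.pos24 f').mono hX₁ hX₂
  rw [h1] at p
  exact ⟨_, _, _, p⟩

/-- **the Sylow 2-subgroup** -/
theorem exists_coord_sylow {F : Type v} [Field F] {G : Type u} [Group G] [Finite G]
    (hG : IsCharacteristicTwoType G) (S : Sylow 2 G) {X₁ X₂ P₁ P₂ B U V R W Y D : Subgroup G} {h₁ h₂ n₁ n₂ : G}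
    {q r : ℕ} (h : Hex P₁ P₂ B U (zpowers h₁ ⊔ zpowers h₂) V R W Y D n₁ n₂ q r)
    (hc : B ⊓ centralizer (U : Set G) ≤ U) (hUS : U ≤ S) (hSB : (S : Subgroup G) ≤ B)
    (f : Id.Four F X₁ X₂ U V R W Y D h₁ h₂) (hX₁ : X₁ ≤ P₁) (hX₂ : X₂ ≤ P₂)
    {F₀ : Type} [Field F₀] [Fintype F₀] (h0 : Fintype.card F₀ = 4) (h2 : (2 : F₀) = 0) :
    Nonempty (Coord (OfPair.cubic (OfPair.pair_one h2 : CubicPair (AlgEquiv.refl : F₀ ≃ₐ[F₀] F₀)))
      (S : Subgroup G)) := by
  obtain ⟨X, ja, jb, p⟩ := exists_pos24 f hX₁ hX₂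
  have hS := p.sylow_eq h hc hG S hUS hSB
  rw [hS]
  exact ToCoord.exists_coord p.card p.inj p.mul p.mem_U h0 h2

end Cfsg.Agent.Omega.GTwoFour

end

section


/-!
# The pair of type `G₂(4)`: closing, from the two inputs of S1770
-/

set_option autoImplicit false

namespace Cfsg.Agent.Omega.GTwoFour

open Cfsg.Agent.HexRec Subgroup Cfsg Cfsg.Agent.Omega.BTwo Cfsg.Agent.Omega.Hex Cfsg.Agent.Hex.Defs
  Cfsg.Agent.HexGlob

universe u v

/-- the model side for `|F| = 4` -/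
def InstFour : Prop := ∀ (F : Type) [Field F] [Fintype F], Fintype.card F = 4 → ∀ h2 : (2 : F) = 0,
  FinalS.Inst.{u} (OfPair.cubic (OfPair.pair_one h2 : CubicPair (AlgEquiv.refl : F ≃ₐ[F] F)))
    ↥(Cfsg.Lie.chevG2.group F)

theorem two_of_card {F : Type*} [Field F] [Fintype F] (hF : Fintype.card F = 4) : (2 : F) = 0 :=
  two (by rw [Nat.card_eq_fintype_card, hF])

/-- `G ≅ G₂(4)` -/
theorem nonempty_mulEquiv_of (hglob : FinalS.GlobalFrame.{u}) (hinst : InstFour.{u})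
    {G : Type u} [Group G] [Finite G] [IsSimpleGroup G]
    (S : Sylow 2 G) (F₀ : Type) [Field F₀] [Fintype F₀] (h0 : Fintype.card F₀ = 4)
    (hco : Nonempty (Coord (OfPair.cubic (OfPair.pair_one (two_of_card h0) :
      CubicPair (AlgEquiv.refl : F₀ ≃ₐ[F₀] F₀))) (S : Subgroup G))) :
    Nonempty (G ≃* ↥(Cfsg.Lie.chevG2.group F₀)) := by
  obtain ⟨co⟩ := hco
  obtain ⟨hd, -, hi⟩ := hinst F₀ h0 (two_of_card h0)
  obtain ⟨Φ, hΦ⟩ := hglob hd S co
  exact hi Φ hΦ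

/-- `G` is known -/
theorem known_of (hglob : FinalS.GlobalFrame.{u}) (hinst : InstFour.{u})
    {G : Type u} [Group G] [Finite G] [IsSimpleGroup G]
    (S : Sylow 2 G) (hco : ∀ (F₀ : Type) [Field F₀] [Fintype F₀] (h0 : Fintype.card F₀ = 4),
      Nonempty (Coord (OfPair.cubic (OfPair.pair_one (two_of_card h0) :
        CubicPair (AlgEquiv.refl : F₀ ≃ₐ[F₀] F₀))) (S : Subgroup G))) :
    IsKnownSimple' G := by
  have : Fact (Nat.Prime 2) := ⟨Nat.prime_two⟩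
  let F₀ := GaloisField 2 2
  have hfin : Finite F₀ := inferInstance
  let ft : Fintype F₀ := Fintype.ofFinite F₀
  have h0 : Fintype.card F₀ = 4 := by
    rw [← Nat.card_eq_fintype_card, GaloisField.card 2 2 (by norm_num)]
    norm_num
  obtain ⟨e⟩ := nonempty_mulEquiv_of hglob hinst S F₀ h0 (hco F₀ h0)
  refine Or.inr (Or.inr (Or.inr (Or.inr (Or.inr (Or.inr (Or.inr (Or.inr (Or.inl (Or.inl ?_)))))))))
  exact ⟨F₀, inferInstance, ft, by rw [h0]; norm_num, ⟨e⟩⟩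

/-- **closing of the pair of type `G₂(4)`** -/
theorem close_of (hglob : FinalS.GlobalFrame.{u}) (hinst : InstFour.{u})
    {G : Type u} [Group G] [Finite G] [IsSimpleGroup G] (hG : IsCharacteristicTwoType G) (S : Sylow 2 G)
    {F : Type v} [Field F] {X₁ X₂ P₁ P₂ B U V R W Y D : Subgroup G} {h₁ h₂ n₁ n₂ : G} {q r : ℕ}
    (h : Hex P₁ P₂ B U (zpowers h₁ ⊔ zpowers h₂) V R W Y D n₁ n₂ q r)
    (hc : B ⊓ centralizer (U : Set G) ≤ U) (hUS : U ≤ S) (hSB : (S : Subgroup G) ≤ B)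
    (f : Id.Four F X₁ X₂ U V R W Y D h₁ h₂) (hX₁ : X₁ ≤ P₁) (hX₂ : X₂ ≤ P₂) : IsKnownSimple' G :=
  known_of hglob hinst S fun _ _ _ h0 =>
    exists_coord_sylow hG S h hc hUS hSB f hX₁ hX₂ h0 (two_of_card h0)

end Cfsg.Agent.Omega.GTwoFour

end

end

-- merged: Cfsg.Agent.Mrg.Omega.GTwoFour.InstFourOf
section

/-!
# The model side of `G₂(4)`
-/

set_option autoImplicit false

namespace Cfsg.Agent.Omega.GTwoFour

open Cfsg.Agent.HexRec Subgroup Cfsg Cfsg.Agent.HexGlob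

universe u

theorem instFour : InstFour.{u} := by
  intro F _ _ hF h2
  obtain ⟨c, x1, x2, x3, x4, x5, x6, k, hgen, hU, -, -⟩ := Cfsg.Agent.Hexagon.G2End.exists_kside F
  have k' : Cfsg.Agent.SplitTwo.HexPar ((AlgEquiv.refl : F ≃ₐ[F] F) : F ≃+* F) c.X x1 x2 x3 x4 x5 x6 := k
  have hF' : Fintype.card F = 2 ^ 2 := hF
  have hs : IsSimpleGroup ↥(Cfsg.Lie.chevG2.group F) := by
    refine (Cfsg.Agent.S1055.result ?_).1
    by_contra hcon
    push Not at hcon
    have h3 : Fintype.card F ≤ 2 := by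
      classical
      rw [← Finset.card_univ]
      refine (Finset.card_le_card (t := {0, 1}) fun x _ => ?_).trans Finset.card_le_two
      rw [Finset.mem_insert, Finset.mem_singleton]
      by_cases hx : x = 0
      · exact Or.inl hx
      · exact Or.inr (hcon x hx)
    omega
  refine ⟨⟨Instances.reg _, ?_, Or.inl fun x => ⟨x, rfl⟩⟩, fun P => ?_, fun Φ hΦ => ?_⟩
  · rw [Nat.card_eq_fintype_card, hF]
  · refine Model.exists_coord (OfPair.pair_one h2) c hgen hU k' P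
      ⟨6 * 2, ((2 ^ 2) ^ 2 - 1) * ((2 ^ 2) ^ 6 - 1), ?_, ?_, by decide⟩
    · rw [Nat.card_eq_fintype_card, hF]
      norm_num
    · rw [Cfsg.Agent.S1059.result hF']
      norm_num
  · exact ToR2.nonempty_mulEquiv Φ hΦ c hgen hU k'

end Cfsg.Agent.Omega.GTwoFour

end

-- merged: Cfsg.Agent.Mrg.Omega.Node.SQEnd
section

/-!
# The rank one end of II.a, `q ≥ 4` (assembler: helper326)

`RankOne V R`: `K ⊴ N(R i)`, `[K, R i] = 1`, `K / W i ≅ SL₂(k)`, `W i U j / W i` a Sylow 2-subgroup of it.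
`known_or`: `Sit`, `SemiOut`, `RankOne` imply `GZero V R` (`|k| > 4`: `G₂(q)`, `³D₄(q)`) or `G` is known (`|k| = 4`:
`G₂(4)`).  No open input.

Texts: bb OMEGA #12947 (helper326), #11322 (helper195), #12713 (helper352).  Lean: `SQEnd/` (helper326, 392, 165, 688,
78), `Hex/` (helper195), `GTwoFour/` (helper352, 468).
-/

set_option autoImplicit false

universe u

namespace Cfsg.Agent.Omega.Node.SQEnd

open Subgroup Cfsg Cfsg.Agent.ZN Cfsg.Agent.Omega.NatPair Cfsg.Agent.Omega.BTwo Cfsg.Agent.Omega.Hex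
open Cfsg.Agent.Omega.Frame Cfsg.Agent.Omega.FrameFF Cfsg.Agent.Omega.IIa4 Cfsg.Agent.Omega.SQEnd

/-- **rank one** -/
def RankOne {G : Type*} [Group G] {ι : Type*} (V : Subgroup G) (R : ι → Subgroup G) : Prop :=
  ∃ (i j : ι) (k : Type) (_ : Field k) (K : Subgroup G) (φ : K →* Matrix.SpecialLinearGroup (Fin 2) k),
    KD V R i j K φ

variable {G : Type u} [Group G] [Finite G] {S : Sylow 2 G} {P : Subgroup G} {g : G} {F : Type} [Field F]
  [Finite F] [CharP F 2] {M : NatMod F (zl (S : Subgroup G) P)}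

/-- **The rank one end.** -/
theorem known_or (h : Sit S P g M) (hsemi : SemiOut (zl (S : Subgroup G) P) (pt M))
    (hr : RankOne (zl (S : Subgroup G) P) (pt M)) :
    GZero (zl (S : Subgroup G) P) (pt M) ∨ IsKnownSimple' G := by
  obtain ⟨i, j, k, _, K, φ, kd⟩ := hr
  obtain ⟨v, w1, w2, c⟩ := h.exists_coord kd.ne
  obtain ⟨S₁, hSV, hSR⟩ := sit_exists_sylow h i
  obtain ⟨hC, hQ⟩ := hsemi i
  have hNAe := NAe h.btc hC.le c kd h.four (odd_relIndex S₁ hSV hSR)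
  have h4 := four_le_card h.btc c kd hNAe h.four
  rcases h4.lt_or_eq with h5 | h5
  · exact Or.inl (gZero h.btc c kd hC.le hQ hNAe h.four h5 (fun Y _ _ => StrongEmb.Main.bender Y) h.ctx.char2 S₁ hSR)
  · right
    have := h.ctx.simple
    have hF := card_k_eq h.btc c kd hNAe h.four h5.symm
    obtain ⟨P₁, P₂, B, U, X₁, X₂, h₁, h₂, n₁, n₂, hH, h1, h2, h3, hf, hX₁, hX₂, -, -⟩ :=
      exists_four h.btc c kd hC.le hNAe hF h5.symm S₁ hSV hSR
    exact GTwoFour.close_of HexGlob.GlobFrame.globalFrame GTwoFour.instFour h.ctx.char2 S₁ hH h1 h2 h3 hf hX₁ hX₂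

end Cfsg.Agent.Omega.Node.SQEnd

end

-- merged: Cfsg.Agent.Mrg.Omega.Lie.End.SitRS
section

section


/-!
# The systems of the moved components (`RS`) in the situation `BTC` / `Sit`, all hypotheses discharged

`exists_rsx` : from `LAYER` at `(i, j, S₁)`, `C(W i) ≤ R i` and `KSideX` there is an enumeration `K : Fin n → _` of the
moved components of `N(R i)/O₂(N(R i))` with parabolic systems (`RS`), `n ≥ 1`, and `Opp`, `OneL` for each of them.
Plugged in: helper460 (the exception `KExc` is impossible), helper407 ((L8)), helper43 (`RS`), `CzAll` (`A ≠ 1`).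
-/

set_option autoImplicit false
set_option linter.unusedSectionVars false

namespace Cfsg.Agent.Omega.Lie.End.SitRS

open Subgroup Cfsg Cfsg.Agent.ZN Cfsg.Agent.Omega.NatPair Cfsg.Agent.Omega.BTwo Cfsg.Agent.Omega.Frame
open Cfsg.Agent.Omega.Lie Cfsg.Agent.Omega.Lie.Quot Cfsg.Agent.Omega.IIa4 Cfsg.Agent.Omega.Lie.End
open Cfsg.Agent.Omega.Lie.End.OfLay

universe u

theorem exists_ne_of_four {F : Type*} [Field F] [Finite F] (h4 : 4 ≤ Nat.card F) : ∃ a : F, a ≠ 0 ∧ a ≠ 1 := by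
  by_contra hcon
  push Not at hcon
  have h1 : Set.univ ⊆ ({0, 1} : Set F) := fun a _ => by
    by_cases ha : a = 0
    · exact Or.inl ha
    · exact Or.inr (hcon a ha)
  have h2 := Set.ncard_le_ncard h1
  rw [Set.ncard_pair zero_ne_one, Set.ncard_univ] at h2
  omega

section btc

variable {G : Type u} [Group G] {ι : Type*} {V : Subgroup G} {R : ι → Subgroup G} {F : Type*} [Field F] {i j : ι}
  {v : F → F → G} {w1 w2 : F → G} {t : F → G}

/-- the exception does not occur -/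
theorem not_kExc [Finite G] [Finite F] [CharP F 2] (b : BTC V R) (c : Coord V R i j v w1 w2)
    (τ : TorD V R i j v t) (S₁ : Sylow 2 G) (hV : (S₁ : Subgroup G) ≤ normalizer (V : Set G))
    (hR : (S₁ : Subgroup G) ≤ normalizer (R i : Set G)) (l : Lay V R i j (TT τ) (SS R i S₁))
    {K : Subgroup (HQ (R i))} (hK : MComp V R i j K) :
    ¬ KExc K ((SS R i S₁).subgroupOf K) (Tact (TT τ) K) := by
  have hh := l.hyp K hK
  refine ExcDead.not_kExc b c τ S₁ hV hR hh hK.2.2 (fun x hx => ?_) fun α hα => ?_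
  · exact ⟨K.normalizerMonoidHom ⟨x, T_le hh.toPre hx⟩, mem_Tact.2 ⟨x, hx, T_le hh.toPre hx, fun y => rfl⟩,
      fun y => rfl⟩
  · obtain ⟨x, hx, -, h1⟩ := mem_Tact.1 hα
    exact ⟨x, hx, h1⟩

/-- **The systems of the moved components.** -/
theorem exists_rsx [Finite G] [Finite F] [CharP F 2] (hks : KSideX.{u}) (b : BTC V R)
    (c : Coord V R i j v w1 w2) (τ : TorD V R i j v t) (h4 : 4 ≤ Nat.card F)
    (hC : centralizer (WW V (R i) : Set G) ≤ R i) (S₁ : Sylow 2 G)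
    (hV : (S₁ : Subgroup G) ≤ normalizer (V : Set G)) (hR : (S₁ : Subgroup G) ≤ normalizer (R i : Set G))
    (l : Lay V R i j (TT τ) (SS R i S₁)) :
    ∃ (n : ℕ) (K : Fin n → Subgroup (HQ (R i))) (J : Fin n → Type) (P : ∀ a, J a → Subgroup (K a))
      (m : ∀ a, J a → J a → ℕ), (∀ a, Finite (J a)) ∧ Nonempty (Fin n) ∧
        RS V R i j (TT τ) (SS R i S₁) K J P m ∧
        ∀ a, Opp (normalizer ((SS R i S₁).subgroupOf (K a) : Set (K a))) ((SS R i S₁).subgroupOf (K a)) (P a) ∧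
          OneL (K a) (J a) :=
  RealEnum.exists_RSX hks b.toBT τ τ.ne h4 l (fun _ hK => not_kExc b c τ S₁ hV hR l hK)
    (BasOf.normal_of_lay b c τ (exists_ne_of_four h4) hC S₁ hV hR l)
    (RealEnum.exists_mcomp b S₁ τ.ne hV hR l)

end btc

section sit

variable {G : Type u} [Group G] [Finite G] {S : Sylow 2 G} {P : Subgroup G} {g : G} {F : Type} [Field F]
  [Finite F] [CharP F 2] {M : NatMod F (zl (S : Subgroup G) P)} (h : Sit S P g M)
include h

/-- **The systems of the moved components**, in the situation of `LeafA4`. -/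
theorem sit_rsx (hks : KSideX.{u}) (hl : LayAll (zl (S : Subgroup G) P) (pt M) F)
    (hsemi : SemiOut (zl (S : Subgroup G) P) (pt M)) {i j : Pt M} {v : F → F → G} {w1 w2 : F → G} {t : F → G}
    (c : Coord (zl (S : Subgroup G) P) (pt M) i j v w1 w2) (τ : TorD (zl (S : Subgroup G) P) (pt M) i j v t)
    (S₁ : Sylow 2 G) (hV : (S₁ : Subgroup G) ≤ normalizer (zl (S : Subgroup G) P : Set G))
    (hR : (S₁ : Subgroup G) ≤ normalizer (pt M i : Set G)) :
    ∃ (n : ℕ) (K : Fin n → Subgroup (HQ (pt M i))) (J : Fin n → Type) (Q : ∀ a, J a → Subgroup (K a))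
      (m : ∀ a, J a → J a → ℕ), (∀ a, Finite (J a)) ∧ Nonempty (Fin n) ∧
        RS (zl (S : Subgroup G) P) (pt M) i j (TT τ) (SS (pt M) i S₁) K J Q m ∧
        ∀ a, Opp (normalizer ((SS (pt M) i S₁).subgroupOf (K a) : Set (K a))) ((SS (pt M) i S₁).subgroupOf (K a))
          (Q a) ∧ OneL (K a) (J a) :=
  exists_rsx hks h.btc c τ h.four (hsemi i).1.le S₁ hV hR (hl i j τ.ne v w1 w2 t c τ S₁ hV hR)

end sit

end Cfsg.Agent.Omega.Lie.End.SitRS

end

section


/-!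
# The end of NODE LIE: THE NODE THEOREM for the moved nodes of `RS`

* `RS.nodeP` : the hypotheses `NodeP` of helper493's `node_eig` for `P⁺ = Pp (P x) U`;
* `RS.node` : the four cases;
* `gamT_of_nodeG` : type (gamma) implies `GamT`.
-/

set_option autoImplicit false
set_option linter.unusedSectionVars false

namespace Cfsg.Agent.Omega.Lie.End

open Subgroup Cfsg Cfsg.Agent.ParSys Cfsg.Agent.Omega.BTwo Cfsg.Agent.Omega.Lie Cfsg.Agent.Omega.Lie.Quot
open Cfsg.Agent.Omega.IIa4 Cfsg.Agent.Omega.Lie.End.OfLay Cfsg.Agent.Omega.Lie.Nodes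

universe u v w

variable {G : Type u} [Group G] {ι : Type w} {V : Subgroup G} {R : ι → Subgroup G} {F : Type v} [Field F] {i j : ι}
  {v : F → F → G} {w1 w2 : F → G} {t : F → G}

namespace RS

variable {T S : Subgroup (HQ (R i))} {α : Type} {K : α → Subgroup (HQ (R i))} {J : α → Type}
  {P : ∀ a, J a → Subgroup (K a)} {m : ∀ a, J a → J a → ℕ} (D : RS V R i j T S K J P m)
include D

theorem nodeP [Finite G] [Finite α] (b : BT V R) (τ : TorD V R i j v t) (hij : i ≠ j) (hT : T = TT τ)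
    (hd : Zero.Dat V R i (BG K T S) (UG K S)) {a : α} {k : J a}
    (hm : End.Moved (S.subgroupOf (K a)) (Tact T (K a)) (P a k)) :
    NodeP V R i j t (Pp (PG K T S P ⟨a, k⟩) (UG K S)) := by
  have hp := D.preG
  have hnV := D.not_le_of_moved b hij hm
  have hPV := inf_NV_le (hp.ptr ⟨a, k⟩) hp.U_le hd.BV hnV
  have hUP := hp.U_le.trans (hp.le ⟨a, k⟩)
  have hPp : Pp (PG K T S P ⟨a, k⟩) (UG K S) ≤ PG K T S P ⟨a, k⟩ := Pp_le hUP
  have hB : ∀ x ∈ PG K T S P ⟨a, k⟩, x ∈ BG K T S ↔ cj x V = V := by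
    intro x hx
    rw [cj_eq_self_iff]
    exact ⟨fun h => hd.BV h, fun h => hPV (mem_inf.2 ⟨hx, h⟩)⟩
  refine ⟨D.Pp_le_cen b _, (D.A_le_UG b hij).trans le_Pp, ?_, ?_, ?_⟩
  · intro c hc x hx
    refine Pp_conj (hp.le _ ?_) hx
    have h1 : τ.grp ≤ normalizer (R i : Set G) := by
      rintro _ ⟨a, ha, rfl⟩
      exact τ.normR ha
    refine (le_up_im h1).trans (up_mono ?_) (⟨c, hc, rfl⟩ : t c ∈ τ.grp)
    rw [hT]
    exact le_sup_right
  · intro x hx x' hx' h1 h2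
    have h3 : x ∉ BG K T S := fun h => h1 ((hB x (hPp hx)).1 h)
    have h4 : x' ∉ BG K T S := fun h => h2 ((hB x' (hPp hx')).1 h)
    obtain ⟨u, hu, h5⟩ := D.tr b hm (hPp hx) h3 (hPp hx') h4
    refine ⟨u, hu, ?_⟩
    have h6 := cj_eq_self_iff.2 (hd.BV h5)
    have e : x' = (u * x) * ((u * x)⁻¹ * x') := by group
    rw [e, cj_mul, h6, cj_mul]
  · obtain ⟨x, hx, y, hy, hxB, hyB, hxy⟩ := hp.three ⟨a, k⟩
    obtain ⟨x', hx', z, hz, rfl⟩ := exists_Pp (hp.ptr _) (hp.three _) hx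
    obtain ⟨y', hy', z', hz', rfl⟩ := exists_Pp (hp.ptr _) (hp.three _) hy
    refine ⟨x', hx', y', hy', fun h => hxB ?_, fun h => hyB ?_, fun h => hxy ?_⟩
    · exact mul_mem ((hB x' (hPp hx')).2 h) hz
    · exact mul_mem ((hB y' (hPp hy')).2 h) hz'
    · have h1 : x'⁻¹ * y' ∈ BG K T S := by
        rw [hB _ (mul_mem (inv_mem (hPp hx')) (hPp hy')), cj_mul, ← h, cj_inv_cj]
      have e : (x' * z)⁻¹ * (y' * z') = z⁻¹ * (x'⁻¹ * y') * z' := by group
      rw [e]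
      exact mul_mem (mul_mem (inv_mem hz) h1) hz'

end RS

section gam

variable {M B : Type u} [AddCommGroup M] [AddCommGroup B]
  [DistribMulAction (NR R i) M] [DistribMulAction (NR R i) B] [Module F M] {p : G → M} {r : G → B}
  {f : M →+ M →+ B} {φ : M →ₗ[F] M →ₗ[F] F} {s : NR R i → (F ≃+* F)} [CharP F 2]
  [Finite G] [Finite F] {h : FMod V R i j v w1 w2 M B p r f φ s} {τ : Lie.TorD V R i j v t}
  {N : Type u} [AddCommGroup N] [Module F N] {P1 P2 : G → N} {y : YPair V R i j w1 w2 N P1 P2}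
  {n : N →ₗ[F] M} {sf : N →ₗ[F] N →ₗ[F] M} {q : N → N →ₗ[F] F}

/-- type (gamma) is `GamT` -/
theorem gamT_of_nodeG (g : Eig h τ y n sf q) {P : Subgroup G} (hPN : P ≤ normalizer (R i : Set G)) (hP : NodeG g P)
    (hne : ¬ P ≤ normalizer (V : Set G)) : GamT V P := by
  obtain ⟨x, hx, hxV⟩ := SetLike.not_le_iff_exists.1 hne
  have h1 := hP.phi_ne ⟨x, hPN hx⟩ hx hxV
  refine ⟨x, hx, v 0 1, h.co.v_mem 0 1, v 0 1, h.co.v_mem 0 1, fun h2 => h1 ?_⟩
  have hv := h.co.v_mem 0 1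
  have hW := V_le_WW V (R i) hv
  rw [h.fr.p_act ⟨x, hPN hx⟩ (v 0 1) hW]
  refine h.phi_of ?_
  rw [h.fr.f_eq _ (BTwo.conj_mem_of_normalizer (normalizer_le_WW V (R i) (hPN hx)) hW) _ hW]
  have e : x * v 0 1 * x⁻¹ * v 0 1 * (x * v 0 1 * x⁻¹)⁻¹ * (v 0 1)⁻¹ = 1 := by rw [h2]; group
  change r (x * v 0 1 * x⁻¹ * v 0 1 * (x * v 0 1 * x⁻¹)⁻¹ * (v 0 1)⁻¹) = _
  rw [e, map_zero]
  exact (h.fr.r_ker 1 (one_mem _)).2 rfl

end gam

end Cfsg.Agent.Omega.Lie.End

end

section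


/-!
# The end of NODE LIE: `SepG` for the node 0 and a moved node of `RS`

`RS.sep_node` : if no node is of type (gamma), then `SepG` holds for `P₀` and every moved node (all `q ≥ 4`).
* another node in the same component: `RS.sep_nbr`;
* another component: helper105's `Zero.sepG_node`;
* the only node: it would be of type (gamma) (helper988's `gamT_of_frat`).
-/

set_option autoImplicit false
set_option linter.unusedSectionVars false

namespace Cfsg.Agent.Omega.Lie.End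

open Subgroup Cfsg Cfsg.Agent.ParSys Cfsg.Agent.Omega.BTwo Cfsg.Agent.Omega.Lie Cfsg.Agent.Omega.Lie.Quot
open Cfsg.Agent.Omega.IIa4 Cfsg.Agent.Omega.Lie.End.OfLay

universe u v w

variable {G : Type u} [Group G] {ι : Type w} {V : Subgroup G} {R : ι → Subgroup G} {F : Type v} [Field F] {i j : ι}
  {v : F → F → G} {w1 w2 : F → G} {t : F → G}

namespace RS

variable {T S : Subgroup (HQ (R i))} {α : Type} {K : α → Subgroup (HQ (R i))} {J : α → Type}
  {P : ∀ a, J a → Subgroup (K a)} {m : ∀ a, J a → J a → ℕ} (D : RS V R i j T S K J P m)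
include D

/-- `SepG` from a node of another component -/
theorem sep_other [Finite G] [Finite F] [CharP F 2] [Finite α] (b : BTC V R) (c : Coord V R i j v w1 w2)
    (τ : TorD V R i j v t) (hF : ∃ a : F, a ≠ 0 ∧ a ≠ 1) (hC : centralizer (WW V (R i) : Set G) ≤ R i)
    (hij : i ≠ j) (hd : Zero.Dat V R i (BG K T S) (UG K S)) (hg : ∀ x, ¬ GamT V (PG K T S P x)) {a a' : α}
    (ha : a ≠ a') (k : J a) : SepG 2 (BG K T S) (UG K S) (PG K T S P ⟨a, k⟩) (Zero.P0 V R (BG K T S)) := by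
  obtain ⟨l, hl⟩ := (D.sys a').moved
  have hp := D.preG
  have hps := D.psit
  have hcomm : ∀ p ∈ PG K T S P ⟨a', l⟩, ∀ x ∈ V, ∀ y ∈ V, p * x * p⁻¹ * y = y * (p * x * p⁻¹) := by
    intro p hp x hx y hy
    by_contra hcon
    exact hg ⟨a', l⟩ ⟨p, hp, x, hx, y, hy, hcon⟩
  refine Zero.sepG_node b c τ hF hC hd (hp.le ⟨a', l⟩) hp.isP hp.norm hp.index (hp.ptr _)
    (D.not_le_of_moved b.toBT hij hl) hcomm (L := up (R i) ((P a' l).map (K a').subtype)) (up_mono le_sup_left)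
    ((up_mono (map_subtype_le _)).trans (D.K_le_cen b.toBT a')) (up_norm (hps.C_norm_P a' l).le_normalizer)
    ?_ (hp.le ⟨a, k⟩) ?_
  · have h1 : PG K T S P ⟨a', l⟩ = up (R i) ((P a' l).map (K a').subtype) ⊔ BG K T S := up_sup
    exact h1.le
  · rintro x ⟨h1, h2⟩
    rw [Qk_up]
    obtain ⟨h3, h4⟩ := mem_up.1 h1
    obtain ⟨h5, h6⟩ := mem_up.1 h2
    obtain ⟨y, -, e⟩ := h4
    refine mem_up.2 ⟨h3, ?_⟩
    rw [← e] at h6 ⊢
    exact hps.mem_Qk_of ha k h6

/-- **`SepG` for the node 0 and a moved node**, if no node is of type (gamma) -/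
theorem sep_node [Finite G] [Finite F] [CharP F 2] [Finite α] (b : BTC V R) (c : Coord V R i j v w1 w2)
    (τ : TorD V R i j v t) (hF : ∃ a : F, a ≠ 0 ∧ a ≠ 1) (hC : centralizer (WW V (R i) : Set G) ≤ R i)
    (hij : i ≠ j) (hd : Zero.Dat V R i (BG K T S) (UG K S))
    (hCA : ∀ x ∈ WW V (R i), (∀ u ∈ UU V R j, u * x * u⁻¹ * x⁻¹ ∈ R i) → x ∈ V)
    (hfr : ∀ x ∈ normalizer (R i : Set G), ∃ e ∈ IIa4.Moved.EE V R i j, e * x ∈ normalizer (V : Set G))
    (hg : ∀ x, ¬ GamT V (PG K T S P x)) {a : α} {k : J a}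
    (hm : End.Moved (S.subgroupOf (K a)) (Tact T (K a)) (P a k)) :
    SepG 2 (BG K T S) (UG K S) (PG K T S P ⟨a, k⟩) (Zero.P0 V R (BG K T S)) ∨
      SepG 2 (BG K T S) (UG K S) (Zero.P0 V R (BG K T S)) (PG K T S P ⟨a, k⟩) := by
  by_cases h1 : ∃ l, l ≠ k
  · exact Or.inr (D.sep_nbr b.toBT c hij hd hCA hm h1)
  · by_cases h2 : ∃ a', a' ≠ a
    · obtain ⟨a', ha'⟩ := h2
      exact Or.inl (D.sep_other b c τ hF hC hij hd hg ha'.symm k)
    · exfalso
      push Not at h1 h2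
      have : Nonempty α := ⟨a⟩
      refine hg ⟨a, k⟩ (gamT_of_frat b.toBT hij hfr ((D.E_le b.toBT hij).trans (iSup_le ?_)))
      rintro ⟨a', l⟩
      obtain rfl := h2 a'
      obtain rfl := h1 l
      exact le_rfl

end RS

end Cfsg.Agent.Omega.Lie.End

end

end

-- merged: Cfsg.Agent.Mrg.Omega.Lie.End.Res0Alpha
section

/-!
# The end of NODE LIE: the residue `(0, x)` of a node of type alpha

`alpha_of_nodeA` : helper725's `Alpha` from helper493's `NodeA`; `M' = ` the preimage of `⟨e, d⟩` in `W i`.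
-/

set_option autoImplicit false
set_option linter.unusedSectionVars false

namespace Cfsg.Agent.Omega.Lie.End

open Subgroup Cfsg Cfsg.Agent.ParSys Cfsg.Agent.Omega.BTwo Cfsg.Agent.Omega.Lie Cfsg.Agent.Omega.Lie.Quot
open Cfsg.Agent.Omega.IIa4 Cfsg.Agent.Omega.Lie.End.OfLay Cfsg.Agent.Omega.Lie.Nodes

universe u v w

variable {G : Type u} [Group G] {ι : Type w} {V : Subgroup G} {R : ι → Subgroup G} {F : Type v} [Field F] {i j : ι}
  {v : F → F → G} {w1 w2 : F → G} {t : F → G}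

variable {M B : Type u} [AddCommGroup M] [AddCommGroup B]
  [DistribMulAction (NR R i) M] [DistribMulAction (NR R i) B] [Module F M] {p : G → M} {r : G → B}
  {f : M →+ M →+ B} {φ : M →ₗ[F] M →ₗ[F] F} {s : NR R i → (F ≃+* F)} [CharP F 2]
  [Finite G] [Finite F] {h : FMod V R i j v w1 w2 M B p r f φ s} {τ : Lie.TorD V R i j v t}
  {N : Type u} [AddCommGroup N] [Module F N] {P1 P2 : G → N} {y : YPair V R i j w1 w2 N P1 P2}
  {n : N →ₗ[F] M} {sf : N →ₗ[F] N →ₗ[F] M} {q : N → N →ₗ[F] F}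

section alpha

variable {BB U Px Q : Subgroup G} {d : M} {g : Eig h τ y n sf q}

/-- the preimage of `⟨e, d⟩` -/
abbrev Md (g : Eig h τ y n sf q) (d : M) : Subgroup G :=
  pre (gfr_of g).fr (Submodule.span F {p (v 0 1)} ⊔ Submodule.span F {d})

theorem mem_Md {x : G} : x ∈ Md g d ↔ x ∈ WW V (R i) ∧ ∃ c c' : F, p x = c • p (v 0 1) + c' • d := by
  have h1 : x ∈ Md g d ↔ x ∈ WW V (R i) ∧ p x ∈ Submodule.span F {p (v 0 1)} ⊔ Submodule.span F {d} := mem_pre _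
  rw [h1]
  refine and_congr_right fun _ => ?_
  constructor
  · intro hm
    obtain ⟨a, ha, b, hb, e⟩ := Submodule.mem_sup.1 hm
    obtain ⟨c, rfl⟩ := Submodule.mem_span_singleton.1 ha
    obtain ⟨c', rfl⟩ := Submodule.mem_span_singleton.1 hb
    exact ⟨c, c', e.symm⟩
  · rintro ⟨c, c', e⟩
    rw [e]
    exact Submodule.add_mem_sup (Submodule.mem_span_singleton.2 ⟨c, rfl⟩) (Submodule.mem_span_singleton.2 ⟨c', rfl⟩)

theorem V_le_Md : V ≤ Md g d := by
  intro z hz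
  have hW := V_le_WW V (R i) hz
  obtain ⟨c, hc⟩ := (p_mem_V_iff h hW).1 hz
  exact mem_Md.2 ⟨hW, c, 0, by rw [hc, zero_smul, add_zero]⟩

/-- **`Alpha` from `NodeA`** -/
theorem alpha_of_nodeA (K : QPx V R i BB U Px Q) (hQ : Q ≤ centralizer (R i : Set G)) (A : NodeA g Q d)
    (cov : ∀ u ∈ U, ∃ y ∈ UU V R j, y⁻¹ * u ∈ Qk BB Px) : HOne.End.Alpha V R i BB U Px (Md g d) := by
  have b := h.bt
  have hMW : Md g d ≤ WW V (R i) := fun z hz => (mem_Md.1 hz).1
  have hRW : R i ≤ WW V (R i) := (b.R_le i).trans (V_le_WW V (R i))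
  -- `Q` normalises `Md`
  have hQM : Q ≤ normalizer (Md g d : Set G) := by
    refine le_normalizer_of fun x hx z hz => ?_
    obtain ⟨hzW, hz2⟩ := (mem_pre _).1 hz
    have hxN : x ∈ normalizer (R i : Set G) := centralizer_le_normalizer _ (hQ hx)
    refine (mem_pre _).2 ⟨BTwo.conj_mem_of_normalizer (normalizer_le_WW V (R i) hxN) hzW, ?_⟩
    have h1 := A.hPN ⟨x, hxN⟩ hx _ hz2
    rw [h.fr.p_act ⟨x, hxN⟩ z hzW] at h1
    exact h1
  -- the lines
  have line : ∀ x ∈ Q, ∀ hxN : x ∈ normalizer (R i : Set G), ∀ z ∈ cj x V, z ∈ WW V (R i) ∧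
      ∃ c : F, p z = c • ((⟨x, hxN⟩ : NR R i) • p (v 0 1)) := by
    intro x hx hxN z hz
    obtain ⟨z, hz, rfl⟩ := hz
    have hzW := V_le_WW V (R i) hz
    obtain ⟨c, hc⟩ := (p_mem_V_iff h hzW).1 hz
    refine ⟨BTwo.conj_mem_of_normalizer (normalizer_le_WW V (R i) hxN) hzW, c, ?_⟩
    have h1 := h.fr.p_act ⟨x, hxN⟩ z hzW
    change p (x * z * x⁻¹) = _
    rw [← h.lin_cen (g := ⟨x, hxN⟩) (hQ hx), ← hc]
    exact h1.symm
  have line' : ∀ x ∈ Q, ∀ hxN : x ∈ normalizer (R i : Set G), ∀ z ∈ WW V (R i), ∀ c : F,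
      p z = c • ((⟨x, hxN⟩ : NR R i) • p (v 0 1)) → z ∈ cj x V := by
    intro x hx hxN z hz c hc
    have h1 : x⁻¹ * z * x ∈ V := by
      have hW : x⁻¹ * z * x ∈ WW V (R i) := BTwo.conj_inv_mem_of_normalizer (normalizer_le_WW V (R i) hxN) hz
      rw [p_mem_V_iff h hW]
      refine ⟨c, ?_⟩
      have h2 := h.fr.p_act (⟨x, hxN⟩⁻¹ : NR R i) z hz
      have e : p (x⁻¹ * z * x) = (⟨x, hxN⟩⁻¹ : NR R i) • p z := by
        rw [h2]
        congr 1
        change x⁻¹ * z * x = x⁻¹ * z * x⁻¹⁻¹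
        rw [inv_inv]
      rw [e, hc, h.lin_cen (g := (⟨x, hxN⟩⁻¹ : NR R i)) (inv_mem (hQ hx) : _), inv_smul_smul]
    refine ⟨_, h1, ?_⟩
    change x * (x⁻¹ * z * x) * x⁻¹ = z
    group
  have hxB : ∀ x ∈ Px, x ∉ BB → ∃ z ∈ Q, z ∉ normalizer (V : Set G) ∧ cj x V = cj z V := by
    intro x hx hxB
    obtain ⟨z, hz, hzx⟩ := K.exists_mul hx
    have e : x = z * (z⁻¹ * x) := by group
    refine ⟨z, hz, fun hzV => hxB ?_, ?_⟩
    · rw [e]
      exact mul_mem (K.X.PV (mem_inf.2 ⟨K.QP hz, hzV⟩)) hzx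
    · conv_lhs => rw [e]
      rw [cj_mul, cj_eq_self_iff.2 (K.dat.BV hzx)]
  exact {
    V_M := V_le_Md
    M_D := by
      intro z hz
      obtain ⟨hzW, c, c', e⟩ := mem_Md.1 hz
      have h1 : p z ∈ h.fr.sb (DD V R) := (g.mem_D _).2 ⟨c, c' • d, (h.M0 τ).smul_mem _ A.mem, e⟩
      exact (h.fr.p_mem_iff hzW ((b.R_le i).trans (V_le_D V R))).1 h1
    P_M := by
      refine K.PQ.trans (sup_le hQM fun x hx => ?_)
      refine norm_of_gen (V := V) (L := Q) V_le_Md hQM ?_ (K.dat.BV hx) (K.BQ hx)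
      -- `Md` is generated by the conjugates of `V`
      intro z hz
      obtain ⟨hzW, c, c', e⟩ := mem_Md.1 hz
      by_cases h0 : c • p (v 0 1) + c' • d = 0
      · refine (le_iSup (fun g : Q => cj (g : G) V) 1) ?_
        change z ∈ cj (1 : G) V
        rw [cj_one, p_mem_V_iff h hzW]
        exact ⟨0, by rw [e, h0, zero_smul]⟩
      · obtain ⟨x, hx, a, ha, h1⟩ := A.orb' c c' h0
        refine (le_iSup (fun g : Q => cj (g : G) V) ⟨x, hx⟩) ?_
        refine line' x hx x.2 z hzW a⁻¹ ?_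
        rw [e, show (⟨(x : G), x.2⟩ : NR R i) = x from rfl, h1, inv_smul_smul₀ ha]
    P_R := K.X.PR
    span := by
      intro x hx hxB'
      obtain ⟨z, hz, hzV, e1⟩ := hxB x hx hxB'
      rw [e1]
      have hzN : z ∈ normalizer (R i : Set G) := centralizer_le_normalizer _ (hQ hz)
      obtain ⟨a, a', h1⟩ := A.orb ⟨z, hzN⟩ hz
      have ha' : a' ≠ 0 := by
        rintro rfl
        apply hzV
        exact (norm_V_iff h (g := ⟨z, hzN⟩)).2 ⟨a, by rw [h1, zero_smul, add_zero]⟩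
      intro w hw
      obtain ⟨hwW, c, c', e⟩ := mem_Md.1 hw
      -- `w = w₁ w₂`
      obtain ⟨w2', hw2, e2⟩ := h.fr.p_surj ((c' * a'⁻¹) • ((⟨z, hzN⟩ : NR R i) • p (v 0 1)))
      have h2 : w2' ∈ cj z V := line' z hz hzN w2' hw2 _ e2
      have h3 : w * w2'⁻¹ ∈ V := by
        rw [p_mem_V_iff h (mul_mem hwW (inv_mem hw2))]
        refine ⟨c - c' * a'⁻¹ * a, ?_⟩
        rw [h.fr.p_mul _ hwW _ (inv_mem hw2), (fr_of h).q_inv hw2, e2, e, h1, smul_add, smul_smul, smul_smul,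
          inv_mul_cancel_right₀ ha']
        module
      have e3 : w = (w * w2'⁻¹) * w2' := by group
      rw [e3]
      exact mul_mem (mem_sup_left h3) (mem_sup_right h2)
    meet := by
      intro x hx hxB'
      obtain ⟨z, hz, hzV, e1⟩ := hxB x hx hxB'
      rw [e1]
      have hzN : z ∈ normalizer (R i : Set G) := centralizer_le_normalizer _ (hQ hz)
      obtain ⟨a, a', h1⟩ := A.orb ⟨z, hzN⟩ hz
      have ha' : a' ≠ 0 := by
        rintro rfl
        apply hzV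
        exact (norm_V_iff h (g := ⟨z, hzN⟩)).2 ⟨a, by rw [h1, zero_smul, add_zero]⟩
      rintro w ⟨hw1, hw2⟩
      have hwW := V_le_WW V (R i) hw1
      obtain ⟨c, hc⟩ := (p_mem_V_iff h hwW).1 hw1
      obtain ⟨-, c', hc'⟩ := line z hz hzN w hw2
      rw [hc, h1] at hc'
      have h2 := g.indep (c - c' * a) (-((c' * a') • d)) 0 ((h.M0 τ).neg_mem ((h.M0 τ).smul_mem _ A.mem)) (by
        rw [map_zero, add_zero, sub_smul, hc']
        module)
      have h3 : c' = 0 := by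
        have h4 := neg_eq_zero.1 h2.2.1
        rcases smul_eq_zero.1 h4 with h5 | h5
        · exact (mul_eq_zero.1 h5).resolve_right ha'
        · exact absurd h5 A.ne
      rw [h3, zero_smul] at hc'
      rw [← h.fr.p_ker w hwW, hc, hc']
    U₁_M := by
      intro hle
      apply A.ne
      refine g.inj d A.mem fun k => ?_
      obtain ⟨u, hu, hu1, hu2⟩ := y.surj k 0
      have huU : u ∈ UU V R i := (y.mem_U1 u hu).2 hu2
      obtain ⟨z, hzW, hz⟩ := h.fr.p_surj d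
      have hzM : z ∈ Md g d := mem_Md.2 ⟨hzW, 0, 1, by rw [hz, zero_smul, one_smul, zero_add]⟩
      have huW := UU_le_WW i huU
      have h1 := mem_centralizer_iff.1 (hle huU) z hzM
      have h2 : φ d (p u) = 0 := by
        rw [← hz]
        refine h.phi_of ?_
        rw [h.fr.f_eq z hzW u huW, h1]
        have e : u * z * z⁻¹ * u⁻¹ = 1 := by group
        rw [e, map_zero]
        exact (h.fr.r_ker 1 (one_mem _)).2 rfl
      have h3 := g.p_n u huU
      rw [hu1, g.mem_D] at h3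
      obtain ⟨γ, d', hd', e4⟩ := h3
      have e5 : p u = n k + (γ • p (v 0 1) + d') := by rw [← e4]; abel
      rw [e5, map_add, map_add, map_smul, g.phi_e0 d A.mem, g.phi_00 d A.mem d' hd', smul_zero, add_zero,
        add_zero] at h2
      exact h2
    cov := by
      intro u hu
      obtain ⟨x, hx, h1⟩ := cov u hu
      exact ⟨x, (UU_le_YY j) hx, h1⟩ }

end alpha

namespace RS

variable {T S : Subgroup (HQ (R i))} {α : Type} {K : α → Subgroup (HQ (R i))} {J : α → Type}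
  {P : ∀ a, J a → Subgroup (K a)} {m : ∀ a, J a → J a → ℕ} (D : RS V R i j T S K J P m)
include D

omit [Finite F] [CharP F 2] in
/-- helper759's data of a moved node -/
theorem qpxn [Finite α] (b : BT V R) (hij : i ≠ j) (hd : Zero.Dat V R i (BG K T S) (UG K S)) (x : Σ a, J a)
    (hx : ¬ PG K T S P x ≤ normalizer (V : Set G)) :
    QPx V R i (BG K T S) (UG K S) (PG K T S P x) (Pp (PG K T S P x) (UG K S)) where
  dat := hd
  X := D.nodeX b hij hd x hx
  QP := Pp_le (D.preG.U_le.trans (D.preG.le x))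
  BQ := (D.preG.le x).trans Pp_norm
  PQ := le_Pp_sup (D.preG.ptr x) (D.preG.three x)

/-- **The residue `(0, x)` of a node of type alpha** -/
theorem res0_alpha [Finite α] {g : Eig h τ y n sf q} {d : M} (hij : i ≠ j)
    (hd : Zero.Dat V R i (BG K T S) (UG K S)) {a : α} {k : J a}
    (hm : End.Moved (S.subgroupOf (K a)) (Tact T (K a)) (P a k))
    (A : NodeA g (Pp (PG K T S P ⟨a, k⟩) (UG K S)) d)
    (sep : SepG 2 (BG K T S) (UG K S) (PG K T S P ⟨a, k⟩) (Zero.P0 V R (BG K T S)) ∨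
      SepG 2 (BG K T S) (UG K S) (Zero.P0 V R (BG K T S)) (PG K T S P ⟨a, k⟩)) :
    ∃ m0, 3 ≤ m0 ∧ Res0 V R (BG K T S) (UG K S) (PG K T S P) ⟨a, k⟩ m0 := by
  have hx := D.not_le_of_moved h.bt hij hm
  exact HOne.End.res0_alpha' h.bt hd h.co h.four D.preG (D.A_le_UG h.bt hij)
    (alpha_of_nodeA (D.qpxn h.bt hij hd ⟨a, k⟩ hx) (D.Pp_le_cen h.bt _) A fun _ hu => D.cov h.bt hm hu) sep

end RS

end Cfsg.Agent.Omega.Lie.End

end

-- merged: Cfsg.Agent.Mrg.Omega.Lie.Nodes.AptRes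
section

/-!
# NODE LIE, residues `(0, x)`, types `(sigma)` and `(beta)`: the sockets of `QOut.res0`

* `OKer g k Q O` : the normal 2-subgroup `O` of `Q`;
* `QOut.nodeDat` : `NodeDat g k Q O`;
* `QOut.parDat` : `ParDat g k Q B U Px`;
* `QOut.res0_of_ker` : **`Res0 V R B U P x 4`**.
-/

set_option autoImplicit false
set_option linter.unusedSectionVars false

namespace Cfsg.Agent.Omega.Lie.Nodes

open Subgroup Cfsg.Agent.Omega.BTwo

universe u v w

variable {G : Type u} [Group G] {ι : Type w} {V : Subgroup G} {R : ι → Subgroup G} {i j : ι} {F : Type v}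
  [Field F] {v : F → F → G} {w1 w2 : F → G} {M E : Type u} [AddCommGroup M] [AddCommGroup E]
  [DistribMulAction (NR R i) M] [DistribMulAction (NR R i) E] [Module F M] {p : G → M} {r : G → E}
  {f : M →+ M →+ E} {φ : M →ₗ[F] M →ₗ[F] F} {s : NR R i → (F ≃+* F)} [CharP F 2]
  [Finite G] [Finite F] {h : FMod V R i j v w1 w2 M E p r f φ s} {t : F → G} {τ : Lie.TorD V R i j v t}
  {N : Type u} [AddCommGroup N] [Module F N] {P1 P2 : G → N} {y : YPair V R i j w1 w2 N P1 P2}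
  {n : N →ₗ[F] M} {sf : N →ₗ[F] N →ₗ[F] M} {q : N → N →ₗ[F] F}

/-- the normal 2-subgroup `O` of `Q` trivial on `N_k` -/
structure OKer (g : Eig h τ y n sf q) (k : N) (Q O : Subgroup G) : Prop where
  OP : O ≤ Q
  OK : O ≤ cmod (R i) ((gfr_of g).SG k)
  PO : Q ≤ normalizer (O : Set G)
  OT : ∀ a : F, a ≠ 0 → t a ∈ normalizer (O : Set G)
  two : IsPGroup 2 O
  perf : Q ≤ ⁅Q, Q⁆ ⊔ O
  lift : ∀ c : G, c ∈ normalizer (Q : Set G) → c ∈ normalizer (O : Set G) →
    (∀ x ∈ Q, c * x * c⁻¹ * x⁻¹ ∈ cmod (R i) ((gfr_of g).SG k)) → ∀ x ∈ Q, c * x * c⁻¹ * x⁻¹ ∈ O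

variable {B U Px Q O : Subgroup G} {k : N} {g : Eig h τ y n sf q}

namespace QOut

variable (o : QOut g k Q)
include o

/-- `[Q, (SG k)^n] ≤ W i` -/
theorem low (hQ : QQ (R i) = WW V (R i)) : ∀ x ∈ Q, ∀ z ∈ cj (nn w1 w2 1) ((gfr_of g).SG k),
    x * z * x⁻¹ * z⁻¹ ∈ WW V (R i) := by
  intro x hx z hz
  obtain ⟨hzU, r, hr⟩ := (gfr_of g).mem_cj_SG h.bt y h.co hz
  have hxC := o.QR hx
  have hzN : z ∈ normalizer (R i : Set G) := h.bt.cen_le_N i (UU_le_cen j hzU)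
  have hzC : z ∈ centralizer (R i : Set G) := cen_of_U h y (a := ⟨z, hzN⟩) hzU
  have hxN := centralizer_le_normalizer _ hxC
  set X : NR R i := ⟨x, hxN⟩ with hX
  set Z : NR R i := ⟨z, hzN⟩ with hZ
  refine (gfr_of g).mem_W_of_triv h.btc y h.co hQ h.cenW
    (mul_mem (mul_mem (mul_mem hxC hzC) (inv_mem hxC)) (inv_mem hzC)) fun w hw => ?_
  have h1 := h.fr.p_act (X * Z * X⁻¹ * Z⁻¹) w hw
  have e1 : ((X * Z * X⁻¹ * Z⁻¹ : NR R i) : G) = x * z * x⁻¹ * z⁻¹ := rfl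
  rw [e1] at h1
  rw [← h1, mul_smul, mul_smul, mul_smul, o.S X hx Z hzU ⟨r, hr⟩, smul_inv_smul, smul_inv_smul]

theorem nodeDat (K : QPx V R i B U Px Q) (hQ : QQ (R i) = WW V (R i)) (H : OKer g k Q O) : NodeDat g k Q O := by
  obtain ⟨hX, hQS, hcom, -, -⟩ := sigma_main g hQ o.key o.QR o.QN o.S o.span
  exact
    { k0 := o.ne
      PR := o.QR
      PN := o.QN
      PT := fun a ha => K.BQ (K.dat.XB (mem_inf.2 ⟨τ.memX a ha, τ.normR ha⟩))
      OP := H.OP
      OK := H.OK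
      PO := H.PO
      OT := H.OT
      two := H.two
      perf := H.perf
      lift := H.lift
      XS := hX
      PS := hQS
      com := hcom
      low := o.low hQ }

theorem parDat (K : QPx V R i B U Px Q) (hQ : QQ (R i) = WW V (R i)) : ParDat g k Q B U Px where
  zero := K.dat
  le := K.X.le
  PP := K.QP
  PR := K.X.PR
  PS := o.norm_SG K hQ
  PV := K.X.PV
  tr := fun x hx hxB => by
    obtain ⟨m, hm, β, γ, hβ, hγ, hme, hmn⟩ := o.swap
    obtain ⟨u, hu, hux⟩ := o.tr1 K (K.QP hm) hβ hme (o.QR hm) x hx hxB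
    have sw : SwapM h n sf k m β γ :=
      { cen := o.QR hm
        me := hme
        mn := hmn
        β0 := hβ
        γ0 := hγ
        pres := o.QN m hm
        pres' := o.QN m⁻¹ (inv_mem hm) }
    refine ⟨u, hu, ?_⟩
    have h1 := cj_eq_self_iff.2 (K.dat.BV hux)
    calc cj x V = cj (u * (m : G)) (cj ((u * (m : G))⁻¹ * x) V) := by rw [← cj_mul, mul_inv_cancel_left]
      _ = cj (u * (m : G)) V := by rw [h1]
      _ = cj u (VG g k) := by rw [cj_mul, sw.cj_V g]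

/-- **the apartment and the count** -/
theorem exists_quad (K : QPx V R i B U Px Q) (hQ : QQ (R i) = WW V (R i)) (H : OKer g k Q O) :
    ∃ n0 m : G, n0 ∈ XX V R ∧ cj n0 (R i) = R j ∧ m ∈ Q ∧ cj m V = VG g k ∧
      ParSys.QuadN B (Zero.P0 V R B) Px (R i) V ((gfr_of g).SG k) (WW V (R i)) n0 m m m n0 m n0 := by
  obtain ⟨m, hm, β, γ, hβ, hγ, hme, hmn⟩ := o.swap
  have sw : SwapM h n sf k m β γ :=
    { cen := o.QR hm
      me := hme
      mn := hmn
      β0 := hβ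
      γ0 := hγ
      pres := o.QN m hm
      pres' := o.QN m⁻¹ (inv_mem hm) }
  exact (o.nodeDat K hQ H).quadN sw hm o.key (o.parDat K hQ)

/-- **The residue `(0, x)`, types `(sigma)` and `(beta)`** -/
theorem res0_of_ker (K : QPx V R i B U Px Q) (hQ : QQ (R i) = WW V (R i)) (H : OKer g k Q O) {J : Type}
    {P : J → Subgroup G} {x : J} (hx : P x = Px) : End.Res0 V R B U P x 4 := by
  obtain ⟨n0, m, hn0X, hn0, hm, -, hq⟩ := o.exists_quad K hQ H
  exact o.res0 K hQ hx hq.m_mem hq.m_not hn0X hn0 hq.toSwap hq.cnt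

end QOut

end Cfsg.Agent.Omega.Lie.Nodes

end

-- merged: Cfsg.Agent.Mrg.Omega.Lie.Nodes.Res0Fin
section

/-!
# NODE LIE, residues `(0, x)`: types `(sigma)` and `(beta)`

* `QOut.oker` : `OKer g k Q (U ⊓ Qk B Px)`;
* `QOut.res0_of_qgen`, `res0_of_mov` : **`Res0 V R B U P x 4`**.
-/

set_option autoImplicit false
set_option linter.unusedSectionVars false

namespace Cfsg.Agent.Omega.Lie.Nodes

open Subgroup Cfsg.Agent.Omega.BTwo Cfsg.Agent.ParSys

universe u v w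

variable {G : Type u} [Group G] {ι : Type w} {V : Subgroup G} {R : ι → Subgroup G} {i j : ι} {F : Type v}
  [Field F] {v : F → F → G} {w1 w2 : F → G} {M E : Type u} [AddCommGroup M] [AddCommGroup E]
  [DistribMulAction (NR R i) M] [DistribMulAction (NR R i) E] [Module F M] {p : G → M} {r : G → E}
  {f : M →+ M →+ E} {φ : M →ₗ[F] M →ₗ[F] F} {s : NR R i → (F ≃+* F)} [CharP F 2]
  [Finite G] [Finite F] {h : FMod V R i j v w1 w2 M E p r f φ s} {t : F → G} {τ : Lie.TorD V R i j v t}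
  {N : Type u} [AddCommGroup N] [Module F N] {P1 P2 : G → N} {y : YPair V R i j w1 w2 N P1 P2}
  {n : N →ₗ[F] M} {sf : N →ₗ[F] N →ₗ[F] M} {q : N → N →ₗ[F] F}
  {g : Eig h τ y n sf q} {B U Px Q : Subgroup G} {k : N}

namespace QOut

variable (o : QOut g k Q) (K : QPx V R i B U Px Q) (hg : QGen U Px Q) (hQ : QQ (R i) = WW V (R i))
include o K hg hQ

theorem oker : OKer g k Q (U ⊓ Qk B Px) where
  OP := o.O_le_Q K hg
  OK := o.O_le_cmod K hg
  PO := K.QP.trans K.O_norm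
  OT := fun a ha => K.O_norm (o.t_mem K (Units.mk0 a ha))
  two := K.O_two
  perf := o.perf K hg hQ
  lift := fun _ hc hcO hx => o.lift K hg hQ hc hcO hx

/-- **the residue `(0, x)`, types `(sigma)` and `(beta)`** -/
theorem res0_of_qgen {J : Type} {P : J → Subgroup G} {x : J} (hx : P x = Px) : End.Res0 V R B U P x 4 :=
  o.res0_of_ker K hQ (o.oker K hg hQ) hx

end QOut

/-- **The residue `(0, x)` for a moved node `x` of type `(sigma)` or `(beta)`.** -/
theorem res0_of_mov (o : Mov4 g Q k) (hP : NodeP V R i j t Q) (K : QPx V R i B U Px Q) (hg : QGen U Px Q)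
    (hQ : QQ (R i) = WW V (R i)) {J : Type} {P : J → Subgroup G} {x : J} (hx : P x = Px) :
    End.Res0 V R B U P x 4 :=
  (o.qout hP).res0_of_qgen K hg hQ hx

end Cfsg.Agent.Omega.Lie.Nodes

end

-- merged: Cfsg.Agent.Mrg.Omega.Lie.End.Res0SB
section

/-!
# The end of NODE LIE: the residues `(0, x)`, `x` a moved node of type `(sigma)` or `(beta)` of `RS`
-/

set_option autoImplicit false
set_option linter.unusedSectionVars false

namespace Cfsg.Agent.Omega.Lie.End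

open Subgroup Cfsg Cfsg.Agent.ParSys Cfsg.Agent.Omega.BTwo Cfsg.Agent.Omega.Lie Cfsg.Agent.Omega.Lie.Quot
open Cfsg.Agent.Omega.IIa4 Cfsg.Agent.Omega.Lie.End.OfLay Cfsg.Agent.Omega.Lie.Nodes

universe u v w

variable {G : Type u} [Group G] {ι : Type w} {V : Subgroup G} {R : ι → Subgroup G} {F : Type v} [Field F] {i j : ι}
  {v : F → F → G} {w1 w2 : F → G} {t : F → G}

namespace RS

variable {T S : Subgroup (HQ (R i))} {α : Type} {K : α → Subgroup (HQ (R i))} {J : α → Type}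
  {P : ∀ a, J a → Subgroup (K a)} {m : ∀ a, J a → J a → ℕ} (D : RS V R i j T S K J P m)
include D

/-- `QPx` for the moved nodes -/
theorem qpx_mov [Finite G] [Finite α] (b : BT V R) (hij : i ≠ j) (hd : Zero.Dat V R i (BG K T S) (UG K S)) {a : α} {k : J a}
    (hm : End.Moved (S.subgroupOf (K a)) (Tact T (K a)) (P a k)) :
    QPx V R i (BG K T S) (UG K S) (PG K T S P ⟨a, k⟩) (Pp (PG K T S P ⟨a, k⟩) (UG K S)) where
  dat := hd
  X := D.nodeX b hij hd ⟨a, k⟩ (D.not_le_of_moved b hij hm)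
  QP := Pp_le (D.preG.U_le.trans (D.preG.le _))
  BQ := (D.preG.le _).trans Pp_norm
  PQ := le_Pp_sup (D.preG.ptr _) (D.preG.three _)

/-- `QGen` for the nodes -/
theorem qgen (x : Σ a, J a) : QGen (UG K S) (PG K T S P x) (Pp (PG K T S P x) (UG K S)) where
  UQ := le_Pp
  gen := fun H hH => by
    unfold Pp
    rw [closure_le]
    rintro _ ⟨g, hg, u, hu, rfl⟩
    exact hH g hg u hu

section mod

variable {M E : Type u} [AddCommGroup M] [AddCommGroup E]
  [DistribMulAction (NR R i) M] [DistribMulAction (NR R i) E] [Module F M] {p : G → M} {r : G → E}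
  {f : M →+ M →+ E} {φ : M →ₗ[F] M →ₗ[F] F} {s : NR R i → (F ≃+* F)} [CharP F 2]
  [Finite G] [Finite F] {h : FMod V R i j v w1 w2 M E p r f φ s} {τ : Lie.TorD V R i j v t}
  {N : Type u} [AddCommGroup N] [Module F N] {P1 P2 : G → N} {y : YPair V R i j w1 w2 N P1 P2}
  {n : N →ₗ[F] M} {sf : N →ₗ[F] N →ₗ[F] M} {q : N → N →ₗ[F] F}
  {g : Eig h τ y n sf q} {κ : N} {a : α} {k : J a}

/-- **the residue `(0, x)`**, `x` moved, from `Mov4` -/
theorem res0_mov [Finite α] (hT : T = TT τ) (hQ : QQ (R i) = WW V (R i))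
    (hd : Zero.Dat V R i (BG K T S) (UG K S))
    (hm : End.Moved (S.subgroupOf (K a)) (Tact T (K a)) (P a k))
    (o : Mov4 g (Pp (PG K T S P ⟨a, k⟩) (UG K S)) κ) :
    Res0 V R (BG K T S) (UG K S) (PG K T S P) ⟨a, k⟩ 4 :=
  res0_of_mov o (D.nodeP h.bt τ h.co.ne hT hd hm) (D.qpx_mov h.bt h.co.ne hd hm) (D.qgen _) hQ rfl

/-- **the residue `(0, x)`, type `(sigma)`** -/
theorem res0_s [Finite α] (hT : T = TT τ) (hQ : QQ (R i) = WW V (R i))
    (hd : Zero.Dat V R i (BG K T S) (UG K S))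
    (hm : End.Moved (S.subgroupOf (K a)) (Tact T (K a)) (P a k))
    (o : NodeS g (Pp (PG K T S P ⟨a, k⟩) (UG K S)) κ) :
    Res0 V R (BG K T S) (UG K S) (PG K T S P) ⟨a, k⟩ 4 :=
  D.res0_mov hT hQ hd hm (o.mov (D.nodeP h.bt τ h.co.ne hT hd hm) (Pp_gen D.preG.isP))

/-- **the residue `(0, x)`, type `(beta)`** -/
theorem res0_b [Finite α] (hT : T = TT τ) (hQ : QQ (R i) = WW V (R i))
    (hd : Zero.Dat V R i (BG K T S) (UG K S))
    (hm : End.Moved (S.subgroupOf (K a)) (Tact T (K a)) (P a k))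
    (o : NodeB g (Pp (PG K T S P ⟨a, k⟩) (UG K S)) κ) :
    Res0 V R (BG K T S) (UG K S) (PG K T S P) ⟨a, k⟩ 4 :=
  D.res0_mov hT hQ hd hm (o.mov (D.nodeP h.bt τ h.co.ne hT hd hm) (Pp_gen D.preG.isP))

end mod

end RS

end Cfsg.Agent.Omega.Lie.End

end

-- merged: Cfsg.Agent.Mrg.Omega.Lie.End.Res0Of
section

/-!
# The end of NODE LIE: the residue `(0, x)` of every moved node of `RS`

`RS.res0` : if no node is of type (gamma), then every moved node has a residue `Res0` (`m0 ≥ 3`).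
-/

set_option autoImplicit false
set_option linter.unusedSectionVars false

namespace Cfsg.Agent.Omega.Lie.End

open Subgroup Cfsg Cfsg.Agent.ParSys Cfsg.Agent.Omega.BTwo Cfsg.Agent.Omega.Lie Cfsg.Agent.Omega.Lie.Quot
open Cfsg.Agent.Omega.IIa4 Cfsg.Agent.Omega.Lie.End.OfLay Cfsg.Agent.Omega.Lie.Nodes

universe u v w

variable {G : Type u} [Group G] {ι : Type w} {V : Subgroup G} {R : ι → Subgroup G} {F : Type v} [Field F] {i j : ι}
  {v : F → F → G} {w1 w2 : F → G} {t : F → G}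

namespace RS

variable {T S : Subgroup (HQ (R i))} {α : Type} {K : α → Subgroup (HQ (R i))} {J : α → Type}
  {P : ∀ a, J a → Subgroup (K a)} {m : ∀ a, J a → J a → ℕ} (D : RS V R i j T S K J P m)
include D

/-- **The residue `(0, x)` of a moved node.** -/
theorem res0 [Finite G] [Finite F] [CharP F 2] [Finite α] (b : BTC V R) (c : Coord V R i j v w1 w2)
    (τ : TorD V R i j v t) (hT : T = TT τ) (hF : ∃ a : F, a ≠ 0 ∧ a ≠ 1)
    (hC : centralizer (WW V (R i) : Set G) ≤ R i) (hQ : QQ (R i) = WW V (R i))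
    (hij : i ≠ j) (hd : Zero.Dat V R i (BG K T S) (UG K S))
    (hCA : ∀ x ∈ WW V (R i), (∀ u ∈ UU V R j, u * x * u⁻¹ * x⁻¹ ∈ R i) → x ∈ V)
    (hfr : ∀ x ∈ normalizer (R i : Set G), ∃ e ∈ IIa4.Moved.EE V R i j, e * x ∈ normalizer (V : Set G))
    (hg : ∀ x, ¬ GamT V (PG K T S P x)) {a : α} {k : J a}
    (hm : End.Moved (S.subgroupOf (K a)) (Tact T (K a)) (P a k)) :
    ∃ m0, 3 ≤ m0 ∧ Res0 V R (BG K T S) (UG K S) (PG K T S P) ⟨a, k⟩ m0 := by
  obtain ⟨M, B, _, _, _, _, _, p, r, f, φ, s, h⟩ := b.exists_fMod c hF hC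
  obtain ⟨N, _, _, P1, P2, y⟩ := c.exists_yPair b.toBT
  obtain ⟨n, sf, q, g⟩ := h.exists_eig τ y
  have hP := D.nodeP b.toBT τ hij hT hd hm
  have sep := D.sep_node b c τ hF hC hij hd hCA hfr hg hm
  rcases node_eig g hP with ⟨d, A⟩ | ⟨k0, A⟩ | ⟨k0, A⟩ | A
  · exact D.res0_alpha hij hd hm A sep
  · exact ⟨4, by omega, D.res0_s hT hQ hd hm A⟩
  · exact ⟨4, by omega, D.res0_b hT hQ hd hm A⟩
  · exfalso
    refine hg ⟨a, k⟩ ?_
    have hx := D.not_le_of_moved b.toBT hij hm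
    have K' := D.qpxn b.toBT hij hd ⟨a, k⟩ hx
    obtain ⟨z, hz, y1, hy1, y2, hy2, h1⟩ := gamT_of_nodeG g (K'.QP.trans up_le) A (fun hle =>
      hx (K'.PQ.trans (sup_le hle hd.BV)))
    exact ⟨z, K'.QP hz, y1, hy1, y2, hy2, h1⟩

end RS

end Cfsg.Agent.Omega.Lie.End

end

-- merged: Cfsg.Agent.Mrg.Omega.Node.LieBNP
section

/-!
# The part `LieBNP K` of the leaf II.a, `q ≥ 4` (top level: helper988)

Situation: `IIa4.Sit`, `LayAll`, `SemiOut`, `CenSE`, `TIR` (`Node/LeafA4.lean`).  `H = N(R i)/O₂(N(R i))`, moved components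
`K a` of `H`, `E` their product, `U = O₂(N(R)) (S ⊓ E)`, `B`, `P x` (`x = (a, k)`, `k` a node of `K a`) in `G`
(`Lie/End/Real.lean`).

* some `V ^ p`, `p ∈ P x`, does not commute with `V` (type `(γ)`): `E = K a`, `K a` has one node (910: `RS.kd_of_gamT`),
  `SQEnd.known_or` (326; `G₂(q)`, `³D₄(q)`);
* otherwise the residues `(0, x)` of the moved nodes are polygons (`Res0P`), and THEOREM PAR gives a BN-pair of `X E`
  (`Lie/End/Top.lean`, `Sit.gZero_of_real`).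

Parts: `KSideX` (650: `kSideX`), `Res0P` (43: `Lie/End/Res0Of.lean`).
-/

set_option autoImplicit false
set_option linter.unusedSectionVars false

namespace Cfsg.Agent.Omega.IIa4

open Subgroup Cfsg Cfsg.Agent.ZN Cfsg.Agent.Omega.NatPair Cfsg.Agent.Omega.BTwo
open Cfsg.Agent.Omega.Frame Cfsg.Agent.Omega.FrameFF Cfsg.Agent.Omega.Lie Cfsg.Agent.Omega.Lie.Quot
open Cfsg.Agent.Omega.Lie.End

universe u

/-- **The residues `(0, x)`** of the moved nodes, if no node is of type `(γ)`.  Text: #14331 (helper493); Lean: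
`Omega/Lie/Nodes/*` (493, 843, 759, 812, 591), `HOne/EndRes0.lean` (725), `Lie/End/RSSep.lean`, `Res0Of.lean` (43). -/
def Res0P : Prop :=
  ∀ (G : Type u) [Group G] [Finite G] (ι : Type u) (V : Subgroup G) (R : ι → Subgroup G) (i j : ι) (F : Type)
    [Field F] [Finite F] [CharP F 2] (v : F → F → G) (w1 w2 t : F → G), BTC V R → Coord V R i j v w1 w2 →
    ∀ (τ : TorD V R i j v t), 4 ≤ Nat.card F → centralizer (WW V (R i) : Set G) ≤ R i → QQ (R i) = WW V (R i) →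
    (∀ x ∈ WW V (R i), (∀ u ∈ UU V R j, u * x * u⁻¹ * x⁻¹ ∈ R i) → x ∈ V) →
    (∀ x ∈ normalizer (R i : Set G), ∃ e ∈ Moved.EE V R i j, e * x ∈ normalizer (V : Set G)) →
    ∀ (S₁ : Sylow 2 G), (S₁ : Subgroup G) ≤ normalizer (V : Set G) →
      (S₁ : Subgroup G) ≤ normalizer (R i : Set G) →
    ∀ (n : ℕ) (K : Fin n → Subgroup (HQ (R i))) (J : Fin n → Type) (P : ∀ a, J a → Subgroup (K a))
      (m : ∀ a, J a → J a → ℕ), (∀ a, Finite (J a)) → RS V R i j (TT τ) (SS R i S₁) K J P m →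
      Zero.Dat V R i (BG K (TT τ) (SS R i S₁)) (UG K (SS R i S₁)) →
      (∀ x, ¬ GamT V (PG K (TT τ) (SS R i S₁) P x)) →
      ∀ (a : Fin n) (k : J a), End.Moved ((SS R i S₁).subgroupOf (K a)) (OfLay.Tact (TT τ) (K a)) (P a k) →
        ∃ m0, 3 ≤ m0 ∧ Res0 V R (BG K (TT τ) (SS R i S₁)) (UG K (SS R i S₁)) (PG K (TT τ) (SS R i S₁) P) ⟨a, k⟩ m0

/-- **`LieBNP K`** from the K-side and the residues. -/
theorem lieBNP_of {K : Cls.{u}} (hks : KSideX.{u}) (hres : Res0P.{u}) : LieBNP K := by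
  intro G _ _ _ S P g F _ _ _ M h hl hsemi hcen _
  obtain ⟨i, j, hij⟩ := h.exists_pair
  obtain ⟨v, w1, w2, c⟩ := h.exists_coord hij
  obtain ⟨t, τ⟩ := h.exists_torD c
  obtain ⟨S₁, hSV, hSR⟩ := h.exists_sylow i
  obtain ⟨n, Kf, J, Pf, m, hJ, hnn, D, hX⟩ := SitRS.sit_rsx h hks hl hsemi c τ S₁ hSV hSR
  have hNV : ∀ (x : G) (hx : x ∈ normalizer (pt M i : Set G)),
      Quot.pr (pt M i) ⟨x, hx⟩ ∈ normalizer (AA (zl (S : Subgroup G) P) (pt M) i j : Set (HQ (pt M i))) →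
        x ∈ normalizer (zl (S : Subgroup G) P : Set G) := fun x hx hN => NA.mem_NV h hsemi hcen hij hx hN
  have hCA := h.cen_A hcen hij
  have hd := D.datG h.btc c τ hij rfl hNV
  by_cases hg : ∃ x, GamT (zl (S : Subgroup G) P) (PG Kf (TT τ) (SS (pt M) i S₁) Pf x)
  · obtain ⟨x, hx⟩ := hg
    obtain ⟨k, _, _, _, K', φ, kd⟩ := D.kd_of_gamT h.btc c τ hij rfl h.four (hsemi i).2 hNV hCA
      (fun a => (hX a).2) hx
    exact Node.SQEnd.known_or h hsemi ⟨i, j, k, inferInstance, K', φ, kd⟩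
  · left
    push Not at hg
    refine h.gZero_of_real hcen hij Moved.NR_le_NEE (Moved.U_le_EE h.bt) (Moved.EE_le_cen h.bt)
      (D.realSys h.btc c τ hij rfl hNV) hg ?_
    rintro ⟨a, k⟩ hk
    exact hres G _ _ _ i j F v w1 w2 t h.btc c τ h.four (hsemi i).1.le (hsemi i).2 hCA
      (fun _ hx => h.frattini hcen hij Moved.NR_le_NEE (Moved.U_le_EE h.bt) (Moved.EE_le_cen h.bt) hx)
      S₁ hSV hSR n Kf J Pf m hJ D hd hg a k ((D.moved_iff h.bt c hij hd hCA).2 hk)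

/-- **The residues** (helper43, `Lie/End/Res0Of.lean`). -/
theorem res0P : Res0P.{u} := by
  intro G _ _ ι V R i j F _ _ _ v w1 w2 t b c τ h4 hC hQ hCA hfr S₁ hV hR n K J P m hJ D hd hg a k hm
  exact D.res0 b c τ rfl (SitRS.exists_ne_of_four h4) hC hQ τ.ne hd hCA hfr hg hm

/-- **`LieBNP K`** -/
theorem lieBNP {K : Cls.{u}} : LieBNP K := lieBNP_of kSideX res0P

end Cfsg.Agent.Omega.IIa4

end
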