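import Cfsg.Agent.Mrg.Omega.NO3b.EndX.AbsAll
import Cfsg.Agent.Mrg.Omega.NO3b.ExEnd.Final
import Cfsg.Agent.Mrg.Omega.ML.KnownAll
import Cfsg.Agent.Mrg.Omega.ML.Ex.KnownDone
import Cfsg.Agent.Mrg.Omega.NO3b.BasePt.FamG
import Cfsg.Agent.Mrg.Omega.NOThreeL.KTwo.Defs
import Cfsg.Agent.Mrg.Omega.NOThreeL.RA.Base
import Cfsg.Agent.Mrg.Omega.NOThreeL.RStr.Act
import Cfsg.Agent.Mrg.Omega.IId.Ns.Defs
import Cfsg.Agent.Mrg.Omega.NOThreeL.Star
import Cfsg.Agent.Mrg.Omega.NOThreeL.RSplit.FiveG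
import Cfsg.Agent.Mrg.Omega.NOThreeL.RTreeA
import Cfsg.Agent.Mrg.Omega.NOThreeL.KTwo.Half
import Cfsg.Agent.Mrg.Omega.NOThreeL.RA.NsOne
import Mathlib
import Cfsg.Agent.Mrg.Omega.NO3S.Fit.AbsNat
import Cfsg.Agent.Mrg.Omega.NOThreeL.NsF.CountG
import Cfsg.Agent.Mrg.Omega.IId.Ns.Pair
import Cfsg.Agent.Mrg.Omega.NOThreeL.RA.Over
import Cfsg.Agent.Mrg.Omega.NOThreeL.RA.Pts
import Cfsg.Agent.Mrg.Omega.NOThreeL.RFourFrame
import Cfsg.Agent.Mrg.Omega.NOThreeL.RRed.Base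
import Cfsg.Agent.Mrg.Omega.F4Leaf.NoWrFree
import Cfsg.Agent.Mrg.Omega.FFBr.Final
import Cfsg.Agent.Mrg.Omega.MixOne.OfSplit
import Cfsg.Agent.Mrg.Omega.HOne.SplitP
import Cfsg.Agent.Mrg.Omega.NOThreeL.RRed.Glue
import Cfsg.Agent.Mrg.Omega.NOThreeL.RRed.BlkG1
import Cfsg.Agent.Mrg.Omega.TC.RSix.End
import Cfsg.Agent.Mrg.Omega.TC.R.Base
import Cfsg.Agent.Mrg.Omega.TC.ThmI
import Cfsg.Agent.Mrg.Omega.NOThreeL.AOne
import Cfsg.Agent.Mrg.Omega.NOThreeL.ATwo.MainQ
import Cfsg.Agent.Mrg.Omega.NOThreeL.Merge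
import Cfsg.Agent.Mrg.Omega.NOThreeL.RLow.Glue
import Cfsg.Agent.Mrg.Omega.NOThreeL.NF.Final
import Cfsg.Agent.Mrg.Omega.NOThreeL.RTreeF
import Cfsg.Agent.Mrg.Omega.NOThreeL.RLow.Final
import Cfsg.Agent.Mrg.Omega.NOThreeL.RRed.FourTree
import Cfsg.Agent.Mrg.Omega.KL.NoInp
import Cfsg.Agent.Mrg.Omega.ML.Ex.Ext
import Cfsg.Agent.Mrg.Omega.NOThreeL.RRed.WLeftBase

-- merged: Cfsg.Agent.Mrg.Omega.NO3b.EndX.Final
section

/-!
# NotFF from (ML), the K-list for exact subgroups and the base point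

* `notFFP_all` : `Merge.NotFFP K` (NO-3S);
* `notFFG_all` : `Merge.NotFFG K` (NO-3L), from the base point.

Author: helper768.
-/

set_option autoImplicit false

namespace Cfsg.Agent.Omega.NO3b.EndX

open Cfsg.Agent.Omega.Frame
open Cfsg.Agent.Omega.ML.Final (MLK)
open Cfsg.Agent.Omega.ML.Ex (RowsX)
open Cfsg.Agent.Omega.NOThreeL.Merge (NotFFP NotFFG)

universe u

variable {K : Cls.{u}}

/-- **`Merge.NotFFP K`** (NO-3S). -/
theorem notFFP_all (ml : MLK.{u, u}) (R : RowsX.{u, u}) : NotFFP K :=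
  ExEnd.notFFP_of_absP ml (absP_all ml R)

/-- **`Merge.NotFFG K`** (NO-3L). -/
theorem notFFG_all (ml : MLK.{u, u}) (R : RowsX.{u, u}) (hB : BasePt.BasePoint.{u}) : NotFFG K :=
  ExEnd.notFFG_of_absP ml (absP_all ml R) hB

end Cfsg.Agent.Omega.NO3b.EndX

end

-- merged: Cfsg.Agent.Mrg.Omega.NO3b.EndX.Done
section

/-!
# NotFF, the plugs with no open hypothesis but the base point

* `absP : AbsP`;
* `notFFP : Merge.NotFFP K` (NO-3S);
* `notFFG : BasePoint → Merge.NotFFG K` (NO-3L).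

Author: helper768.
-/

set_option autoImplicit false

namespace Cfsg.Agent.Omega.NO3b.EndX

open Cfsg.Agent.Omega.Frame
open Cfsg.Agent.Omega.NOThreeL.Merge (NotFFP NotFFG)

universe u

/-- **`AbsP`** -/
theorem absP : AbsP.{u, u} := absP_all ML.KnownAll.mlk ML.Ex.KnownDone.rows

variable {K : Cls.{u}}

/-- **`Merge.NotFFP K`** (NO-3S). -/
theorem notFFP : NotFFP K := notFFP_all ML.KnownAll.mlk ML.Ex.KnownDone.rows

/-- **`Merge.NotFFG K`** (NO-3L) from the base point. -/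
theorem notFFG (hB : BasePt.BasePoint.{u}) : NotFFG K := notFFG_all ML.KnownAll.mlk ML.Ex.KnownDone.rows hB

end Cfsg.Agent.Omega.NO3b.EndX

end

-- merged: Cfsg.Agent.Mrg.Omega.NO3b.BasePt.Done
section

/-!
# NotFFG (3L-T), no open hypothesis

**`Done.notFFG : Merge.NotFFG K`** for every class `K` (`BasePt.basePoint`, helper768's `EndX.notFFG`);
`Done.notFFG_rows` : from `MLK` and `RowsX`.
-/

set_option autoImplicit false

namespace Cfsg.Agent.Omega.NO3b.BasePt.Done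

open Cfsg.Agent.Omega.Frame
open Cfsg.Agent.Omega.ML.Final (MLK)
open Cfsg.Agent.Omega.ML.Ex (RowsX)
open Cfsg.Agent.Omega.NOThreeL.Merge (NotFFG)

universe u

variable {K : Cls.{u}}

/-- **`Merge.NotFFG K`** from (ML) for K-groups and the K-list for exact subgroups. -/
theorem notFFG_rows (ml : MLK.{u, u}) (R : RowsX.{u, u}) : NotFFG K := EndX.notFFG_all ml R basePoint

/-- **`Merge.NotFFG K`**. -/
theorem notFFG : NotFFG K := EndX.notFFG basePoint

end Cfsg.Agent.Omega.NO3b.BasePt.Done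

end

-- merged: Cfsg.Agent.Mrg.Omega.NOThreeL.KTwo.EndU
section

section


/-!
# NO-3L, `R ∩ (A)`, `k ≥ 2`: THEOREM K (#21065, helper162), (3): the action of `U` on the blocks

`hq : Quad S P U` (`U ≤ S` elementary abelian, normal in `S`). `M : NatK F S P (zl S P) (cv S P) k`.

* `U_acts` : `u ∈ U` acts as `fun i => up (b i)` and centralises `cv S P`; `bt M u = b`;
* `mem_cent_iff` : `u` centralises `N_l` iff `bt M u l = 0`;
* `relIndex_le` : `|U : C_U(N_l)| ≤ |F|`; `relIndex_eq` : it does not depend on `l`;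
* `exists_two` : `|U : C_U(N_l)| > 2` implies that two different nonzero `bt M u l` occur.
-/

set_option autoImplicit false
set_option linter.unusedSectionVars false

namespace Cfsg.Agent.Omega.NOThreeL.KTwo

open Subgroup Cfsg Cfsg.Agent.ZN Cfsg.Agent.Omega.MinPar
open Cfsg.Agent.Omega.FrameFF Cfsg.Agent.Omega.FFThm Cfsg.Agent.Lib.SL2Mat
open Cfsg.Agent.Omega.NatPair (ap ap_add ap_mul ap_one ap_inj ext2 ap_zero' ap_one' ap_inv_ap ap_ap_inv)
open Cfsg.Agent.Omega.HOne (cv_le conj_mem_zl conj_mem_cv)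
open Cfsg.Agent.Omega.IId.Cv Cfsg.Agent.Omega.IId.Ns
open Cfsg.Agent.Omega.NOThreeL.AFour (Quad)
open Cfsg.Agent.Omega.NOThreeL.KTwo.Defs
open Cfsg.Agent.MinSimple.VModule (zc_comm zc_sq zc_le mem_zc le_normalizer_o2 normalizer_le_normalizer_zc zc_le_zl
  o2_isPGroup o2_le)
open scoped Pointwise

universe u

variable {G : Type u} [Group G] {F : Type} [Field F]

section gen

variable {S P : Subgroup G} {k : ℕ} {M : NatK F S P (zl S P) (cv S P) k}

theorem up_inj {b c : F} (h : ap (up b) ![0, 1] = ap (up c) ![0, 1]) : b = c := by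
  have h1 := congrFun h 0
  rw [ap_zero', ap_zero'] at h1
  simpa using h1

theorem acts_up_unique {u : G} {b c : Fin k → F}
    (hb : ∀ v ∈ zl S P, ∀ i, M.e (u * v * u⁻¹) i = ap (up (b i)) (M.e v i))
    (hc : ∀ v ∈ zl S P, ∀ i, M.e (u * v * u⁻¹) i = ap (up (c i)) (M.e v i)) : b = c := by
  funext i
  obtain ⟨v, hv, h1, -⟩ := exists_single (M := M) i ![0, 1]
  apply up_inj
  rw [← h1, ← hb v hv i, ← hc v hv i]

open Classical in
/-- the parameters of `u` -/
noncomputable def bt (M : NatK F S P (zl S P) (cv S P) k) (u : G) : Fin k → F :=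
  if h : ∃ b : Fin k → F, ∀ v ∈ zl S P, ∀ i, M.e (u * v * u⁻¹) i = ap (up (b i)) (M.e v i) then h.choose else 0

theorem bt_eq {u : G} {b : Fin k → F}
    (hb : ∀ v ∈ zl S P, ∀ i, M.e (u * v * u⁻¹) i = ap (up (b i)) (M.e v i)) : bt M u = b := by
  have h : ∃ b : Fin k → F, ∀ v ∈ zl S P, ∀ i, M.e (u * v * u⁻¹) i = ap (up (b i)) (M.e v i) := ⟨b, hb⟩
  rw [bt, dif_pos h]
  exact acts_up_unique h.choose_spec hb

/-- elements mapping the `i`-th block to the `j`-th -/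
theorem Nc_mvK {i j : Fin k} {g : G} (hg : g ∈ P) (hm : Mv M g i j) {n : G} (hn : n ∈ Nc M i) :
    g * n * g⁻¹ ∈ Nc M j := by
  induction hn using closure_induction with
  | mem x hx =>
    obtain ⟨y, hy, v, hv, rfl⟩ := hx
    obtain ⟨B, hB⟩ := exists_of_Fc hy
    obtain ⟨B', hB'⟩ := conj_Al hg hm hB
    have e : g * (y * v * y⁻¹ * v⁻¹) * g⁻¹ =
      (g * y * g⁻¹) * (g * v * g⁻¹) * (g * y * g⁻¹)⁻¹ * (g * v * g⁻¹)⁻¹ := by group
    rw [e]
    exact Sd.comm_mem_Nc M hB'.mem_Fc (conj_mem_zl hg hv)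
  | one => rw [mul_one, mul_inv_cancel]; exact one_mem _
  | mul x y _ _ hx hy =>
    have e : g * (x * y) * g⁻¹ = (g * x * g⁻¹) * (g * y * g⁻¹) := by group
    rw [e]; exact mul_mem hx hy
  | inv x _ hx =>
    have e : g * x⁻¹ * g⁻¹ = (g * x * g⁻¹)⁻¹ := by group
    rw [e]; exact inv_mem hx

theorem conj_Nc {i j : Fin k} {g : G} (hg : g ∈ P) (hm : Mv M g i j) : MulAut.conj g • Nc M i = Nc M j := by
  apply le_antisymm
  · rintro _ ⟨n, hn, rfl⟩
    exact Nc_mvK hg hm hn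
  · intro n hn
    rw [NoFF.Basic.mem_conj]
    have h1 := Nc_mvK (inv_mem hg) (hm.inv hg) hn
    rwa [inv_inv] at h1

end gen

section main

variable [Finite G] [CharP F 2] (hG : IsCharacteristicTwoType G) (S : Sylow 2 G) {P : Subgroup G}
  (h : IsParS (S : Subgroup G) P) {k : ℕ}
  {M : NatK F (S : Subgroup G) P (zl (S : Subgroup G) P) (cv (S : Subgroup G) P) k}
  {U : Subgroup G} (hq : Quad (S : Subgroup G) P U)

include hG h hq in
/-- `u ∈ U` acts as `fun i => up (bt M u i)` and centralises `cv S P` -/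
theorem U_acts (hk : 0 < k) {u : G} (hu : u ∈ U) :
    ActsSL M.e (zl (S : Subgroup G) P) (cv (S : Subgroup G) P) u fun i => up (bt M u i) := by
  obtain ⟨b, hb⟩ := RStr.exists_up hq M hu
  rw [bt_eq hb]
  refine ⟨hb, fun d hd => ?_⟩
  obtain ⟨t, ht, htb⟩ := M.unip b
  have h1 : t⁻¹ * u ∈ (S : Subgroup G) := mul_mem (inv_mem ht) (hq.US hu)
  have h2 : t⁻¹ * u ∈ kern M := by
    refine ⟨h.le h1, fun v hv => ?_⟩
    have h3 := acts_inv M (h.le ht) htb
    have e : t⁻¹ * u * v * (t⁻¹ * u)⁻¹ = t⁻¹ * (u * v * u⁻¹) * t⁻¹⁻¹ := by group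
    funext i
    rw [e, h3.1 _ (conj_mem_zl (h.le (hq.US hu)) hv) i, hb v hv i, ap_inv_ap]
  have h3 := comm_of_quot hG S h M hk h1 h2 d (cv_le _ _ hd)
  have h4 := htb.2 d hd
  calc u * d = t * (t⁻¹ * u * d) := by group
    _ = t * (d * (t⁻¹ * u)) := by rw [h3]
    _ = (t * d) * (t⁻¹ * u) := by group
    _ = d * u := by rw [h4]; group

include hG h hq in
theorem bt_mul (hk : 0 < k) {u w : G} (hu : u ∈ U) (hw : w ∈ U) : bt M (u * w) = bt M u + bt M w := by
  apply bt_eq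
  intro v hv i
  have h1 := acts_mul M (hq.UP hu) (hq.UP hw) (U_acts hG S h hq hk hu) (U_acts hG S h hq hk hw)
  rw [h1.1 v hv i]
  congr 1
  exact up_mul _ _

/-- `u` centralises `N_l` iff its `l`-th parameter is `0` -/
theorem mem_cent_iff (hG : IsCharacteristicTwoType G) (S : Sylow 2 G) {P : Subgroup G}
    (h : IsParS (S : Subgroup G) P) {k : ℕ}
    {M : NatK F (S : Subgroup G) P (zl (S : Subgroup G) P) (cv (S : Subgroup G) P) k}
    {U : Subgroup G} (hq : Quad (S : Subgroup G) P U) (hω : ∃ ω : F, ω ≠ 0 ∧ ω ≠ 1) {l : Fin k} {u : G}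
    (hu : u ∈ U) : u ∈ centralizer (Nc M l : Set G) ↔ bt M u l = 0 := by
  have hk : 0 < k := l.pos
  have h1 := (U_acts hG S h hq hk hu (M := M)).1
  constructor
  · intro h2
    obtain ⟨n, hn, he⟩ := Sd.Nc_surj M l ![0, 1]
    have h3 := h1 n (Sd.Nc_le M l hn) l
    have h4 : u * n * u⁻¹ = n := by
      rw [← mem_centralizer_iff.1 h2 n hn, mul_inv_cancel_right]
    rw [h4, he] at h3
    apply up_inj
    rw [up_zero, ap_one]
    exact h3.symm
  · intro h2
    refine mem_centralizer_iff.2 fun n hn => (Sd.comm_Nc_of hG S h M hω (hq.UP hu) (fun v hv => ?_) n hn).symm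
    rw [h1 v hv l]
    change ap (up (bt M u l)) (M.e v l) = _
    rw [h2, up_zero, ap_one]

section

variable (hω : ∃ ω : F, ω ≠ 0 ∧ ω ≠ 1)

include hG h hq hω

theorem exists_hom (l : Fin k) : ∃ φ : ↥U →* Multiplicative F, (∀ u : ↥U, φ u = Multiplicative.ofAdd (bt M (u : G) l)) ∧
    φ.ker = (centralizer (Nc M l : Set G)).subgroupOf U := by
  have hk : 0 < k := l.pos
  let φ : ↥U →* Multiplicative F := MonoidHom.mk' (fun u => Multiplicative.ofAdd (bt M (u : G) l)) fun a b => by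
    change Multiplicative.ofAdd (bt M ((a : G) * b) l) = _
    rw [bt_mul hG S h hq hk a.2 b.2]
    rfl
  refine ⟨φ, fun _ => rfl, ?_⟩
  ext ⟨u, hu⟩
  rw [MonoidHom.mem_ker, mem_subgroupOf]
  change Multiplicative.ofAdd (bt M u l) = Multiplicative.ofAdd 0 ↔ _
  rw [Multiplicative.ofAdd.injective.eq_iff]
  exact (mem_cent_iff hG S h hq hω hu).symm

theorem relIndex_le [Finite F] (l : Fin k) : (centralizer (Nc M l : Set G)).relIndex U ≤ Nat.card F := by
  obtain ⟨φ, -, h2⟩ := exists_hom hG S h (M := M) hq hω l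
  change ((centralizer (Nc M l : Set G)).subgroupOf U).index ≤ _
  rw [← h2, index_ker]
  exact Nat.card_le_card_of_injective (Subtype.val : φ.range → Multiplicative F) Subtype.val_injective

theorem exists_two {l : Fin k} (h2 : 2 < (centralizer (Nc M l : Set G)).relIndex U) :
    ∃ u ∈ U, ∃ w ∈ U, bt M u l ≠ 0 ∧ bt M w l ≠ 0 ∧ bt M u l ≠ bt M w l := by
  classical
  by_contra hcon
  push Not at hcon
  obtain ⟨φ, h3, h4⟩ := exists_hom hG S h (M := M) hq hω l
  change 2 < ((centralizer (Nc M l : Set G)).subgroupOf U).index at h2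
  rw [← h4, index_ker] at h2
  have h5 : Function.Injective (fun x : φ.range => decide ((x : Multiplicative F) = 1)) := by
    rintro ⟨_, ⟨u, rfl⟩⟩ ⟨_, ⟨w, rfl⟩⟩ huw
    have huw' : (φ u = 1 ↔ φ w = 1) := by
      have : decide (φ u = 1) = decide (φ w = 1) := huw
      simpa using this
    apply Subtype.ext
    change φ u = φ w
    by_cases hu : φ u = 1
    · rw [hu, huw'.1 hu]
    · have hw : φ w ≠ 1 := fun h => hu (huw'.2 h)
      have hu' : bt M (u : G) l ≠ 0 := fun h0 => hu (by rw [h3, h0]; rfl)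
      have hw' : bt M (w : G) l ≠ 0 := fun h0 => hw (by rw [h3, h0]; rfl)
      rw [h3, h3, hcon u u.2 w w.2 hu' hw']
  have h6 := Nat.card_le_card_of_injective _ h5
  rw [Nat.card_eq_fintype_card (α := Bool), Fintype.card_bool] at h6
  omega

/-- `|U : C_U(N_l)| ≤ 2`: all nonzero parameters are equal -/
theorem eq_of_le_two {l : Fin k} (h2 : (centralizer (Nc M l : Set G)).relIndex U ≤ 2) {u w : G} (hu : u ∈ U)
    (hw : w ∈ U) (hu0 : bt M u l ≠ 0) (hw0 : bt M w l ≠ 0) : bt M u l = bt M w l := by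
  by_contra hne
  obtain ⟨φ, h3, h4⟩ := exists_hom hG S h (M := M) hq hω l
  change ((centralizer (Nc M l : Set G)).subgroupOf U).index ≤ 2 at h2
  rw [← h4, index_ker] at h2
  have hfin : Finite φ.range := Set.finite_range φ |>.to_subtype
  have h5 : Function.Injective (fun x : Fin 3 => (![1, ⟨φ ⟨u, hu⟩, ⟨_, rfl⟩⟩, ⟨φ ⟨w, hw⟩, ⟨_, rfl⟩⟩] : Fin 3 → φ.range) x) := by
    have a1 : φ ⟨u, hu⟩ ≠ 1 := fun h0 => hu0 (by rw [h3] at h0; exact h0)
    have a2 : φ ⟨w, hw⟩ ≠ 1 := fun h0 => hw0 (by rw [h3] at h0; exact h0)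
    have a3 : φ ⟨u, hu⟩ ≠ φ ⟨w, hw⟩ := fun h0 => hne (by rw [h3, h3] at h0; exact h0)
    intro x y hxy
    have hxy' := congrArg Subtype.val hxy
    fin_cases x <;> fin_cases y <;> simp at hxy' ⊢
    · exact a1 hxy'.symm
    · exact a2 hxy'.symm
    · exact a1 hxy'
    · exact a3 hxy'
    · exact a2 hxy'
    · exact a3 hxy'.symm
  have h6 := Nat.card_le_card_of_injective _ h5
  rw [Nat.card_eq_fintype_card (α := Fin 3), Fintype.card_fin] at h6
  omega

end

include h hq in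
/-- `|U : C_U(N_l)|` does not depend on `l` -/
theorem relIndex_eq (l l' : Fin k) : (centralizer (Nc M l : Set G)).relIndex U =
    (centralizer (Nc M l' : Set G)).relIndex U := by
  obtain ⟨t, ht, hm⟩ := M.trans l l'
  have h1 : MulAut.conj t • U = U := NOThreeL.Pair.conj_eq_of_mem (hq.SU ht)
  have h2 : MulAut.conj t • centralizer (Nc M l : Set G) = centralizer (Nc M l' : Set G) := by
    rw [← conj_Nc (h.le ht) hm]
    ext x
    rw [NoFF.Basic.mem_conj, mem_centralizer_iff, mem_centralizer_iff]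
    constructor
    · intro h3 y hy
      have hy' : y ∈ MulAut.conj t • Nc M l := hy
      rw [NoFF.Basic.mem_conj] at hy'
      have h4 := h3 _ hy'
      calc y * x = t * ((t⁻¹ * y * t) * (t⁻¹ * x * t)) * t⁻¹ := by group
        _ = t * ((t⁻¹ * x * t) * (t⁻¹ * y * t)) * t⁻¹ := by rw [h4]
        _ = x * y := by group
    · intro h3 y hy
      have h4 := h3 (t * y * t⁻¹) ⟨y, hy, rfl⟩
      calc y * (t⁻¹ * x * t) = t⁻¹ * ((t * y * t⁻¹) * x) * t := by group
        _ = t⁻¹ * (x * (t * y * t⁻¹)) * t := by rw [h4]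
        _ = t⁻¹ * x * t * y := by group
  rw [← h2]
  conv_rhs => rw [← h1]
  exact (Subgroup.relIndex_pointwise_smul (MulAut.conj t) _ _).symm

end main

end Cfsg.Agent.Omega.NOThreeL.KTwo

end

section


/-!
# NO-3L, `R ∩ (A)`, `k ≥ 2`: THEOREM K (#21065, helper162), (3): the case `|T| = 2`

`|U : C_U(N_l)| = 2` for all `l`; `u_l ∈ U` moves `N_l`; `Kap l n = [u_l, n]` (`n ∈ N_l`); `Y = ∏_{l ∉ J} [u_l, N_l] ≤ U`
is normalised by `S₁`, `Y ∩ C_V(O²(P)) = 1`; `1 ≠ y₀ ∈ Y` centralised by `S₁`; `X = ⟨y₀⟩ E`.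

* `exists_Y` .
-/

set_option autoImplicit false
set_option linter.unusedSectionVars false

namespace Cfsg.Agent.Omega.NOThreeL.KTwo

open Subgroup Cfsg Cfsg.Agent.ZN Cfsg.Agent.Omega.MinPar
open Cfsg.Agent.Omega.FrameFF Cfsg.Agent.Omega.FFThm Cfsg.Agent.Lib.SL2Mat
open Cfsg.Agent.Omega.NatPair (ap ap_add ap_mul ap_one ap_inj ext2 ap_zero' ap_one' ap_inv_ap ap_ap_inv)
open Cfsg.Agent.Omega.HOne (cv_le conj_mem_zl conj_mem_cv)
open Cfsg.Agent.Omega.IId.Cv Cfsg.Agent.Omega.IId.Ns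
open Cfsg.Agent.Omega.NOThreeL.AFour (Quad)
open Cfsg.Agent.Omega.NOThreeL.KTwo.Defs
open Cfsg.Agent.MinSimple.VModule (zc_comm zc_sq zc_le mem_zc le_normalizer_o2 normalizer_le_normalizer_zc zc_le_zl
  o2_isPGroup o2_le)
open scoped Pointwise

universe u

variable {G : Type u} [Group G] {F : Type} [Field F]

attribute [local instance] aqComm

section main

variable [Finite G] [CharP F 2] (hG : IsCharacteristicTwoType G) (S : Sylow 2 G) {P : Subgroup G}
  (h : IsParS (S : Subgroup G) P) {k : ℕ}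
  {M : NatK F (S : Subgroup G) P (zl (S : Subgroup G) P) (cv (S : Subgroup G) P) k}
  {U : Subgroup G} (hq : Quad (S : Subgroup G) P U)

/-- coordinates of products in `A` -/
theorem e_prod (s : Finset (Fin k)) (a : Fin k → ↥(zc (o2 P))) (ha : ∀ l ∈ s, a l ∈ VA S P) :
    ((∏ l ∈ s, a l : ↥(zc (o2 P))) : G) ∈ zl (S : Subgroup G) P ∧
      M.e ((∏ l ∈ s, a l : ↥(zc (o2 P))) : G) = ∑ l ∈ s, M.e (a l : G) := by
  classical
  induction s using Finset.induction_on with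
  | empty =>
    rw [Finset.prod_empty, Finset.sum_empty]
    exact ⟨one_mem _, e_one M⟩
  | insert l s hl ih =>
    have h1 := ih fun j hj => ha j (Finset.mem_insert_of_mem hj)
    have h2 : (a l : G) ∈ zl (S : Subgroup G) P := (mem_VA S).1 (ha l (Finset.mem_insert_self l s))
    rw [Finset.prod_insert hl, Finset.sum_insert hl]
    refine ⟨mul_mem h2 h1.1, ?_⟩
    change M.e ((a l : G) * ((∏ l ∈ s, a l : ↥(zc (o2 P))) : G)) = _
    rw [M.mul _ h2 _ h1.1, h1.2]

include hG h in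
theorem Nc_le_A (l : Fin k) : Nc M l ≤ zc (o2 P) := (Sd.Nc_le M l).trans (zl_le_A hG S h)

/-- `n ↦ [u, n]` on `N_l` -/
noncomputable def Kap (hG : IsCharacteristicTwoType G) (S : Sylow 2 G) {P : Subgroup G}
    (h : IsParS (S : Subgroup G) P) {k : ℕ}
    (M : NatK F (S : Subgroup G) P (zl (S : Subgroup G) P) (cv (S : Subgroup G) P) k) {u : G} (hu : u ∈ P)
    (l : Fin k) : ↥(Nc M l) →* ↥(zc (o2 P)) :=
  (cA hu).comp (Subgroup.inclusion (Nc_le_A hG S h l)) * (Subgroup.inclusion (Nc_le_A hG S h l))⁻¹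

theorem Kap_val {u : G} (hu : u ∈ P) {l : Fin k} (n : ↥(Nc M l)) :
    ((Kap hG S h M hu l n : ↥(zc (o2 P))) : G) = u * n * u⁻¹ * (n : G)⁻¹ := rfl

theorem Kap_VA {u : G} (hu : u ∈ P) {l : Fin k} (n : ↥(Nc M l)) : Kap hG S h M hu l n ∈ VA S P := by
  rw [mem_VA, Kap_val]
  exact mul_mem (conj_mem_zl hu (Sd.Nc_le M l n.2)) (inv_mem (Sd.Nc_le M l n.2))

include hG h in
/-- two elements of `P` acting in the same way on the `l`-th coordinates act in the same way on `N_l` -/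
theorem eq_on_Nc (hω : ∃ ω : F, ω ≠ 0 ∧ ω ≠ 1) {l : Fin k} {u w : G} (hu : u ∈ P) (hw : w ∈ P)
    {A : Matrix.SpecialLinearGroup (Fin 2) F}
    (hA : ∀ v ∈ zl (S : Subgroup G) P, M.e (u * v * u⁻¹) l = ap A (M.e v l))
    (hB : ∀ v ∈ zl (S : Subgroup G) P, M.e (w * v * w⁻¹) l = ap A (M.e v l)) {n : G} (hn : n ∈ Nc M l) :
    u * n * u⁻¹ = w * n * w⁻¹ := by
  have h1 : w⁻¹ * u * n = n * (w⁻¹ * u) := by
    refine Sd.comm_Nc_of hG S h M hω (mul_mem (inv_mem hw) hu) (fun v hv => ?_) n hn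
    have hv' := conj_mem_zl (mul_mem (inv_mem hw) hu) hv
    have h2 := hB _ hv'
    have e : w * (w⁻¹ * u * v * (w⁻¹ * u)⁻¹) * w⁻¹ = u * v * u⁻¹ := by group
    rw [e, hA v hv] at h2
    have h3 := congrArg (ap A⁻¹) h2
    rw [ap_inv_ap, ap_inv_ap] at h3
    exact h3.symm
  calc u * n * u⁻¹ = w * (w⁻¹ * u * n) * u⁻¹ := by group
    _ = w * (n * (w⁻¹ * u)) * u⁻¹ := by rw [h1]
    _ = w * n * w⁻¹ := by group

section

variable (hω : ∃ ω : F, ω ≠ 0 ∧ ω ≠ 1)

include hG h hq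

theorem Kap_e_ne {u : G} (hu : u ∈ U) {l j : Fin k} (hj : j ≠ l) (n : ↥(Nc M l)) :
    M.e ((Kap hG S h M (hq.UP hu) l n : ↥(zc (o2 P))) : G) j = 0 := by
  have hnV := Sd.Nc_le M l n.2
  have h1 := (U_acts hG S h hq l.pos hu (M := M)).1 _ hnV j
  rw [Kap_val, e_div M (conj_mem_zl (hq.UP hu) hnV) hnV, Pi.sub_apply, h1, Sd.e_Nc M n.2 hj, ap_zero2, sub_self]

theorem Kap_e {u : G} (hu : u ∈ U) {l : Fin k} (n : ↥(Nc M l)) :
    M.e ((Kap hG S h M (hq.UP hu) l n : ↥(zc (o2 P))) : G) l = ![bt M u l * M.e (n : G) l 1, 0] := by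
  have hnV := Sd.Nc_le M l n.2
  have h1 := (U_acts hG S h hq l.pos hu (M := M)).1 _ hnV l
  rw [Kap_val, e_div M (conj_mem_zl (hq.UP hu) hnV) hnV, Pi.sub_apply, h1, ap_up2]
  apply ext2
  · simp
  · simp

include hω in
theorem Kap_one [Finite F] (hF : 4 ≤ Nat.card F) {S₁ : Subgroup G} {J : Fin k → Prop} (Q : Hf M S₁ J) {u : G}
    (hu : u ∈ U) {l : Fin k} (n : ↥(Nc M l)) (h0 : M.e (n : G) l 1 = 0) : Kap hG S h M (hq.UP hu) l n = 1 := by
  obtain ⟨t, ht, hA⟩ := Q.exists_unip S h l (bt M u l)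
  have h1 := (U_acts hG S h hq l.pos hu (M := M)).1
  have h2 := eq_on_Nc hG S h hω (hq.UP hu) hA.1 (fun v hv => h1 v hv l) (fun v hv => hA.same hv) n.2
  have h3 := fix_line hG S h l.pos hF hA (Sd.Nc_le M l n.2) h0
  apply Subtype.ext
  rw [Kap_val, h2, h3, mul_inv_cancel]
  rfl

end

open Classical in
/-- `(n_l) ↦ ∏_{l ∉ J} [u_l, n_l]` -/
noncomputable def Phi (hG : IsCharacteristicTwoType G) (S : Sylow 2 G) {P : Subgroup G}
    (h : IsParS (S : Subgroup G) P) {k : ℕ}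
    (M : NatK F (S : Subgroup G) P (zl (S : Subgroup G) P) (cv (S : Subgroup G) P) k) (J : Fin k → Prop)
    {us : Fin k → G} (hu : ∀ l, us l ∈ P) : ((l : Fin k) → ↥(Nc M l)) →* ↥(zc (o2 P)) :=
  ∏ l ∈ Finset.univ.filter fun l => ¬ J l, (Kap hG S h M (hu l) l).comp (Pi.evalMonoidHom _ l)

open Classical in
theorem Phi_apply {J : Fin k → Prop} {us : Fin k → G} (hu : ∀ l, us l ∈ P) (n : (l : Fin k) → ↥(Nc M l)) :
    Phi hG S h M J hu n = ∏ l ∈ Finset.univ.filter fun l => ¬ J l, Kap hG S h M (hu l) l (n l) := by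
  rw [Phi, MonoidHom.finsetProd_apply]
  rfl

theorem Phi_VA {J : Fin k → Prop} {us : Fin k → G} (hu : ∀ l, us l ∈ P) (n : (l : Fin k) → ↥(Nc M l)) :
    Phi hG S h M J hu n ∈ VA S P := by
  rw [Phi_apply]
  exact Subgroup.prod_mem _ fun l _ => Kap_VA hG S h (hu l) (n l)

theorem Kap_mem {J : Fin k → Prop} {us : Fin k → G} (hu : ∀ l, us l ∈ P) {l : Fin k} (hl : ¬ J l) (n : ↥(Nc M l)) :
    Kap hG S h M (hu l) l n ∈ (Phi hG S h M J hu).range := by
  classical
  refine ⟨Pi.mulSingle l n, ?_⟩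
  rw [Phi_apply, Finset.prod_eq_single l]
  · rw [Pi.mulSingle_eq_same]
  · intro j _ hj
    rw [Pi.mulSingle_eq_of_ne hj, map_one]
  · intro h1
    exact absurd (Finset.mem_filter.2 ⟨Finset.mem_univ l, hl⟩) h1

section two

variable {us : Fin k → G} (hus : ∀ l, us l ∈ U)

include hG h hq in
theorem Phi_e_J {J : Fin k → Prop} {l : Fin k} (hl : J l) (n : (l : Fin k) → ↥(Nc M l)) :
    M.e ((Phi hG S h M J (fun l => hq.UP (hus l)) n : ↥(zc (o2 P))) : G) l = 0 := by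
  classical
  rw [Phi_apply, (e_prod S _ _ fun l _ => Kap_VA hG S h _ (n l)).2, Finset.sum_apply]
  refine Finset.sum_eq_zero fun j hj => ?_
  have hj1 : ¬ J j := (Finset.mem_filter.1 hj).2
  exact Kap_e_ne hG S h hq (hus j) (fun h1 : l = j => hj1 (h1 ▸ hl)) (n j)

include hG h hq in
theorem Phi_e {J : Fin k → Prop} {l : Fin k} (hl : ¬ J l) (n : (l : Fin k) → ↥(Nc M l)) :
    M.e ((Phi hG S h M J (fun l => hq.UP (hus l)) n : ↥(zc (o2 P))) : G) l =
      ![bt M (us l) l * M.e (n l : G) l 1, 0] := by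
  classical
  rw [Phi_apply, (e_prod S _ _ fun l _ => Kap_VA hG S h _ (n l)).2, Finset.sum_apply, Finset.sum_eq_single l]
  · exact Kap_e hG S h hq (hus l) (n l)
  · intro j _ hj
    exact Kap_e_ne hG S h hq (hus j) hj.symm (n j)
  · intro h1
    exact absurd (Finset.mem_filter.2 ⟨Finset.mem_univ l, hl⟩) h1

include hG h hq in
theorem Phi_mem_U {J : Fin k → Prop} (n : (l : Fin k) → ↥(Nc M l)) :
    ((Phi hG S h M J (fun l => hq.UP (hus l)) n : ↥(zc (o2 P))) : G) ∈ U := by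
  have h1 : Phi hG S h M J (fun l => hq.UP (hus l)) n ∈ U.subgroupOf (zc (o2 P)) := by
    rw [Phi_apply]
    refine Subgroup.prod_mem _ fun l _ => ?_
    rw [mem_subgroupOf, Kap_val]
    exact hq.cm_mem (hus l) (hq.VS (Sd.Nc_le M l (n l).2))
  exact mem_subgroupOf.1 h1

include hG h hq in
theorem Phi_one (hω : ∃ ω : F, ω ≠ 0 ∧ ω ≠ 1) [Finite F] (hF : 4 ≤ Nat.card F) {S₁ : Subgroup G}
    {J : Fin k → Prop} (Q : Hf M S₁ J)
    (hb : ∀ l, bt M (us l) l ≠ 0) (n : (l : Fin k) → ↥(Nc M l))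
    (h0 : M.e ((Phi hG S h M J (fun l => hq.UP (hus l)) n : ↥(zc (o2 P))) : G) = 0) :
    Phi hG S h M J (fun l => hq.UP (hus l)) n = 1 := by
  classical
  rw [Phi_apply]
  refine Finset.prod_eq_one fun l hl => ?_
  have hl1 : ¬ J l := (Finset.mem_filter.1 hl).2
  refine Kap_one hG S h hq hω hF Q (hus l) (n l) ?_
  have h1 := Phi_e hG S h hq hus hl1 n
  rw [h0] at h1
  have h2 := congrFun h1 0
  simp only [Pi.zero_apply, Matrix.cons_val_zero] at h2
  rcases mul_eq_zero.1 h2.symm with h3 | h3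
  · exact absurd h3 (hb l)
  · exact h3

include hG h hq in
theorem Phi_norm (hω : ∃ ω : F, ω ≠ 0 ∧ ω ≠ 1) {S₁ : Subgroup G} {J : Fin k → Prop} (Q : Hf M S₁ J)
    (hb : ∀ l, bt M (us l) l ≠ 0) (h2 : ∀ l, (centralizer (Nc M l : Set G)).relIndex U ≤ 2) {s : G} (hs : s ∈ S₁)
    {y : ↥(zc (o2 P))} (hy : y ∈ (Phi hG S h M J (fun l => hq.UP (hus l))).range) :
    cA (h.le (Q.le hs)) y ∈ (Phi hG S h M J (fun l => hq.UP (hus l))).range := by
  classical
  obtain ⟨n, rfl⟩ := hy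
  have hsS := Q.le hs
  have hsP := h.le hsS
  rw [Phi_apply, map_prod]
  refine Subgroup.prod_mem _ fun l hl => ?_
  have hl1 : ¬ J l := (Finset.mem_filter.1 hl).2
  obtain ⟨l', hm⟩ := exists_Mv (M := M) hsP l
  have hl' : ¬ J l' := fun h1 => hl1 ((Q.stab s hs l l' hm).2 h1)
  have hu' : s * us l * s⁻¹ ∈ U := (mem_normalizer_iff.1 (hq.SU hsS) _).1 (hus l)
  have hb' : bt M (s * us l * s⁻¹) l' ≠ 0 := by
    intro h0
    rw [← mem_cent_iff hG S h hq hω hu'] at h0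
    apply hb l
    rw [← mem_cent_iff hG S h hq hω (hus l)]
    refine mem_centralizer_iff.2 fun x hx => ?_
    have h3 := mem_centralizer_iff.1 h0 _ (Nc_mvK hsP hm hx)
    calc x * us l = s⁻¹ * ((s * x * s⁻¹) * (s * us l * s⁻¹)) * s := by group
      _ = s⁻¹ * ((s * us l * s⁻¹) * (s * x * s⁻¹)) * s := by rw [h3]
      _ = us l * x := by group
  have hbb := eq_of_le_two hG S h hq hω (h2 l') hu' (hus l') hb' (hb l')
  have hn' := Nc_mvK hsP hm (n l).2
  have key : cA hsP (Kap hG S h M (hq.UP (hus l)) l (n l)) =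
      Kap hG S h M (hq.UP (hus l')) l' ⟨s * (n l : G) * s⁻¹, hn'⟩ := by
    apply Subtype.ext
    rw [cA_val, Kap_val, Kap_val]
    have h3 := eq_on_Nc hG S h hω (A := up (bt M (us l') l')) (hq.UP hu') (hq.UP (hus l')) (fun v hv => by
      have h4 := (U_acts hG S h hq l.pos hu' (M := M)).1 v hv l'
      rw [h4]
      change ap (up (bt M (s * us l * s⁻¹) l')) (M.e v l') = _
      rw [hbb]) (fun v hv => (U_acts hG S h hq l.pos (hus l') (M := M)).1 v hv l') hn'
    change _ = us l' * (s * (n l : G) * s⁻¹) * (us l')⁻¹ * (s * (n l : G) * s⁻¹)⁻¹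
    rw [← h3]
    group
  rw [key]
  exact Kap_mem hG S h (fun l => hq.UP (hus l)) hl' _

end two

/-! ### the projection on the fixed vectors of the torus kills the coordinates -/

section avg

variable [Fintype F] [DecidableEq F]

include hG h in
theorem eA_coord_same (hF : 4 ≤ Nat.card F) (i : Fin k) {v : ↥(zc (o2 P))} (hv : v ∈ VA S P) :
    M.e ((eA S M i v : ↥(zc (o2 P))) : G) i = 0 := by
  obtain ⟨ω, h0, h1⟩ := exists_omega hF
  have h2 := eA_tor hG S h i.pos M i (Units.mk0 ω h0) v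
  have h3 := congrArg (fun a : ↥(zc (o2 P)) => M.e (a : G) i) h2
  have hV := (mem_VA S).1 (eA_VA S M (i := i) hv)
  change M.e ((rh S M i (dg ((Units.mk0 ω h0 : Fˣ) : F) (Units.mk0 ω h0).ne_zero) (eA S M i v) : ↥(zc (o2 P))) : G) i =
    M.e ((eA S M i v : ↥(zc (o2 P))) : G) i at h3
  rw [rh_val hG S h i.pos M (lf_spec S M i _), (lf_spec S M i _).same hV] at h3
  have h4 := congrFun h3 0
  have h5 := congrFun h3 1
  rw [ap_zero'] at h4
  rw [ap_one'] at h5
  simp at h4 h5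
  have a1 : (ω - 1) * M.e ((eA S M i v : ↥(zc (o2 P))) : G) i 0 = 0 := by linear_combination h4
  have a2 : (ω⁻¹ - 1) * M.e ((eA S M i v : ↥(zc (o2 P))) : G) i 1 = 0 := by linear_combination h5
  apply ext2
  · exact (mul_eq_zero.1 a1).resolve_left (sub_ne_zero.2 h1)
  · exact (mul_eq_zero.1 a2).resolve_left (sub_ne_zero.2 fun h => h1 (inv_eq_one.1 h))

include hG h in
theorem eL_coord_mem (hF : 4 ≤ Nat.card F) {L : List (Fin k)} {i : Fin k} (hi : i ∈ L) {v : ↥(zc (o2 P))}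
    (hv : v ∈ VA S P) : M.e ((eL S M L v : ↥(zc (o2 P))) : G) i = 0 := by
  induction L with
  | nil => exact absurd hi List.not_mem_nil
  | cons j L ih =>
    by_cases hij : i = j
    · subst hij
      rw [eL_cons]
      exact eA_coord_same hG S h hF i (eL_VA S M L hv)
    · rcases List.mem_cons.1 hi with h1 | h1
      · exact absurd h1 hij
      · rw [eL_cons, eA_coord hG S h i.pos M hij (eL_VA S M L hv)]
        exact ih h1

end avg

/-! ### `X` -/

section fin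

variable [Fintype F] [DecidableEq F]

include hG h hq in
/-- **the case `|T| = 2`** -/
theorem exists_Y (hF : 4 ≤ Nat.card F) {S₁ : Subgroup G} {J : Fin k → Prop} (Q : Hf M S₁ J)
    (h2 : ∀ l, (centralizer (Nc M l : Set G)).relIndex U = 2) {E : Subgroup G} (hEU : E ≤ U)
    (hED : E ≤ cv (S : Subgroup G) P) (hES : ∀ d ∈ E, ∀ s ∈ (S : Subgroup G), s * d = d * s) (hE : E ≠ ⊥) :
    ∃ X ≤ U, 2 < Nat.card X ∧ ∀ x ∈ X, ∃ (r : ↥(zc (o2 P))) (d : G), x = (r : G) * d ∧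
      d ∈ cv (S : Subgroup G) P ∧ (∀ s ∈ S₁, s * d = d * s) ∧ (r : G) ∈ zl (S : Subgroup G) P ∧
      (∀ l, J l → M.e (r : G) l = 0) ∧ (∀ l, M.e (r : G) l 1 = 0) ∧ eL S M (LJ fun l => ¬ J l) r = 1 ∧
      ((∀ l, ¬ J l → M.e (r : G) l ≠ 0) ∨ r = 1) := by
  have hω := exists_omega hF
  have hk := Q.pos S
  -- `u_l`
  have hex : ∀ l, ∃ u ∈ U, bt M u l ≠ 0 := by
    intro l
    by_contra hcon
    push Not at hcon
    have h3 : U ≤ centralizer (Nc M l : Set G) := fun u hu => (mem_cent_iff hG S h hq hω hu).2 (hcon u hu)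
    have h4 := h2 l
    rw [relIndex_eq_one.2 h3] at h4
    omega
  choose us hus hb using hex
  have hle : ∀ l, (centralizer (Nc M l : Set G)).relIndex U ≤ 2 := fun l => (h2 l).le
  set Φ := Phi hG S h M J (fun l => hq.UP (hus l)) with hΦ
  -- a fixed point
  set Y : Subgroup G := Φ.range.map (zc (o2 P)).subtype with hY
  have hYne : Y ≠ ⊥ := by
    intro h3
    obtain ⟨l, hl⟩ := Q.exN
    obtain ⟨n, hn, he⟩ := Sd.Nc_surj M l ![0, 1]
    have h4 := Kap_mem hG S h (J := J) (fun l => hq.UP (hus l)) hl ⟨n, hn⟩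
    have h5 : ((Kap hG S h M (hq.UP (hus l)) l ⟨n, hn⟩ : ↥(zc (o2 P))) : G) ∈ Y := ⟨_, h4, rfl⟩
    rw [h3, mem_bot] at h5
    have h6 := Kap_e hG S h hq (hus l) ⟨n, hn⟩
    rw [h5, e_one M, he] at h6
    have h7 := congrFun h6 0
    simp at h7
    exact hb l h7.symm
  have hYV : ∀ y ∈ Y, y ∈ zl (S : Subgroup G) P := by
    rintro _ ⟨_, ⟨n, rfl⟩, rfl⟩
    exact (mem_VA S).1 (Phi_VA hG S h _ n)
  obtain ⟨y₀, hy₀, hne, hfix⟩ := AdjTransv.exists_fixed (S := S₁) (N := Y) (S.isPGroup'.to_le Q.le) hYne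
    (fun n hn => sq_zl hG S h (hYV n hn)) (by
      rintro s hs _ ⟨y, hy, rfl⟩
      exact ⟨_, Phi_norm hG S h hq hus hω Q hb hle hs hy, rfl⟩)
  obtain ⟨y, ⟨n, hn⟩, rfl⟩ := hy₀
  have hyU : (y : G) ∈ U := by
    rw [← hn]
    exact Phi_mem_U hG S h hq hus n
  have hyVA : y ∈ VA S P := by
    rw [← hn]
    exact Phi_VA hG S h _ n
  have hyV := (mem_VA S).1 hyVA
  have hyJ : ∀ l, J l → M.e (y : G) l = 0 := fun l hl => by
    rw [← hn]
    exact Phi_e_J hG S h hq hus hl n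
  have hy1 : ∀ l, M.e (y : G) l 1 = 0 := by
    intro l
    by_cases hl : J l
    · rw [hyJ l hl]; rfl
    · rw [← hn, Phi_e hG S h hq hus hl n]
      simp
  have hy0 : M.e (y : G) ≠ 0 := by
    intro h0
    apply hne
    rw [← hn] at h0
    have h3 := Phi_one hG S h hq hus hω hF Q hb n h0
    change (y : G) = 1
    rw [← hn]
    exact congrArg Subtype.val h3
  change ∀ s ∈ S₁, s * (y : G) * s⁻¹ = y at hfix
  have hfull : ∀ l, ¬ J l → M.e (y : G) l ≠ 0 := by
    obtain ⟨l₀, hl₀⟩ : ∃ l, M.e (y : G) l ≠ 0 := by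
      by_contra hcon
      push Not at hcon
      exact hy0 (funext hcon)
    have hJ₀ : ¬ J l₀ := fun h1 => hl₀ (hyJ _ h1)
    intro l hl h0
    obtain ⟨s, hs, hm⟩ := Q.transN l₀ l hJ₀ hl
    have h1 := hm _ hyV
    rw [hfix s hs] at h1
    exact hl₀ (h1.1 h0)
  have hysq : y * y = 1 := A_sq y
  have hyS : (y : G) ∈ zc S₁ := MinSimple.VModule.mem_zc.2 ⟨Q.V_le hG S h hyV, fun s hs => by
    have h1 := hfix s hs
    exact mul_inv_eq_iff_eq_mul.1 h1, zc_sq _ _ y.2⟩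
  -- the decomposition of `y`
  set L := LJ fun l => ¬ J l with hL
  set d := eL S M L y with hd
  have hdVA : d ∈ VA S P := eL_VA S M L hyVA
  have hd0 : M.e (d : G) = 0 := by
    funext l
    by_cases hl : J l
    · rw [hd, eL_coord hG S h hk M (fun h1 => (mem_LJ.1 h1) hl) hyVA, hyJ l hl]
      rfl
    · exact eL_coord_mem hG S h hF (mem_LJ.2 hl) hyVA
  have hdcv : (d : G) ∈ cv (S : Subgroup G) P := (M.ker _ ((mem_VA S).1 hdVA)).1 hd0
  have hdS : ∀ s ∈ S₁, s * (d : G) = d * s := by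
    intro s hs
    have h1 : cA (h.le (Q.le hs)) y = y := Subtype.ext (by rw [cA_val]; exact hfix s hs)
    have h3 := Q.symm.conj_eJ hG S h hs (a := y) (by rw [h1]; exact Q.fx hG S h hyS)
    rw [h1] at h3
    have h4 := congrArg Subtype.val h3
    rw [cA_val] at h4
    exact mul_inv_eq_iff_eq_mul.1 h4
  have hr1 : eL S M L (y * d) = 1 := by
    rw [map_mul, hd, eL_idem hG S h hk M]
    exact A_sq _
  have hre : ∀ l, M.e ((y * d : ↥(zc (o2 P))) : G) l = M.e (y : G) l := by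
    intro l
    change M.e ((y : G) * (d : G)) l = _
    rw [M.mul _ hyV _ ((mem_VA S).1 hdVA), Pi.add_apply, hd0, Pi.zero_apply, add_zero]
  have hEV : ∀ e ∈ E, e ∈ zl (S : Subgroup G) P := fun e he => cv_le _ _ (hED he)
  -- `X`
  let X : Subgroup G :=
    { carrier := {x | x ∈ E ∨ ∃ e ∈ E, x = (y : G) * e}
      one_mem' := Or.inl (one_mem E)
      mul_mem' := by
        rintro a b (ha | ⟨e, he, rfl⟩) (hb | ⟨e', he', rfl⟩)
        · exact Or.inl (mul_mem ha hb)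
        · refine Or.inr ⟨a * e', mul_mem ha he', ?_⟩
          rw [← mul_assoc, ← mul_assoc, Sd.V_comm hG S h (hEV a ha) hyV]
        · exact Or.inr ⟨e * b, mul_mem he hb, by rw [mul_assoc]⟩
        · refine Or.inl ?_
          have h3 := Sd.V_comm hG S h (hEV e he) hyV
          have h4 : (y : G) * y = 1 := congrArg Subtype.val hysq
          have h5 : (y : G) * e * ((y : G) * e') = e * e' := by
            calc (y : G) * e * ((y : G) * e') = (y : G) * (e * y) * e' := by group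
              _ = (y : G) * (y * e) * e' := by rw [h3]
              _ = ((y : G) * y) * (e * e') := by group
              _ = e * e' := by rw [h4, one_mul]
          rw [h5]
          exact mul_mem he he'
      inv_mem' := by
        rintro a (ha | ⟨e, he, rfl⟩)
        · exact Or.inl (inv_mem ha)
        · refine Or.inr ⟨e⁻¹, inv_mem he, ?_⟩
          have h4 : (y : G)⁻¹ = y := inv_eq_of_mul_eq_one_left (congrArg Subtype.val hysq)
          rw [mul_inv_rev, h4]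
          exact Sd.V_comm hG S h (inv_mem (hEV e he)) hyV }
  refine ⟨X, ?_, ?_, ?_⟩
  · rintro x (hx | ⟨e, he, rfl⟩)
    · exact hEU hx
    · exact mul_mem hyU (hEU he)
  · obtain ⟨e, he, he1⟩ := (bot_or_exists_ne_one E).resolve_left hE
    have hyE : (y : G) ∉ E := fun h1 => hy0 ((M.ker _ hyV).2 (hED h1))
    have hinj : Function.Injective (fun x : Fin 3 => (![1, ⟨e, Or.inl he⟩, ⟨(y : G), Or.inr ⟨1, one_mem E,
        (mul_one _).symm⟩⟩] : Fin 3 → X) x) := by
      have a1 : (y : G) ≠ 1 := fun h1 => hyE (h1 ▸ one_mem E)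
      have a2 : e ≠ y := fun h1 => hyE (h1 ▸ he)
      intro a b hab
      have hab' := congrArg Subtype.val hab
      fin_cases a <;> fin_cases b <;> simp at hab' ⊢
      · exact he1 hab'.symm
      · exact a1 (by simpa using hab'.symm)
      · exact he1 hab'
      · exact a2 hab'
      · exact a1 (by simpa using hab')
      · exact a2 hab'.symm
    have h6 := Nat.card_le_card_of_injective _ hinj
    rw [Nat.card_eq_fintype_card (α := Fin 3), Fintype.card_fin] at h6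
    omega
  · rintro x (hx | ⟨e, he, rfl⟩)
    · refine ⟨1, x, (one_mul x).symm, hED hx, fun s hs => hES x hx s (Q.le hs), one_mem _, fun l _ => ?_, fun l => ?_,
        map_one _, Or.inr rfl⟩
      · change M.e 1 l = 0
        rw [e_one M]; rfl
      · change M.e 1 l 1 = 0
        rw [e_one M]; rfl
    · refine ⟨y * d, (d : G) * e, ?_, mul_mem hdcv (hED he), fun s hs => ?_, ?_, fun l hl => ?_, fun l => ?_, hr1,
        Or.inl fun l hl => ?_⟩
      · have h4 : (d : G) * d = 1 := congrArg Subtype.val (A_sq d)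
        change (y : G) * e = (y : G) * d * (d * e)
        rw [mul_assoc (y : G), ← mul_assoc (d : G), h4, one_mul]
      · have h4 := hES e he s (Q.le hs)
        have h5 := hdS s hs
        calc s * ((d : G) * e) = (s * d) * e := by group
          _ = d * (s * e) := by rw [h5]; group
          _ = (d : G) * e * s := by rw [h4]; group
      · exact mul_mem hyV ((mem_VA S).1 hdVA)
      · rw [hre, hyJ l hl]
      · rw [hre, hy1]
      · rw [hre]
        exact hfull l hl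

end fin

end main

end Cfsg.Agent.Omega.NOThreeL.KTwo

end

section


/-!
# NO-3L, `R ∩ (A)`, `k ≥ 2`: THEOREM K (#21065, helper162), (3): from good elements to `[N_l, U] = 1`

* `cent_of_good` : `X ≤ U`, `|U : C_U(N_l)| < |X|`, every `1 ≠ x ∈ X` good for `J` implies `[N_l, U] = 1`, `l ∈ J`;
* `zl_le_of` : all `[N_l, U] = 1` implies `[V, U] = 1`;
* `quad_of_loc` : `Quad S P (zl S H)` for all local `H`.
-/

set_option autoImplicit false
set_option linter.unusedSectionVars false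

namespace Cfsg.Agent.Omega.NOThreeL.KTwo

open Subgroup Cfsg Cfsg.Agent.ZN Cfsg.Agent.Omega.MinPar
open Cfsg.Agent.Omega.FrameFF Cfsg.Agent.Omega.FFThm Cfsg.Agent.Lib.SL2Mat
open Cfsg.Agent.Omega.NatPair (ap ap_add ap_mul ap_one ap_inj ext2 ap_zero' ap_one' ap_inv_ap ap_ap_inv)
open Cfsg.Agent.Omega.HOne (cv_le conj_mem_zl conj_mem_cv)
open Cfsg.Agent.Omega.IId.Cv Cfsg.Agent.Omega.IId.Ns
open Cfsg.Agent.Omega.NOThreeL.AFour (Quad)
open Cfsg.Agent.Omega.NOThreeL.KTwo.Defs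
open Cfsg.Agent.Omega.NoFF.Basic (conj_conj conj_le_centralizer comm_symm)
open scoped Pointwise

universe u

variable {G : Type u} [Group G] {F : Type} [Field F]

section main

variable [Finite G] [CharP F 2] (hG : IsCharacteristicTwoType G) (S : Sylow 2 G) {P : Subgroup G}
  (h : IsParS (S : Subgroup G) P) {k : ℕ}
  {M : NatK F (S : Subgroup G) P (zl (S : Subgroup G) P) (cv (S : Subgroup G) P) k}
  {U : Subgroup G} (hq : Quad (S : Subgroup G) P U)

include hq in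
/-- **from good elements to `[N_l, U] = 1`** -/
theorem cent_of_good {J : Fin k → Prop} {H X : Subgroup G} (hSH : (S : Subgroup G) ≤ H)
    (hHU : H ≤ normalizer (U : Set G)) (ho : o2 H ≤ centralizer (U : Set G)) (hX : X ≤ U)
    (hlt : ∀ l, J l → (centralizer (Nc M l : Set G)).relIndex U < Nat.card X)
    (hgood : ∀ x ∈ X, x ≠ 1 → Good M J x) {l : Fin k} (hl : J l) : Nc M l ≤ centralizer (U : Set G) := by
  have hNS : Nc M l ≤ (S : Subgroup G) := (Sd.Nc_le M l).trans hq.VS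
  refine end_of (hNS.trans hSH) (S.isPGroup'.to_le hNS) hHU hX (hlt l hl) (fun x hx hx1 g hg g' hg' => ?_) ho
  have h1 := hgood x hx hx1 l hl (g⁻¹ * g') (mul_mem (inv_mem hg) hg')
  have h2 := conj_le_centralizer (g := g) h1
  rwa [conj_conj, mul_inv_cancel_left] at h2

include hG h hq in
/-- `[N_l, U] = 1` for all `l` implies `[V, U] = 1` -/
theorem zl_le_of (hω : ∃ ω : F, ω ≠ 0 ∧ ω ≠ 1) (hk : 0 < k)
    (hc : ∀ l, Nc M l ≤ centralizer (U : Set G)) : zl (S : Subgroup G) P ≤ centralizer (U : Set G) := by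
  refine comm_symm fun u hu => mem_centralizer_iff.2 fun v hv => ?_
  have h1 : u ∈ kern M := by
    refine ⟨hq.UP hu, fun v hv => ?_⟩
    funext l
    have h2 : bt M u l = 0 := (mem_cent_iff hG S h hq hω hu).1 (comm_symm (hc l) hu)
    rw [(U_acts hG S h hq hk hu (M := M)).1 v hv l]
    change ap (up (bt M u l)) (M.e v l) = _
    rw [h2, up_zero, ap_one]
  exact (comm_of_quot hG S h M hk (hq.US hu) h1 v hv).symm

end main

section loc

variable [Finite G] (hG : IsCharacteristicTwoType G) (S : Sylow 2 G) {P H : Subgroup G}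

include hG in
theorem quad_of_loc (h : IsParS (S : Subgroup G) P) (hH : IsLoc (S : Subgroup G) H) :
    Quad (S : Subgroup G) P (zl (S : Subgroup G) H) where
  SP := h.le
  VS := (h.isLoc.zl_le S hG).trans ((MinSimple.VModule.zc_le _).trans (h.isLoc.o2_le S))
  US := (hH.zl_le S hG).trans ((MinSimple.VModule.zc_le _).trans (hH.o2_le S))
  SU := hH.le.trans (le_normalizer_zl _ _)
  ab u hu _ hv := mem_centralizer_iff.1 ((NOThreeL.Pair.zl_abel hG S hH).1 hv) u hu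
  sq u hu := by
    rw [← pow_two]
    exact (NOThreeL.Pair.zl_abel hG S hH).2 u hu

include hG in
theorem o2_le_cent (hH : IsLoc (S : Subgroup G) H) : o2 H ≤ centralizer (zl (S : Subgroup G) H : Set G) :=
  comm_symm fun _ hu => mem_centralizer_iff.2 fun x hx => (MinSimple.VModule.mem_zc.1 (hH.zl_le S hG hu)).2.1 x hx

end loc

end Cfsg.Agent.Omega.NOThreeL.KTwo

end

section


/-!
# NO-3L, `R ∩ (A)`, `k ≥ 2`: THEOREM K (#21065, helper162), (3): the case `|T| > 2`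

`|U : C_U(N_l)| > 2` for all `l`: two elements `u, w ∈ U` with different nonzero parameters `t ≠ t'` at `l`;
`λ² t = t'`, `x` a lift of `diag (λ, λ⁻¹)` in the `l`-th block, `n ∈ N_l`: `[u, n] · x [u, n] x⁻¹ ∈ U` has the
coordinates `((1 + λ) t c, 0)` at `l` and is killed by `e_l`.

* `exists_rho` : the vectors `ρ_{l,s} ∈ U ∩ V`;
* `exists_X` .
-/

set_option autoImplicit false
set_option linter.unusedSectionVars false

namespace Cfsg.Agent.Omega.NOThreeL.KTwo

open Subgroup Cfsg Cfsg.Agent.ZN Cfsg.Agent.Omega.MinPar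
open Cfsg.Agent.Omega.FrameFF Cfsg.Agent.Omega.FFThm Cfsg.Agent.Lib.SL2Mat
open Cfsg.Agent.Omega.NatPair (ap ap_add ap_mul ap_one ap_inj ext2 ap_zero' ap_one' ap_inv_ap ap_ap_inv)
open Cfsg.Agent.Omega.HOne (cv_le conj_mem_zl conj_mem_cv)
open Cfsg.Agent.Omega.IId.Cv Cfsg.Agent.Omega.IId.Ns
open Cfsg.Agent.Omega.NOThreeL.AFour (Quad)
open Cfsg.Agent.Omega.NOThreeL.KTwo.Defs
open Cfsg.Agent.MinSimple.VModule (zc_comm zc_sq zc_le mem_zc le_normalizer_o2 normalizer_le_normalizer_zc zc_le_zl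
  o2_isPGroup o2_le)
open scoped Pointwise

universe u

variable {G : Type u} [Group G] {F : Type} [Field F]

attribute [local instance] aqComm

section main

variable [Finite G] [CharP F 2] (hG : IsCharacteristicTwoType G) (S : Sylow 2 G) {P : Subgroup G}
  (h : IsParS (S : Subgroup G) P) {k : ℕ}
  {M : NatK F (S : Subgroup G) P (zl (S : Subgroup G) P) (cv (S : Subgroup G) P) k}
  {U : Subgroup G} (hq : Quad (S : Subgroup G) P U)

variable [Fintype F] [DecidableEq F]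

include hG h hq in
/-- the vector `(s, 0)` of the `l`-th block, in `U` -/
theorem exists_rho (hF : 4 ≤ Nat.card F) {l : Fin k} (h3 : 2 < (centralizer (Nc M l : Set G)).relIndex U) (s : F) :
    ∃ r : ↥(zc (o2 P)), (r : G) ∈ U ∧ r ∈ VA S P ∧ M.e (r : G) l = ![s, 0] ∧ (∀ j, j ≠ l → M.e (r : G) j = 0) ∧
      eA S M l r = 1 := by
  have hk : 0 < k := l.pos
  have hω := exists_omega hF
  obtain ⟨u, hu, w, hw, hu0, hw0, hne⟩ := exists_two hG S h hq hω h3
  set t := bt M u l with ht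
  set t' := bt M w l with ht'
  obtain ⟨m, hm⟩ : IsSquare (t' / t) := FiniteField.isSquare_of_char_two (ringChar.eq F 2) _
  have hm0 : m ≠ 0 := by
    rintro rfl
    rw [mul_zero, div_eq_zero_iff] at hm
    exact hm.elim hw0 hu0
  have hmt : m ^ 2 * t = t' := by
    rw [pow_two, ← hm]
    field_simp
  have hm1 : 1 + m ≠ 0 := by
    intro h1
    have h2 : m = 1 := by
      have htwo : (2 : F) = 0 := CharTwo.two_eq_zero
      linear_combination h1 - htwo
    rw [h2, one_pow, one_mul] at hmt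
    exact hne hmt
  set c := s / (t * (1 + m)) with hc
  obtain ⟨n, hn, hne'⟩ := Sd.Nc_surj M l ![0, c]
  have hnV := Sd.Nc_le M l hn
  have hx := lf_spec S M l (dg m hm0)
  set x := lf S M l (dg m hm0) with hxd
  set κ := Kap hG S h M (hq.UP hu) l ⟨n, hn⟩ with hκ
  have hκV : κ ∈ VA S P := Kap_VA hG S h _ _
  have hκl : M.e (κ : G) l = ![t * c, 0] := by
    have h1 := Kap_e hG S h hq hu (M := M) (⟨n, hn⟩ : ↥(Nc M l))
    rw [hκ, h1]
    change ![bt M u l * M.e n l 1, 0] = _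
    rw [hne']
    rfl
  have hκj : ∀ j, j ≠ l → M.e (κ : G) j = 0 := fun j hj => Kap_e_ne hG S h hq hu hj _
  have hκU : (κ : G) ∈ U := by
    rw [hκ, Kap_val]
    exact hq.cm_mem hu (hq.VS hnV)
  set κ' := rh S M l (dg m hm0) κ with hκ'
  have hκ'v : (κ' : G) = x * κ * x⁻¹ := rh_val hG S h hk M hx κ
  have hκ'V : κ' ∈ VA S P := rh_VA S M l _ hκV
  have hn' : x * n * x⁻¹ ∈ Nc M l := Nc_mvK hx.1 hx.mv hn
  have hxu : x * u * x⁻¹ ∈ P := mul_mem (mul_mem hx.1 (hq.UP hu)) (inv_mem hx.1)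
  have hact : ∀ v ∈ zl (S : Subgroup G) P, M.e (x * u * x⁻¹ * v * (x * u * x⁻¹)⁻¹) l = ap (up t') (M.e v l) := by
    intro v hv
    have h1 := hx.inv.same hv
    have h2 := (U_acts hG S h hq hk hu (M := M)).1 _ (hx.inv.V hv) l
    have h4 := hx.same (conj_mem_zl (hq.UP hu) (hx.inv.V hv))
    have e : x * u * x⁻¹ * v * (x * u * x⁻¹)⁻¹ = x * (u * (x⁻¹ * v * x⁻¹⁻¹) * u⁻¹) * x⁻¹ := by group
    rw [e, h4, h2, h1]
    change ap (dg m hm0) (ap (up t) (ap (dg m hm0)⁻¹ (M.e v l))) = _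
    rw [← ap_mul, ← ap_mul, dg_up, hmt, mul_inv_cancel_right]
  have hκ'U : (κ' : G) ∈ U := by
    have h1 := eq_on_Nc hG S h hω (A := up t') hxu (hq.UP hw) hact
      (fun v hv => (U_acts hG S h hq hk hw (M := M)).1 v hv l) hn'
    have e : (κ' : G) = w * (x * n * x⁻¹) * w⁻¹ * (x * n * x⁻¹)⁻¹ := by
      rw [← h1, hκ'v, hκ, Kap_val]
      change x * (u * n * u⁻¹ * n⁻¹) * x⁻¹ = _
      group
    rw [e]
    exact hq.cm_mem hw (hq.VS (Sd.Nc_le M l hn'))
  refine ⟨κ * κ', mul_mem hκU hκ'U, mul_mem hκV hκ'V, ?_, fun j hj => ?_, ?_⟩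
  · change M.e ((κ : G) * κ') l = _
    rw [M.mul _ ((mem_VA S).1 hκV) _ ((mem_VA S).1 hκ'V), Pi.add_apply, hκ'v, hx.same ((mem_VA S).1 hκV), hκl]
    have e1 : t * c * (1 + m) = s := by
      rw [hc]
      field_simp
    apply ext2
    · rw [Pi.add_apply, ap_zero']
      simp
      linear_combination e1
    · rw [Pi.add_apply, ap_one']
      simp
  · change M.e ((κ : G) * κ') j = _
    rw [M.mul _ ((mem_VA S).1 hκV) _ ((mem_VA S).1 hκ'V), Pi.add_apply, hκ'v, hx.ne ((mem_VA S).1 hκV) hj, hκj j hj,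
      add_zero]
  · have h2 : eA S M l κ' = eA S M l κ := by
      rw [hκ', eA_apply, eA_apply]
      refine Fintype.prod_equiv (Equiv.mulRight (Units.mk0 m hm0)) _ _ fun l => ?_
      rw [← rh_mul hG S h hk, dg_mul_dg]
      rfl
    rw [map_mul, h2, A_sq]

include hG h hq in
/-- **the case `|T| > 2`** -/
theorem exists_X (hF : 4 ≤ Nat.card F) {S₁ : Subgroup G} {J : Fin k → Prop} (Q : Hf M S₁ J)
    (h3 : ∀ l, 2 < (centralizer (Nc M l : Set G)).relIndex U) {E : Subgroup G} (hEU : E ≤ U)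
    (hED : E ≤ cv (S : Subgroup G) P) (hE : E ≠ ⊥) :
    ∃ X ≤ U, Nat.card F < Nat.card X ∧ ∀ x ∈ X, ∃ (r : ↥(zc (o2 P))) (d : G), x = (r : G) * d ∧
      d ∈ E ∧ (r : G) ∈ zl (S : Subgroup G) P ∧ (∀ l, J l → M.e (r : G) l = 0) ∧
      (∀ l, M.e (r : G) l 1 = 0) ∧ eL S M (LJ fun l => ¬ J l) r = 1 ∧
      ((∀ l, ¬ J l → M.e (r : G) l ≠ 0) ∨ r = 1) := by
  classical
  have hk := Q.pos S
  obtain ⟨l₀, hl₀⟩ := Q.exN
  choose ρ hρU hρV hρl hρj hρe using fun (l : Fin k) (s : F) => exists_rho hG S h hq hF (h3 l) s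
  have hEV : ∀ e ∈ E, e ∈ zl (S : Subgroup G) P := fun e he => cv_le _ _ (hED he)
  -- `r_s`
  let rr : F → ↥(zc (o2 P)) := fun s => ∏ l ∈ Finset.univ.filter fun l => ¬ J l, ρ l s
  have hrV : ∀ s, rr s ∈ VA S P := fun s => Subgroup.prod_mem _ fun l _ => hρV l s
  have hrU : ∀ s, ((rr s : ↥(zc (o2 P))) : G) ∈ U := fun s => by
    have h1 : rr s ∈ U.subgroupOf (zc (o2 P)) := Subgroup.prod_mem _ fun l _ => mem_subgroupOf.2 (hρU l s)
    exact mem_subgroupOf.1 h1
  have hre : ∀ s, M.e (rr s : G) = ∑ l ∈ Finset.univ.filter fun l => ¬ J l, M.e (ρ l s : G) := fun s =>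
    (e_prod S _ _ fun l _ => hρV l s).2
  have hrJ : ∀ s l, J l → M.e (rr s : G) l = 0 := by
    intro s l hl
    rw [hre, Finset.sum_apply]
    refine Finset.sum_eq_zero fun j hj => hρj j s l ?_
    rintro rfl
    exact (Finset.mem_filter.1 hj).2 hl
  have hrN : ∀ s l, ¬ J l → M.e (rr s : G) l = ![s, 0] := by
    intro s l hl
    rw [hre, Finset.sum_apply, Finset.sum_eq_single l]
    · exact hρl l s
    · intro j _ hj
      exact hρj j s l hj.symm
    · intro h1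
      exact absurd (Finset.mem_filter.2 ⟨Finset.mem_univ l, hl⟩) h1
  have hrL : ∀ s, eL S M (LJ fun l => ¬ J l) (rr s) = 1 := by
    intro s
    change eL S M (LJ fun l => ¬ J l) (∏ l ∈ Finset.univ.filter fun l => ¬ J l, ρ l s) = 1
    rw [map_prod]
    refine Finset.prod_eq_one fun l hl => ?_
    exact eL_one hG S h hk M (mem_LJ.2 (Finset.mem_filter.1 hl).2) (hρe l s)
  -- `X`
  let X : Subgroup G :=
    { carrier := {x | ∃ (r : ↥(zc (o2 P))) (d : G) (s : F), x = (r : G) * d ∧ d ∈ E ∧ (r : G) ∈ U ∧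
        (r : G) ∈ zl (S : Subgroup G) P ∧ (∀ l, J l → M.e (r : G) l = 0) ∧ (∀ l, ¬ J l → M.e (r : G) l = ![s, 0]) ∧
        eL S M (LJ fun l => ¬ J l) r = 1}
      one_mem' := ⟨1, 1, 0, (mul_one _).symm, one_mem _, one_mem _, one_mem _,
        fun l _ => by
          change M.e 1 l = 0
          rw [e_one M]; rfl,
        fun l _ => by
          change M.e 1 l = _
          rw [e_one M]
          apply ext2 <;> simp,
        map_one _⟩
      mul_mem' := by
        rintro a b ⟨r, d, s, rfl, hd, hr1, hr2, hr3, hr4, hr5⟩ ⟨r', d', s', rfl, hd', hr1', hr2', hr3', hr4', hr5'⟩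
        refine ⟨r * r', d * d', s + s', ?_, mul_mem hd hd', mul_mem hr1 hr1', mul_mem hr2 hr2', fun l hl => ?_,
          fun l hl => ?_, ?_⟩
        · change (r : G) * d * (r' * d') = (r : G) * r' * (d * d')
          have h4 := Sd.V_comm hG S h (hEV d hd) hr2'
          calc (r : G) * d * (r' * d') = r * (d * r') * d' := by group
            _ = r * (r' * d) * d' := by rw [h4]
            _ = (r : G) * r' * (d * d') := by group
        · change M.e ((r : G) * r') l = 0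
          rw [M.mul _ hr2 _ hr2', Pi.add_apply, hr3 l hl, hr3' l hl, add_zero]
        · change M.e ((r : G) * r') l = _
          rw [M.mul _ hr2 _ hr2', Pi.add_apply, hr4 l hl, hr4' l hl]
          apply ext2 <;> simp
        · rw [map_mul, hr5, hr5', one_mul]
      inv_mem' := by
        rintro a ⟨r, d, s, rfl, hd, hr1, hr2, hr3, hr4, hr5⟩
        refine ⟨r⁻¹, d⁻¹, -s, ?_, inv_mem hd, inv_mem hr1, inv_mem hr2, fun l hl => ?_,
          fun l hl => ?_, ?_⟩
        · change ((r : G) * d)⁻¹ = (r : G)⁻¹ * d⁻¹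
          rw [mul_inv_rev]
          exact Sd.V_comm hG S h (inv_mem (hEV d hd)) (inv_mem hr2)
        · change M.e (r : G)⁻¹ l = 0
          rw [e_inv M hr2, Pi.neg_apply, hr3 l hl, neg_zero]
        · change M.e (r : G)⁻¹ l = _
          rw [e_inv M hr2, Pi.neg_apply, hr4 l hl]
          apply ext2 <;> simp
        · rw [map_inv, hr5, inv_one] }
  have hmem : ∀ (s : F) (d : ↥E), ((rr s : ↥(zc (o2 P))) : G) * d ∈ X := fun s d =>
    ⟨rr s, d, s, rfl, d.2, hrU s, (mem_VA S).1 (hrV s), hrJ s, hrN s, hrL s⟩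
  refine ⟨X, ?_, ?_, ?_⟩
  · rintro _ ⟨r, d, s, rfl, hd, hr1, -⟩
    exact mul_mem hr1 (hEU hd)
  · have hinj : Function.Injective (fun x : F × ↥E => (⟨((rr x.1 : ↥(zc (o2 P))) : G) * x.2, hmem x.1 x.2⟩ : X)) := by
      rintro ⟨s, d⟩ ⟨s', d'⟩ heq
      have h1 : ((rr s : ↥(zc (o2 P))) : G) * d = (rr s' : ↥(zc (o2 P))) * d' := congrArg Subtype.val heq
      have hd0 : ∀ d : ↥E, M.e (d : G) = 0 := fun d => (M.ker _ (hEV d d.2)).2 (hED d.2)
      have h2 := congrArg (fun a => M.e a l₀ 0) h1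
      simp only [M.mul _ ((mem_VA S).1 (hrV s)) _ (hEV d d.2), M.mul _ ((mem_VA S).1 (hrV s')) _ (hEV d' d'.2),
        Pi.add_apply, hd0, Pi.zero_apply, add_zero, hrN _ l₀ hl₀, Matrix.cons_val_zero] at h2
      subst h2
      have h4 := mul_left_cancel h1
      rw [Subtype.ext h4]
    have h5 := Nat.card_le_card_of_injective _ hinj
    rw [Nat.card_prod] at h5
    have h6 : 2 ≤ Nat.card ↥E := by
      by_contra hcon
      have h7 : 0 < Nat.card ↥E := Nat.card_pos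
      have h8 : Nat.card ↥E = 1 := by omega
      exact hE (Subgroup.card_eq_one.1 h8)
    have h9 : 0 < Nat.card F := Nat.card_pos
    nlinarith
  · rintro _ ⟨r, d, s, rfl, hd, hr1, hr2, hr3, hr4, hr5⟩
    refine ⟨r, d, rfl, hd, hr2, hr3, fun l => ?_, hr5, ?_⟩
    · by_cases hl : J l
      · rw [hr3 l hl]; rfl
      · rw [hr4 l hl]
        simp
    · by_cases hs : s = 0
      · right
        have h0 : ∀ l ∈ LJ fun l => ¬ J l, M.e (r : G) l = 0 := by
          intro l hl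
          rw [hr4 l (mem_LJ.1 hl), hs]
          apply ext2 <;> simp
        rw [← eL_of_coord hG S h hk M hF ((mem_VA S).2 hr2) h0, hr5]
      · left
        intro l hl h0
        rw [hr4 l hl] at h0
        have h1 := congrFun h0 0
        simp at h1
        exact hs h1

end main

end Cfsg.Agent.Omega.NOThreeL.KTwo

end

end

-- merged: Cfsg.Agent.Mrg.Omega.NOThreeL.RSplit.Final
section

/-!
# NO-3L, box R ∩ (A), `q > 2`, `V_P` split (#19602, helper797): the plug into `RTreeA`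

* `hyp_of` : `BigA`, `SplitBy` give `Hyp`;
* **`three : RTreeA.Three`**; **`splitE : RTreeA.SplitE`**;
* `natBig_of` : the leaves of `NatBig` are `NsOne`, `NsF`, `NsK`.
-/

set_option autoImplicit false

namespace Cfsg.Agent.Omega.NOThreeL.RSplit.Final

open Subgroup Cfsg Cfsg.Agent.ZN Cfsg.Agent.Omega.MinPar Cfsg.Agent.Omega.Frame Cfsg.Agent.Omega.FrameNOFF
open Cfsg.Agent.Omega.Node.NO3L Cfsg.Agent.Omega.NOThreeL.Basic Cfsg.Agent.Omega.NOThreeL.Main
open Cfsg.Agent.Omega.FFThm (Off NatK NatKM)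
open Cfsg.Agent.Omega.FrameFF (cv)
open Cfsg.Agent.Omega.NOThreeL.RTreeA

universe u

theorem hyp_of {G : Type u} [Group G] [Finite G] (hG : Ctx G) {S : Sylow 2 G} (Da : Data (S : Subgroup G))
    {P : Subgroup G} (hP : IsParS (S : Subgroup G) P) {F : Type} [Field F] {k : ℕ} (hk : 0 < k)
    (hF : 2 < Nat.card F) (M : NatK F (S : Subgroup G) P (zl (S : Subgroup G) P) (cv (S : Subgroup G) P) k)
    {V₀ : Subgroup G} (hV : SplitBy (S : Subgroup G) P (cv (S : Subgroup G) P) V₀) : Hyp M V₀ where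
  hc := hG.char2
  data := Da
  par := hP
  DV := inf_le_left
  V0V := hV.1
  PV0 := hV.2.1
  disj := hV.2.2.1
  sup := hV.2.2.2
  big := hF
  kpos := hk

/-- (3) of #19602. -/
theorem three : RTreeA.Three.{u} := fun _ _ _ hG _ Da _ hP _ _ _ _ _ hk hF M _ hV _ hz hzV h1 =>
  (hyp_of hG Da hP hk hF M.toNatK hV).three hzV hz h1

/-- **(5)-(7) of #19602.** -/
theorem splitE : RTreeA.SplitE.{u} := by
  intro G _ _ S P H F _ _ _ k h M _ hne V₀ hV _
  have hH := hyp_of h.ctx h.data h.pair.par h.pos h.big M.toNatK hV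
  refine hH.false_of_ne (H := H) ⟨h.pair, h.min⟩ ?_
  rwa [hH.cent_P] at hne

theorem splitOne : RTreeA.SplitOne.{u} := fun G _ _ S P H F _ _ _ h M E hne V₀ hV hO =>
  splitE G S P H F 1 h M E hne V₀ hV hO

/-- **`NatBig` from its nonsplit leaves.** -/
theorem natBig_of (h1 : NsOne.{u}) (hf : NsF.{u}) (hk : NsK.{u}) : NatBig.{u} :=
  RTreeA.natBig_of three splitE h1 hf hk

/-- `NatBig` from THEOREM K and the nonsplit leaves, `k = 1`. -/
theorem natBig_of' (hK : ThmK.{u}) (h1 : NsOne.{u}) (hf : NsF.{u}) : NatBig.{u} :=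
  RTreeA.natBig_of' three hK splitOne h1 hf

end Cfsg.Agent.Omega.NOThreeL.RSplit.Final

end

-- merged: Cfsg.Agent.Mrg.Omega.NOThreeL.KTwo.End
section

section


/-!
# NO-3L, `R ∩ (A)`, `k ≥ 2`: THEOREM K (#21065, helper162)

* `zl_le_centralizer` : `P ∈ P*(S)`, `V_P / C_{V_P}(O²(P))` a sum of `k ≥ 2` natural `SL₂(F)`-modules, `|F| > 2`,
  `C_Z(P) ≠ 1` implies `[V_P, U_H] = 1` for all local `H ≥ S`;
* `thmK : RTreeA.ThmK` .
-/

set_option autoImplicit false
set_option linter.unusedSectionVars false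

namespace Cfsg.Agent.Omega.NOThreeL.KTwo

open Subgroup Cfsg Cfsg.Agent.ZN Cfsg.Agent.Omega.MinPar
open Cfsg.Agent.Omega.FrameFF Cfsg.Agent.Omega.FFThm Cfsg.Agent.Lib.SL2Mat
open Cfsg.Agent.Omega.IId.Cv Cfsg.Agent.Omega.IId.Ns
open Cfsg.Agent.Omega.NOThreeL.AFour (Quad)
open Cfsg.Agent.Omega.NOThreeL.KTwo.Defs
open scoped Pointwise

universe u

variable {G : Type u} [Group G] {F : Type} [Field F]

section main

variable [Finite G] [CharP F 2] (hG : IsCharacteristicTwoType G) (S : Sylow 2 G) {P : Subgroup G}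
  (h : IsParS (S : Subgroup G) P) {k : ℕ}
  {M : NatK F (S : Subgroup G) P (zl (S : Subgroup G) P) (cv (S : Subgroup G) P) k}
  {H : Subgroup G}

section dec

variable [Fintype F] [DecidableEq F]

include hG h in
/-- `[N_l, U_H] = 1`, `l ∈ J`, for the halves `J` -/
theorem Nc_le_of (hF : 4 ≤ Nat.card F) (hH : IsLoc (S : Subgroup G) H)
    (hE : zc (S : Subgroup G) ⊓ centralizer (P : Set G) ≠ ⊥) {S₁ : Subgroup G} {J : Fin k → Prop} (Q : Hf M S₁ J)
    {l : Fin k} (hl : J l) : Nc M l ≤ centralizer (zl (S : Subgroup G) H : Set G) := by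
  have hq := quad_of_loc hG S h hH
  have hω := exists_omega hF
  have hHU : H ≤ normalizer (zl (S : Subgroup G) H : Set G) := le_normalizer_zl _ _
  have ho := o2_le_cent hG S hH
  have hhalf : HALF M S₁ J := half hG S h Q hF
  set E : Subgroup G := zc (S : Subgroup G) ⊓ centralizer (P : Set G) with hEdef
  have hEU : E ≤ zl (S : Subgroup G) H := inf_le_left.trans (MinSimple.VModule.zc_le_zl _ _)
  have hED : E ≤ cv (S : Subgroup G) P := by
    refine le_inf (inf_le_left.trans (MinSimple.VModule.zc_le_zl _ _)) (inf_le_right.trans ?_)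
    exact centralizer_le (MinSimple.VModule.oddGen_le P)
  have hES : ∀ d ∈ E, ∀ s ∈ (S : Subgroup G), s * d = d * s := fun d hd s hs =>
    (MinSimple.VModule.mem_zc.1 hd.1).2.1 s hs
  set n := (centralizer (Nc M l : Set G)).relIndex (zl (S : Subgroup G) H) with hn
  have hall : ∀ l', (centralizer (Nc M l' : Set G)).relIndex (zl (S : Subgroup G) H) = n := fun l' =>
    relIndex_eq S h hq l' l
  rcases Nat.lt_trichotomy n 2 with h2 | h2 | h2
  · have h0 : n ≠ 0 := Subgroup.index_ne_zero_of_finite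
      (H := (centralizer (Nc M l : Set G)).subgroupOf (zl (S : Subgroup G) H))
    have h1 : n = 1 := by omega
    exact NoFF.Basic.comm_symm (relIndex_eq_one.1 h1)
  · obtain ⟨X, hXU, hX, hx⟩ := exists_Y hG S h hq hF Q (fun l' => (hall l').trans h2) hEU hED hES hE
    refine cent_of_good S hq hH.le hHU ho hXU (fun l' _ => ?_) (fun x hxX hx1 => ?_) hl
    · rw [hall l', h2]
      exact hX
    · obtain ⟨r, d, rfl, hd, hdS, hr, hr1, hr2, hr3, hr4⟩ := hx x hxX
      exact good2 hG S h hF Q hhalf r d hr hr1 hr2 hr3 hr4 hd hdS hx1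
  · obtain ⟨X, hXU, hX, hx⟩ := exists_X hG S h hq hF Q (fun l' => by rw [hall l']; exact h2) hEU hED hE
    refine cent_of_good S hq hH.le hHU ho hXU (fun l' _ => ?_) (fun x hxX hx1 => ?_) hl
    · exact (relIndex_le hG S h hq hω l').trans_lt hX
    · obtain ⟨r, d, rfl, hd, hr, hr1, hr2, hr3, hr4⟩ := hx x hxX
      exact good2 hG S h hF Q hhalf r d hr hr1 hr2 hr3 hr4 (hED hd) (fun s hs => hES d hd s (Q.le hs)) hx1

end dec

include hG h in
/-- **THEOREM K**: `k ≥ 2`, `|F| > 2`, `C_Z(P) ≠ 1` ⟹ `[V_P, U_H] = 1` for all local `H ≥ S` -/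
theorem zl_le_centralizer [Finite F] (hF : 4 ≤ Nat.card F) (hk : 2 ≤ k)
    (M : NatK F (S : Subgroup G) P (zl (S : Subgroup G) P) (cv (S : Subgroup G) P) k)
    (hH : IsLoc (S : Subgroup G) H) (hE : zc (S : Subgroup G) ⊓ centralizer (P : Set G) ≠ ⊥) :
    zl (S : Subgroup G) P ≤ centralizer (zl (S : Subgroup G) H : Set G) := by
  classical
  let _ : Fintype F := Fintype.ofFinite F
  refine zl_le_of hG S h (quad_of_loc hG S h hH) (M := M) (exists_omega hF) (by omega) fun l => ?_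
  obtain ⟨S₁, J, Q, hl⟩ := exists_hf S h hk M l
  exact Nc_le_of hG S h hF hH hE Q hl

end main

/-- **THEOREM K** in the form of the tree of box `R ∩ (A)` -/
theorem thmK : RTreeA.ThmK.{u} := by
  intro G _ _ hG S P H h hH hE F _ _ _ k hk hF M
  have h4 : 4 ≤ Nat.card F := by
    have := Fintype.ofFinite F
    have h1 : 2 ∣ Nat.card F := by
      rw [Nat.card_eq_fintype_card, ← CharP.cast_eq_zero_iff F 2]
      exact Nat.cast_card_eq_zero F
    omega
  exact zl_le_centralizer hG S h h4 hk M.toNatK hH hE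

end Cfsg.Agent.Omega.NOThreeL.KTwo

end

section


/-!
# NO-3L, box `R ∩ (A)`: `NatBig` from its last leaf `NsF`

* `natBig_of_nsF` : `NsF` (`k = 1`, not split, `|Z/C_Z(P)| < |F|`) implies `NatBig`;
* `rg_of_nsF` : `NsF`, `RBz K`, `RBc K` imply `Merge.RG K`.
-/

set_option autoImplicit false

namespace Cfsg.Agent.Omega.NOThreeL.RTreeNsF

open Cfsg Cfsg.Agent.Omega.Frame Cfsg.Agent.Omega.MinPar
open Cfsg.Agent.Omega.NOThreeL.RTree (RBz RBc)
open Cfsg.Agent.Omega.NOThreeL.RTreeA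

universe u

/-- **`NatBig` from `NsF`** -/
theorem natBig_of_nsF (hf : NsF.{u}) : NatBig.{u} :=
  RSplit.Final.natBig_of' KTwo.thmK RA.nsOne hf

/-- **box R** from `NsF` and the leaves of the other boxes -/
theorem rg_of_nsF {K : Cls.{u}} (hf : NsF.{u}) (hz : RBz K) (hc : RBc K) : Merge.RG K :=
  rg_of' (natBig_of_nsF hf) hz hc

end Cfsg.Agent.Omega.NOThreeL.RTreeNsF

end

end

-- merged: Cfsg.Agent.Mrg.Omega.NOThreeL.NsF.SingerOdd
section

section


/-!
# LEMMA SINGER, elementary version (helper901, #22537)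

`L` a finite group of odd order acting on the elementary abelian 2-group `W = R ⊕ D`, `T ≤ L` trivial on `D`,
transitive (and semiregular) on `R#`, `|D| ≤ |R|`, `|R| ≥ 8`. Then `L` normalises `R` and `D`. No solubility.
-/

set_option autoImplicit false
set_option linter.unusedSectionVars false
set_option linter.style.haveILetI false
set_option linter.unusedTactic false
set_option linter.unreachableTactic false

namespace Cfsg.Agent.Omega.NOThreeL.NsF.SingerOdd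

open Subgroup

universe u v

variable {K : Type u} {Y : Type v} [Group K] [Finite K] [AddCommGroup Y] [Finite Y] [DistribMulAction K Y]

/-! ### Averaging -/

/-- The sum over a subgroup. -/
noncomputable def avg (M : Subgroup K) : Y →+ Y :=
  haveI := Fintype.ofFinite M
  { toFun := fun w => ∑ g : M, (g : K) • w
    map_zero' := by simp
    map_add' := fun a b => by simp [smul_add, Finset.sum_add_distrib] }

theorem avg_apply (M : Subgroup K) [Fintype M] (w : Y) : avg M w = ∑ g : M, (g : K) • w := by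
  unfold avg
  simp only [AddMonoidHom.coe_mk, ZeroHom.coe_mk]
  congr!

theorem smul_avg {M : Subgroup K} {m : K} (hm : m ∈ M) (w : Y) : m • avg M w = avg M w := by
  haveI := Fintype.ofFinite M
  rw [avg_apply, Finset.smul_sum]
  exact Fintype.sum_equiv (Equiv.mulLeft ⟨m, hm⟩) _ _ (fun g => by simp [mul_smul])

theorem avg_smul {M : Subgroup K} {m : K} (hm : m ∈ M) (w : Y) : avg M (m • w) = avg M w := by
  haveI := Fintype.ofFinite M
  rw [avg_apply, avg_apply]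
  exact Fintype.sum_equiv (Equiv.mulRight ⟨m, hm⟩) _ _ (fun g => by simp [mul_smul])

theorem avg_conj {M : Subgroup K} {h : K} (hh : ∀ g ∈ M, h * g * h⁻¹ ∈ M) (w : Y) :
    h • avg M w = avg M (h • w) := by
  haveI := Fintype.ofFinite M
  rw [avg_apply, avg_apply, Finset.smul_sum]
  have hinj : Function.Injective (fun g : M => (⟨h * g * h⁻¹, hh g g.2⟩ : M)) := by
    intro a b hab
    have h1 := congrArg Subtype.val hab
    simp only [mul_left_inj, mul_right_inj] at h1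
    exact Subtype.ext h1
  have hbij := (Finite.injective_iff_bijective).1 hinj
  exact Fintype.sum_bijective _ hbij _ _ (fun g => by simp [mul_smul])

theorem odd_nsmul {w : Y} (h2 : w + w = 0) {n : ℕ} (hn : Odd n) : n • w = w := by
  obtain ⟨k, rfl⟩ := hn
  rw [add_nsmul, mul_comm, mul_nsmul, one_nsmul]
  have : (2 : ℕ) • (k • w) = 0 := by
    rw [← mul_nsmul, mul_comm, mul_nsmul, two_nsmul, h2, nsmul_zero]
  rw [this, zero_add]

theorem avg_fix {M : Subgroup K} (hM : Odd (Nat.card M)) {w : Y} (h2 : w + w = 0)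
    (hw : ∀ g ∈ M, g • w = w) : avg M w = w := by
  haveI := Fintype.ofFinite M
  rw [avg_apply, Finset.sum_congr rfl (fun (g : M) _ => hw g g.2), Finset.sum_const, Finset.card_univ,
    ← Nat.card_eq_fintype_card]
  exact odd_nsmul h2 hM

/-! ### The configuration -/

/-- The configuration. -/
structure Cfg (L T : Subgroup K) (R D : AddSubgroup Y) : Prop where
  odd : Odd (Nat.card L)
  TL : T ≤ L
  disj : ∀ x ∈ R, x ∈ D → x = 0
  invW : ∀ g ∈ L, ∀ w ∈ R ⊔ D, g • w ∈ R ⊔ D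
  fixD : ∀ t ∈ T, ∀ d ∈ D, t • d = d
  invR : ∀ t ∈ T, ∀ r ∈ R, t • r ∈ R
  trans : ∀ x ∈ R, x ≠ 0 → ∀ y ∈ R, y ≠ 0 → ∃ t ∈ T, t • x = y
  four : 4 ≤ Nat.card R
  le : Nat.card D ≤ Nat.card R

/-- the conclusion -/
def Nrm (g : K) (R D : AddSubgroup Y) : Prop := (∀ r ∈ R, g • r ∈ R) ∧ ∀ d ∈ D, g • d ∈ D

theorem exists_ne {R : AddSubgroup Y} (h4 : 4 ≤ Nat.card R) (a b : Y) : ∃ r ∈ R, r ≠ 0 ∧ r ≠ a ∧ r ≠ b := by
  classical
  by_contra hcon
  push Not at hcon
  have hsub : (R : Set Y) ⊆ (({0, a, b} : Finset Y) : Set Y) := by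
    intro r hr
    simp only [Finset.coe_insert, Finset.coe_singleton, Set.mem_insert_iff, Set.mem_singleton_iff]
    by_cases h0 : r = 0
    · exact Or.inl h0
    · by_cases h1 : r = a
      · exact Or.inr (Or.inl h1)
      · exact Or.inr (Or.inr (hcon r hr h0 h1))
  have h1 : Nat.card R ≤ 3 := by
    have h2 := Set.ncard_le_ncard hsub (Finset.finite_toSet _)
    rw [Set.ncard_coe_finset] at h2
    exact h2.trans Finset.card_le_three
  omega

/-- the images of `D` -/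
theorem inv_mem_of {g : K} {A : AddSubgroup Y} (h : ∀ d ∈ A, g • d ∈ A) : ∀ d ∈ A, g⁻¹ • d ∈ A := by
  intro d hd
  have hinj : Function.Injective (fun x : A => (⟨g • (x : Y), h x x.2⟩ : A)) := by
    intro a b hab
    have h1 := congrArg Subtype.val hab
    exact Subtype.ext (smul_left_cancel g h1)
  obtain ⟨⟨x, hx⟩, hxe⟩ := ((Finite.injective_iff_bijective).1 hinj).2 ⟨d, hd⟩
  have h1 : g • x = d := congrArg Subtype.val hxe
  rw [← h1, inv_smul_smul]
  exact hx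

theorem smul_ne {g : K} {x : Y} (hx : x ≠ 0) : g • x ≠ 0 := fun h => hx (by
  have h1 : g • x = g • (0 : Y) := by rw [h, smul_zero]
  exact smul_left_cancel g h1)

section basic

variable (h2 : ∀ y : Y, y + y = 0) {L T : Subgroup K} {R D : AddSubgroup Y} (C : Cfg L T R D)
include C

/-- unique decomposition -/
theorem Cfg.uniq {r r' d d' : Y} (hr : r ∈ R) (hr' : r' ∈ R) (hd : d ∈ D) (hd' : d' ∈ D)
    (h : r + d = r' + d') : r = r' ∧ d = d' := by
  have h1 : r - r' = d' - d := by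
    rw [sub_eq_sub_iff_add_eq_add]; rw [h]; abel
  have h3 : r - r' = 0 := C.disj _ (R.sub_mem hr hr') (h1 ▸ D.sub_mem hd' hd)
  exact ⟨sub_eq_zero.1 h3, (sub_eq_zero.1 (h1 ▸ h3)).symm⟩

/-- the fixed points of `T` -/
theorem Cfg.fix_mem {w : Y} (hw : w ∈ R ⊔ D) (h : ∀ t ∈ T, t • w = w) : w ∈ D := by
  obtain ⟨r, hr, d, hd, rfl⟩ := AddSubgroup.mem_sup.1 hw
  have hr0 : r = 0 := by
    by_contra hne
    obtain ⟨r', hr', h0, h1, -⟩ := exists_ne C.four r r
    obtain ⟨t, ht, hte⟩ := C.trans r hr hne r' hr' h0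
    have h3 := h t ht
    rw [smul_add, C.fixD t ht d hd, hte] at h3
    exact h1 (add_right_cancel h3)
  rw [hr0, zero_add]
  exact hd

include h2 in
theorem Cfg.avg_R {M : Subgroup K} (hM : T ≤ M) {r : Y} (hr : r ∈ R) : avg M r = 0 := by
  by_cases h0 : r = 0
  · rw [h0, map_zero]
  obtain ⟨a, ha, ha0, har, -⟩ := exists_ne C.four r r
  have hb : r + a ≠ 0 := fun h => har (by
    have h3 : r + a = a + a := by rw [h, h2]
    exact (add_right_cancel h3).symm)
  obtain ⟨t, ht, hte⟩ := C.trans a ha ha0 (r + a) (R.add_mem hr ha) hb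
  have h3 : r = a + t • a := by
    rw [hte, add_comm a, add_assoc, h2, add_zero]
  rw [h3, map_add, avg_smul (hM ht), h2]


theorem Cfg.avg_mem {M : Subgroup K} (hM : M ≤ L) {w : Y} (hw : w ∈ R ⊔ D) : avg M w ∈ R ⊔ D := by
  haveI := Fintype.ofFinite M
  rw [avg_apply]
  exact AddSubgroup.sum_mem _ fun g _ => C.invW g (hM g.2) w hw

theorem Cfg.avg_mem_D {M : Subgroup K} (hM : M ≤ L) (hTM : T ≤ M) {w : Y} (hw : w ∈ R ⊔ D) : avg M w ∈ D :=
  C.fix_mem (C.avg_mem hM hw) fun _ ht => smul_avg (hTM ht) w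

theorem Cfg.le_sup {r : Y} (hr : r ∈ R) : r ∈ R ⊔ D := AddSubgroup.mem_sup_left hr

theorem Cfg.le_sup' {d : Y} (hd : d ∈ D) : d ∈ R ⊔ D := AddSubgroup.mem_sup_right hd

include h2 in
/-- **The averaged sub-configuration** `R ⊕ (D ∩ ker)`. -/
theorem Cfg.sub {M : Subgroup K} (hML : M ≤ L) (hTM : T ≤ M) :
    Cfg M T R (D ⊓ (avg M : Y →+ Y).ker) where
  odd := C.odd.of_dvd_nat (Subgroup.card_dvd_of_le hML)
  TL := hTM
  disj x hx hd := C.disj x hx hd.1
  invW g hg w hw := by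
    have hw1 : w ∈ R ⊔ D := sup_le_sup_left (inf_le_left : D ⊓ (avg M : Y →+ Y).ker ≤ D) R hw
    have hw2 : avg M w = 0 := by
      obtain ⟨r, hr, d, hd, rfl⟩ := AddSubgroup.mem_sup.1 hw
      rw [map_add, C.avg_R h2 hTM hr, zero_add]
      exact (AddMonoidHom.mem_ker).1 hd.2
    have h3 := C.invW g (hML hg) w hw1
    obtain ⟨r, hr, d, hd, hrd⟩ := AddSubgroup.mem_sup.1 h3
    rw [← hrd]
    refine AddSubgroup.add_mem _ (AddSubgroup.mem_sup_left hr) (AddSubgroup.mem_sup_right ⟨hd, ?_⟩)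
    refine (AddMonoidHom.mem_ker).2 ?_
    have h4 : avg M (g • w) = avg M r + avg M d := by rw [← map_add, hrd]
    rw [avg_smul hg, hw2, C.avg_R h2 hTM hr, zero_add] at h4
    exact h4.symm
  fixD t ht d hd := C.fixD t ht d hd.1
  invR := C.invR
  trans := C.trans
  four := C.four
  le := (Nat.card_mono (Set.toFinite _) (inf_le_left : D ⊓ (avg M : Y →+ Y).ker ≤ D)).trans C.le

include h2 in
/-- (1): the stabiliser of a nonzero element of `D`, from the sub-configuration. -/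
theorem Cfg.stab_of {M : Subgroup K} (hML : M ≤ L) (hTM : T ≤ M) {g : K} (hg : g ∈ M)
    (IH : Nrm g R (D ⊓ (avg M : Y →+ Y).ker)) : Nrm g R D := by
  refine ⟨IH.1, fun d hd => ?_⟩
  have h3 : avg M d ∈ D := C.avg_mem_D hML hTM (C.le_sup' hd)
  have hMo : Odd (Nat.card M) := C.odd.of_dvd_nat (Subgroup.card_dvd_of_le hML)
  have h4 : avg M (avg M d) = avg M d := avg_fix hMo (h2 _) fun m hm => smul_avg hm d
  have h5 : d + avg M d ∈ D ⊓ (avg M : Y →+ Y).ker := by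
    refine ⟨D.add_mem hd h3, ?_⟩
    refine (AddMonoidHom.mem_ker).2 ?_
    rw [map_add, h4, h2]
  have h6 := (IH.2 _ h5).1
  have h7 : g • d = g • (d + avg M d) + avg M d := by
    rw [smul_add, smul_avg hg, add_assoc, h2, add_zero]
  rw [h7]
  exact D.add_mem h6 h3

include h2 in
theorem Cfg.card_lt {M : Subgroup K} (hML : M ≤ L) {x : Y} (hx : x ∈ D) (hx0 : x ≠ 0)
    (hfix : ∀ g ∈ M, g • x = x) : Nat.card ↥(D ⊓ (avg M : Y →+ Y).ker) < Nat.card D := by
  have hMo : Odd (Nat.card M) := C.odd.of_dvd_nat (Subgroup.card_dvd_of_le hML)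
  have h1 : D ⊓ (avg M : Y →+ Y).ker < D := by
    refine lt_of_le_of_ne inf_le_left fun h => hx0 ?_
    have h3 : x ∈ D ⊓ (avg M : Y →+ Y).ker := by rw [h]; exact hx
    have h4 := (AddMonoidHom.mem_ker).1 h3.2
    rw [avg_fix hMo (h2 x) hfix] at h4
    exact h4
  exact Set.Finite.card_lt_card (Set.toFinite _) h1


end basic

section ti

variable (h2 : ∀ y : Y, y + y = 0) {L T : Subgroup K} {R D : AddSubgroup Y} (C : Cfg L T R D)
  (St : ∀ x ∈ D, x ≠ 0 → ∀ g ∈ L, g • x = x → Nrm g R D)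
include C

/-- `T`-transitivity with a moving element -/
theorem Cfg.exists_move {x : Y} (hx : x ∈ R) (h0 : x ≠ 0) : ∃ t ∈ T, t • x ≠ x := by
  obtain ⟨r', hr', h0', h1, -⟩ := exists_ne C.four x x
  obtain ⟨t, ht, hte⟩ := C.trans x hx h0 r' hr' h0'
  exact ⟨t, ht, fun h => h1 (by rw [← hte, h])⟩

include St in
/-- (2) **TI**. -/
theorem Cfg.ti {x : Y} (hx : x ∈ D) (hx0 : x ≠ 0) {g : K} (hg : g ∈ L) (hgx : g • x ∈ D) :
    ∀ d ∈ D, g • d ∈ D := by
  have hgx0 : g • x ≠ 0 := fun h => hx0 (by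
    have h1 : g • x = g • (0 : Y) := by rw [h, smul_zero]
    exact smul_left_cancel g h1)
  -- the conjugates of `T`
  have hN : ∀ t ∈ T, Nrm (g * t * g⁻¹) R D := fun t ht =>
    St (g • x) hgx hgx0 (g * t * g⁻¹) (L.mul_mem (L.mul_mem hg (C.TL ht)) (L.inv_mem hg)) (by
      rw [mul_smul, mul_smul, inv_smul_smul, C.fixD t ht x hx])
  have hmove : ∀ t : K, ∀ y : Y, (g * t * g⁻¹) • (g • y) = g • t • y := fun t y => by
    rw [mul_smul, mul_smul, inv_smul_smul]
  have hdec : ∀ y ∈ R ⊔ D, ∃ r ∈ R, ∃ d ∈ D, g • y = r + d := fun y hy => by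
    obtain ⟨r, hr, d, hd, h⟩ := AddSubgroup.mem_sup.1 (C.invW g hg y hy)
    exact ⟨r, hr, d, hd, h.symm⟩
  -- `gR = R`
  have c2 : ∀ ρ ∈ R, g • ρ ∈ R := by
    by_contra hcon
    push Not at hcon
    obtain ⟨ρ₁, hρ₁, hρ₁R⟩ := hcon
    -- no nonzero element of `R` goes to `R`
    have c3 : ∀ ρ ∈ R, ρ ≠ 0 → ¬ g • ρ ∈ R := by
      intro ρ hρ hρ0 hρR
      apply hρ₁R
      by_cases h0 : ρ₁ = 0
      · rw [h0, smul_zero]; exact R.zero_mem
      obtain ⟨t, ht, rfl⟩ := C.trans ρ hρ hρ0 ρ₁ hρ₁ h0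
      rw [← hmove]
      exact (hN t ht).1 _ hρR
    choose! a ha b hb hab using hdec
    have hinj : Function.Injective (fun r : R => (⟨b r, hb r (C.le_sup r.2)⟩ : D)) := by
      intro r s hrs
      have h1 : b r = b s := congrArg Subtype.val hrs
      by_contra hne
      have hne' : (r : Y) - s ≠ 0 := fun h => hne (Subtype.ext (sub_eq_zero.1 h))
      apply c3 _ (R.sub_mem r.2 s.2) hne'
      rw [smul_sub, hab r (C.le_sup r.2), hab s (C.le_sup s.2), h1, add_sub_add_right_eq_sub]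
      exact R.sub_mem (ha _ (C.le_sup r.2)) (ha _ (C.le_sup s.2))
    obtain ⟨⟨ρ, hρ⟩, he⟩ := (hinj.bijective_of_nat_card_le C.le).2 ⟨g • x, hgx⟩
    have h1 : b ρ = g • x := congrArg Subtype.val he
    have hρ0 : ρ ≠ 0 := by
      rintro rfl
      have h3 := hab 0 (C.le_sup hρ)
      rw [smul_zero] at h3
      have h4 := C.uniq R.zero_mem (ha 0 (C.le_sup hρ)) D.zero_mem (hb 0 (C.le_sup hρ)) (by rw [← h3, add_zero])
      rw [h1] at h4
      exact hgx0 h4.2.symm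
    obtain ⟨t, ht, hte⟩ := C.exists_move hρ hρ0
    have htρ := C.invR t ht ρ hρ
    have h3 : g • (t • ρ) = (g * t * g⁻¹) • a ρ + g • x := by
      rw [← hmove, hab ρ (C.le_sup hρ), smul_add, h1, hmove, C.fixD t ht x hx]
    have h4 := hab (t • ρ) (C.le_sup htρ)
    rw [h3] at h4
    have h5 := C.uniq ((hN t ht).1 _ (ha ρ (C.le_sup hρ))) (ha _ (C.le_sup htρ)) hgx (hb _ (C.le_sup htρ)) h4
    have h6 : (⟨t • ρ, htρ⟩ : R) = ⟨ρ, hρ⟩ := hinj (Subtype.ext (show b (t • ρ) = b ρ by rw [← h5.2, h1]))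
    exact hte (congrArg Subtype.val h6)
  -- the end
  have c4 := inv_mem_of c2
  intro d hd
  obtain ⟨r, hr, δ, hδ, hrd⟩ := hdec d (C.le_sup' hd)
  have h5 : ∀ t ∈ T, (g * t * g⁻¹) • r = r := by
    intro t ht
    have h6 : (g * t * g⁻¹) • (g • d) = g • d := by rw [hmove, C.fixD t ht d hd]
    rw [hrd, smul_add] at h6
    exact (C.uniq ((hN t ht).1 r hr) hr ((hN t ht).2 δ hδ) hδ h6).1
  have h7 : r = 0 := by
    by_contra hr0
    have h8 : g⁻¹ • r ≠ 0 := fun h => hr0 (by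
      have h1 : g⁻¹ • r = g⁻¹ • (0 : Y) := by rw [h, smul_zero]
      exact smul_left_cancel g⁻¹ h1)
    obtain ⟨t, ht, hte⟩ := C.exists_move (c4 r hr) h8
    apply hte
    have h9 := h5 t ht
    rw [mul_smul, mul_smul] at h9
    have h10 : g⁻¹ • g • t • g⁻¹ • r = g⁻¹ • r := by rw [h9]
    rwa [inv_smul_smul] at h10
  rw [hrd, h7, zero_add]
  exact hδ


/-- the elements acting trivially on `D` -/
def cD (L : Subgroup K) (D : AddSubgroup Y) : Subgroup K where
  carrier := {h | h ∈ L ∧ ∀ d ∈ D, h • d = d}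
  one_mem' := ⟨L.one_mem, fun d _ => one_smul K d⟩
  mul_mem' {a b} ha hb := ⟨L.mul_mem ha.1 hb.1, fun d hd => by rw [mul_smul, hb.2 d hd, ha.2 d hd]⟩
  inv_mem' {a} ha := ⟨L.inv_mem ha.1, fun d hd => by rw [inv_smul_eq_iff, ha.2 d hd]⟩

/-- the normaliser of `D` -/
def nD (L : Subgroup K) (D : AddSubgroup Y) : Subgroup K where
  carrier := {h | h ∈ L ∧ ∀ d ∈ D, h • d ∈ D}
  one_mem' := ⟨L.one_mem, fun d hd => by rw [one_smul]; exact hd⟩
  mul_mem' {a b} ha hb := ⟨L.mul_mem ha.1 hb.1, fun d hd => by rw [mul_smul]; exact ha.2 _ (hb.2 d hd)⟩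
  inv_mem' {a} ha := ⟨L.inv_mem ha.1, inv_mem_of ha.2⟩

include h2 in
/-- (3) `N_L(D)` normalises `R`. -/
theorem Cfg.norm_R {g : K} (hg : g ∈ L) (hD : ∀ d ∈ D, g • d ∈ D) : ∀ r ∈ R, g • r ∈ R := by
  have hT : T ≤ cD L D := fun t ht => ⟨C.TL ht, C.fixD t ht⟩
  have hL : cD L D ≤ L := fun _ h => h.1
  have hD' := inv_mem_of hD
  have hconj : ∀ h ∈ cD L D, g * h * g⁻¹ ∈ cD L D := fun h hh =>
    ⟨L.mul_mem (L.mul_mem hg hh.1) (L.inv_mem hg), fun d hd => by
      rw [mul_smul, mul_smul, hh.2 _ (hD' d hd), smul_inv_smul]⟩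
  intro r hr
  have h1 : avg (cD L D) (g • r) = 0 := by
    rw [← avg_conj hconj, C.avg_R h2 hT hr, smul_zero]
  obtain ⟨r', hr', d, hd, hrd⟩ := AddSubgroup.mem_sup.1 (C.invW g hg r (C.le_sup hr))
  have h3 : d = 0 := by
    have h4 : avg (cD L D) (r' + d) = 0 := by rw [hrd, h1]
    rwa [map_add, C.avg_R h2 hT hr', zero_add,
      avg_fix (C.odd.of_dvd_nat (Subgroup.card_dvd_of_le hL)) (h2 d) fun m hm => hm.2 d hd] at h4
  rw [← hrd, h3, add_zero]
  exact hr'

include St in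
/-- two elements of `L` taking a nonzero `x` to `D` -/
theorem Cfg.rel_D {x : Y} (hx0 : x ≠ 0) {g h : K} (hg : g ∈ L) (hh : h ∈ L) (hgx : g • x ∈ D)
    (hhx : h • x ∈ D) {y : Y} (hy : g • y ∈ D) : h • y ∈ D := by
  have h1 : ∀ d ∈ D, (h * g⁻¹) • d ∈ D :=
    C.ti St hgx (smul_ne hx0) (L.mul_mem hh (L.inv_mem hg)) (by rw [mul_smul, inv_smul_smul]; exact hhx)
  have h3 := h1 _ hy
  rwa [mul_smul, inv_smul_smul] at h3

include h2 St in
theorem Cfg.rel_R {x : Y} (hx0 : x ≠ 0) {g h : K} (hg : g ∈ L) (hh : h ∈ L) (hgx : g • x ∈ D)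
    (hhx : h • x ∈ D) {y : Y} (hy : g • y ∈ R) : h • y ∈ R := by
  have h1 : ∀ d ∈ D, (h * g⁻¹) • d ∈ D :=
    C.ti St hgx (smul_ne hx0) (L.mul_mem hh (L.inv_mem hg)) (by rw [mul_smul, inv_smul_smul]; exact hhx)
  have h3 := C.norm_R h2 (L.mul_mem hh (L.inv_mem hg)) h1 _ hy
  rwa [mul_smul, inv_smul_smul] at h3

include St in
/-- **No 2-cycles.** -/
theorem Cfg.no_two {x y : Y} (hx : x ∈ D) (hx0 : x ≠ 0) (hy : y ∈ R) (hy0 : y ≠ 0) {g : K} (hg : g ∈ L)
    (hgy : g • y ∈ D) (hgx : g • x ∈ R) : False := by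
  obtain ⟨t, ht, hte⟩ := C.trans (g • x) hgx (smul_ne hx0) y hy hy0
  set h := t * g with hh
  have hhL : h ∈ L := L.mul_mem (C.TL ht) hg
  have h1 : h • x = y := by rw [hh, mul_smul, hte]
  have h3 : h • y ∈ D := by rw [hh, mul_smul, C.fixD t ht _ hgy]; exact hgy
  have h4 : h ^ 2 ∈ nD L D := by
    refine ⟨L.pow_mem hhL 2, C.ti St hx hx0 (L.pow_mem hhL 2) ?_⟩
    rw [pow_two, mul_smul, h1]
    exact h3
  have h5 : Odd (orderOf h) := by
    have h6 : orderOf (⟨h, hhL⟩ : L) ∣ Nat.card L := orderOf_dvd_natCard _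
    rw [Subgroup.orderOf_mk] at h6
    exact C.odd.of_dvd_nat h6
  obtain ⟨m, hm⟩ := h5
  have h6 : (h ^ 2) ^ (m + 1) = h := by
    rw [← pow_mul, show 2 * (m + 1) = orderOf h + 1 by omega, pow_succ, pow_orderOf_eq_one, one_mul]
  have h7 : h ∈ nD L D := h6 ▸ (nD L D).pow_mem h4 (m + 1)
  have h8 : y ∈ D := h1 ▸ h7.2 x hx
  exact hy0 (C.disj y hy h8)

end ti

/-- the image of `D` under `g⁻¹` -/
def mb (g : K) (D : AddSubgroup Y) : AddSubgroup Y := D.comap (DistribSMul.toAddMonoidHom Y g)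

theorem mem_mb {g : K} {D : AddSubgroup Y} {w : Y} : w ∈ mb g D ↔ g • w ∈ D := Iff.rfl

theorem card_mb (g : K) (D : AddSubgroup Y) : Nat.card (mb g D) = Nat.card D := by
  refine Nat.card_congr ⟨fun w => ⟨g • (w : Y), w.2⟩, fun d => ⟨g⁻¹ • (d : Y), ?_⟩, fun w => ?_, fun d => ?_⟩
  · change g • g⁻¹ • (d : Y) ∈ D
    rw [smul_inv_smul]
    exact d.2
  · exact Subtype.ext (inv_smul_smul g (w : Y))
  · exact Subtype.ext (smul_inv_smul g (d : Y))

theorem card_ne_zero_add_one (A : AddSubgroup Y) : Nat.card {d : Y // d ∈ A ∧ d ≠ 0} + 1 = Nat.card A := by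
  have h1 : Nat.card {d : Y // d ∈ A ∧ d ≠ 0} = ({d : Y | d ∈ A ∧ d ≠ 0} : Set Y).ncard := rfl
  have h3 : Nat.card A = (A : Set Y).ncard := rfl
  have h4 : (A : Set Y) = insert 0 {d : Y | d ∈ A ∧ d ≠ 0} := by
    ext x
    simp only [SetLike.mem_coe, Set.mem_insert_iff, Set.mem_ofPred_eq]
    by_cases h0 : x = 0
    · simp [h0, A.zero_mem]
    · simp [h0]
  rw [h1, h3, h4, Set.ncard_insert_of_notMem (fun h => h.2 rfl) (Set.toFinite _)]

theorem even_card (h2 : ∀ y : Y, y + y = 0) {A : AddSubgroup Y} {x : Y} (hx : x ∈ A) (h0 : x ≠ 0) :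
    Even (Nat.card A) := by
  have h1 : addOrderOf (⟨x, hx⟩ : A) = 2 := by
    rw [addOrderOf_eq_prime_iff]
    refine ⟨?_, fun h => h0 (congrArg Subtype.val h)⟩
    rw [two_nsmul]
    exact Subtype.ext (h2 x)
  have h3 := addOrderOf_dvd_natCard (⟨x, hx⟩ : A)
  rw [h1] at h3
  exact even_iff_two_dvd.2 h3

/-- a subgroup of index at most two -/
theorem card_le_two_mul {A U : AddSubgroup Y} (h : ∀ a ∈ A, ∀ b ∈ A, a ∉ U → b ∉ U → a + b ∈ U) :
    Nat.card A ≤ 2 * Nat.card U := by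
  classical
  by_cases hall : ∀ a ∈ A, a ∈ U
  · have h1 : Nat.card A ≤ Nat.card U := Nat.card_mono (Set.toFinite _) (fun a ha => hall a ha)
    omega
  push Not at hall
  obtain ⟨a₀, ha₀, ha₀U⟩ := hall
  let φ : A → U × Bool := fun a => if ha : (a : Y) ∈ U then (⟨a, ha⟩, true) else (⟨a + a₀, h a a.2 a₀ ha₀ ha ha₀U⟩, false)
  have hφ : Function.Injective φ := by
    intro a b hab
    simp only [φ] at hab
    split_ifs at hab with h1 h3 h3
    · exact Subtype.ext (congrArg (fun p : U × Bool => (p.1 : Y)) hab)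
    · exact absurd (congrArg (fun p : U × Bool => p.2) hab) (by simp)
    · exact absurd (congrArg (fun p : U × Bool => p.2) hab) (by simp)
    · exact Subtype.ext (add_right_cancel (congrArg (fun p : U × Bool => (p.1 : Y)) hab))
  have h1 := Nat.card_le_card_of_injective φ hφ
  rw [Nat.card_prod, Nat.card_eq_fintype_card (α := Bool), Fintype.card_bool] at h1
  omega

section main

variable (h2 : ∀ y : Y, y + y = 0) {L T : Subgroup K} {R D : AddSubgroup Y} (C : Cfg L T R D)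
  (St : ∀ x ∈ D, x ≠ 0 → ∀ g ∈ L, g • x = x → Nrm g R D)
  (Mem : ∀ g ∈ L, ∀ r ∈ R, r ≠ 0 → g • r ∈ D → ∀ w, g • w ∈ D → w ∈ R)
include C


omit [Finite K] in
theorem Cfg.exists_ne_D {g : K} (hg : ∃ d ∈ D, g • d ∉ D) : ∃ x ∈ D, x ≠ 0 := by
  obtain ⟨d, hd, h⟩ := hg
  refine ⟨d, hd, ?_⟩
  rintro rfl
  exact h (by rw [smul_zero]; exact D.zero_mem)

include h2 in
/-- a member which meets `R` trivially covers all cosets of `R` -/
theorem Cfg.coverB {h : K} (hh : h ∈ L) (hR : ∀ r ∈ R, r ≠ 0 → h • r ∉ D) :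
    ∀ δ ∈ D, ∃ r ∈ R, h • (r + δ) ∈ D := by
  have hW : ∀ w ∈ mb h D, ∃ r ∈ R, ∃ d ∈ D, w = r + d := by
    intro w hw
    have h1 : h • w ∈ R ⊔ D := C.le_sup' hw
    have h3 := C.invW h⁻¹ (L.inv_mem hh) _ h1
    rw [inv_smul_smul] at h3
    obtain ⟨r, hr, d, hd, he⟩ := AddSubgroup.mem_sup.1 h3
    exact ⟨r, hr, d, hd, he.symm⟩
  choose! a ha b hb hab using hW
  have hinj : Function.Injective (fun w : mb h D => (⟨b w, hb w w.2⟩ : D)) := by
    intro v w hvw
    have h1 : b v = b w := congrArg Subtype.val hvw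
    by_contra hne
    have hne' : (v : Y) - w ≠ 0 := fun h => hne (Subtype.ext (sub_eq_zero.1 h))
    have h3 : (v : Y) - w ∈ R := by
      rw [hab v v.2, hab w w.2, h1, add_sub_add_right_eq_sub]
      exact R.sub_mem (ha _ v.2) (ha _ w.2)
    exact hR _ h3 hne' ((mb h D).sub_mem v.2 w.2)
  intro δ hδ
  obtain ⟨⟨w, hw⟩, he⟩ := (hinj.bijective_of_nat_card_le (card_mb h D).ge).2 ⟨δ, hδ⟩
  have h1 : b w = δ := congrArg Subtype.val he
  refine ⟨a w, ha w hw, ?_⟩
  rw [← h1, ← hab w hw]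
  exact hw

include St h2 in
/-- **The number of covered elements is odd.** -/
theorem Cfg.odd_cov {x : Y} (hx : x ∈ D) (hx0 : x ≠ 0) :
    Odd (Nat.card {w : Y // w ≠ 0 ∧ ∃ g ∈ L, g • w ∈ D}) := by
  have hch : ∀ w : {w : Y // w ≠ 0 ∧ ∃ g ∈ L, g • w ∈ D}, ∃ g ∈ L, g • (w : Y) ∈ D := fun w => w.2.2
  choose γ hγ hγD using hch
  let F : (nD L D) × {w : Y // w ≠ 0 ∧ ∃ g ∈ L, g • w ∈ D} → L × {d : Y // d ∈ D ∧ d ≠ 0} := fun p =>
    (⟨(p.1 : K) * γ p.2, L.mul_mem p.1.2.1 (hγ p.2)⟩,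
      ⟨((p.1 : K) * γ p.2) • (p.2 : Y), by rw [mul_smul]; exact p.1.2.2 _ (hγD p.2), smul_ne p.2.2.1⟩)
  have hF : Function.Bijective F := by
    constructor
    · rintro ⟨n, w⟩ ⟨n', w'⟩ he
      have h1 : (n : K) * γ w = n' * γ w' := congrArg Subtype.val (Prod.ext_iff.1 he).1
      have h3 : ((n : K) * γ w) • (w : Y) = ((n' : K) * γ w') • (w' : Y) :=
        congrArg Subtype.val (Prod.ext_iff.1 he).2
      rw [← h1] at h3
      obtain rfl : w = w' := Subtype.ext (smul_left_cancel _ h3)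
      have h4 : (n : K) = n' := mul_right_cancel h1
      rw [Subtype.ext h4]
    · rintro ⟨⟨g, hg⟩, ⟨d, hd, hd0⟩⟩
      have hw0 : g⁻¹ • d ≠ 0 := smul_ne hd0
      have hgw : g • g⁻¹ • d = d := smul_inv_smul g d
      let w : {w : Y // w ≠ 0 ∧ ∃ g ∈ L, g • w ∈ D} := ⟨g⁻¹ • d, hw0, g, hg, by rw [hgw]; exact hd⟩
      have hn : g * (γ w)⁻¹ ∈ nD L D := by
        refine ⟨L.mul_mem hg (L.inv_mem (hγ w)), C.ti St (hγD w) (smul_ne w.2.1)
          (L.mul_mem hg (L.inv_mem (hγ w))) ?_⟩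
        rw [mul_smul, inv_smul_smul]
        change g • g⁻¹ • d ∈ D
        rw [hgw]
        exact hd
      refine ⟨(⟨g * (γ w)⁻¹, hn⟩, w), ?_⟩
      refine Prod.ext (Subtype.ext ?_) (Subtype.ext ?_)
      · change g * (γ w)⁻¹ * γ w = g
        rw [inv_mul_cancel_right]
      · change (g * (γ w)⁻¹ * γ w) • (g⁻¹ • d) = d
        rw [inv_mul_cancel_right, hgw]
  have hc := Nat.card_eq_of_bijective F hF
  rw [Nat.card_prod, Nat.card_prod] at hc
  have h3 : Odd (Nat.card {d : Y // d ∈ D ∧ d ≠ 0}) := by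
    have h4 := card_ne_zero_add_one D
    have h5 := even_card h2 hx hx0
    rcases Nat.even_or_odd (Nat.card {d : Y // d ∈ D ∧ d ≠ 0}) with h6 | h6
    · exfalso
      have h7 : Odd (Nat.card D) := h4 ▸ h6.add_one
      exact (Nat.not_even_iff_odd.2 h7) h5
    · exact h6
  have h4 : Odd (Nat.card (nD L D) * Nat.card {w : Y // w ≠ 0 ∧ ∃ g ∈ L, g • w ∈ D}) := by
    rw [hc]
    exact C.odd.mul h3
  exact (Nat.odd_mul.1 h4).2


/-- moving along the `T`-orbits -/
theorem Cfg.move {r r' δ : Y} (hr : r ∈ R) (h0 : r ≠ 0) (hr' : r' ∈ R) (h0' : r' ≠ 0) (hδ : δ ∈ D) :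
    ∃ t ∈ T, t • (r + δ) = r' + δ := by
  obtain ⟨t, ht, hte⟩ := C.trans r hr h0 r' hr' h0'
  exact ⟨t, ht, by rw [smul_add, hte, C.fixD t ht δ hδ]⟩

include St h2 in
/-- **Some member is contained in `R`.** -/
theorem Cfg.exA (hne : ∃ g ∈ L, ∃ d ∈ D, g • d ∉ D) : ∃ r ∈ R, r ≠ 0 ∧ ∃ g ∈ L, g • r ∈ D := by
  by_contra hcon
  push Not at hcon
  obtain ⟨g₀, hg₀, d₁, hd₁, hgd⟩ := hne
  obtain ⟨x, hx, hx0⟩ := C.exists_ne_D ⟨d₁, hd₁, hgd⟩
  have hodd := C.odd_cov h2 St hx hx0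
  have hB := C.coverB h2 (L.inv_mem hg₀) (fun r hr h0 => hcon r hr h0 g₀⁻¹ (L.inv_mem hg₀))
  have hno : ∀ δ ∈ D, δ ≠ 0 → g₀⁻¹ • δ ∉ D := by
    intro δ hδ h0 hmem
    have h1 := C.ti St hδ h0 (L.inv_mem hg₀) hmem
    have h3 := inv_mem_of h1 d₁ hd₁
    rw [inv_inv] at h3
    exact hgd h3
  have key : ∀ w : Y, (w ≠ 0 ∧ ∃ g ∈ L, g • w ∈ D) ↔ (w ∈ R ⊔ D ∧ w ∉ R) := by
    intro w
    constructor
    · rintro ⟨h0, g, hg, hgw⟩
      refine ⟨?_, fun hw => hcon w hw h0 g hg hgw⟩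
      have h3 := C.invW g⁻¹ (L.inv_mem hg) _ (C.le_sup' hgw)
      rwa [inv_smul_smul] at h3
    · rintro ⟨hw, hwR⟩
      obtain ⟨r, hr, δ, hδ, rfl⟩ := AddSubgroup.mem_sup.1 hw
      have hδ0 : δ ≠ 0 := by
        rintro rfl
        exact hwR (by rw [add_zero]; exact hr)
      refine ⟨fun h => hwR (by rw [h]; exact R.zero_mem), ?_⟩
      by_cases hr0 : r = 0
      · exact ⟨1, L.one_mem, by rw [one_smul, hr0, zero_add]; exact hδ⟩
      · obtain ⟨r', hr', hrδ⟩ := hB δ hδ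
        have hr0' : r' ≠ 0 := by
          rintro rfl
          rw [zero_add] at hrδ
          exact hno δ hδ hδ0 hrδ
        obtain ⟨t, ht, hte⟩ := C.move hr hr0 hr' hr0' hδ
        exact ⟨g₀⁻¹ * t, L.mul_mem (L.inv_mem hg₀) (C.TL ht), by rw [mul_smul, hte]; exact hrδ⟩
  have h1 : Nat.card {w : Y // w ≠ 0 ∧ ∃ g ∈ L, g • w ∈ D} = Nat.card {w : Y // w ∈ R ⊔ D ∧ w ∉ R} :=
    Nat.card_congr (Equiv.subtypeEquivRight key)
  have h3 : Nat.card {w : Y // w ∈ R ⊔ D ∧ w ∉ R} + Nat.card R = Nat.card ↥(R ⊔ D) := by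
    have h4 : Nat.card {w : Y // w ∈ R ⊔ D ∧ w ∉ R} = (((R ⊔ D : AddSubgroup Y) : Set Y) \ (R : Set Y)).ncard := rfl
    have h5 : Nat.card R = (R : Set Y).ncard := rfl
    have h6 : Nat.card ↥(R ⊔ D) = ((R ⊔ D : AddSubgroup Y) : Set Y).ncard := rfl
    rw [h4, h5, h6]
    exact Set.ncard_sdiff_add_ncard_of_subset (fun _ h => C.le_sup h) (Set.toFinite _)
  obtain ⟨r, hr, hr0, -, -⟩ := exists_ne C.four (0 : Y) 0
  have h4 := even_card h2 hr hr0
  have h5 := even_card h2 (C.le_sup hr) hr0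
  rw [h1] at hodd
  have h6 : Odd (Nat.card ↥(R ⊔ D)) := h3 ▸ hodd.add_even h4
  exact (Nat.not_even_iff_odd.2 h6) h5

include St h2 Mem in
/-- **The element `h`**: `D^h ≤ R`, and the member `D^{h⁻¹}` covers all cosets. -/
theorem Cfg.exists_h (hne : ∃ g ∈ L, ∃ d ∈ D, g • d ∉ D) :
    ∃ h ∈ L, (∀ x ∈ D, h • x ∈ R) ∧ ∀ δ ∈ D, ∃ r ∈ R, h • (r + δ) ∈ D := by
  obtain ⟨y, hy, hy0, g, hg, hgy⟩ := C.exA h2 St hne
  have hL := L.inv_mem hg
  obtain ⟨_, _, d₁, hd₁, hgd⟩ := hne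
  obtain ⟨x, hx, hx0⟩ := C.exists_ne_D ⟨d₁, hd₁, hgd⟩
  refine ⟨g⁻¹, hL, fun x hx => Mem g hg y hy hy0 hgy _ (by rw [smul_inv_smul]; exact hx), ?_⟩
  refine C.coverB h2 hL fun r hr hr0 hrD => ?_
  have h1 := Mem g⁻¹ hL r hr hr0 hrD (g • x) (by rw [inv_smul_smul]; exact hx)
  exact C.no_two St hx hx0 hy hy0 hg hgy h1

end main

section tour

variable (h2 : ∀ y : Y, y + y = 0) {L T : Subgroup K} {R D : AddSubgroup Y} (C : Cfg L T R D)
  (St : ∀ x ∈ D, x ≠ 0 → ∀ g ∈ L, g • x = x → Nrm g R D) {h : K} (hh : h ∈ L) (hDR : ∀ x ∈ D, h • x ∈ R)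
  (hcov : ∀ δ ∈ D, ∃ r ∈ R, h • (r + δ) ∈ D) {x : Y} (hx : x ∈ D) (hx0 : x ≠ 0)
include C hh hDR hcov hx hx0

/-- **All nonzero elements are covered.** -/
theorem Cfg.allcov {w : Y} (hw : w ∈ R ⊔ D) (hw0 : w ≠ 0) : ∃ g ∈ L, g • w ∈ D := by
  obtain ⟨r, hr, δ, hδ, rfl⟩ := AddSubgroup.mem_sup.1 hw
  by_cases hr0 : r = 0
  · exact ⟨1, L.one_mem, by rw [one_smul, hr0, zero_add]; exact hδ⟩
  obtain ⟨r', hr', hrδ⟩ := hcov δ hδ
  by_cases hr0' : r' = 0
  · -- then `δ = 0`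
    have h1 : h • δ ∈ D := by rw [hr0', zero_add] at hrδ; exact hrδ
    have hδ0 : δ = 0 := by
      by_contra hne
      exact smul_ne hne (C.disj _ (hDR δ hδ) h1)
    obtain ⟨t, ht, hte⟩ := C.trans r hr hr0 (h • x) (hDR x hx) (smul_ne hx0)
    refine ⟨h⁻¹ * t, L.mul_mem (L.inv_mem hh) (C.TL ht), ?_⟩
    rw [hδ0, add_zero, mul_smul, hte, inv_smul_smul]
    exact hx
  · obtain ⟨t, ht, hte⟩ := C.move hr hr0 hr' hr0' hδ
    exact ⟨h * t, L.mul_mem hh (C.TL ht), by rw [mul_smul, hte]; exact hrδ⟩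


/-- **`x ∈ R_y`** for `x ∈ D`, `y ∉ R ∪ D`. -/
theorem Cfg.arcB {y : Y} (hy : y ∈ R ⊔ D) (hyR : y ∉ R) (hyD : y ∉ D) :
    ∃ g ∈ L, g • y ∈ D ∧ ∀ x ∈ D, g • x ∈ R := by
  obtain ⟨r, hr, δ, hδ, rfl⟩ := AddSubgroup.mem_sup.1 hy
  have hr0 : r ≠ 0 := by
    rintro rfl
    exact hyD (by rw [zero_add]; exact hδ)
  have hδ0 : δ ≠ 0 := by
    rintro rfl
    exact hyR (by rw [add_zero]; exact hr)
  obtain ⟨r', hr', hrδ⟩ := hcov δ hδ
  have hr0' : r' ≠ 0 := by
    rintro rfl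
    rw [zero_add] at hrδ
    exact smul_ne hδ0 (C.disj _ (hDR δ hδ) hrδ)
  obtain ⟨t, ht, hte⟩ := C.move hr hr0 hr' hr0' hδ
  refine ⟨h * t, L.mul_mem hh (C.TL ht), by rw [mul_smul, hte]; exact hrδ, fun z hz => ?_⟩
  rw [mul_smul, C.fixD t ht z hz]
  exact hDR z hz

include h2 St in
/-- **TOUR, one half**: `y` covered by `g`, `z` outside `R_y ∪ D_y`: then `y ∈ R_z`. -/
theorem Cfg.arc {y z : Y} (_hy0 : y ≠ 0) {g : K} (hg : g ∈ L) (hgy : g • y ∈ D) (hz : z ∈ R ⊔ D)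
    (hzR : g • z ∉ R) (hzD : g • z ∉ D) {k : K} (hk : k ∈ L) (hkz : k • z ∈ D) : k • y ∈ R := by
  obtain ⟨m, hm, hmz, hmx⟩ := C.arcB hh hDR hcov hx hx0 (C.invW g hg z hz) hzR hzD
  have hz0 : z ≠ 0 := by
    rintro rfl
    exact hzR (by rw [smul_zero]; exact R.zero_mem)
  have h1 : (m * g) • y ∈ R := by rw [mul_smul]; exact hmx _ hgy
  exact C.rel_R h2 St hz0 (L.mul_mem hm hg) hk (by rw [mul_smul]; exact hmz) hkz h1

include h2 St in
/-- **`|D| = 2`.** -/
theorem Cfg.eq_of_ne (Mem : ∀ g ∈ L, ∀ r ∈ R, r ≠ 0 → g • r ∈ D → ∀ w, g • w ∈ D → w ∈ R) {x' : Y}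
    (hx' : x' ∈ D) (hx0' : x' ≠ 0) : x' = x := by
  by_contra hne
  -- `y ∈ R#`, `g • y ∈ D`
  obtain ⟨y, hy, hy0, -, -⟩ := exists_ne C.four (0 : Y) 0
  obtain ⟨g, hg, hgy⟩ := C.allcov hh hDR hcov hx hx0 (C.le_sup hy) hy0
  have hyD : y ∉ D := fun h => hy0 (C.disj y hy h)
  have hgx : ∀ v ∈ D, v ≠ 0 → g • v ∉ D := by
    intro v hv hv0 hgv
    have h1 := inv_mem_of (C.ti St hv hv0 hg hgv) _ hgy
    rw [inv_smul_smul] at h1
    exact hyD h1
  -- the decomposition of `g • x`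
  obtain ⟨ρ, hρ, η, hη, hgxe⟩ := AddSubgroup.mem_sup.1 (C.invW g hg x (C.le_sup' hx))
  have hρ0 : ρ ≠ 0 := by
    rintro rfl
    rw [zero_add] at hgxe
    exact hgx x hx hx0 (hgxe ▸ hη)
  have hη0 : η ≠ 0 := by
    rintro rfl
    rw [add_zero] at hgxe
    exact C.no_two St hx hx0 hy hy0 hg hgy (hgxe ▸ hρ)
  -- `d₂ ∈ D#`, `d₂ ≠ η`
  obtain ⟨d₂, hd₂, hd₂0, hd₂η⟩ : ∃ d₂ ∈ D, d₂ ≠ 0 ∧ d₂ ≠ η := by
    by_cases h1 : x = η
    · exact ⟨x', hx', hx0', fun h => hne (by rw [h, h1])⟩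
    · exact ⟨x, hx, hx0, h1⟩
  set η₂ := g⁻¹ • d₂ with hη₂
  have hgη : g • η₂ = d₂ := smul_inv_smul g d₂
  have hη₂R : η₂ ∈ R := Mem g hg y hy hy0 hgy _ (by rw [hgη]; exact hd₂)
  have hη₂0 : η₂ ≠ 0 := smul_ne hd₂0
  set z := x + η₂ with hz
  have hzW : z ∈ R ⊔ D := AddSubgroup.add_mem _ (C.le_sup' hx) (C.le_sup hη₂R)
  have hzR : z ∉ R := fun h => hx0 (C.disj x (by
    have h1 := R.sub_mem h hη₂R
    rwa [hz, add_sub_cancel_right] at h1) hx)
  have hzD : z ∉ D := fun h => hη₂0 (C.disj _ hη₂R (by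
    have h1 := D.sub_mem h hx
    rwa [hz, add_sub_cancel_left] at h1))
  have hz0 : z ≠ 0 := fun h => hzR (by rw [h]; exact R.zero_mem)
  obtain ⟨k, hk, hkz⟩ := C.allcov hh hDR hcov hx hx0 hzW hz0
  -- `k • x ∈ R`
  have h1 : k • x ∈ R :=
    C.arc h2 St hh hDR hcov hx hx0 hx0 L.one_mem (by rw [one_smul]; exact hx) hzW (by rw [one_smul]; exact hzR)
      (by rw [one_smul]; exact hzD) hk hkz
  -- `k • η₂ ∈ R`
  have hgz : g • z = ρ + (η + d₂) := by rw [hz, smul_add, ← hgxe, hgη, add_assoc]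
  have hηd : η + d₂ ∈ D := D.add_mem hη hd₂
  have hηd0 : η + d₂ ≠ 0 := fun h => hd₂η (by
    have h3 : η + d₂ = η + η := by rw [h, h2]
    exact add_left_cancel h3)
  have h3 : k • η₂ ∈ R := by
    refine C.arc h2 St hh hDR hcov hx hx0 hη₂0 hg (by rw [hgη]; exact hd₂) hzW ?_ ?_ hk hkz
    · rw [hgz]
      intro h4
      have h5 := R.sub_mem h4 hρ
      rw [add_sub_cancel_left] at h5
      exact hηd0 (C.disj _ h5 hηd)
    · rw [hgz]
      intro h4
      have h5 := D.sub_mem h4 hηd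
      rw [add_sub_cancel_right] at h5
      exact hρ0 (C.disj _ hρ h5)
  have h4 : k • z ∈ R := by
    rw [hz, smul_add]
    exact R.add_mem h1 h3
  exact smul_ne hz0 (C.disj _ h4 hkz)


include h2 St in
/-- **`|W| ≤ 8`.** -/
theorem Cfg.false_of_eight (hD : ∀ x' ∈ D, x' ≠ 0 → x' = x) (h8 : 8 ≤ Nat.card R) : False := by
  obtain ⟨y, hy, hy0, -, -⟩ := exists_ne C.four (0 : Y) 0
  obtain ⟨g, hg, hgy⟩ := C.allcov hh hDR hcov hx hx0 (C.le_sup hy) hy0
  have hgyx : g • y = x := hD _ hgy (smul_ne hy0)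
  have hgxR : g • x ∉ R := fun h1 => C.no_two St hx hx0 hy hy0 hg hgy h1
  set z := x + y with hz
  have hzW : z ∈ R ⊔ D := AddSubgroup.add_mem _ (C.le_sup' hx) (C.le_sup hy)
  have hzR : z ∉ R := fun h => hx0 (C.disj x (by
    have h1 := R.sub_mem h hy
    rwa [hz, add_sub_cancel_right] at h1) hx)
  have hzD : z ∉ D := fun h => hy0 (C.disj _ hy (by
    have h1 := D.sub_mem h hx
    rwa [hz, add_sub_cancel_left] at h1))
  have hz0 : z ≠ 0 := fun h => hzR (by rw [h]; exact R.zero_mem)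
  obtain ⟨k, hk, hkz⟩ := C.allcov hh hDR hcov hx hx0 hzW hz0
  have hkx : k • x ∈ R :=
    C.arc h2 St hh hDR hcov hx hx0 hx0 L.one_mem (by rw [one_smul]; exact hx) hzW (by rw [one_smul]; exact hzR)
      (by rw [one_smul]; exact hzD) hk hkz
  -- the claim
  have key : ∀ u ∈ R, u ≠ 0 → g • u ∈ R → k • u ∉ R := by
    intro u hu hu0 hgu hku
    set w := x + u with hw
    have hwW : w ∈ R ⊔ D := AddSubgroup.add_mem _ (C.le_sup' hx) (C.le_sup hu)
    have hwR : w ∉ R := fun h => hx0 (C.disj x (by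
      have h1 := R.sub_mem h hu
      rwa [hw, add_sub_cancel_right] at h1) hx)
    have hwD : w ∉ D := fun h => hu0 (C.disj _ hu (by
      have h1 := D.sub_mem h hx
      rwa [hw, add_sub_cancel_left] at h1))
    have hw0 : w ≠ 0 := fun h => hwR (by rw [h]; exact R.zero_mem)
    obtain ⟨m, hm, hmw⟩ := C.allcov hh hDR hcov hx hx0 hwW hw0
    have hmx : m • x ∈ R :=
      C.arc h2 St hh hDR hcov hx hx0 hx0 L.one_mem (by rw [one_smul]; exact hx) hwW (by rw [one_smul]; exact hwR)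
        (by rw [one_smul]; exact hwD) hm hmw
    have hmy : m • y ∈ R := by
      refine C.arc h2 St hh hDR hcov hx hx0 hy0 hg hgy hwW ?_ ?_ hm hmw
      · intro h1
        rw [hw, smul_add] at h1
        exact hgxR ((R.add_mem_cancel_right hgu).1 h1)
      · intro h1
        have h3 : g • w = g • y := by rw [hD _ h1 (smul_ne hw0), hgyx]
        exact hwR (by rw [smul_left_cancel g h3]; exact hy)
    have hmz : m • z ∈ R := by rw [hz, smul_add]; exact R.add_mem hmx hmy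
    have hkw : k • w ∈ R := by rw [hw, smul_add]; exact R.add_mem hkx hku
    refine C.no_two St hmw (smul_ne hw0) hmz (smul_ne hz0) (L.mul_mem hk (L.inv_mem hm)) ?_ ?_
    · rw [mul_smul, inv_smul_smul]; exact hkz
    · rw [mul_smul, inv_smul_smul]; exact hkw
  -- parts in `D`
  have hpart : ∀ v ∈ L, ∀ u ∈ R, ∃ r ∈ R, v • u = r ∨ v • u = r + x := by
    intro v hv u hu
    obtain ⟨r, hr, d, hd, he⟩ := AddSubgroup.mem_sup.1 (C.invW v hv u (C.le_sup hu))
    by_cases hd0 : d = 0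
    · exact ⟨r, hr, Or.inl (by rw [← he, hd0, add_zero])⟩
    · exact ⟨r, hr, Or.inr (by rw [← he, hD d hd hd0])⟩
  have hsum : ∀ v ∈ L, ∀ a ∈ R, ∀ b ∈ R, v • a ∉ R → v • b ∉ R → v • (a + b) ∈ R := by
    intro v hv a ha b hb hva hvb
    obtain ⟨r, hr, h1⟩ := hpart v hv a ha
    obtain ⟨r', hr', h3⟩ := hpart v hv b hb
    rcases h1 with h1 | h1
    · exact absurd (h1 ▸ hr) hva
    rcases h3 with h3 | h3
    · exact absurd (h3 ▸ hr') hvb
    have h4 : v • (a + b) = r + r' := by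
      rw [smul_add, h1, h3, add_add_add_comm, h2, add_zero]
    rw [h4]
    exact R.add_mem hr hr'
  have hU : 4 ≤ Nat.card ↥(R ⊓ mb g R) := by
    have h1 : Nat.card R ≤ 2 * Nat.card ↥(R ⊓ mb g R) := by
      refine card_le_two_mul fun a ha b hb haU hbU => ?_
      have h3 : g • a ∉ R := fun h => haU ⟨ha, h⟩
      have h4 : g • b ∉ R := fun h => hbU ⟨hb, h⟩
      exact ⟨R.add_mem ha hb, hsum g hg a ha b hb h3 h4⟩
    omega
  obtain ⟨u, hu, hu0, -, -⟩ := exists_ne hU (0 : Y) 0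
  obtain ⟨u', hu', hu0', hne, -⟩ := exists_ne hU u u
  have h1 := key u hu.1 hu0 hu.2
  have h3 := key u' hu'.1 hu0' hu'.2
  have h4 := hsum k hk u hu.1 u' hu'.1 h1 h3
  have h5 : u + u' ∈ R ⊓ mb g R := (R ⊓ mb g R).add_mem hu hu'
  have h6 : u + u' ≠ 0 := fun h => hne (by
    have h7 : u + u' = u + u := by rw [h, h2]
    exact add_left_cancel h7)
  exact key _ h5.1 h6 h5.2 h4

end tour

section final

variable (h2 : ∀ y : Y, y + y = 0) {L T : Subgroup K} {R D : AddSubgroup Y}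

include h2 in
/-- **The theorem, from (1) and (3a).** -/
theorem Cfg.main (C : Cfg L T R D) (St : ∀ x ∈ D, x ≠ 0 → ∀ g ∈ L, g • x = x → Nrm g R D)
    (Mem : ∀ g ∈ L, ∀ r ∈ R, r ≠ 0 → g • r ∈ D → ∀ w, g • w ∈ D → w ∈ R) (h8 : 8 ≤ Nat.card R) :
    ∀ g ∈ L, Nrm g R D := by
  have hD : ∀ g ∈ L, ∀ d ∈ D, g • d ∈ D := by
    by_contra hcon
    push Not at hcon
    obtain ⟨h, hh, hDR, hcov⟩ := C.exists_h h2 St Mem hcon
    obtain ⟨_, _, d₁, hd₁, hgd⟩ := hcon
    obtain ⟨x, hx, hx0⟩ := C.exists_ne_D ⟨d₁, hd₁, hgd⟩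
    exact C.false_of_eight h2 St hh hDR hcov hx hx0
      (fun x' hx' hx0' => C.eq_of_ne h2 St hh hDR hcov hx hx0 Mem hx' hx0') h8
  exact fun g hg => ⟨C.norm_R h2 hg (hD g hg), hD g hg⟩

/-- semiregularity of `T` on `R#` -/
def Free (T : Subgroup K) (R : AddSubgroup Y) : Prop :=
  ∀ t ∈ T, ∀ x ∈ R, x ≠ 0 → t • x = x → ∀ r ∈ R, t • r = r

/-- (3a): a member which meets `R` is contained in `R`. -/
theorem Cfg.mem_of_free (C : Cfg L T R D) (hf : Free T R)
    (St : ∀ x ∈ D, x ≠ 0 → ∀ g ∈ L, g • x = x → Nrm g R D) :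
    ∀ g ∈ L, ∀ r ∈ R, r ≠ 0 → g • r ∈ D → ∀ w, g • w ∈ D → w ∈ R := by
  intro g hg r hr hr0 hgr
  have hrD : r ∉ D := fun h => hr0 (C.disj r hr h)
  -- `D ∩ D_g = 0`
  have hno : ∀ v ∈ D, v ≠ 0 → g • v ∉ D := by
    intro v hv hv0 hgv
    have h1 := inv_mem_of (C.ti St hv hv0 hg hgv) _ hgr
    rw [inv_smul_smul] at h1
    exact hrD h1
  have hdec : ∀ w, g • w ∈ D → ∃ a ∈ R, ∃ b ∈ D, w = a + b := by
    intro w hw
    have h3 := C.invW g⁻¹ (L.inv_mem hg) _ (C.le_sup' hw)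
    rw [inv_smul_smul] at h3
    obtain ⟨a, ha, b, hb, he⟩ := AddSubgroup.mem_sup.1 h3
    exact ⟨a, ha, b, hb, he.symm⟩
  by_contra hcon
  push Not at hcon
  obtain ⟨w, hgw, hwR⟩ := hcon
  obtain ⟨a, ha, b, hb, rfl⟩ := hdec w hgw
  have hb0 : b ≠ 0 := by
    rintro rfl
    exact hwR (by rw [add_zero]; exact ha)
  have ha0 : a ≠ 0 := by
    rintro rfl
    rw [zero_add] at hgw
    exact hno b hb hb0 hgw
  have har0 : a + r ≠ 0 := by
    intro h1
    have h3 : g • (a + b + r) ∈ D := by rw [smul_add]; exact D.add_mem hgw hgr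
    have h4 : a + b + r = b := by rw [add_right_comm, h1, zero_add]
    rw [h4] at h3
    exact hno b hb hb0 h3
  obtain ⟨t, ht, hte⟩ := C.trans a ha ha0 (a + r) (R.add_mem ha hr) har0
  -- `t` normalises the member
  have htN : ∀ v, g • v ∈ D → g • t • v ∈ D := by
    have h1 : ∀ d ∈ D, (g * t * g⁻¹) • d ∈ D := by
      refine C.ti St hgw (smul_ne (fun h => hwR (by rw [h]; exact R.zero_mem)))
        (L.mul_mem (L.mul_mem hg (C.TL ht)) (L.inv_mem hg)) ?_
      rw [mul_smul, mul_smul, inv_smul_smul, smul_add, hte, C.fixD t ht b hb, smul_add, smul_add,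
        add_right_comm, ← smul_add]
      exact D.add_mem hgw hgr
    intro v hv
    have h3 := h1 _ hv
    rwa [mul_smul, mul_smul, inv_smul_smul] at h3
  -- the injective map `v ↦ t v - v`
  have hval : ∀ v, g • v ∈ D → ∃ c ∈ R, t • v - v = t • c - c ∧ (v = 0 ∨ c ≠ 0) := by
    intro v hv
    obtain ⟨c, hc, d, hd, rfl⟩ := hdec v hv
    refine ⟨c, hc, ?_, ?_⟩
    · rw [smul_add, C.fixD t ht d hd, add_sub_add_right_eq_sub]
    · by_cases hc0 : c = 0
      · left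
        rw [hc0, zero_add] at hv ⊢
        by_contra hd0
        exact hno d hd hd0 hv
      · exact Or.inr hc0
  have htf : ∀ c ∈ R, c ≠ 0 → t • c ≠ c := by
    intro c hc hc0 h1
    have h3 := hf t ht c hc hc0 h1 a ha
    rw [hte] at h3
    have h4 : a + r = a + 0 := by rw [h3, add_zero]
    exact hr0 (add_left_cancel h4)
  have hinj : Function.Injective (fun v : mb g D => (⟨t • (v : Y) - v, (mb g D).sub_mem (htN v v.2) v.2⟩ : mb g D)) := by
    intro u v huv
    have h1 : t • (u : Y) - u = t • (v : Y) - v := congrArg Subtype.val huv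
    by_contra hne
    have hne' : (u : Y) - v ≠ 0 := fun h => hne (Subtype.ext (sub_eq_zero.1 h))
    obtain ⟨c, hc, h3, h4⟩ := hval ((u : Y) - v) ((mb g D).sub_mem u.2 v.2)
    have h5 : t • ((u : Y) - v) - (u - v) = 0 := by
      rw [smul_sub, sub_sub_sub_comm, h1, sub_self]
    rcases h4 with h4 | h4
    · exact hne' h4
    · rw [h3] at h5
      exact htf c hc h4 (sub_eq_zero.1 h5)
  obtain ⟨v, hv⟩ := ((Finite.injective_iff_bijective).1 hinj).2 ⟨a + b, hgw⟩
  have h1 : t • (v : Y) - v = a + b := congrArg Subtype.val hv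
  obtain ⟨c, hc, h3, -⟩ := hval v v.2
  apply hwR
  rw [← h1, h3]
  exact R.sub_mem (C.invR t ht c hc) hc

include h2 in
/-- **LEMMA SINGER**, `q ≥ 8`. -/
theorem Cfg.norm (n : ℕ) : ∀ (L T : Subgroup K) (R D : AddSubgroup Y), Cfg L T R D → Free T R →
    8 ≤ Nat.card R → Nat.card D = n → ∀ g ∈ L, Nrm g R D := by
  induction n using Nat.strong_induction_on with
  | _ n ih =>
    intro L T R D C hf h8 hn
    have St : ∀ x ∈ D, x ≠ 0 → ∀ g ∈ L, g • x = x → Nrm g R D := by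
      intro x hx hx0 g hg hgx
      set M : Subgroup K := L ⊓ MulAction.stabilizer K x with hM
      have hML : M ≤ L := inf_le_left
      have hTM : T ≤ M := le_inf C.TL fun t ht => C.fixD t ht x hx
      have hgM : g ∈ M := ⟨hg, hgx⟩
      have hlt := C.card_lt h2 hML hx hx0 fun m hm => hm.2
      exact C.stab_of h2 hML hTM hgM (ih _ (hn ▸ hlt) M T R _ (C.sub h2 hML hTM) hf h8 rfl g hgM)
    exact C.main h2 St (C.mem_of_free hf St) h8


end final

/-- **LEMMA SINGER** (`q ≥ 8`), without solubility: `L` of odd order acts on `R ⊕ D` (characteristic 2), `T ≤ L` is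
trivial on `D`, transitive and semiregular on `R#`, `|D| ≤ |R|`. Then `L` normalises `R` and `D`. -/
theorem singer (h2 : ∀ y : Y, y + y = 0) {L T : Subgroup K} {R D : AddSubgroup Y} (hodd : Odd (Nat.card L))
    (hT : T ≤ L) (hdisj : R ⊓ D = ⊥) (hW : ∀ g ∈ L, ∀ w ∈ R ⊔ D, g • w ∈ R ⊔ D)
    (hfix : ∀ t ∈ T, ∀ d ∈ D, t • d = d) (hinv : ∀ t ∈ T, ∀ r ∈ R, t • r ∈ R)
    (htr : ∀ x ∈ R, x ≠ 0 → ∀ y ∈ R, y ≠ 0 → ∃ t ∈ T, t • x = y)
    (hfree : ∀ t ∈ T, ∀ x ∈ R, x ≠ 0 → t • x = x → ∀ r ∈ R, t • r = r) (h8 : 8 ≤ Nat.card R)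
    (hle : Nat.card D ≤ Nat.card R) : ∀ g ∈ L, (∀ r ∈ R, g • r ∈ R) ∧ ∀ d ∈ D, g • d ∈ D :=
  Cfg.norm h2 _ L T R D
    ⟨hodd, hT, fun x hx hd => by
      have h1 : x ∈ R ⊓ D := ⟨hx, hd⟩
      rwa [hdisj, AddSubgroup.mem_bot] at h1, hW, hfix, hinv, htr, by omega, hle⟩ hfree h8 rfl

end Cfsg.Agent.Omega.NOThreeL.NsF.SingerOdd

end

section


/-!
# NsF, F3: the wrapper of LEMMA SINGER (helper901's `SingerOdd.singer`)

`N` acts on the elementary abelian 2-group `Z = R × D` (`φ : N →* MulAut Z`), `|D| ≤ |R|`, the image of a Sylow 2-subgroup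
is cyclic and normalises `D`, `T ≤ N` is trivial on `D` and acts on `R` as a transitive group of odd exponent, free on
`R#`; if `|R| = 4` the image of `N` has even order.  Then `N` normalises `D` (`norm_D_hom`).
-/

set_option autoImplicit false
set_option linter.unusedSectionVars false

namespace Cfsg.Agent.Omega.NOThreeL.NsF.NormD

open Subgroup Cfsg.Agent.Omega.NO3S.Fit.Abs

section Even

variable {A Y : Type*} [Group A] [Finite A] [AddCommGroup Y] [Finite Y] [DistribMulAction A Y] [FaithfulSMul A Y]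

theorem comm_of_even (two : ∀ m : Y, m + m = 0) (h16 : Nat.card Y ≤ 16) {K : Subgroup A} (hKn : K.Normal)
    (hK : Odd (Nat.card K)) (hA : 2 ∣ Nat.card A) : ∀ a ∈ K, ∀ b ∈ K, a * b = b * a := by
  have f7 : Fact (Nat.Prime 7) := ⟨by decide⟩
  have f2 : Fact (Nat.Prime 2) := ⟨by decide⟩
  have h1 : Nat.card K ∣ 315 := by
    have h1 : Nat.card K ∣ Nat.card (AddAut (⊤ : AddSubgroup Y)) :=
      card_dvd_addAut two (fun _ _ => le_top) fun k hk => by
        have := hK.of_dvd_nat (orderOf_dvd_natCard (⟨k, hk⟩ : K))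
        rwa [Subgroup.orderOf_mk] at this
    have h2 : Nat.card (AddAut (⊤ : AddSubgroup Y)) ∣ 20160 :=
      card_addAut_dvd two (by rw [AddSubgroup.card_top]; exact h16)
    have h3 : Nat.card K ∣ 64 * 315 := h1.trans h2
    exact (Nat.Coprime.pow_right 6 (Nat.coprime_two_right.mpr hK)).dvd_of_dvd_mul_left h3
  have h7 : ¬ 7 ∣ Nat.card K := by
    intro h7
    obtain ⟨X⟩ : Nonempty (Sylow 7 K) := inferInstance
    have hX : Nat.card X = 7 := by
      have h2 : Nat.card X ∣ 315 := (card_subgroup_dvd_card (X : Subgroup K)).trans h1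
      have h3 : 7 ∣ Nat.card X := X.dvd_card_of_dvd_card h7
      obtain ⟨k, hk⟩ := IsPGroup.iff_card.mp X.isPGroup'
      rw [hk] at h2 h3 ⊢
      have h4 : k < 2 := by
        by_contra hcon
        have h5 : 7 ^ 2 ∣ 315 := (pow_dvd_pow 7 (by omega)).trans h2
        omega
      interval_cases k
      · omega
      · rfl
    set X' : Subgroup A := (X : Subgroup K).map K.subtype with hX'
    have hcX' : Nat.card X' = 7 := by
      rw [← hX]
      exact (Nat.card_congr ((X : Subgroup K).equivMapOfInjective _ K.subtype_injective).toEquiv).symm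
    have hfr : normalizer (X' : Set A) ⊔ K = ⊤ := X.normalizer_sup_eq_top
    have hev : 2 ∣ Nat.card (normalizer (X' : Set A)) := by
      have h2 : K.index = K.relIndex (normalizer (X' : Set A)) := by
        rw [← relIndex_top_right, ← hfr, relIndex_sup_right]
      have h3 : K.relIndex (normalizer (X' : Set A)) ∣ Nat.card (normalizer (X' : Set A)) := index_dvd_card _
      have h4 : 2 ∣ Nat.card K * K.index := by rw [K.card_mul_index]; exact hA
      have h5 : 2 ∣ K.index := (Nat.coprime_two_left.mpr hK).dvd_of_dvd_mul_left h4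
      exact (h2 ▸ h5).trans h3
    obtain ⟨⟨s, hsN⟩, hs⟩ := exists_prime_orderOf_dvd_card' 2 hev
    rw [Subgroup.orderOf_mk] at hs
    obtain ⟨⟨x, hxX⟩, hx⟩ := exists_prime_orderOf_dvd_card' (G := X') 7 (by rw [hcX'])
    rw [Subgroup.orderOf_mk] at hx
    have hz : zpowers x = X' := by
      apply eq_of_le_of_card_ge (zpowers_le.mpr hxX)
      rw [Nat.card_zpowers, hx, hcX']
    refine not_seven two h16 hx hs ?_
    rw [hz]
    exact (mem_normalizer_iff.mp hsN x).mp hxX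
  have h45 : Nat.card K ∣ 45 := by
    have h2 : Nat.Coprime (Nat.card K) 7 := ((Nat.Prime.coprime_iff_not_dvd f7.out).mpr h7).symm
    exact h2.dvd_of_dvd_mul_left (show Nat.card K ∣ 7 * 45 from h1)
  intro a ha b hb
  exact congrArg Subtype.val (comm_of_card_dvd (K := K) h45 ⟨a, ha⟩ ⟨b, hb⟩)

end Even

section Compl

variable {A : Type*} [Group A] [Finite A]

theorem exists_complement (P : Sylow 2 A) (hP : IsCyclic P) : ∃ K : Subgroup A, K.Normal ∧ Odd (Nat.card K) ∧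
    K ⊔ (P : Subgroup A) = ⊤ ∧ ∀ T : Subgroup A, Odd (Nat.card T) → T ≤ K := by
  have f2 : Fact (Nat.Prime 2) := ⟨by decide⟩
  by_cases hA : 2 ∣ Nat.card A
  · have hmin : (Nat.card A).minFac = 2 := (Nat.minFac_eq_two_iff _).mpr hA
    have hP' : IsCyclic (P : Subgroup A) := hP
    have hc := IsCyclic.isComplement' hmin hP'
    set K := (MonoidHom.transferSylow P (hP'.normalizer_le_centralizer hmin)).ker with hK
    have hKn : K.Normal := inferInstance
    have hi : K.index = Nat.card P := hc.symm.index_eq_card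
    have hodd : Odd (Nat.card K) := by
      have h1 : Nat.card K = (P : Subgroup A).index := hc.index_eq_card.symm
      rw [h1]
      have := P.not_dvd_index
      rwa [← Nat.not_even_iff_odd, even_iff_two_dvd]
    refine ⟨K, hKn, hodd, hc.sup_eq_top, fun T hT => ?_⟩
    have h1 : K.relIndex T ∣ K.index := relIndex_dvd_index_of_normal K T
    have h2 : K.relIndex T ∣ Nat.card T := index_dvd_card _
    obtain ⟨k, hk⟩ := IsPGroup.iff_card.mp P.isPGroup'
    rw [hi, hk] at h1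
    have h3 : Nat.Coprime (K.relIndex T) (2 ^ k) :=
      Nat.Coprime.pow_right k (Nat.coprime_two_right.mpr (hT.of_dvd_nat h2))
    exact relIndex_eq_one.mp (Nat.Coprime.eq_one_of_dvd h3 h1)
  · refine ⟨⊤, inferInstance, ?_, top_sup_eq _, fun _ _ => le_top⟩
    rw [card_top]
    rwa [← Nat.not_even_iff_odd, even_iff_two_dvd]

theorem odd_card_of_pow {T : Subgroup A} {m : ℕ} (hm : Odd m) (h : ∀ t ∈ T, t ^ m = 1) : Odd (Nat.card T) := by
  have f2 : Fact (Nat.Prime 2) := ⟨by decide⟩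
  rw [← Nat.not_even_iff_odd, even_iff_two_dvd]
  intro h2
  obtain ⟨⟨t, ht⟩, hto⟩ := exists_prime_orderOf_dvd_card' (G := T) 2 h2
  rw [Subgroup.orderOf_mk] at hto
  have h1 : orderOf t ∣ m := orderOf_dvd_of_pow_eq_one (h t ht)
  rw [hto] at h1
  exact (Nat.not_even_iff_odd.mpr hm) (even_iff_two_dvd.mpr h1)

end Compl

section Wrap

variable {A : Type*} {Y : Type*} [Group A] [Finite A] [AddCommGroup Y] [Finite Y] [DistribMulAction A Y]
  [FaithfulSMul A Y]

theorem norm_D_add (two : ∀ m : Y, m + m = 0) (P : Sylow 2 A) (hP : IsCyclic P) {T : Subgroup A}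
    {R D : AddSubgroup Y} {m : ℕ} (hm : Odd m) (hT : ∀ t ∈ T, t ^ m = 1) (hdisj : R ⊓ D = ⊥) (hsup : R ⊔ D = ⊤)
    (hfix : ∀ t ∈ T, ∀ d ∈ D, t • d = d) (hinv : ∀ t ∈ T, ∀ r ∈ R, t • r ∈ R)
    (htr : ∀ x ∈ R, x ≠ 0 → ∀ y ∈ R, y ≠ 0 → ∃ t ∈ T, t • x = y)
    (hfree : ∀ t ∈ T, ∀ x ∈ R, x ≠ 0 → t • x = x → ∀ r ∈ R, t • r = r) (h4 : 4 ≤ Nat.card R)
    (hle : Nat.card D ≤ Nat.card R) (hPD : ∀ s ∈ P, ∀ d ∈ D, s • d ∈ D)
    (hev : Nat.card R = 4 → 2 ∣ Nat.card A) : ∀ a : A, ∀ d ∈ D, a • d ∈ D := by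
  obtain ⟨K, hKn, hKodd, hKP, hKT⟩ := exists_complement P hP
  have hTK : T ≤ K := hKT T (odd_card_of_pow hm hT)
  have key : ∀ k ∈ K, ∀ d ∈ D, k • d ∈ D := by
    by_cases h8 : 8 ≤ Nat.card R
    · intro k hk d hd
      exact (SingerOdd.singer two hKodd hTK hdisj (fun _ _ w _ => by rw [hsup]; exact AddSubgroup.mem_top _) hfix
        hinv htr hfree h8 hle k hk).2 d hd
    · have hR : Nat.card R = 4 := by
        obtain ⟨a, ha⟩ := exists_card_two_pow two R
        rw [ha] at h4 h8 ⊢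
        have h1 : a < 3 := by
          by_contra hcon
          have : 2 ^ 3 ≤ 2 ^ a := Nat.pow_le_pow_right (by decide) (by omega)
          omega
        interval_cases a <;> omega
      have h16 : Nat.card Y ≤ 16 := by
        have h1 := card_sup_le R D
        rw [hsup, AddSubgroup.card_top] at h1
        rw [hR] at h1 hle
        omega
      have hcomm := comm_of_even two h16 hKn hKodd (hev hR)
      intro k hk d hd
      -- `C_Y(T) ≤ D`
      have hfD : ∀ y : Y, (∀ t ∈ T, t • y = y) → y ∈ D := by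
        intro y hy
        have hy' : y ∈ R ⊔ D := by rw [hsup]; exact AddSubgroup.mem_top _
        obtain ⟨r, hr, d, hd, rfl⟩ := AddSubgroup.mem_sup.mp hy'
        have hr0 : r = 0 := by
          by_contra hr0
          obtain ⟨r', hr', hr'0, hne⟩ := exists_ne_ne_of_card hR (u := r)
          obtain ⟨t, ht, h1⟩ := htr r hr hr0 r' hr' hr'0
          have h2 := hy t ht
          rw [smul_add, hfix t ht d hd, h1] at h2
          exact hne (add_right_cancel h2)
        rw [hr0, zero_add]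
        exact hd
      apply hfD
      intro t ht
      rw [← mul_smul, hcomm t (hTK ht) k hk, mul_smul, hfix t ht d hd]
  intro a d hd
  have ha : a ∈ K ⊔ (P : Subgroup A) := hKP ▸ mem_top a
  rw [← SetLike.mem_coe, normal_mul, Set.mem_mul] at ha
  obtain ⟨k, hk, s, hs, rfl⟩ := ha
  rw [mul_smul]
  exact key k hk _ (hPD s hs d hd)

end Wrap

section Hom

variable {N Z : Type*} [Group N] [Finite N] [CommGroup Z] [Finite Z]

/-- the action of the image of `φ : N →* MulAut Z` on `Additive Z` -/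
@[reducible] def act (φ : N →* MulAut Z) : DistribMulAction φ.range (Additive Z) where
  smul a y := Additive.ofMul ((a : MulAut Z) y.toMul)
  one_smul _ := rfl
  mul_smul _ _ _ := rfl
  smul_zero a := congrArg Additive.ofMul (map_one (a : MulAut Z))
  smul_add a x y := congrArg Additive.ofMul (map_mul (a : MulAut Z) x.toMul y.toMul)

theorem norm_D_hom (two : ∀ z : Z, z * z = 1) (φ : N →* MulAut Z) (P : Sylow 2 N) {s₀ : N} (hs₀ : s₀ ∈ P)
    (hcyc : ∀ s ∈ P, ∃ k : ℤ, φ s = φ s₀ ^ k) {T : Subgroup N} {R D : Subgroup Z} {m : ℕ} (hm : Odd m)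
    (hT : ∀ t ∈ T, φ t ^ m = 1) (hdisj : R ⊓ D = ⊥) (hsup : R ⊔ D = ⊤)
    (hfix : ∀ t ∈ T, ∀ d ∈ D, φ t d = d) (hinv : ∀ t ∈ T, ∀ r ∈ R, φ t r ∈ R)
    (htr : ∀ x ∈ R, x ≠ 1 → ∀ y ∈ R, y ≠ 1 → ∃ t ∈ T, φ t x = y)
    (hfree : ∀ t ∈ T, ∀ x ∈ R, x ≠ 1 → φ t x = x → ∀ r ∈ R, φ t r = r) (h4 : 4 ≤ Nat.card R)
    (hle : Nat.card D ≤ Nat.card R) (hPD : ∀ s ∈ P, ∀ d ∈ D, φ s d ∈ D)
    (hev : Nat.card R = 4 → ∃ s ∈ P, φ s ≠ 1) : ∀ n : N, ∀ d ∈ D, φ n d ∈ D := by
  have f2 : Fact (Nat.Prime 2) := ⟨by decide⟩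
  let _inst : DistribMulAction φ.range (Additive Z) := act φ
  have hsm : ∀ (a : φ.range) (y : Additive Z), a • y = Additive.ofMul ((a : MulAut Z) y.toMul) := fun _ _ => rfl
  have hfaith : FaithfulSMul φ.range (Additive Z) := ⟨fun {a b} h => by
    apply Subtype.ext
    ext z
    exact congrArg Additive.toMul (h (Additive.ofMul z))⟩
  have hsurj : Function.Surjective φ.rangeRestrict := φ.rangeRestrict_surjective
  let PA : Sylow 2 φ.range := P.mapSurjective hsurj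
  have hPA : ∀ a : φ.range, a ∈ PA ↔ ∃ s ∈ P, φ.rangeRestrict s = a := fun a => Iff.rfl
  have hPAc : IsCyclic PA := by
    refine ⟨⟨⟨φ.rangeRestrict s₀, (hPA _).mpr ⟨s₀, hs₀, rfl⟩⟩, ?_⟩⟩
    rintro ⟨a, ha⟩
    obtain ⟨s, hs, rfl⟩ := (hPA a).mp ha
    obtain ⟨k, hk⟩ := hcyc s hs
    refine mem_zpowers_iff.mpr ⟨k, ?_⟩
    apply Subtype.ext
    apply Subtype.ext
    exact hk.symm
  have h1 := norm_D_add (A := φ.range) (Y := Additive Z) (fun y => two y.toMul) PA hPAc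
    (T := T.map φ.rangeRestrict) (R := Subgroup.toAddSubgroup R) (D := Subgroup.toAddSubgroup D) hm
    (by
      rintro _ ⟨t, ht, rfl⟩
      apply Subtype.ext
      exact hT t ht)
    (by
      rw [eq_bot_iff]
      rintro y ⟨hy1, hy2⟩
      have : (y.toMul : Z) ∈ R ⊓ D := ⟨hy1, hy2⟩
      rw [hdisj] at this
      exact this)
    (by
      rw [eq_top_iff]
      intro y _
      have : (y.toMul : Z) ∈ R ⊔ D := by rw [hsup]; exact mem_top _
      obtain ⟨r, hr, d, hd, h⟩ := mem_sup.mp this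
      exact AddSubgroup.mem_sup.mpr ⟨Additive.ofMul r, hr, Additive.ofMul d, hd, congrArg Additive.ofMul h⟩)
    (by
      rintro _ ⟨t, ht, rfl⟩ d hd
      exact congrArg Additive.ofMul (hfix t ht d.toMul hd))
    (by
      rintro _ ⟨t, ht, rfl⟩ r hr
      exact hinv t ht r.toMul hr)
    (by
      intro x hx hx0 y hy hy0
      obtain ⟨t, ht, h⟩ := htr x.toMul hx (fun h => hx0 (congrArg Additive.ofMul h)) y.toMul hy
        (fun h => hy0 (congrArg Additive.ofMul h))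
      exact ⟨φ.rangeRestrict t, ⟨t, ht, rfl⟩, congrArg Additive.ofMul h⟩)
    (by
      rintro _ ⟨t, ht, rfl⟩ x hx hx0 hxx r hr
      exact congrArg Additive.ofMul (hfree t ht x.toMul hx (fun h => hx0 (congrArg Additive.ofMul h))
        (congrArg Additive.toMul hxx) r.toMul hr))
    (by exact h4)
    (by exact hle)
    (by
      intro a ha d hd
      obtain ⟨s, hs, rfl⟩ := (hPA a).mp ha
      exact hPD s hs d.toMul hd)
    (by
      intro h
      obtain ⟨s, hs, hs1⟩ := hev h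
      have h2 : φ.rangeRestrict s ∈ PA := (hPA _).mpr ⟨s, hs, rfl⟩
      have h3 : φ.rangeRestrict s ≠ 1 := fun h => hs1 (congrArg Subtype.val h)
      by_contra hcon
      apply h3
      have h4 : Nat.card PA = 1 := by
        obtain ⟨k, hk⟩ := IsPGroup.iff_card.mp PA.isPGroup'
        rcases Nat.eq_zero_or_pos k with rfl | hk0
        · rw [hk, pow_zero]
        · exact absurd ((dvd_pow_self 2 hk0.ne').trans (hk ▸ card_subgroup_dvd_card (PA : Subgroup φ.range))) hcon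
      have h5 := (Nat.card_eq_one_iff_unique.mp h4).1
      have h6 : (⟨φ.rangeRestrict s, h2⟩ : PA) = 1 := Subsingleton.elim _ _
      exact congrArg Subtype.val h6)
  intro n d hd
  exact h1 (φ.rangeRestrict n) (Additive.ofMul d) hd

end Hom

end Cfsg.Agent.Omega.NOThreeL.NsF.NormD

end

end

-- merged: Cfsg.Agent.Mrg.Omega.NOThreeL.NsF.NormZ
section

/-!
# NsF, F3 at group level: `N_G(Z⁺)` normalises `D`

* `exists_gen` : `S / S₀` is cyclic; `card_R` : `|R| = |F|`; `card_D_le` : `|D| ≤ |F|` (from (GD));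
* **`norm_D`** : `N_G(Z⁺)` normalises `D` (LEMMA SINGER, `q = 4` included, if there are field automorphisms);
* `not_le_LS` : `¬ (every point of the line comes from Z)` ⟹ `S ≠ S₀`.
-/

set_option autoImplicit false
set_option linter.unusedSectionVars false

namespace Cfsg.Agent.Omega.NOThreeL.NsF

open Subgroup Cfsg Cfsg.Agent.Omega.MinPar
open Cfsg.Agent.ZN (zc zl o2)
open Cfsg.Agent.Omega.Frame Cfsg.Agent.Omega.FrameNOFF
open Cfsg.Agent.Omega.Node.NO3L Cfsg.Agent.Omega.NOThreeL.Basic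
open Cfsg.Agent.Omega.NOThreeL.RTools (cm cm_def conj_mem_of_mem)
open Cfsg.Agent.Omega.NoFF.Basic (conj_conj mem_conj conj_le_iff)
open Cfsg.Agent.Omega.FFThm (NatK ActsSL)
open Cfsg.Agent.Omega.FrameFF (cv)
open Cfsg.Agent.Omega.HOne (cv_le conj_mem_zl conj_mem_cv)
open Cfsg.Agent.Omega.IId.ThmCQ.Nsp
open Cfsg.Agent.Omega.NOThreeL.RF
open Cfsg.Agent.Omega.NOThreeL.RF.GD (sgHom ker_sgHom)
open Cfsg.Agent.Lib.SL2Mat
open Cfsg.Agent.MinSimple.VModule (mem_zc o2_isPGroup le_normalizer_o2 le_o2)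
open scoped Pointwise

universe u

variable {G : Type u} [Group G] [Finite G] {F : Type} [Field F] [Finite F] [CharP F 2] {S : Sylow 2 G}
  {P H : Subgroup G} {M : NatK F (S : Subgroup G) P (zl (S : Subgroup G) P) (cv (S : Subgroup G) P) 1}

/-- `S / S₀` is cyclic -/
theorem exists_gen (q : Sit F S P 1) : ∃ s₀ ∈ (S : Subgroup G), ∀ s ∈ (S : Subgroup G), ∃ k : ℤ,
    s * (s₀ ^ k)⁻¹ ∈ LS M := by
  have hc : IsCyclic (F ≃+* F) := Cfsg.Agent.StdRank2.OutField.isCyclic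
  have hcr : IsCyclic (sgHom S q.h M).range := inferInstance
  obtain ⟨⟨g, hg⟩, hgen⟩ := hcr.exists_generator
  obtain ⟨s₀, rfl⟩ := id hg
  refine ⟨s₀, s₀.2, fun s hs => ?_⟩
  obtain ⟨k, hk⟩ := mem_zpowers_iff.mp (hgen ⟨sgHom S q.h M ⟨s, hs⟩, ⟨s, hs⟩, rfl⟩)
  have hk' : sgHom S q.h M s₀ ^ k = sgHom S q.h M ⟨s, hs⟩ := congrArg Subtype.val hk
  refine ⟨k, ?_⟩
  have h1 : (⟨s, hs⟩ * (s₀ ^ k)⁻¹ : ↥(S : Subgroup G)) ∈ (sgHom S q.h M).ker := by
    rw [MonoidHom.mem_ker, map_mul, map_inv, map_zpow, hk', mul_inv_cancel]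
  rw [ker_sgHom q.hG S q.h M, mem_subgroupOf, mem_SL_of q] at h1
  exact h1

theorem card_R (q : Sit F S P 1) : Nat.card (Rt M) = Nat.card F := by
  refine Nat.card_congr (Equiv.ofBijective (fun r : Rt M => M.e (r : G) 0 0) ⟨?_, ?_⟩)
  · rintro ⟨r, hr⟩ ⟨s, hs⟩ h
    exact Subtype.ext (R_inj q hr hs h)
  · intro c
    obtain ⟨r, hr, h⟩ := exists_R (M := M) q c
    exact ⟨⟨r, hr⟩, h⟩

/-- **`|D| ≤ |F|`** -/
theorem card_D_le (q : Sit F S P 1) {g : F → G} (hg : IsG M g) (D : HypM S P H) :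
    Nat.card (cv (S : Subgroup G) P) ≤ Nat.card F := by
  obtain ⟨hUL, W⟩ := wc_of q (S0_of_R q) (inv_LS q) D (D.Zp_le_U q hg)
  have hne : ¬ zl (S : Subgroup G) P ≤ o2 H := fun h => D.ne (h.trans D.o2_cent)
  obtain ⟨X, -, hX⟩ := exists_minX (le_refl H) ((LS_le (M := M)).trans D.SH) hne
  obtain ⟨x, hx, ho⟩ := hX.exists_opp W
  have hDX : ∀ d ∈ cv (S : Subgroup G) P, d ∈ centralizer (X : Set G) → d = 1 := by
    intro d hd hdX
    by_contra hd1
    apply hX.not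
    have h1 := (GD.gd q M hd hd1).2.1
    have h2 : X ≤ centralizer ({d} : Set G) := fun y hy => by
      rw [mem_centralizer_singleton_iff]
      exact mem_centralizer_iff.1 hdX y hy
    exact Four.le_o2_of_le h2 ((V_LS (M := M) q).trans hX.le) h1
  have hxD : ∀ d ∈ cv (S : Subgroup G) P, x * d * x⁻¹ ∈ LS M := fun d hd =>
    hUL (hX.conjZp_U W hx (mem_conj' (D_le_Zp hd)))
  have hker : ∀ d ∈ cv (S : Subgroup G) P, bet M (x * d * x⁻¹) = 0 → d = 1 := by
    intro d hd h0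
    have h1 : x * d * x⁻¹ ∈ centralizer (X : Set G) := by
      refine hX.mem_of_commV W hx ho (mem_conj' (D_le_Zp hd)) fun a ha => ?_
      exact mem_centralizer_iff.1 ((bet_eq_zero q (hxD d hd)).1 h0) a ha
    have h2 := MinX.conj_cent (inv_mem hx) h1
    have e1 : x⁻¹ * (x * d * x⁻¹) * x⁻¹⁻¹ = d := by group
    rw [e1] at h2
    exact hDX d hd (by rw [h2]; exact h1)
  refine Nat.card_le_card_of_injective (fun d : cv (S : Subgroup G) P => bet M (x * (d : G) * x⁻¹)) ?_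
  rintro ⟨a, ha⟩ ⟨b, hb⟩ h
  have h' : bet M (x * a * x⁻¹) = bet M (x * b * x⁻¹) := h
  have h1 : bet M (x * (a * b) * x⁻¹) = 0 := by
    have e1 : x * (a * b) * x⁻¹ = (x * a * x⁻¹) * (x * b * x⁻¹) := by group
    rw [e1, bet_mul q (hxD a ha) (hxD b hb), h', CharTwo.add_self_eq_zero]
  have h2 := hker _ (mul_mem ha hb) h1
  apply Subtype.ext
  change a = b
  have h3 : a = b⁻¹ := eq_inv_of_mul_eq_one_left h2
  rw [h3, invV q (cv_le _ _ hb)]

/-- `Z` does not cover the line: there are field automorphisms -/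
theorem not_le_LS (q : Sit F S P 1) (h : ¬ ∀ x : F, ∃ z ∈ zc (S : Subgroup G), M.e z 0 = ![x, 0]) :
    ¬ (S : Subgroup G) ≤ LS M := by
  intro hS
  apply h
  intro x
  obtain ⟨r, hr, hr0⟩ := exists_R (M := M) q x
  refine ⟨r, ?_, ?_⟩
  · have hrZ := R_le_Zp q hr
    rw [mem_zc]
    refine ⟨LS_le (V_LS (M := M) q (Zp_le hrZ)), fun s hs => Zp_comm q hrZ (hS hs), ?_⟩
    have := sqV' q (Zp_le hrZ)
    simpa [pow_two] using this
  · exact NatPair.ext2 hr0 (R_le_Zp q hr).2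

section torus

/-- the torus on `Z⁺` -/
def To (_ : Sit F S P 1) (M : NatK F (S : Subgroup G) P (zl (S : Subgroup G) P) (cv (S : Subgroup G) P) 1) :
    Subgroup (normalizer (Zp M : Set G)) where
  carrier := {n | ∃ t : F, t ≠ 0 ∧ ∀ z ∈ Zp M, M.e ((n : G) * z * (n : G)⁻¹) 0 0 = t * M.e z 0 0 ∧
    eps M ((n : G) * z * (n : G)⁻¹) = eps M z}
  one_mem' := ⟨1, one_ne_zero, fun z _ => by simp⟩
  mul_mem' := by
    rintro a b ⟨t, ht, h1⟩ ⟨s, hs, h2⟩
    refine ⟨t * s, mul_ne_zero ht hs, fun z hz => ?_⟩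
    have hbz : (b : G) * z * (b : G)⁻¹ ∈ Zp M := (mem_normalizer_iff.mp b.2 z).mp hz
    have e1 : ((a * b : normalizer (Zp M : Set G)) : G) * z * ((a * b : normalizer (Zp M : Set G)) : G)⁻¹ =
        (a : G) * ((b : G) * z * (b : G)⁻¹) * (a : G)⁻¹ := by
      rw [coe_mul]; group
    rw [e1, (h1 _ hbz).1, (h1 _ hbz).2, (h2 z hz).1, (h2 z hz).2]
    exact ⟨by ring, rfl⟩
  inv_mem' := by
    rintro a ⟨t, ht, h1⟩
    refine ⟨t⁻¹, inv_ne_zero ht, fun z hz => ?_⟩
    have hbz : ((a⁻¹ : normalizer (Zp M : Set G)) : G) * z * ((a⁻¹ : normalizer (Zp M : Set G)) : G)⁻¹ ∈ Zp M :=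
      (mem_normalizer_iff.mp (a⁻¹).2 z).mp hz
    obtain ⟨h2, h3⟩ := h1 _ hbz
    have e1 : (a : G) * (((a⁻¹ : normalizer (Zp M : Set G)) : G) * z *
        ((a⁻¹ : normalizer (Zp M : Set G)) : G)⁻¹) * (a : G)⁻¹ = z := by
      rw [coe_inv]; group
    rw [e1] at h2 h3
    refine ⟨?_, h3.symm⟩
    rw [h2, inv_mul_cancel_left₀ ht]

end torus

/-- **`N_G(Z⁺)` normalises `D`** -/
theorem norm_D_of (q : Sit F S P 1) (hDF : Nat.card (cv (S : Subgroup G) P) ≤ Nat.card F)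
    (hS : Nat.card F = 4 → ¬ (S : Subgroup G) ≤ LS M) :
    ∀ x ∈ normalizer (Zp M : Set G), MulAut.conj x • cv (S : Subgroup G) P = cv (S : Subgroup G) P := by
  classical
  have hcomm : ∀ a b : ↥(Zp M), a * b = b * a := fun a b => Subtype.ext (V_comm q (Zp_le a.2) (Zp_le b.2))
  let _inst : CommGroup ↥(Zp M) := { (inferInstance : Group ↥(Zp M)) with mul_comm := hcomm }
  let φ : ↥(normalizer (Zp M : Set G)) →* MulAut ↥(Zp M) := (Zp M).normalizerMonoidHom
  have hφ : ∀ (n : ↥(normalizer (Zp M : Set G))) (z : ↥(Zp M)), ((φ n z : ↥(Zp M)) : G) = (n : G) * z * (n : G)⁻¹ :=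
    fun _ _ => rfl
  have hφ1 : ∀ n : ↥(normalizer (Zp M : Set G)), (∀ z ∈ Zp M, (n : G) * z * (n : G)⁻¹ = z) → φ n = 1 := by
    intro n h
    ext z
    rw [hφ]
    exact h z z.2
  let S' : Sylow 2 ↥(normalizer (Zp M : Set G)) := S.subtype (S_norm_Zp q)
  have hS' : ∀ n : ↥(normalizer (Zp M : Set G)), n ∈ S' ↔ (n : G) ∈ (S : Subgroup G) := fun n => Iff.rfl
  obtain ⟨s₀, hs₀, hgen⟩ := exists_gen (M := M) q
  have hT : ∀ (n : ↥(normalizer (Zp M : Set G))), n ∈ To q M ↔ ∃ t : F, t ≠ 0 ∧ ∀ z ∈ Zp M,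
    M.e ((n : G) * z * (n : G)⁻¹) 0 0 = t * M.e z 0 0 ∧ eps M ((n : G) * z * (n : G)⁻¹) = eps M z := fun _ => Iff.rfl
  have hqF : Odd (Nat.card F - 1) := by
    have := Fintype.ofFinite F
    have h1 := FiniteField.even_card_of_char_two (F := F) (ringChar.eq F 2)
    have h2 := q.hF
    rw [Nat.card_eq_fintype_card] at h2 ⊢
    rw [Nat.odd_iff]
    omega
  have key := NormD.norm_D_hom (N := ↥(normalizer (Zp M : Set G))) (Z := ↥(Zp M))
    (fun z => Subtype.ext (sqV' q (Zp_le z.2))) φ S' (s₀ := ⟨s₀, S_norm_Zp q hs₀⟩) hs₀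
    (by
      intro s hs
      obtain ⟨k, hk⟩ := hgen (s : G) hs
      refine ⟨k, ?_⟩
      rw [← map_zpow, ← mul_inv_eq_one, ← map_inv, ← map_mul]
      apply hφ1
      intro z hz
      have h1 := Zp_comm q hz hk
      change ((s : G) * (s₀ ^ k)⁻¹) * z * ((s : G) * (s₀ ^ k)⁻¹)⁻¹ = z
      rw [h1, mul_inv_cancel_right])
    (T := To q M) (R := (Rt M).subgroupOf (Zp M)) (D := (cv (S : Subgroup G) P).subgroupOf (Zp M)) hqF
    (by
      rintro n ⟨t, ht, h⟩
      have h1 : ∀ k : ℕ, ∀ z ∈ Zp M, M.e (((n ^ k : ↥(normalizer (Zp M : Set G))) : G) * z *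
          ((n ^ k : ↥(normalizer (Zp M : Set G))) : G)⁻¹) 0 0 = t ^ k * M.e z 0 0 ∧
          eps M (((n ^ k : ↥(normalizer (Zp M : Set G))) : G) * z *
          ((n ^ k : ↥(normalizer (Zp M : Set G))) : G)⁻¹) = eps M z := by
        intro k
        induction k with
        | zero => intro z _; simp
        | succ k ih =>
          intro z hz
          have hz' : ((n ^ k : ↥(normalizer (Zp M : Set G))) : G) * z *
            ((n ^ k : ↥(normalizer (Zp M : Set G))) : G)⁻¹ ∈ Zp M := (mem_normalizer_iff.mp (n ^ k).2 z).mp hz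
          have e1 : ((n ^ (k + 1) : ↥(normalizer (Zp M : Set G))) : G) * z *
              ((n ^ (k + 1) : ↥(normalizer (Zp M : Set G))) : G)⁻¹ =
              (n : G) * (((n ^ k : ↥(normalizer (Zp M : Set G))) : G) * z *
                ((n ^ k : ↥(normalizer (Zp M : Set G))) : G)⁻¹) * (n : G)⁻¹ := by
            rw [pow_succ', coe_mul]; group
          rw [e1, (h _ hz').1, (h _ hz').2, (ih z hz).1, (ih z hz).2]
          exact ⟨by ring, rfl⟩
      have ht1 : t ^ (Nat.card F - 1) = 1 := by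
        have := Fintype.ofFinite F
        rw [Nat.card_eq_fintype_card]
        exact FiniteField.pow_card_sub_one_eq_one t ht
      rw [← map_pow]
      apply hφ1
      intro z hz
      obtain ⟨h2, h3⟩ := h1 (Nat.card F - 1) z hz
      rw [ht1, one_mul] at h2
      exact eq_of_coord q ((mem_normalizer_iff.mp (n ^ (Nat.card F - 1)).2 z).mp hz) hz h2 h3)
    (by
      rw [eq_bot_iff]
      rintro ⟨z, hz⟩ ⟨h1, h2⟩
      exact Subtype.ext (R_inf_D q h1 h2))
    (by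
      rw [eq_top_iff]
      rintro ⟨z, hz⟩ -
      obtain ⟨r, hr, d, hd, rfl⟩ := exists_rd q hz
      exact mem_sup.mpr ⟨⟨r, R_le_Zp q hr⟩, hr, ⟨d, D_le_Zp hd⟩, hd, rfl⟩)
    (by
      rintro n ⟨t, ht, h⟩ ⟨d, hdZ⟩ hd
      have hd' : d ∈ cv (S : Subgroup G) P := hd
      obtain ⟨h2, h3⟩ := h d hdZ
      refine Subtype.ext (eq_of_coord q ((mem_normalizer_iff.mp n.2 d).mp hdZ) hdZ ?_ h3)
      change M.e ((n : G) * d * (n : G)⁻¹) 0 0 = M.e d 0 0
      rw [h2, e_D hd', mul_zero])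
    (by
      rintro n ⟨t, ht, h⟩ ⟨r, hrZ⟩ hr
      have hr' : r ∈ Rt M := hr
      have h3 := (h r hrZ).2
      rw [eps_R q hr'] at h3
      exact (eps_eq_one q ((mem_normalizer_iff.mp n.2 r).mp hrZ)).1 h3)
    (by
      rintro ⟨x, hxZ⟩ hx hx1 ⟨y, hyZ⟩ hy hy1
      have hx' : x ∈ Rt M := hx
      have hy' : y ∈ Rt M := hy
      have hx0 : M.e x 0 0 ≠ 0 := fun h => hx1 (Subtype.ext (R_eq_one q hx' h))
      have hy0 : M.e y 0 0 ≠ 0 := fun h => hy1 (Subtype.ext (R_eq_one q hy' h))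
      have ht : M.e y 0 0 / M.e x 0 0 ≠ 0 := div_ne_zero hy0 hx0
      obtain ⟨w, hwP, hwN, hwA⟩ := tor (M := M) q ht
      have hwZ : w ∈ normalizer (Zp M : Set G) := by
        have h1 : ∀ z ∈ Zp M, w * z * w⁻¹ ∈ Zp M := fun z hz => norm_Zp q hwP hwN hz
        have h2 : ∀ z ∈ Zp M, w⁻¹ * z * w⁻¹⁻¹ ∈ Zp M := fun z hz => norm_Zp q (inv_mem hwP) (inv_mem hwN) hz
        rw [mem_normalizer_iff]
        intro z
        refine ⟨h1 z, fun hz => ?_⟩
        have h3 := h2 _ hz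
        have e1 : w⁻¹ * (w * z * w⁻¹) * w⁻¹⁻¹ = z := by group
        rwa [e1] at h3
      have hcoord : ∀ z ∈ Zp M, M.e (w * z * w⁻¹) 0 0 = M.e y 0 0 / M.e x 0 0 * M.e z 0 0 := by
        intro z hz
        rw [hwA.1 z (Zp_le hz) 0, NatPair.ap_zero', dg_00, dg_01, zero_mul, add_zero]
      refine ⟨⟨w, hwZ⟩, ⟨_, ht, fun z hz => ⟨hcoord z hz, eps_tri q hwP hwN hwA hz⟩⟩, Subtype.ext ?_⟩
      change w * x * w⁻¹ = y
      refine eq_of_coord q ((mem_normalizer_iff.mp hwZ x).mp hxZ) hyZ ?_ ?_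
      · rw [hcoord x hxZ, div_mul_cancel₀ _ hx0]
      · rw [eps_tri q hwP hwN hwA hxZ, eps_R q hx', eps_R q hy'])
    (by
      rintro n ⟨t, ht, h⟩ ⟨x, hxZ⟩ hx hx1 hxx ⟨r, hrZ⟩ hr
      have hx' : x ∈ Rt M := hx
      have hr' : r ∈ Rt M := hr
      have hx0 : M.e x 0 0 ≠ 0 := fun h => hx1 (Subtype.ext (R_eq_one q hx' h))
      have h1 : (n : G) * x * (n : G)⁻¹ = x := congrArg Subtype.val hxx
      have h2 := (h x hxZ).1
      rw [h1] at h2
      have ht1 : t = 1 := (mul_right_cancel₀ hx0 (by rw [one_mul]; exact h2)).symm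
      obtain ⟨h3, h4⟩ := h r hrZ
      rw [ht1, one_mul] at h3
      exact Subtype.ext (eq_of_coord q ((mem_normalizer_iff.mp n.2 r).mp hrZ) hrZ h3 h4))
    (by
      rw [Nat.card_congr (subgroupOfEquivOfLe (R_le_Zp q)).toEquiv, card_R q]
      exact q.hF)
    (by
      rw [Nat.card_congr (subgroupOfEquivOfLe (R_le_Zp q)).toEquiv, card_R q,
        Nat.card_congr (subgroupOfEquivOfLe (D_le_Zp (M := M))).toEquiv]
      exact hDF)
    (by
      rintro s hs ⟨d, hdZ⟩ hd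
      exact conj_mem_cv (q.h.le hs) hd)
    (by
      intro h4
      rw [Nat.card_congr (subgroupOfEquivOfLe (R_le_Zp q)).toEquiv, card_R q] at h4
      have h5 := hS h4
      rw [SetLike.not_le_iff_exists] at h5
      obtain ⟨s, hs, hsL⟩ := h5
      refine ⟨⟨s, S_norm_Zp q hs⟩, hs, fun h6 => hsL ?_⟩
      refine mem_LS_of_line q hs fun v hv => ?_
      have h7 : φ ⟨s, S_norm_Zp q hs⟩ ⟨v, hv⟩ = ⟨v, hv⟩ := by rw [h6]; rfl
      have h8 : s * v * s⁻¹ = v := congrArg Subtype.val h7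
      rw [h8])
  have hle : ∀ x ∈ normalizer (Zp M : Set G), MulAut.conj x • cv (S : Subgroup G) P ≤ cv (S : Subgroup G) P := by
    intro x hx y hy
    rw [mem_conj] at hy
    have h1 := key ⟨x, hx⟩ ⟨x⁻¹ * y * x, D_le_Zp hy⟩ hy
    have h2 : x * (x⁻¹ * y * x) * x⁻¹ ∈ cv (S : Subgroup G) P := h1
    have e1 : x * (x⁻¹ * y * x) * x⁻¹ = y := by group
    rwa [e1] at h2
  intro x hx
  refine le_antisymm (hle x hx) ?_
  have h1 := hle x⁻¹ (inv_mem hx)
  have h2 := Subgroup.pointwise_smul_le_pointwise_smul_iff (a := MulAut.conj x) |>.mpr h1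
  rwa [conj_conj, mul_inv_cancel, map_one, one_smul] at h2

/-- **F3**: the input `hnD` of `Four.of` -/
theorem norm_D (q : Sit F S P 1) {g : F → G} (hg : IsG M g) (D : HypM S P H)
    (hx : ¬ ∀ x : F, ∃ z ∈ zc (S : Subgroup G), M.e z 0 = ![x, 0]) :
    ∀ x ∈ normalizer (Zp M : Set G), MulAut.conj x • cv (S : Subgroup G) P = cv (S : Subgroup G) P :=
  norm_D_of q (card_D_le q hg D) fun _ => not_le_LS q hx

end Cfsg.Agent.Omega.NOThreeL.NsF

end

-- merged: Cfsg.Agent.Mrg.Omega.NOThreeL.RF.GNe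
section

/-!
# NO-3L, `R ∩ (A)`, `NsF`: `V_P` does not split, so `g` is not trivial

* `sit_of`, `hypM_of`, `inf_ne` : the frames from `RTreeA.BigA S P H F 1`;
* `sup_of_trivial` : if `g = 0`, then `[V, x] ≤ R R^w` for every `x ∈ P` acting as an element of `SL₂(F)`;
* **`exists_ne`** : if `V_P` does not split over `C_V(O²(P))`, then `g x ≠ 1` for some `x`.
-/

set_option autoImplicit false
set_option linter.unusedSectionVars false

namespace Cfsg.Agent.Omega.NOThreeL.RF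

open Subgroup Cfsg Cfsg.Agent.Omega.MinPar
open Cfsg.Agent.ZN (zc zl o2)
open Cfsg.Agent.Omega.Frame Cfsg.Agent.Omega.FrameNOFF
open Cfsg.Agent.Omega.Node.NO3L Cfsg.Agent.Omega.NOThreeL.Basic
open Cfsg.Agent.Omega.NoFF.Basic (conj_conj mem_conj conj_le_iff conj_le_centralizer comm_symm comm_mono)
open Cfsg.Agent.MinSimple.VModule (zl_le zc_le_zl le_normalizer_zl zc_le o2_isPGroup le_normalizer_o2 le_o2
  normalizer_le_normalizer_zc mem_zc)
open Cfsg.Agent.Omega.NOThreeL (mem_normalizer_of_conj_eq le_normalizer_of mem_sup_of_comm)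
open Cfsg.Agent.Omega.NOThreeL.RTools (cm cm_def conj_mem_of_mem)
open Cfsg.Agent.Omega.NOThreeL.RTreeA (BigA Splits SplitBy)
open Cfsg.Agent.Omega.FFThm (NatK ActsSL)
open Cfsg.Agent.Omega.FrameFF (cv)
open Cfsg.Agent.Omega.HOne (cv_le conj_mem_zl conj_mem_cv)
open Cfsg.Agent.Omega.HOne.Main (vx SplitPar)
open Cfsg.Agent.Omega.IId.Ns (Al Mv Fc Nc Uc one1 one1_same one1_ne exists_omega exists_of_Fc)
open Cfsg.Agent.Omega.IId.ThmCQ.Nsp
open Cfsg.Agent.Lib.SL2Mat
open Cfsg.Agent.Omega.NatPair (ap ap_mul ap_one ap_inv_ap)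
open scoped Pointwise

universe u

variable {G : Type u} [Group G] [Finite G] {F : Type} [Field F] [Finite F] [CharP F 2] {S : Sylow 2 G} {P : Subgroup G}

/-- `|F| ≥ 4` -/
theorem four_le_of_two_lt (h : 2 < Nat.card F) : 4 ≤ Nat.card F := by
  have : Fintype F := Fintype.ofFinite F
  have : Fact (Nat.Prime 2) := ⟨Nat.prime_two⟩
  obtain ⟨n, -, h1⟩ := FiniteField.card F 2
  rw [Nat.card_eq_fintype_card, h1] at h ⊢
  have h2 : 1 < (n : ℕ) := by
    by_contra hcon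
    have h3 : (n : ℕ) = 1 := by have := n.pos; omega
    rw [h3] at h
    omega
  calc 4 = 2 ^ 2 := rfl
    _ ≤ 2 ^ (n : ℕ) := Nat.pow_le_pow_right (by norm_num) h2

theorem sit_of {H : Subgroup G} (h : BigA S P H F 1) : Sit F S P 1 :=
  ⟨h.ctx.char2, h.pair.par, one_pos, four_le_of_two_lt h.big⟩

theorem hypM_of {H : Subgroup G} (h : BigA S P H F 1) : HypM S P H :=
  ⟨h.ctx.char2, h.data, h.pair.par, h.pair.long, h.pair.ne, h.min⟩

theorem inf_ne {H : Subgroup G} (h : BigA S P H F 1) (hs : ¬ Splits (S : Subgroup G) P (cv (S : Subgroup G) P)) :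
    zc (S : Subgroup G) ⊓ centralizer (P : Set G) ≠ ⊥ :=
  fun h0 => hs (RA.splits_of_inf_eq_bot h.ctx.char2 h.pair.par h0)

section main

variable {M : NatK F (S : Subgroup G) P (zl (S : Subgroup G) P) (cv (S : Subgroup G) P) 1} (q : Sit F S P 1)
  {g : F → G} (hg : IsG M g) (h0 : ∀ x, g x = 1)
include q hg h0

/-- `[v, x] ∈ R` if `x` acts as `up b` -/
theorem cm_up {x v : G} (hx : x ∈ P) {b : F}
    (hA : ActsSL M.e (zl (S : Subgroup G) P) (cv (S : Subgroup G) P) x fun _ => up b)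
    (hv : v ∈ zl (S : Subgroup G) P) : cm v x ∈ Rt M := by
  obtain ⟨s, hs, hb⟩ := bet_surj (M := M) q b
  have hs' := bet_LS q hs
  rw [hb] at hs'
  rw [cm_congr (M := M) q hv hv hx (q.h.le hs.1) rfl hA hs']
  exact (eps_eq_one q (e_cm q hv hs).1).1 (by rw [hg.br v hv s hs]; exact h0 _)

/-- `[v, x] ∈ R^w` if `x` acts as `lo b` -/
theorem cm_lo {w : G} (hw : w ∈ P)
    (hwA : ActsSL M.e (zl (S : Subgroup G) P) (cv (S : Subgroup G) P) w fun _ => wm 1 one_ne_zero) {x v : G} (hx : x ∈ P)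
    {b : F} (hA : ActsSL M.e (zl (S : Subgroup G) P) (cv (S : Subgroup G) P) x fun _ => lo b)
    (hv : v ∈ zl (S : Subgroup G) P) : cm v x ∈ MulAut.conj w • Rt M := by
  have h1 : ActsSL M.e (zl (S : Subgroup G) P) (cv (S : Subgroup G) P) (w⁻¹ * x * w) fun _ => up (-b) := by
    have h2 := IId.Ns.acts_mul M (mul_mem (inv_mem hw) hx) hw
      (IId.Ns.acts_mul M (inv_mem hw) hx (IId.Ns.acts_inv M hw hwA) hA) hwA
    have h3 : (fun _ : Fin 1 => (wm 1 one_ne_zero)⁻¹ * lo b * wm 1 one_ne_zero) =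
        fun _ : Fin 1 => (up (-b) : Matrix.SpecialLinearGroup (Fin 2) F) := by
      funext _
      have h4 := wm_up (1 : F) (-b) one_ne_zero
      rw [one_pow, div_one, neg_neg] at h4
      rw [mul_assoc, ← h4, inv_mul_cancel_left]
    rwa [h3] at h2
  rw [mem_conj]
  have h2 := cm_up q hg h0 (mul_mem (mul_mem (inv_mem hw) hx) hw) h1 (conj_mem_zl (inv_mem hw) hv)
  rw [inv_inv] at h2
  have e : w⁻¹ * cm v x * w = cm (w⁻¹ * v * w) (w⁻¹ * x * w) := by simp only [cm_def]; group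
  rwa [e]

/-- **`[V, x] ≤ R R^w`** -/
theorem cm_mem_supw {w : G} (hw : w ∈ P)
    (hwA : ActsSL M.e (zl (S : Subgroup G) P) (cv (S : Subgroup G) P) w fun _ => wm 1 one_ne_zero) {x v : G} (hx : x ∈ P)
    {A : Matrix.SpecialLinearGroup (Fin 2) F}
    (hA : ActsSL M.e (zl (S : Subgroup G) P) (cv (S : Subgroup G) P) x fun _ => A)
    (hv : v ∈ zl (S : Subgroup G) P) : cm v x ∈ Rt M ⊔ MulAut.conj w • Rt M := by
  set W := Rt M ⊔ MulAut.conj w • Rt M with hW
  have hWV : W ≤ zl (S : Subgroup G) P := by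
    refine sup_le (R_le_V q) fun y hy => ?_
    rw [mem_conj] at hy
    have h1 := conj_mem_zl hw (R_le_V q hy)
    have e : w * (w⁻¹ * y * w) * w⁻¹ = y := by group
    rwa [e] at h1
  -- products
  have hmul : ∀ a ∈ P, ∀ b ∈ P, (∀ v ∈ zl (S : Subgroup G) P, cm v a ∈ W) → (∀ v ∈ zl (S : Subgroup G) P, cm v b ∈ W) →
      ∀ v ∈ zl (S : Subgroup G) P, cm v (a * b) ∈ W := by
    intro a _ b _ h1 h2 v hv
    have e : cm v (a * b) = cm v a * ((cm (cm v b) a)⁻¹ * cm v b) := by simp only [cm_def]; group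
    rw [e]
    exact mul_mem (h1 v hv) (mul_mem (inv_mem (h1 _ (hWV (h2 v hv)))) (h2 v hv))
  obtain ⟨a, b, c, d, hAe⟩ := exists_up_lo A
  obtain ⟨xa, hxa, hXa⟩ := M.lift fun _ => up a
  obtain ⟨xb, hxb, hXb⟩ := M.lift fun _ => lo b
  obtain ⟨xc, hxc, hXc⟩ := M.lift fun _ => up c
  obtain ⟨xd, hxd, hXd⟩ := M.lift fun _ => lo d
  have ha : ∀ v ∈ zl (S : Subgroup G) P, cm v xa ∈ W := fun v hv => mem_sup_left (cm_up q hg h0 hxa hXa hv)
  have hb : ∀ v ∈ zl (S : Subgroup G) P, cm v xb ∈ W := fun v hv => mem_sup_right (cm_lo q hg h0 hw hwA hxb hXb hv)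
  have hc : ∀ v ∈ zl (S : Subgroup G) P, cm v xc ∈ W := fun v hv => mem_sup_left (cm_up q hg h0 hxc hXc hv)
  have hd : ∀ v ∈ zl (S : Subgroup G) P, cm v xd ∈ W := fun v hv => mem_sup_right (cm_lo q hg h0 hw hwA hxd hXd hv)
  have h1 := hmul _ (mul_mem (mul_mem hxa hxb) hxc) _ hxd
    (hmul _ (mul_mem hxa hxb) _ hxc (hmul _ hxa _ hxb ha hb) hc) hd v hv
  have h2 : ActsSL M.e (zl (S : Subgroup G) P) (cv (S : Subgroup G) P) (xa * xb * xc * xd) fun _ => A := by
    have h3 := IId.Ns.acts_mul M (mul_mem (mul_mem hxa hxb) hxc) hxd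
      (IId.Ns.acts_mul M (mul_mem hxa hxb) hxc (IId.Ns.acts_mul M hxa hxb hXa hXb) hXc) hXd
    rwa [← hAe] at h3
  have h3 := IId.Ns.same_V q.hG S q.h q.hk M hx (mul_mem (mul_mem (mul_mem hxa hxb) hxc) hxd) hA h2 _ (inv_mem hv)
  have e : cm v x = cm v (xa * xb * xc * xd) := by
    have e1 : cm v x = v * (x * v⁻¹ * x⁻¹) := by rw [cm_def]; group
    rw [e1, h3, cm_def]
    group
  rwa [e]

/-- `g = 0` implies `U_0 = 1` -/
theorem Uc_eq_bot : Uc M 0 = ⊥ := by
  obtain ⟨w, hw, hwA⟩ := M.lift fun _ => wm 1 one_ne_zero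
  rw [eq_bot_iff]
  intro n hn
  have h1 : Nc M 0 ≤ Rt M ⊔ MulAut.conj w • Rt M := by
    rw [Nc, closure_le]
    rintro y ⟨x, hx, v, hv, rfl⟩
    obtain ⟨B, hB⟩ := exists_of_Fc hx
    obtain ⟨hxP, hxB⟩ := Al_iff.1 hB
    have e : x * v * x⁻¹ * v⁻¹ = (cm v x)⁻¹ := by rw [cm_def]; group
    rw [e]
    exact inv_mem (cm_mem_supw q hg h0 hw hwA hxP hxB hv)
  have h2 : Rt M ≤ centralizer ((MulAut.conj w • Rt M : Subgroup G) : Set G) := by
    intro r hr
    rw [mem_centralizer_iff]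
    intro y hy
    have hy' := mem_conj.1 hy
    have h1 := conj_mem_zl hw (R_le_V q hy')
    have e : w * (w⁻¹ * y * w) * w⁻¹ = y := by group
    rw [e] at h1
    exact V_comm q h1 (R_le_V q hr)
  obtain ⟨r, hr, y, hy, rfl⟩ := mem_sup_of_comm h2 (h1 hn.1)
  have hy' := mem_conj.1 hy
  have hrV := R_le_V q hr
  have hyV' := R_le_V q hy'
  have ey : y = w * (w⁻¹ * y * w) * w⁻¹ := by group
  have hyV : y ∈ zl (S : Subgroup G) P := by rw [ey]; exact conj_mem_zl hw hyV'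
  obtain ⟨hD0, hD1⟩ := (mem_D (M := M) (mul_mem hrV hyV)).1 hn.2
  rw [e_add hrV hyV] at hD0 hD1
  -- the coordinates of `y`
  have hye : ∀ i, M.e y 0 i = ap (wm (1 : F) one_ne_zero) (M.e (w⁻¹ * y * w) 0) i := by
    intro i
    have h3 := hwA.1 _ hyV' 0
    rw [← ey] at h3
    rw [h3]
  have hline : M.e (w⁻¹ * y * w) 0 1 = 0 := (R_le_Zp q hy').2
  have hy0 : M.e y 0 0 = 0 := by
    rw [hye, NatPair.ap_zero', wm_00, wm_01, hline]
    ring
  have hr0 : M.e r 0 0 = 0 := by rwa [hy0, add_zero] at hD0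
  have hr1 : r = 1 := R_eq_one q hr hr0
  have hy1 : M.e y 0 1 = 0 := by
    have h3 : M.e r 0 1 = 0 := (R_le_Zp q hr).2
    rwa [h3, zero_add] at hD1
  have hz0 : M.e (w⁻¹ * y * w) 0 0 = 0 := by
    rw [hye, NatPair.ap_one', wm_10, wm_11, hline] at hy1
    simpa using hy1
  have hz : w⁻¹ * y * w = 1 := R_eq_one q hy' hz0
  rw [mem_bot, hr1, one_mul, ey, hz]
  group

end main

/-- **`V_P` not split implies `g ≠ 0`.** -/
theorem exists_ne {M : NatK F (S : Subgroup G) P (zl (S : Subgroup G) P) (cv (S : Subgroup G) P) 1} (q : Sit F S P 1)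
    {g : F → G} (hg : IsG M g) (hs : ¬ Splits (S : Subgroup G) P (cv (S : Subgroup G) P)) : ∃ x, g x ≠ 1 := by
  by_contra hcon
  push Not at hcon
  have h1 : SplitPar (S : Subgroup G) P := IId.Ns.splitPar_of_Uc q.hG S q.h (Uc_eq_bot q hg hcon)
  exact hs ⟨vx (S : Subgroup G) P, HOne.vx_le _ _, HOne.le_normalizer_vx _ _, h1, (IId.Cv.sup_eq M).ge⟩

end Cfsg.Agent.Omega.NOThreeL.RF

end

-- merged: Cfsg.Agent.Mrg.Omega.NOThreeL.RFEnd.Final
section

/-!
# NO-3L, `R ∩ (A)`, `k = 1`, fields (NsF), (f) END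

**`HypF.false`** : the frame `HypF` is contradictory.
-/

set_option autoImplicit false

namespace Cfsg.Agent.Omega.NOThreeL.RFEnd

open Subgroup Cfsg

universe u

variable {G : Type u} [Group G] [Finite G] {F : Type} [Field F] {e : G → Fin 2 → F} {S : Sylow 2 G}
  {P H Zp Rp Dp B : Subgroup G}

/-- **(f) END** -/
theorem HypF.false (D : HypF e S P H Zp Rp Dp B) : False :=
  D.false_of fun _ _ _ _ _ _ _ _ Q O => D.qpv Q O

end Cfsg.Agent.Omega.NOThreeL.RFEnd

end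

-- merged: Cfsg.Agent.Mrg.Omega.NOThreeL.RF.InstF
section

/-!
# NO-3L, `R ∩ (A)`, `k = 1`, nonsplit, fields (`NsF`): the frame `RFEnd.HypF` at `H*`

`L : Four M g` (837), `D : HypM S P H₀`, `C_Z(P) ≠ 1`.

* `exists_star` : `H*` minimal with `TB M ≤ H* ≤ N_G(R)`, `V ≰ O₂(H*)`;
* **`exists_hypF`** : `∃ H B, RFEnd.HypF (co M) S P H (Zp M) (Rt M) (cv S P) B`;
* **`false_of`** : contradiction (with `RFEnd.HypF.false`).
-/

set_option autoImplicit false
set_option linter.unusedSectionVars false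

namespace Cfsg.Agent.Omega.NOThreeL.RF.InstF

open Subgroup Cfsg Cfsg.Agent.Omega.MinPar
open Cfsg.Agent.ZN (zc zl o2)
open Cfsg.Agent.Omega.Frame Cfsg.Agent.Omega.FrameNOFF
open Cfsg.Agent.Omega.Node.NO3L Cfsg.Agent.Omega.NOThreeL.Basic
open Cfsg.Agent.Omega.NoFF.Basic (conj_conj mem_conj conj_le_iff conj_le_centralizer comm_symm comm_mono)
open Cfsg.Agent.Omega.NOThreeL.Pair (conj_eq_of_mem)
open Cfsg.Agent.MinSimple.VModule (zl_le zc_le_zl le_normalizer_zl zc_le o2_isPGroup le_normalizer_o2 le_o2 o2_le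
  normalizer_le_normalizer_zc mem_zc)
open Cfsg.Agent.Omega.NOThreeL (mem_normalizer_of_conj_eq le_normalizer_of mem_sup_of_comm)
open Cfsg.Agent.Omega.NOThreeL.RTools (cm cm_def NN conj_mem_of_mem conj_le_NN le_NN NN_le le_normalizer_NN)
open Cfsg.Agent.Omega.NOThreeL.AOne (Act)
open Cfsg.Agent.Omega.NOThreeL.RFour (mem_centralizer_of_act)
open Cfsg.Agent.Omega.FFThm (NatK ActsSL)
open Cfsg.Agent.Omega.FrameFF (cv)
open Cfsg.Agent.Omega.HOne (cv_le conj_mem_zl conj_mem_cv)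
open Cfsg.Agent.Omega.IId.ThmCQ.Nsp
open Cfsg.Agent.Omega.NOThreeL.RF.Pre
open Cfsg.Agent.Lib.SL2Mat
open Cfsg.Agent.Omega.NatPair (ap ap_mul ap_one ap_inv_ap)
open scoped Pointwise commutatorElement

universe u

variable {G : Type u} [Group G] [Finite G]

/-- `A ≤ O₂(C)`, `A ≤ H`, `[A, U] = 1` with `Z ≤ U` normal in `H` imply `A ≤ O₂(H)`. -/
theorem le_o2_of_comm' {S A H U : Subgroup G} (hA : A ≤ o2 (CZ S)) (hAH : A ≤ H) (hU : zc S ≤ U)
    (hHU : H ≤ normalizer (U : Set G)) (h : A ≤ centralizer (U : Set G)) : A ≤ o2 H := by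
  have hK : H ⊓ centralizer (U : Set G) ≤ CZ S := inf_le_right.trans (centralizer_le hU)
  have h1 : A ≤ o2 (H ⊓ centralizer (U : Set G)) := Four.le_o2_of_le hK (le_inf hAH h) hA
  refine h1.trans (le_o2 ((o2_le _).trans inf_le_left) (o2_isPGroup _) ?_)
  have h2 : H ≤ normalizer ((H ⊓ centralizer (U : Set G) : Subgroup G) : Set G) := by
    refine le_normalizer_of fun k hk x hx => mem_inf.2 ⟨mul_mem (mul_mem hk (mem_inf.1 hx).1) (inv_mem hk), ?_⟩
    rw [mem_centralizer_iff]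
    intro y hy
    have hy' : k⁻¹ * y * k ∈ U := by
      have h3 := conj_mem_of_mem (hHU (inv_mem hk)) hy
      rwa [inv_inv] at h3
    have h4 := mem_centralizer_iff.1 (mem_inf.1 hx).2 _ hy'
    calc y * (k * x * k⁻¹) = k * ((k⁻¹ * y * k) * x) * k⁻¹ := by group
      _ = k * (x * (k⁻¹ * y * k)) * k⁻¹ := by rw [h4]
      _ = k * x * k⁻¹ * y := by group
  exact h2.trans (Cfsg.Agent.Omega.normalizer_le_normalizer_o2' _)

variable {F : Type} [Field F] [Finite F] [CharP F 2] {S : Sylow 2 G} {P : Subgroup G}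
  {M : NatK F (S : Subgroup G) P (zl (S : Subgroup G) P) (cv (S : Subgroup G) P) 1}

/-- `H*` -/
theorem exists_star (q : Sit F S P 1) (hV : ¬ zl (S : Subgroup G) P ≤ o2 (centralizer (Rt M : Set G))) :
    ∃ H : Subgroup G, TB M ≤ H ∧ H ≤ normalizer (Rt M : Set G) ∧ ¬ zl (S : Subgroup G) P ≤ o2 H ∧
      ∀ K : Subgroup G, TB M ≤ K → K ≤ H → K ≠ H → zl (S : Subgroup G) P ≤ o2 K := by
  classical
  let s : Set (Subgroup G) := {H | TB M ≤ H ∧ H ≤ normalizer (Rt M : Set G) ∧ ¬ zl (S : Subgroup G) P ≤ o2 H}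
  have hVR : zl (S : Subgroup G) P ≤ centralizer (Rt M : Set G) := by
    intro v hv
    rw [mem_centralizer_iff]
    intro r hr
    exact V_comm q (R_le_V q hr) hv
  have hs : s.Nonempty := ⟨normalizer (Rt M : Set G), TB_norm_R, le_rfl, fun h =>
    hV (Four.le_o2_of_le (centralizer_le_normalizer _) hVR h)⟩
  obtain ⟨H, hH⟩ := (Set.toFinite s).exists_minimal hs
  obtain ⟨⟨h1, h2, h3⟩, h4⟩ := hH
  refine ⟨H, h1, h2, h3, fun K h5 h6 h7 => ?_⟩
  by_contra h8
  exact h7 (le_antisymm h6 (h4 ⟨h5, h6.trans h2, h8⟩ h6))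

variable {g : F → G} (L : Four M g)
include L

/-- **The frame of (f).** -/
theorem exists_hypF {H₀ : Subgroup G} (D : HypM S P H₀) (hE : zc (S : Subgroup G) ⊓ centralizer (P : Set G) ≠ ⊥) :
    ∃ H B : Subgroup G, RFEnd.HypF (co M) S P H (Zp M) (Rt M) (cv (S : Subgroup G) P) B := by
  have q := L.sit
  have hgs := (L.bij D).2
  obtain ⟨H, hBH, hHR, hVH, hmin⟩ := exists_star q (L.not_le D)
  have hSH : (S : Subgroup G) ≤ H := (S_le_TB q).trans hBH
  have hVS := V_le_S q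
  have hVH' : zl (S : Subgroup G) P ≤ H := hVS.trans hSH
  have hR2 : IsPGroup 2 (Rt M) := S.isPGroup'.to_le ((R_le_V q).trans hVS)
  have hloc : IsLoc (S : Subgroup G) H :=
    (isLoc_normalizer S hR2 (Zf_ne_bot q 0) (S_norm_R q)).of_le S hSH hHR
  set U := zl (S : Subgroup G) H with hUdef
  have hHU : H ≤ normalizer (U : Set G) := le_normalizer_zl _ _
  have hZU : zc (S : Subgroup G) ≤ U := zc_le_zl _ _
  have hne : ¬ zl (S : Subgroup G) P ≤ centralizer (U : Set G) := fun h =>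
    hVH (le_o2_of_comm' (L.data.low P L.par) hVH' hZU hHU h)
  have hUS : U ≤ (S : Subgroup G) := ((hloc.zl_le S L.hc).trans (zc_le _)).trans (hloc.o2_le S)
  have hBU : TB M ≤ normalizer (U : Set G) := hBH.trans hHU
  have hRU : Rt M ≤ U := R_le_of q hZU hBU
  have hUab : ∀ x ∈ U, ∀ y ∈ U, x * y = y * x := fun x hx y hy =>
    mem_centralizer_iff.mp ((Pair.zl_abel L.hc S hloc).1 hy) x hx
  have hUL : U ≤ LS M := fun u hu => L.S0R u (hUS hu) fun r hr => hUab u hu r (hRU hr)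
  have hcmU : ∀ v ∈ zl (S : Subgroup G) P, ∀ u ∈ U, cm v u ∈ U := by
    intro v hv u hu
    have e1 : cm v u = (v * u * v⁻¹) * u⁻¹ := by rw [cm_def]
    rw [e1]
    exact mul_mem (conj_mem_of_mem (hHU (hVH' hv)) hu) (inv_mem hu)
  have hZpU : Zp M ≤ U := Zp_le_of q L.isG hUL hBU hne hgs hcmU hRU
  have hNR : NN (S : Subgroup G) P H ≤ centralizer (Rt M : Set G) := by
    refine NN_le fun x hx => ?_
    intro a ha
    rw [mem_conj] at ha
    rw [mem_centralizer_iff]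
    intro r hr
    have hr' : x⁻¹ * r * x ∈ Rt M := by
      have h3 := conj_mem_of_mem (hHR (inv_mem hx)) hr
      rwa [inv_inv] at h3
    have h4 := V_comm q (R_le_V q hr') ha
    calc r * a = x * ((x⁻¹ * r * x) * (x⁻¹ * a * x)) * x⁻¹ := by group
      _ = x * ((x⁻¹ * a * x) * (x⁻¹ * r * x)) * x⁻¹ := by rw [h4]
      _ = a * r := by group
  have hNH : NN (S : Subgroup G) P H ≤ H := NN_le fun x hx => by
    have h1 := conj_le_iff (g := x).2 hVH'
    rwa [conj_eq_of_mem (Subgroup.le_normalizer hx)] at h1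
  refine ⟨H, TB M, ?_⟩
  exact
    { hc := L.hc
      data := L.data
      par := L.par
      loc := hloc
      ne := hne
      mul := fun v hv w hw => by
        show M.e (v * w) 0 = _
        rw [M.mul v hv w hw]
        rfl
      surj := fun x => by
        obtain ⟨v, hv, h⟩ := M.surj fun _ => x
        exact ⟨v, hv, by show M.e v 0 = x; rw [h]⟩
      ker := fun v hv => by
        rw [mem_D (M := M) hv]
        constructor
        · intro h
          have h' : M.e v 0 = 0 := h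
          exact ⟨congrFun h' 0, congrFun h' 1⟩
        · rintro ⟨h1, h2⟩
          show M.e v 0 = 0
          exact NatPair.ext2 h1 h2
      line := fun v hv => ⟨fun h => ⟨hv, h⟩, fun h => h.2⟩
      lift := fun A => by
        obtain ⟨x, hx, h⟩ := M.lift fun _ => A
        exact ⟨x, hx, fun v hv => h.1 v hv 0⟩
      up1 := fun u hu => ⟨bet M u, act_iff (bet_LS q (hUL hu))⟩
      up2 := fun b => by
        obtain ⟨u, hu, h⟩ := full q hUL hBU hne b
        refine ⟨u, hu, ?_⟩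
        have h1 := act_iff (bet_LS q (hUL hu))
        rwa [h] at h1
      cent := fun x hx h => by
        have hxP : x ∈ P := q.h.le (hUS hx)
        exact mem_centralizer_of_act q.hG S q.h M.natOver hxP h
      ZV := Zp_le
      ZU := hZpU
      zcZ := Z_le_Zp q
      RZ := R_le_Zp q
      DZ := D_le_Zp
      ZRD := fun z hz => by
        obtain ⟨r, hr, d, hd, rfl⟩ := exists_rd q hz
        exact mul_mem (mem_sup_left hr) (mem_sup_right hd)
      RD := by
        rw [eq_bot_iff]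
        intro x hx
        exact mem_bot.2 (R_inf_D q (mem_inf.1 hx).1 (mem_inf.1 hx).2)
      PD := P_norm_D
      ZUV := by
        refine Zp_le_of q L.isG hUL hBU hne hgs (fun v hv u hu => ?_) le_sup_right
        have e1 : cm v u = ⁅u, v⁆⁻¹ := by rw [cm_def, commutatorElement_def]; group
        rw [e1]
        exact inv_mem (mem_sup_left (commutator_mem_commutator hu hv))
      SB := S_le_TB q
      BP := TB_le_P
      BH := hBH
      BZ := TB_norm_Zp q
      HB := by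
        by_contra hcon
        have hle : NN (S : Subgroup G) P H ⊔ TB M ≤ H := sup_le hNH hBH
        have h1 := hmin _ le_sup_right hle fun h => hcon (by rw [h])
        have h2 : zl (S : Subgroup G) P ≤ o2 (NN (S : Subgroup G) P H) :=
          Four.le_o2_of_le le_sup_left (le_NN _ _ _) h1
        refine hVH (h2.trans (le_o2 ((o2_le _).trans hNH) (o2_isPGroup _) ?_))
        exact (le_normalizer_NN _ _ _).trans (Cfsg.Agent.Omega.normalizer_le_normalizer_o2' _)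
      HRp := hHR
      NR := hNR
      SN := fun s hs => by
        obtain ⟨h1, h2⟩ := mem_inf.1 hs
        have h3 : s ∈ LS M := L.S0R s h1 fun r hr => (mem_centralizer_iff.1 (hNR h2) r hr).symm
        rw [mem_centralizer_iff]
        intro z hz
        exact (Zp_comm q hz h3).symm
      field := fun s hs h => fld q L.S0R hs h
      gd := L.gd
      good := fun z hz hzR => L.good hz hzR
      tor := fun z hz => tor_mem q hz
      eps := by
        obtain ⟨x, hx, hx1⟩ := (bot_or_exists_ne_one _).resolve_left hE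
        refine ⟨x, mem_inf.2 ⟨(mem_inf.1 hx).1, mem_inf.2 ⟨zc_le_zl _ _ (mem_inf.1 hx).1, ?_⟩⟩, hx1⟩
        exact centralizer_le (Cfsg.Agent.MinSimple.VModule.oddGen_le P) (mem_inf.1 hx).2 }

/-- **`Four` is contradictory**: (f) END of #22083. -/
theorem false_of {H₀ : Subgroup G} (D : HypM S P H₀)
    (hE : zc (S : Subgroup G) ⊓ centralizer (P : Set G) ≠ ⊥) : False := by
  obtain ⟨H, B, h⟩ := exists_hypF L D hE
  exact h.false

end Cfsg.Agent.Omega.NOThreeL.RF.InstF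

end

-- merged: Cfsg.Agent.Mrg.Omega.NOThreeL.RF.Final
section

/-!
# NO-3L, `R ∩ (A)`, `NsF`: the assembly

* `NormDF` : `N_G(Z⁺)` normalises `D` (F3) as a socket; `nsF_of` : `NormDF` implies `RTreeA.NsF`;
* **`nsF`** : `RTreeA.NsF` (`k = 1`, not split, field automorphisms).
-/

set_option autoImplicit false

namespace Cfsg.Agent.Omega.NOThreeL.RF

open Subgroup Cfsg Cfsg.Agent.Omega.MinPar
open Cfsg.Agent.ZN (zc zl o2)
open Cfsg.Agent.Omega.Node.NO3L Cfsg.Agent.Omega.NOThreeL.Basic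
open Cfsg.Agent.Omega.NOThreeL.RTreeA (BigA Splits SplitBy)
open Cfsg.Agent.Omega.FFThm (NatK NatKM)
open Cfsg.Agent.Omega.FrameFF (cv)
open Cfsg.Agent.Omega.IId.ThmCQ.Nsp
open scoped Pointwise

universe u

/-- F3 as a socket. -/
def NormDF : Prop :=
  ∀ (G : Type u) [Group G] [Finite G] (S : Sylow 2 G) (P H : Subgroup G) (F : Type) [Field F] [Finite F]
    [CharP F 2], BigA S P H F 1 →
      ∀ M : NatK F (S : Subgroup G) P (zl (S : Subgroup G) P) (cv (S : Subgroup G) P) 1,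
        ¬ Splits (S : Subgroup G) P (cv (S : Subgroup G) P) →
          ¬ (∀ x : F, ∃ z ∈ zc (S : Subgroup G), M.e z 0 = ![x, 0]) →
            ∀ (_ : Sit F S P 1) (g : F → G), IsG M g →
              ∀ x ∈ normalizer (Zp M : Set G), MulAut.conj x • cv (S : Subgroup G) P = cv (S : Subgroup G) P

theorem nsF_of (h3 : NormDF.{u}) : RTreeA.NsF.{u} := by
  intro G _ _ S P H F _ _ _ h M hS hx
  have q : Sit F S P 1 := sit_of h
  obtain ⟨g, hg⟩ := exists_isG (M := M.toNatK) q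
  have L : Four M.toNatK g :=
    Four.of h.data q hg (exists_ne q hg hS) (h3 G S P H F h M.toNatK hS hx q g hg)
  exact InstF.false_of L (hypM_of h) (inf_ne h hS)

/-- **`NsF`**: `V_P` natural `SL₂(F)`, not split, `|Z/C_Z(P)| < |F|`. -/
theorem nsF : RTreeA.NsF.{u} :=
  nsF_of fun _ _ _ _ _ _ _ _ _ _ h _ _ hx q _ hg => NsF.norm_D q hg (hypM_of h) hx

end Cfsg.Agent.Omega.NOThreeL.RF

end

-- merged: Cfsg.Agent.Mrg.Omega.NOThreeL.RRed.Line
section

section


/-!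
# NO-3L, box R, the smallest shape: L0 of #21468

`Sm.line` : for `P ∈ P*(S)`, `|Z| = 4`, `|V_P| = 8`: `V_P = ⟨z, u⟩ × ⟨c⟩`, `P` centralises `c`, `⟨z, u⟩` is a natural
`SL₂(2)`-module for `P` (an element of `S` which moves `V_P` is a transvection, hence an offender: FF theorem).
-/

set_option autoImplicit false
set_option linter.unusedSectionVars false

namespace Cfsg.Agent.Omega.NOThreeL.RRed

open Subgroup Cfsg Cfsg.Agent.ZN Cfsg.Agent.Omega.MinPar Cfsg.Agent.Omega.Frame Cfsg.Agent.Omega.FrameNOFF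
open Cfsg.Agent.Omega.FrameFF Cfsg.Agent.Omega.FrameMulti
open Cfsg.Agent.Omega.FFThm (ElemM OffM NoOverM relIndex_le_iff)
open Cfsg.Agent.MinSimple.VModule (zc_le_zl zc_comm)
open Cfsg.Agent.Omega.BTwo (conj_mem_of_normalizer)

universe u

variable {G : Type u} [Group G] [Finite G] {S : Sylow 2 G}

/-- A member of `P*(S)` with `|V_P| = 2 |Z|`, `[V_P, S] ≠ 1` satisfies the conclusion of the FF theorem. -/
theorem typed_of_two (hG : IsCharacteristicTwoType G) {P : Subgroup G} (hP : IsParS (S : Subgroup G) P)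
    (c : Nat.card (zl (S : Subgroup G) P) = 2 * Nat.card (zc (S : Subgroup G))) :
    Typed (S : Subgroup G) P := by
  have hZV : zc (S : Subgroup G) ≤ zl (S : Subgroup G) P := zc_le_zl _ _
  have hle : zl (S : Subgroup G) P ≤ zc (o2 P) := hP.isLoc.zl_le S hG
  have hVS : zl (S : Subgroup G) P ≤ (S : Subgroup G) := (hle.trans (zc_le _)).trans (hP.isLoc.o2_le S)
  have hz : 0 < Nat.card (zc (S : Subgroup G)) := Nat.card_pos
  -- `S` does not centralise `V`
  have hs : ¬ (S : Subgroup G) ≤ centralizer (zl (S : Subgroup G) P : Set G) := by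
    intro h1
    have h2 : zl (S : Subgroup G) P ≤ zc (S : Subgroup G) := fun v hv =>
      mem_zc.2 ⟨hVS hv, fun s hs => (mem_centralizer_iff.1 (h1 hs) v hv).symm, MinSimple.VModule.zc_sq _ _ (hle hv)⟩
    have h3 := Nat.card_le_card_of_injective _ (inclusion_injective h2)
    omega
  obtain ⟨s, hsS, hsV⟩ := SetLike.not_le_iff_exists.1 hs
  -- the index of `Z` in `V`
  have hidx : (zc (S : Subgroup G)).relIndex (zl (S : Subgroup G) P) = 2 := by
    have h1 := relIndex_inf_mul_relIndex (⊥ : Subgroup G) (zc (S : Subgroup G)) (zl (S : Subgroup G) P)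
    rw [relIndex_bot_left, bot_inf_eq, relIndex_bot_left, inf_eq_left.2 hZV, c, mul_comm] at h1
    exact Nat.eq_of_mul_eq_mul_right hz h1
  have hidx' : ((zc (S : Subgroup G)).subgroupOf (zl (S : Subgroup G) P)).index = 2 := hidx
  have key : ∀ v ∈ zl (S : Subgroup G) P, ∃ w ∈ zc (S : Subgroup G), s * v * s⁻¹ = v * w := by
    intro v hv
    have hsv : s * v * s⁻¹ ∈ zl (S : Subgroup G) P :=
      conj_mem_of_normalizer (MinSimple.VModule.le_normalizer_zl _ _ (hP.le hsS)) hv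
    refine ⟨v⁻¹ * (s * v * s⁻¹), ?_, by group⟩
    have h1 := mul_mem_iff_of_index_two hidx' (a := ⟨v⁻¹, inv_mem hv⟩) (b := ⟨s * v * s⁻¹, hsv⟩)
    have h2 : (⟨v⁻¹, inv_mem hv⟩ * ⟨s * v * s⁻¹, hsv⟩ : zl (S : Subgroup G) P) ∈
        (zc (S : Subgroup G)).subgroupOf (zl (S : Subgroup G) P) := by
      rw [h1, mem_subgroupOf, mem_subgroupOf]
      simp only
      rw [inv_mem_iff]
      constructor
      · intro hvZ
        rw [(mem_zc.1 hvZ).2.1 s hsS, mul_inv_cancel_right]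
        exact hvZ
      · intro hvZ
        have h3 := (mem_zc.1 hvZ).2.1 s⁻¹ (inv_mem hsS)
        have h4 : v = s * v * s⁻¹ := by
          calc v = s⁻¹ * (s * v * s⁻¹) * s := by group
            _ = s * v * s⁻¹ := by rw [h3]; group
        rw [h4]; exact hvZ
    exact mem_subgroupOf.1 h2
  have hs2 : s * s ∈ centralizer (zl (S : Subgroup G) P : Set G) := by
    rw [mem_centralizer_iff]
    intro v hv
    obtain ⟨w, hw, h1⟩ := key v hv
    have h2 := (mem_zc.1 hw).2.1 s hsS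
    have h3 : w * w = 1 := by rw [← pow_two]; exact (mem_zc.1 hw).2.2
    have h4 : s * s * v * (s * s)⁻¹ = v := by
      calc s * s * v * (s * s)⁻¹ = s * (s * v * s⁻¹) * s⁻¹ := by group
        _ = s * (v * w) * s⁻¹ := by rw [h1]
        _ = (s * v * s⁻¹) * (s * w * s⁻¹) := by group
        _ = v * w * w := by rw [h1, h2, mul_inv_cancel_right]
        _ = v := by rw [mul_assoc, h3, mul_one]
    calc v * (s * s) = (s * s * v * (s * s)⁻¹) * (s * s) := by rw [h4]
      _ = s * s * v := by group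
  have hA : zpowers s ≤ (S : Subgroup G) := by rw [zpowers_le]; exact hsS
  have hcomm : ∀ a ∈ zpowers s, ∀ b ∈ zpowers s, a * b = b * a := by
    rintro _ ⟨i, rfl⟩ _ ⟨j, rfl⟩
    exact zpow_mul_comm s i j
  have hoff : OffM (zl (S : Subgroup G) P) (zpowers s) := by
    refine ⟨⟨?_, ?_⟩, ?_, ?_⟩
    · rintro _ ⟨i, rfl⟩
      have e : (s ^ i) ^ 2 = (s * s) ^ i := by
        rw [← pow_two, ← zpow_natCast, ← zpow_natCast, ← zpow_mul, ← zpow_mul, mul_comm]
      change (s ^ i) ^ 2 ∈ _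
      rw [e]
      exact zpow_mem hs2 i
    · intro a ha b hb
      rw [hcomm a ha b hb]
      have e : b * a * a⁻¹ * b⁻¹ = 1 := by group
      rw [e]; exact one_mem _
    · intro h1
      exact hsV (h1 (mem_zpowers s))
    · rw [relIndex_le_iff]
      have h1 : (centralizer (zpowers s : Set G)).relIndex (zl (S : Subgroup G) P) ≤ 2 := by
        refine le_trans (relIndex_le_of_le_left (H := zc (S : Subgroup G)) ?_ (by rw [hidx]; norm_num)) hidx.le
        intro w hw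
        rw [mem_centralizer_iff]
        intro a ha
        exact (mem_zc.1 hw).2.1 a (hA ha)
      refine h1.trans ?_
      have h2 : (centralizer (zl (S : Subgroup G) P : Set G)).relIndex (zpowers s) ≠ 0 :=
        index_ne_zero_of_finite
      have h3 : (centralizer (zl (S : Subgroup G) P : Set G)).relIndex (zpowers s) ≠ 1 := by
        rw [Ne, relIndex_eq_one]
        intro h4
        exact hsV (h4 (mem_zpowers s))
      omega
  obtain ⟨h1, h2⟩ := FFBr.ffthmM G (S : Subgroup G) P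
    (FFThm.syl_of_sylow S hP.le) hP.toIsMinPar
    (hP.isLoc.char2 S hG) ⟨zpowers s, hA.trans hP.le, hoff⟩
  refine ⟨h1.noOver, ?_⟩
  rcases h2 with ⟨F, i1, i2, i3, k, hk, ⟨M⟩⟩ | ⟨k, m, hk, hm, ⟨M⟩⟩
  · exact Or.inl ⟨F, i1, i2, i3, k, hk, ⟨M.toNatK⟩⟩
  · exact Or.inr ⟨k, m, hk, hm, ⟨M.toSymK⟩⟩

/-- The split case. -/
theorem Sm.line_of (h : Sm S) {P : Subgroup G} (hP : IsParS (S : Subgroup G) P) {F : Type} [Field F] [Finite F]
    [CharP F 2] (hF : Nat.card F = 2) {N D K : Subgroup G} (M : Mix.RMod F N K)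
    (s : MixOne.Spl P (zl (S : Subgroup G) P) D M) (hPN : P ≤ normalizer (N : Set G)) :
    ∃ z u c, Ln (S : Subgroup G) P z u c := by
  have hG := h.ctx.char2
  have hZV : zc (S : Subgroup G) ≤ zl (S : Subgroup G) P := zc_le_zl _ _
  have hle : zl (S : Subgroup G) P ≤ zc (o2 P) := hP.isLoc.zl_le S hG
  have hVS : zl (S : Subgroup G) P ≤ (S : Subgroup G) := (hle.trans (zc_le _)).trans (hP.isLoc.o2_le S)
  have hsq : ∀ v ∈ zl (S : Subgroup G) P, v * v = 1 := fun v hv => by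
    rw [← pow_two]; exact MinSimple.VModule.zc_sq _ _ (hle hv)
  have hN4 : Nat.card N = 4 := by
    rw [M.card_V, hF]; norm_num
  have hNV : N ≤ zl (S : Subgroup G) P := s.NV
  have hDV : D ≤ zl (S : Subgroup G) P := s.DV
  have hcm : ∀ v ∈ zl (S : Subgroup G) P, ∀ w ∈ zl (S : Subgroup G) P, v * w = w * v := s.comm
  have hSN : (S : Subgroup G) ≤ normalizer (N : Set G) := hP.le.trans hPN
  have hfact : Fact (Nat.Prime 2) := ⟨Nat.prime_two⟩
  -- `|D| = 2`
  have hD2 : Nat.card D = 2 := by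
    let f : N × D → zl (S : Subgroup G) P := fun p => ⟨p.1 * p.2, mul_mem (hNV p.1.2) (hDV p.2.2)⟩
    have hf : Function.Bijective f := by
      constructor
      · rintro ⟨⟨x, hx⟩, ⟨y, hy⟩⟩ ⟨⟨x', hx'⟩, ⟨y', hy'⟩⟩ he
        have e0 : x * y = x' * y' := congrArg Subtype.val he
        have e1 : x'⁻¹ * x = y' * y⁻¹ := by
          calc x'⁻¹ * x = x'⁻¹ * (x * y) * y⁻¹ := by group
            _ = y' * y⁻¹ := by rw [e0]; group
        have e2 : x'⁻¹ * x ∈ N ⊓ D :=
          mem_inf.2 ⟨mul_mem (inv_mem hx') hx, by rw [e1]; exact mul_mem hy' (inv_mem hy)⟩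
        rw [s.inf, mem_bot] at e2
        have e3 : x = x' := (inv_mul_eq_one.1 e2).symm
        subst e3
        have e4 : y = y' := mul_left_cancel e0
        subst e4
        rfl
      · rintro ⟨v, hv⟩
        obtain ⟨n, hn, d, hd, rfl⟩ := s.dec v hv
        exact ⟨(⟨n, hn⟩, ⟨d, hd⟩), rfl⟩
    have h1 := Nat.card_congr (Equiv.ofBijective f hf)
    rw [Nat.card_prod, hN4, h.v8 P hP] at h1
    omega
  -- `z`
  obtain ⟨z, hzN, hzS, hz1⟩ : ∃ z ∈ N, (∀ t ∈ (S : Subgroup G), t * z = z * t) ∧ z ≠ 1 := by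
    have hNb : N ≠ ⊥ := by
      intro h1
      rw [h1, card_bot] at hN4
      omega
    have h1 := Cfsg.Agent.PLocal.OffenderStep.inf_centralizer_ne_bot (p := 2) N (S : Subgroup G)
      (S.isPGroup'.to_le (hNV.trans hVS)) S.isPGroup' hSN hNb
    obtain ⟨⟨z, hz⟩, hz1⟩ := Subgroup.ne_bot_iff_exists_ne_one.1 h1
    exact ⟨z, hz.1, fun t ht => mem_centralizer_iff.1 hz.2 t ht, fun e => hz1 (Subtype.ext e)⟩
  have hzZ : z ∈ zc (S : Subgroup G) :=
    mem_zc.2 ⟨hVS (hNV hzN), hzS, by rw [pow_two]; exact hsq z (hNV hzN)⟩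
  -- `c`
  obtain ⟨⟨c, hcD⟩, hc1'⟩ : ∃ c : D, c ≠ 1 := by
    have : Nontrivial D := Finite.one_lt_card_iff_nontrivial.1 (by rw [hD2]; norm_num)
    exact exists_ne 1
  have hc1 : c ≠ 1 := fun e => hc1' (Subtype.ext e)
  have hDall : ∀ d ∈ D, d = 1 ∨ d = c := by
    intro d hd
    by_contra hcon
    push Not at hcon
    have h3 : Nat.card ({1, c, d} : Set G) ≤ Nat.card D := by
      refine Nat.card_mono (Set.toFinite _) ?_
      rintro x (rfl | rfl | rfl)
      · exact one_mem _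
      · exact hcD
      · exact hd
    have h4 : Nat.card ({1, c, d} : Set G) = 3 := by
      have : ({1, c, d} : Set G).ncard = 3 := by
        rw [Set.ncard_insert_of_notMem (by simp [hc1.symm, hcon.1.symm]) (Set.toFinite _),
          Set.ncard_pair hcon.2.symm]
      exact this
    omega
  have hcP : ∀ p ∈ P, p * c * p⁻¹ = c := fun p hp => by
    rw [← mem_centralizer_iff.1 (s.cen hp) c hcD, mul_inv_cancel_right]
  have hcS : ∀ t ∈ (S : Subgroup G), t * c = c * t := fun t ht =>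
    (mem_centralizer_iff.1 (s.cen (hP.le ht)) c hcD).symm
  have hcZ : c ∈ zc (S : Subgroup G) :=
    mem_zc.2 ⟨hVS (hDV hcD), hcS, by rw [pow_two]; exact hsq c (hDV hcD)⟩
  have hzc : z ≠ c := by
    rintro rfl
    apply hz1
    have : z ∈ N ⊓ D := mem_inf.2 ⟨hzN, hcD⟩
    rw [s.inf, mem_bot] at this
    exact this
  -- `u`
  obtain ⟨u, huN, hu1, huz⟩ : ∃ u ∈ N, u ≠ 1 ∧ u ≠ z := by
    by_contra hcon
    push Not at hcon
    have h3 : (N : Set G) ⊆ {1, z} := by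
      intro x hx
      by_cases h1 : x = 1
      · exact Or.inl h1
      · exact Or.inr (hcon x hx h1)
    have h4 : Nat.card N ≤ Nat.card ({1, z} : Set G) := Nat.card_mono (Set.toFinite _) h3
    have h5 : Nat.card ({1, z} : Set G) ≤ 2 := by
      have h6 := Set.ncard_insert_le (1 : G) {z}
      rw [Set.ncard_singleton] at h6
      exact h6
    omega
  have huu : u * u = 1 := hsq u (hNV huN)
  have hzz : z * z = 1 := hsq z (hNV hzN)
  have huzc : u * z = z * u := hcm u (hNV huN) z (hNV hzN)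
  have huz1 : u * z ≠ 1 := fun e => huz (by
    have h3 : u * z = z * z := by rw [e, hzz]
    exact mul_right_cancel h3)
  have hNall : ∀ x ∈ N, x = 1 ∨ x = z ∨ x = u ∨ x = u * z := by
    intro x hx
    by_contra hcon
    push Not at hcon
    obtain ⟨g1, g2, g3, g4⟩ := hcon
    have h3 : Nat.card ({1, z, u, u * z, x} : Set G) ≤ Nat.card N := by
      refine Nat.card_mono (Set.toFinite _) ?_
      rintro y (rfl | rfl | rfl | rfl | rfl)
      · exact one_mem _
      · exact hzN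
      · exact huN
      · exact mul_mem huN hzN
      · exact hx
    have h4 : Nat.card ({1, z, u, u * z, x} : Set G) = 5 := by
      have : ({1, z, u, u * z, x} : Set G).ncard = 5 := by
        rw [Set.ncard_insert_of_notMem (by simp [hz1.symm, hu1.symm, huz1.symm, g1.symm]) (Set.toFinite _),
          Set.ncard_insert_of_notMem (by simp [huz.symm, hu1, g2.symm]) (Set.toFinite _),
          Set.ncard_insert_of_notMem (by simp [hz1, g3.symm]) (Set.toFinite _),
          Set.ncard_pair g4.symm]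
      exact this
    omega
  have hconj : ∀ p ∈ P, ∀ x ∈ N, p * x * p⁻¹ ∈ N := fun p hp x hx => conj_mem_of_normalizer (hPN hp) hx
  have hne1 : ∀ (p x : G), x ≠ 1 → p * x * p⁻¹ ≠ 1 := fun p x hx e => hx (by
    calc x = p⁻¹ * (p * x * p⁻¹) * p := by group
      _ = 1 := by rw [e]; group)
  refine ⟨z, u, c, ⟨hzZ, hcZ, hz1, hc1, hzc, hNV huN, huu, ?_, ?_, hcP, ?_, ?_, ?_⟩⟩
  · intro t ht
    rcases hNall _ (hconj t (hP.le ht) u huN) with e | e | e | e
    · exact absurd e (hne1 t u hu1)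
    · exfalso
      apply huz
      calc u = t⁻¹ * (t * u * t⁻¹) * t := by group
        _ = t⁻¹ * (z * t) := by rw [e]; group
        _ = z := by rw [← hzS t ht]; group
    · exact Or.inl e
    · exact Or.inr e
  · by_contra hcon
    push Not at hcon
    -- `S` centralises `V`
    have h2 : zl (S : Subgroup G) P ≤ zc (S : Subgroup G) := by
      intro v hv
      refine mem_zc.2 ⟨hVS hv, fun t ht => ?_, by rw [pow_two]; exact hsq v hv⟩
      obtain ⟨n, hn, d, hd, rfl⟩ := s.dec v hv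
      have hu' : t * u = u * t := by
        calc t * u = (t * u * t⁻¹) * t := by group
          _ = u * t := by rw [hcon t ht]
      have hn' : t * n = n * t := by
        rcases hNall n hn with rfl | rfl | rfl | rfl
        · simp
        · exact hzS t ht
        · exact hu'
        · rw [← mul_assoc, hu', mul_assoc, hzS t ht, mul_assoc]
      have hd' : t * d = d * t := by
        rcases hDall d hd with rfl | rfl
        · simp
        · exact hcS t ht
      rw [← mul_assoc, hn', mul_assoc, hd', mul_assoc]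
    have h3 := Nat.card_le_card_of_injective _ (inclusion_injective h2)
    rw [h.v8 P hP, h.z4] at h3
    omega
  · intro p hp
    rcases hNall _ (hconj p hp z hzN) with e | e | e | e
    · exact absurd e (hne1 p z hz1)
    · exact Or.inl e
    · exact Or.inr (Or.inl e)
    · exact Or.inr (Or.inr e)
  · exact s.trans z hzN hz1 u huN hu1
  · intro x hx
    obtain ⟨n, hn, d, hd, rfl⟩ := s.dec x hx
    refine ⟨n, hNall n hn, ?_⟩
    rcases hDall d hd with rfl | rfl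
    · left; simp
    · right; rfl

/-- **L0 of #21468.** -/
theorem Sm.line (h : Sm S) {P : Subgroup G} (hP : IsParS (S : Subgroup G) P) :
    ∃ z u c, Ln (S : Subgroup G) P z u c := by
  have hG := h.ctx.char2
  have hc : Nat.card (zl (S : Subgroup G) P) = 2 * Nat.card (zc (S : Subgroup G)) := by
    rw [h.v8 P hP, h.z4]
  obtain ⟨F, i1, i2, i3, hF, ⟨o⟩⟩ := F4Leaf.NoWrFree.exists_natOver hG (typed_of_two hG hP hc) hP hc
  have hsp := HOne.splitPar_of_two hG S hP o hF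
  obtain ⟨K, M, s⟩ := MixOne.exists_spl hG hP o hsp
  exact h.line_of hP hF M s (MixOne.le_normalizer_vx _ _)

end Cfsg.Agent.Omega.NOThreeL.RRed

end

section


/-! # NO-3L, box R, the smallest shape: the socket `LineS` (L0 of #21468) -/

set_option autoImplicit false

namespace Cfsg.Agent.Omega.NOThreeL.RRed

universe u

theorem lineS : LineS.{u} := fun _ _ _ _ h _ hP => h.line hP

end Cfsg.Agent.Omega.NOThreeL.RRed

end

section


/-!
# NO-3L, box R, the smallest shape: the sockets `SideS`, `SmOf`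

* `sideS : SideS` (L1 of #21468);
* `GlueSig.smOf`, `GlueSig.rsm` : `GlueSig.SmOf K FB`, `GlueSig.RSm K` from `TCR K`.
-/

set_option autoImplicit false

namespace Cfsg.Agent.Omega.NOThreeL.RRed

open Cfsg.Agent.Omega.Frame

universe u

theorem sideS : SideS.{u} := fun _ _ _ _ h => h.side_of fun _ hP => h.line hP

namespace GlueSig

/-- **The smallest shape, from the card.** -/
theorem smOf {K : Cls.{u}} (hT : TCR K) : SmOf K FB.{u} := smOf_of lineS sideS hT

theorem rsm {K : Cls.{u}} (hT : TCR K) : RSm K := rsm_of lineS sideS hT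

end GlueSig

end Cfsg.Agent.Omega.NOThreeL.RRed

end

end

-- merged: Cfsg.Agent.Mrg.Omega.TC.RSix.Six
section

section


/-!
# THEOREM R (bb OMEGA #21425), part (6), in the literal interface of `TC/R/Def.lean`

`D : Fr T V P v`, `V i ≰ N_i` and `(1b)` (`R.OneB T V v i`) for both `i`: contradiction.
No swap, no offender, no `(1a)`.
-/

set_option autoImplicit false

namespace Cfsg.Agent.Omega.TC.RSix

open Subgroup Cfsg Cfsg.Agent.ZN
open Cfsg.Agent.Omega.OM.KTwo (CC QQ WU NU EU)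
open scoped Pointwise

universe u

variable {G : Type u} [Group G] {T : Subgroup G} {V P : Fin 2 → Subgroup G} {v : Fin 2 → G}

theorem oneB_of [Finite G] (h : ∀ i, R.OneB T V v i) : OneB T V v := fun i A hA hm hc =>
  h i A hA hm (hc.trans (centralizer_le (show (WU V v i : Set G) ⊆ (WU V v i ⊔ NU V v i : Subgroup G) from
    (le_sup_left : WU V v i ≤ WU V v i ⊔ NU V v i))))

/-- **#21425 (6)** -/
theorem six' [Finite G] (D : Fr T V P v) (hML : ML.Final.MLK.{u, u}) (hK : ∀ i, IsKGroup (CC v i))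
    (hV : ∀ i, ¬ V i ≤ NU V v i) (h1b : ∀ i, R.OneB T V v i) : False :=
  six D hML hK hV (oneB_of h1b)

end Cfsg.Agent.Omega.TC.RSix

end

section


/-!
# CARD #18791: THEOREM R (helper691 #21425), no swap, no LEMMA FIX, no levels, no THEOREM KL

* **`Fr.thmR`** : `V i ≰ N_i` for both `i` is impossible if `WOff T V i` for both `i`;
* `Fr.thmR_voff` : the same from (V!) (`VOff T`);
* `Fr.thmR_J` : the same if `J(O)` moves both `V i`, `O = O₂(C(Ω₁Z(T)))` (helper609 #23569 (3)).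
-/

set_option autoImplicit false

namespace Cfsg.Agent.Omega.TC

open Subgroup Cfsg Cfsg.Agent.ZN
open Cfsg.Agent.Omega.OM.KTwo (CC QQ WU NU EU)
open Cfsg.Agent.ZN.ChoiceBase (AA)

universe u

namespace Fr

variable {G : Type u} [Group G] [Finite G] {T : Subgroup G} {V P : Fin 2 → Subgroup G} {v : Fin 2 → G}

/-- **(1b)** of #21425 -/
theorem oneB (D : Fr T V P v) (hML : ML.Final.MLK.{u, u}) (hK : ∀ i, IsKGroup (CC v i)) {i : Fin 2}
    (hW : WOff T V i) (hV : ¬ V i ≤ NU V v i) : R.OneB T V v i :=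
  R.oneB D hML hK hV (R.locF' D hML hK hW hV)

/-- **THEOREM R** -/
theorem thmR (D : Fr T V P v) (hML : ML.Final.MLK.{u, u}) (hK : ∀ i, IsKGroup (CC v i)) (hW : ∀ i, WOff T V i)
    (hV : ∀ i, ¬ V i ≤ NU V v i) : False :=
  RSix.six' D hML hK hV fun i => D.oneB hML hK (hW i) (hV i)

/-- **THEOREM R** from (V!) -/
theorem thmR_voff (D : Fr T V P v) (hML : ML.Final.MLK.{u, u}) (hK : ∀ i, IsKGroup (CC v i)) (hB : VOff T)
    (hV : ∀ i, ¬ V i ≤ NU V v i) : False :=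
  D.thmR hML hK (fun i => D.woff hB i) hV

/-- **THEOREM R** from "`J(O)` moves both `V i`" -/
theorem thmR_J (D : Fr T V P v) (hML : ML.Final.MLK.{u, u}) (hK : ∀ i, IsKGroup (CC v i))
    (hJ : ∀ i, ∃ A ∈ AA (o2 (centralizer (zc T : Set G))), ¬ A ≤ centralizer (V i : Set G))
    (hV : ∀ i, ¬ V i ≤ NU V v i) : False :=
  D.thmR hML hK (fun i => by
    obtain ⟨A, hA, hm⟩ := hJ i
    exact D.woff_of_AA hA hm) hV

end Fr

end Cfsg.Agent.Omega.TC

end

end

-- merged: Cfsg.Agent.Mrg.Omega.NOThreeL.RRed.TCR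
section

/-!
# NO-3L, box R: `TCR K` (the frame of CARD #18791 in box R) is empty

* `Two.kgroup`, `Two.hU` : the two inputs of THEOREM KL over `TC.Fr` from `RB S` and `Two S V P v`;
* `tcr_of` : `TCR K` from MLK and THEOREM KL (`NoInp`): `EndR.not_le` ([A], [B]), `EndR.thmG`, `RSix.six'` (THEOREM R).
-/

set_option autoImplicit false
set_option linter.unusedSectionVars false

namespace Cfsg.Agent.Omega.NOThreeL.RRed

open Subgroup Cfsg Cfsg.Agent.ZN Cfsg.Agent.Omega.MinPar Cfsg.Agent.Omega.Frame Cfsg.Agent.Omega.FrameNOFF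
open Cfsg.Agent.Omega.Node.NO3L Cfsg.Agent.Omega.NOThreeL.Basic Cfsg.Agent.Omega.NOThreeL.RTree
open Cfsg.Agent.Omega.OM.KTwo (CC QQ WU NU EU)

universe u

namespace Two

variable {G : Type u} [Group G] [Finite G] {S : Sylow 2 G} {V P : Fin 2 → Subgroup G} {v : Fin 2 → G}
  (T : Two (S : Subgroup G) V P v)

include T

/-- `C_G(v i)` is a `K`-group. -/
theorem kgroup (B : RB S) (i : Fin 2) : IsKGroup (CC v i) := by
  have := B.ctx.simple
  exact B.ctx.kproper _ ((T.isLong i).loc.ne_top S B.ctx.not_isPGroup)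

/-- every `R ∈ P(S)`, `R ≤ C_G(v i)`, which moves `v (i+1)` normalises `V i`. -/
theorem hU : KL.EndR.HU (S : Subgroup G) V v := by
  intro i R hR hRi hRj
  have hIP : IsPar (S : Subgroup G) R := by
    refine ⟨hR, ?_⟩
    exact ((T.isLong i).loc.of_le S hR.le hRi).o2_ne
  refine T.nrm R ⟨hIP, fun h => hRj ?_⟩ i
  exact (NoFF.LinesPlug.le_CC S hIP h).trans (T.CZ_le (i + 1))

end Two

/-- **`TCR K`** -/
theorem tcr_of {K : Cls.{u}} (hML : ML.Final.MLK.{u, u}) (hKL : KL.Quo.NoInp.{u, u}) : TCR K := by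
  intro G _ _ _ S B V P v T D
  exfalso
  have hK := T.kgroup B
  have hU := T.hU
  exact TC.RSix.six' D hML hK (KL.EndR.not_le D hML hKL hK hU)
    (TC.R.oneB_of_thmG D (KL.EndR.thmG D hML hKL hK hU) hML hK)

end Cfsg.Agent.Omega.NOThreeL.RRed

end

-- merged: Cfsg.Agent.Mrg.Omega.Node.NO3LMain
section

/-!
# The leaf NO-3L: current state (assembler helper597)

* `nodeNO3L_open` : from the two open sockets `NotFFG` (common with NO-3S) and `RG`. Plugged in: `A1` (helper863),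
  `A2` (helper69), `A3` (helper823), `A4` (helper884), `VF` = THEOREM NF (helper863, 770, 845, 924), `LOW` = THEOREM
  LOW (`NOThreeL/Low`, helper597, 368, 223, 920, 934, 661, 528, 342, 700, 770, 876, 652);
* `nodeNO3L_openF` : the same from the weakest sockets: `NotFFM` (`Data`, not (A), `V*` not FF, `V* ≤ Q`), `RAbig`,
  `RBzF`, `RBcF` (box R, `V*` FF); THEOREM R-LOW (`RLow/Final.lean`) is plugged in;
* `raBig` : `RTree.RAbig K` (`NsF`: helper162, 295, 368, 322, 837, 835, 799, ...; `NsOne`: helper761, 858, ...);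
* **`nodeNO3L_sig`** : the leaf from `MLK`, `Ext` and `NotFFM`, `TCR` (the smallest shape), `FourOf`, `WideAll`,
  `BrTOf` (all with `V*` FF); THEOREM SIGMA for `Thin S` (helper739, 863, 636, ...) is plugged in;
* **`nodeNO3L_x`** : the same with `NotFFM` replaced by `AbsP` (`NotFFG` = `ExEnd.notFFG_of_absP` (helper111) +
  `BasePt.basePoint` (helper823, 957, 697, 25, 255, 556, 383, 626, 235, 811, 506, 826, ...));
* `nodeNO3L`, `nodeNO3L_caseB`, `nodeNO3L_merge` : the older forms (kept for the top of the tree).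
-/

set_option autoImplicit false

namespace Cfsg.Agent.Omega.Node.NO3LMain

open Cfsg.Agent.Omega.Frame Cfsg.Agent.Omega.NOThreeL

universe u

/-- Case (A) from its open sockets. -/
theorem caseA {K : Cls.{u}} (a4 : Main.A4 K) : Main.CaseAS K :=
  Main.caseA_of FFBr.ffthm (AOne.a1 K) (ATwo.a2 K) (AThree.a3 K) a4

/-- **The leaf NO-3L from its open sockets** (not (A) as one socket). -/
theorem nodeNO3L_caseB {K : Cls.{u}} (r : Main.R K) (a4 : Main.A4 K)
    (b : Main.CaseB K) : FrameNOFF.NodeNO3L K :=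
  Main.nodeNO3L_of r (caseA a4) b

/-- **The leaf NO-3L from its open sockets.** -/
theorem nodeNO3L {K : Cls.{u}} (r : Main.R K) (a4 : Main.A4 K)
    (b1 : Main.B1 K) (b2 : Main.B2 K) (b3 : Main.B3 K) : FrameNOFF.NodeNO3L K :=
  nodeNO3L_caseB r a4 (Main.caseB_of b1 b2 b3)

/-- **The leaf NO-3L, not (A) and R from the common frame with NO-3S.NotFF.** -/
theorem nodeNO3L_merge {K : Cls.{u}} (a4 : Main.A4 K) (h : Merge.NotFFG K) (vf : Merge.VF.{u})
    (low : Merge.LOW K) (r : Merge.RG K) : FrameNOFF.NodeNO3L K :=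
  nodeNO3L_caseB (Merge.r_of h r) a4 (Merge.caseB_of h vf low)

/-- **NO-3L with `C_Z(P) = 1` for all `P ∈ P*(S)`** (the complement of box R) from `NotFFG` alone. -/
theorem caseB {K : Cls.{u}} (h : Merge.NotFFG K) : Main.CaseB K :=
  Merge.caseB_of h NF.vf (Low.low_all K)

/-- The open sockets of the leaf NO-3L. -/
structure Open (K : Cls.{u}) : Prop where
  /-- common with NO-3S -/
  notFFG : Merge.NotFFG K
  /-- box R: `C_Z(P) ≠ 1` for some `P ∈ P*(S)`, `V*` FF or `V* ≰ Q` -/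
  rg : Merge.RG K

/-- **The leaf NO-3L from its open sockets.** -/
theorem nodeNO3L_open {K : Cls.{u}} (h : Merge.NotFFG K) (r : Merge.RG K) : FrameNOFF.NodeNO3L K :=
  nodeNO3L_merge (AFour.a4 K) h NF.vf (Low.low_all K) r

/-- **The leaf NO-3L from its open sockets.** -/
theorem Open.node {K : Cls.{u}} (h : Open K) : FrameNOFF.NodeNO3L K := nodeNO3L_open h.notFFG h.rg

/-! ### The weakest sockets (THEOREM LOW and THEOREM R-LOW plugged in) -/

/-- The open sockets of the leaf NO-3L, weakest forms. -/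
structure OpenF (K : Cls.{u}) : Prop where
  /-- `V*` not FF, `V* ≤ Q` -/
  notFFM : RTreeF.NotFFM K
  /-- box R, case (A) -/
  raBig : RTree.RAbig K
  /-- box R, not (A), `V*` FF, (RC') fails -/
  rbz : RTreeF.RBzF K
  /-- box R, not (A), `V*` FF, (RC') -/
  rbc : RTreeF.RBcF K

/-- **The leaf NO-3L from its weakest open sockets.** -/
theorem nodeNO3L_openF {K : Cls.{u}} (h : RTreeF.NotFFM K) (hq : RTree.RAbig K)
    (hz : RTreeF.RBzF K) (hc : RTreeF.RBcF K) : FrameNOFF.NodeNO3L K :=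
  nodeNO3L_caseB (RTreeF.r_of RLow.parts h hq hz hc) (AFour.a4 K) (RTreeF.caseB_of h)

/-- **Box R (the socket `Merge.RG`) from its weakest open sockets.** -/
theorem rg_openF {K : Cls.{u}} (hq : RTree.RAbig K) (hz : RTreeF.RBzF K) (hc : RTreeF.RBcF K) : Merge.RG K :=
  RTreeF.rg_of RLow.parts hq hz hc

/-- **The leaf NO-3L from its weakest open sockets.** -/
theorem OpenF.node {K : Cls.{u}} (h : OpenF K) : FrameNOFF.NodeNO3L K :=
  nodeNO3L_openF h.notFFM h.raBig h.rbz h.rbc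

/-! ### Case (A) of box R closed, THEOREM SIGMA plugged in -/

/-- **`RTree.RAbig K`** : case (A) of box R. -/
theorem raBig (K : Cls.{u}) : RTree.RAbig K := RRed.GlueSig.raBig_of (RTreeNsF.natBig_of_nsF RF.nsF)

/-- The open sockets of the leaf NO-3L (besides `MLK`, `Ext`). -/
structure OpenSig (K : Cls.{u}) : Prop where
  /-- `V*` not FF, `V* ≤ Q` -/
  notFFM : RTreeF.NotFFM K
  /-- box R, the smallest shape: the frame of CARD #18791 -/
  tcr : RRed.TCR K
  /-- box R, `V*` FF, `RR S = 1`, `|Z| = 4`, `Thin S`, some `|V_P| ≠ 8` -/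
  four : RRed.GlueSig.FourOf K RRed.GlueSig.FBF.{u}
  /-- box R, `V*` FF, `RR S = 1`, some `|Z : C_Z(P)| ≥ 4` -/
  wide : RRed.GlueSig.WideAll K RRed.GlueSig.FBF.{u}
  /-- box R, `V*` FF, `RR S ≠ 1` -/
  br : RRed.GlueSig.BrTOf K RRed.GlueSig.FBF.{u}

/-- **The leaf NO-3L from its open sockets**, THEOREM SIGMA plugged in. -/
theorem nodeNO3L_sig {K : Cls.{u}} (ml : ML.Final.MLK.{u, u}) (hE : ML.Ex.Two.Ext.{u, u})
    (h : RTreeF.NotFFM K) (hT : RRed.TCR K) (h4 : RRed.GlueSig.FourOf K RRed.GlueSig.FBF.{u})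
    (hw : RRed.GlueSig.WideAll K RRed.GlueSig.FBF.{u}) (hr : RRed.GlueSig.BrTOf K RRed.GlueSig.FBF.{u}) :
    FrameNOFF.NodeNO3L K := by
  have hσ : RRed.GlueSig.SigTOf K RRed.GlueSig.FBF.{u} :=
    RRed.GlueSig.SigTOf.mono RRed.GlueSig.toRB (RRed.GlueSig.sigTOf_of_rsig (Sigma.Rank.rsigT ml hE))
  have hs : RRed.GlueSig.SmOf K RRed.GlueSig.FBF.{u} :=
    RRed.GlueSig.SmOf.mono RRed.GlueSig.toRB (RRed.GlueSig.smOf hT)
  exact nodeNO3L_openF h (raBig K) (RRed.GlueSig.rbzFT_sig hσ hs h4 hw hr) (RRed.GlueSig.rbcFT_sig hσ hs h4 hw)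

/-- **The leaf NO-3L from its open sockets**, THEOREM SIGMA plugged in. -/
theorem OpenSig.node {K : Cls.{u}} (ml : ML.Final.MLK.{u, u}) (hE : ML.Ex.Two.Ext.{u, u}) (h : OpenSig K) :
    FrameNOFF.NodeNO3L K := nodeNO3L_sig ml hE h.notFFM h.tcr h.four h.wide h.br

/-! ### `NotFFG` closed modulo `AbsP` -/

/-- **`Merge.NotFFG K`** from `AbsP` (the abstract exact end). -/
theorem notFFG {K : Cls.{u}} (ml : ML.Final.MLK.{u, u}) (hX : NO3b.EndX.AbsP.{u, u}) : Merge.NotFFG K :=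
  NO3b.ExEnd.notFFG_of_absP ml hX NO3b.BasePt.basePoint

/-- **`RTreeF.NotFFM K`** from `AbsP`. -/
theorem notFFM {K : Cls.{u}} (ml : ML.Final.MLK.{u, u}) (hX : NO3b.EndX.AbsP.{u, u}) : RTreeF.NotFFM K :=
  RTreeF.NotFFM.of_G (notFFG ml hX)

/-- The open sockets of the leaf NO-3L about box R (besides `MLK`, `Ext`, `AbsP`). -/
structure OpenR (K : Cls.{u}) : Prop where
  /-- box R, the smallest shape: the frame of CARD #18791 -/
  tcr : RRed.TCR K
  /-- box R, `V*` FF, `RR S = 1`, `|Z| = 4`, `Thin S`, some `|V_P| ≠ 8` -/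
  four : RRed.GlueSig.FourOf K RRed.GlueSig.FBF.{u}
  /-- box R, `V*` FF, `RR S = 1`, some `|Z : C_Z(P)| ≥ 4` -/
  wide : RRed.GlueSig.WideAll K RRed.GlueSig.FBF.{u}
  /-- box R, `V*` FF, `RR S ≠ 1` -/
  br : RRed.GlueSig.BrTOf K RRed.GlueSig.FBF.{u}

/-- **The leaf NO-3L** from `MLK`, `Ext`, `AbsP` and the four sockets of box R. -/
theorem nodeNO3L_x {K : Cls.{u}} (ml : ML.Final.MLK.{u, u}) (hE : ML.Ex.Two.Ext.{u, u})
    (hX : NO3b.EndX.AbsP.{u, u}) (h : OpenR K) : FrameNOFF.NodeNO3L K :=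
  nodeNO3L_sig ml hE (notFFM ml hX) h.tcr h.four h.wide h.br

end Cfsg.Agent.Omega.Node.NO3LMain

end

-- merged: Cfsg.Agent.Mrg.Omega.Node.NO3LDone
section

section


/-!
# The leaf NO-3L with (ML), the K-lists, `NotFFG` and `TCR` plugged in

* `notFFM : RTreeF.NotFFM K`, `tcr : RRed.TCR K` : theorems;
* `nodeNO3L_done` : the leaf NO-3L from `Ext`, `FourOf`, `WideAll`, `BrTOf` (box R, `V*` FF);
* **`OpenB.node`** : the same without `Ext` (helper585's `ML.Ex.Two.ext`).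
-/

set_option autoImplicit false

namespace Cfsg.Agent.Omega.Node.NO3LDone

open Cfsg.Agent.Omega.Frame Cfsg.Agent.Omega.NOThreeL

universe u

/-- **`RTreeF.NotFFM K`**. -/
theorem notFFM (K : Cls.{u}) : RTreeF.NotFFM K := RTreeF.NotFFM.of_G NO3b.BasePt.Done.notFFG

/-- **`RRed.TCR K`**: the smallest shape of box R. -/
theorem tcr (K : Cls.{u}) : RRed.TCR K := RRed.tcr_of ML.KnownAll.mlk KL.NoInp.noInp

/-- The last open sockets of the leaf NO-3L (box R, not (A), `V*` FF). -/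
structure OpenB (K : Cls.{u}) : Prop where
  /-- `RR S = 1`, `|Z| = 4`, `Thin S`, some `|V_P| ≠ 8`, (L2) -/
  four : RRed.GlueSig.FourOf K RRed.GlueSig.FBF.{u}
  /-- `RR S = 1`, some `|Z : C_Z(P)| ≥ 4` -/
  wide : RRed.GlueSig.WideAll K RRed.GlueSig.FBF.{u}
  /-- `RR S ≠ 1`, (L2) if `Thin S` -/
  br : RRed.GlueSig.BrTOf K RRed.GlueSig.FBF.{u}

/-- **The leaf NO-3L** from `Ext` and the three sockets of box R. -/
theorem nodeNO3L_done {K : Cls.{u}} (hE : ML.Ex.Two.Ext.{u, u}) (h : OpenB K) : FrameNOFF.NodeNO3L K :=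
  NO3LMain.nodeNO3L_sig ML.KnownAll.mlk hE (notFFM K) (tcr K) h.four h.wide h.br

/-- **The leaf NO-3L** from the three sockets of box R. -/
theorem OpenB.node {K : Cls.{u}} (h : OpenB K) : FrameNOFF.NodeNO3L K := nodeNO3L_done ML.Ex.Two.ext h

end Cfsg.Agent.Omega.Node.NO3LDone

end

section


/-!
# The leaf NO-3L over a refined (RC')

`Ref G S` : any property with `RBF S → Ref G S → RR S = 1`.  `OpenRef K Ref` : the three sockets of helper858's
`RRed/GlueRef` and this implication; **`OpenRef.node`** : the leaf NO-3L, no other hypothesis.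
-/

set_option autoImplicit false

namespace Cfsg.Agent.Omega.Node.NO3LRef

open Cfsg.Agent.Omega.Frame Cfsg.Agent.Omega.NOThreeL
open Cfsg.Agent.Omega.NOThreeL.RRed.GlueSig

universe u

/-- The last open sockets of the leaf NO-3L (box R, not (A), `V*` FF), refined by `Ref`. -/
structure OpenRef (K : Cls.{u}) (Ref : Fr.{u}) : Prop where
  /-- `Ref` implies `RR S = 1` -/
  rr : ∀ (G : Type u) [Group G] [Finite G] (S : Sylow 2 G), RTreeF.RBF S → Ref G S →
    RZ.RR (S : Subgroup G) = ⊥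
  /-- `Ref`, `|Z| = 4`, `Thin S`, some `|V_P| ≠ 8`, (L2) -/
  four : RRed.GlueSig.FourOf K (RRed.GlueSig.FBR Ref)
  /-- `Ref`, some `|Z : C_Z(P)| ≥ 4` -/
  wide : RRed.GlueSig.WideAll K (RRed.GlueSig.FBR Ref)
  /-- not `Ref`, (L2) if `Thin S` -/
  nr : RRed.GlueSig.NrOf K Ref

/-- `SigTOf K FBF` -/
theorem sigT (K : Cls.{u}) : RRed.GlueSig.SigTOf K RRed.GlueSig.FBF.{u} :=
  RRed.GlueSig.SigTOf.mono RRed.GlueSig.toRB
    (RRed.GlueSig.sigTOf_of_rsig (Sigma.Rank.rsigT ML.KnownAll.mlk ML.Ex.Two.ext))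

/-- `SmOf K FBF` -/
theorem smOf (K : Cls.{u}) : RRed.GlueSig.SmOf K RRed.GlueSig.FBF.{u} :=
  RRed.GlueSig.SmOf.mono RRed.GlueSig.toRB (RRed.GlueSig.smOf (NO3LDone.tcr K))

/-- `RBzF K` -/
theorem OpenRef.rbz {K : Cls.{u}} {Ref : Fr.{u}} (h : OpenRef K Ref) : RTreeF.RBzF K :=
  RRed.GlueSig.rbzF_ref h.rr (sigT K) (smOf K) h.four h.wide h.nr

/-- `RBcF K` -/
theorem OpenRef.rbc {K : Cls.{u}} {Ref : Fr.{u}} (h : OpenRef K Ref) : RTreeF.RBcF K :=
  RRed.GlueSig.rbcF_ref h.rr (sigT K) (smOf K) h.four h.wide h.nr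

/-- **The leaf NO-3L** from the three refined sockets of box R. -/
theorem OpenRef.node {K : Cls.{u}} {Ref : Fr.{u}} (h : OpenRef K Ref) : FrameNOFF.NodeNO3L K :=
  NO3LMain.nodeNO3L_openF (NO3LDone.notFFM K) (NO3LMain.raBig K) h.rbz h.rbc

end Cfsg.Agent.Omega.Node.NO3LRef

end

end
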