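import Cfsg.Agent.Mrg.Omega.KL.TwoZ.NFInter
import Cfsg.Agent.Mrg.Omega.KL.TwoZ.GThree
import Cfsg.Agent.Mrg.Omega.KL.TwoZ.ThmG
import Cfsg.Agent.Mrg.Omega.KL.TwoZ.PTWOf
import Cfsg.Agent.Mrg.Omega.NOThreeL.RRed.WLeftFldEnd
import Cfsg.Agent.Mrg.Omega.NOThreeL.RRed.WLeftPar
import Cfsg.Agent.Mrg.Omega.NOThreeL.RRed.WRunA
import Cfsg.Agent.Mrg.Omega.ML.Ex.Red3
import Cfsg.Agent.Mrg.Omega.NO3b.EndX.AbsAll
import Cfsg.Agent.Mrg.Omega.ML.Ex.Ext
import Cfsg.Agent.Mrg.Omega.ML.Ex.KnownDone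
import Cfsg.Agent.Mrg.Omega.NOThreeL.RRed.Blk.AsmLeftB
import Cfsg.Agent.Mrg.Omega.NOThreeL.RRed.Blk.AsmLet
import Cfsg.Agent.Mrg.Omega.NOThreeL.RRed.Blk.KdRR
import Cfsg.Agent.Mrg.Omega.NOThreeL.RRed.Blk.AsmNBs
import Cfsg.Agent.Mrg.Omega.NOThreeL.RRed.HBadMixOf
import Cfsg.Agent.Mrg.Omega.NOThreeL.RRed.WideTree
import Cfsg.Agent.Mrg.Omega.NOThreeL.RRed.FourNl
import Cfsg.Agent.Mrg.Omega.NOThreeL.QWR.NlTop
import Cfsg.Agent.Mrg.Omega.NOThreeL.QWR.LowM
import Cfsg.Agent.Mrg.Omega.NOThreeL.QWR.Sw.Base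
import Cfsg.Agent.Mrg.Omega.NOThreeL.QWR.AlphaOf
import Cfsg.Agent.Mrg.Omega.NOThreeL.RRed.QFr.Mv
import Cfsg.Agent.Mrg.Omega.NOThreeL.RRed.LevVX
import Cfsg.Agent.Mrg.Omega.NOThreeL.RRed.WLeftBase
import Cfsg.Agent.Mrg.Omega.NOThreeL.RLev.LowZc
import Cfsg.Agent.Mrg.Omega.NOThreeL.RRed.BFr.Top
import Cfsg.Agent.Mrg.Omega.NOThreeL.QWR.RQOf
import Cfsg.Agent.Mrg.Omega.ML.Ex.RowU33X
import Cfsg.Agent.Mrg.Omega.KL.StarD.Def
import Cfsg.Agent.Mrg.Omega.KL.StarM.Sys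
import Cfsg.Agent.Mrg.Omega.ML.KnownAll
import Cfsg.Agent.Mrg.Omega.Landed
import Cfsg.Agent.Mrg.Omega.Node.NO3LDone
import Cfsg.Agent.Mrg.Omega.NOThreeL.RRed.EOneTr
import Cfsg.Agent.Mrg.Omega.NOThreeL.RRed.ClassThm
import Cfsg.Agent.Mrg.Omega.NOThreeL.RRed.LeftData
import Cfsg.Agent.Mrg.Omega.NOThreeL.RRed.HBadNat

-- merged: Cfsg.Agent.Mrg.Omega.KL.TwoZ.NFGOne
section

/-!
# (G1) over the contract frame `NF` of TEXT W2 (helper401)

* `FrN.gOne_all` : THEOREM G* as helper812's `GOne`, both `i`; **`NF.g1'`**; `NF.g3'` : (G3); `NF.k3'` : (K3).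
-/

set_option autoImplicit false
set_option linter.unusedSectionVars false

namespace Cfsg.Agent.Omega.KL.TwoZ

open Subgroup Cfsg Cfsg.Agent.Omega.MinPar
open Cfsg.Agent.ZN (o2 zc)
open Cfsg.Agent.Omega.KL.TwoS (Mx)

universe u

variable {G : Type u} [Group G] [Finite G] {T : Subgroup G} {V Z : Fin 2 → Subgroup G}

theorem FrN.gOne_all (hML : ML.Final.MLK.{u, u}) (hE : ML.Ex.Two.Ext.{u, u}) (D : FrN T V Z)
    (hK : ∀ i, IsKGroup (CC Z i)) : ∀ i, GOne V Z i := fun i A hA hA2 h =>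
  D.g1 hML hE (hK i) (D.ex_false hML hE hK i).1 hA hA2 fun x hx a ha => h a ha x hx

namespace NF

/-- **(G1)** -/
theorem g1' (hML : ML.Final.MLK.{u, u}) (hE : ML.Ex.Two.Ext.{u, u}) (D : NF T V Z) (hK : ∀ i, IsKGroup (CC Z i)) :
    ∀ i, GOne V Z i := D.frN.gOne_all hML hE hK

/-- **(G3)** -/
theorem g3' (hML : ML.Final.MLK.{u, u}) (hE : ML.Ex.Two.Ext.{u, u}) (D : NF T V Z) (hK : ∀ i, IsKGroup (CC Z i)) :
    ∀ i, ∃ A : Subgroup G, Mx (o2 (centralizer (zc T : Set G))) A ∧ A ≤ QQ Z i ∧ ¬ A ≤ centralizer (V i : Set G) :=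
  D.frN.g3 hML hE hK

/-- **(K3)** -/
theorem k3' (hML : ML.Final.MLK.{u, u}) (D : NF T V Z) (hK : ∀ i, IsKGroup (CC Z i)) (i : Fin 2) (B : Subgroup G)
    (hB : B ≤ o2 (centralizer (zc T : Set G))) (hB2 : ∀ b ∈ B, b ^ 2 = 1)
    (he : (centralizer (B : Set G)).relIndex (NN Z i) ≤ (centralizer (NN Z i : Set G)).relIndex B) :
    ∀ n ∈ NN Z i, (∀ b ∈ B, b * n * b⁻¹ * n⁻¹ ∈ Z i) → ∀ b ∈ B, b * n = n * b := by
  intro n hn h b hb
  have h1 := D.frN.k3 hML (hK i) hB hB2 he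
    (show n ∈ D.frN.tN i ((hB.trans D.O_le_T).trans (D.T_le_C i)) from ⟨mem_sup_left hn, h⟩)
  exact mem_centralizer_iff.1 h1 b hb

end NF

end Cfsg.Agent.Omega.KL.TwoZ

end

-- merged: Cfsg.Agent.Mrg.Omega.KL.TwoZ.NFEnd
section

/-!
# TEXT W2 (helper918 #24006): two natural blocks without field automorphisms are impossible

`NF.false` : the frame `NF T V Z` (any `q_0`, `q_1`) with K-groups `C_G(Z i)` is contradictory.
-/

set_option autoImplicit false
set_option linter.unusedSectionVars false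

namespace Cfsg.Agent.Omega.KL.TwoZ

open Subgroup Cfsg Cfsg.Agent.Omega.MinPar

universe u

variable {G : Type u} [Group G] [Finite G] {T : Subgroup G} {V Z : Fin 2 → Subgroup G}

/-- **TEXT W2** -/
theorem NF.false (hML : ML.Final.MLK.{u, u}) (hE : ML.Ex.Two.Ext.{u, u}) (D : NF T V Z)
    (hK : ∀ i, IsKGroup (CC Z i)) : False :=
  (D.ptw hML hK (fun i => D.g1' hML hE hK i) (D.inter hML hK fun i => D.g1' hML hE hK i)).false

end Cfsg.Agent.Omega.KL.TwoZ

end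

-- merged: Cfsg.Agent.Mrg.Omega.NOThreeL.RRed.WLeftOne
section

/-!
# NO-3L, box R: the socket `WideTree.WLeftOne` (two natural blocks, no fields; TEXT W2 #24006; plug helper958)

* `kgroup` : `C_G(Z_i)` is a `K`-group;
* **`wLeftOne`** : `WLeftOne K B` (instance `WLeft.nf_of`, end `KL.TwoZ.NF.false`).
-/

set_option autoImplicit false
set_option linter.unusedSectionVars false

namespace Cfsg.Agent.Omega.NOThreeL.RRed.WLeft

open Subgroup Cfsg Cfsg.Agent.ZN Cfsg.Agent.Omega.MinPar Cfsg.Agent.Omega.Frame Cfsg.Agent.Omega.FrameNOFF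
open Cfsg.Agent.Omega.NOThreeL.RTree (RB)
open Cfsg.Agent.Omega.NOThreeL.RRed.GlueSig
open Cfsg.Agent.Omega.NOThreeL.RRed.InstZ (ZZ Spl)
open Cfsg.Agent.Omega.NOThreeL.RRed.WideTree

universe u

/-- `C_G(Z_i)` is a `K`-group -/
theorem kgroup {G : Type u} [Group G] [Finite G] {S : Sylow 2 G} {W : Fin 2 → Subgroup G} (h : RB S) (s : Spl S W)
    (i : Fin 2) : IsKGroup (centralizer (ZZ (S : Subgroup G) W i : Set G)) := by
  have := h.ctx.simple
  exact h.ctx.kproper _ ((s.isLong h i).loc.ne_top S h.ctx.not_isPGroup)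

/-- **two natural blocks, no fields** -/
theorem wLeftOne (hML : ML.Final.MLK.{u, u}) (hE : ML.Ex.Two.Ext.{u, u}) (K : Cls.{u}) (B : Fr.{u}) :
    WLeftOne K B := by
  intro G _ _ _ S _ hW hm W C _ E D l q N _ _ _ hf
  have h : RB S := hW.toRB
  exact ((nf_of h C N hf hm).false hML hE fun i => kgroup h (spl_of h C N hf hm) i).elim

end Cfsg.Agent.Omega.NOThreeL.RRed.WLeft

end

-- merged: Cfsg.Agent.Mrg.Omega.NOThreeL.RRed.WRun
section

/-!
# Box R: the socket `WRun` of `WideTree.lean` (bb #25865, #25809, #26298, #26457)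

* `exists_of_fs` : if `FS S (W i) (Co W i) x`, `FS S (Co W i) (W i) y`, then some `A ∈ AA(O₂(C_G(x) ∩ C_G(y)))` moves
  `W i`;
* **`wRun_of`**, **`wRun`** : `WRun K B`, over (ML).
-/

set_option autoImplicit false
set_option linter.unusedSectionVars false

namespace Cfsg.Agent.Omega.NOThreeL.RRed.WideTree

open Subgroup Cfsg Cfsg.Agent.ZN Cfsg.Agent.Omega.MinPar Cfsg.Agent.Omega.Frame Cfsg.Agent.Omega.FrameNOFF
open Cfsg.Agent.Omega.Node.NO3L Cfsg.Agent.Omega.NOThreeL.Basic Cfsg.Agent.Omega.NOThreeL.RTree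
open Cfsg.Agent.Omega.NOThreeL.RTreeF
open Cfsg.Agent.Omega.NOThreeL.RRed.GlueSig
open Cfsg.Agent.Omega.NOThreeL.Merge (MZ)
open Cfsg.Agent.Omega.ML.Final (MLK)
open Cfsg.Agent.Omega.NO3b.EndX (RedP redP_of simpP)
open scoped Pointwise

universe u v

/-- some `A ∈ AA(O₂(C_G(x) ∩ C_G(y)))` moves `W i` -/
theorem exists_of_fs {G : Type u} [Group G] [Finite G] {S : Sylow 2 G} {ι : Type u} {W : ι → Subgroup G} (B : RB S)
    (h : CM (S : Subgroup G) W) (hM : MLK.{u, u}) (hR : RedP.{u, u}) (hE : ML.Ex.Two.Ext.{u, u}) {i : ι} {x y : G}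
    (f : FS (S : Subgroup G) (W i) (Co W i) x) (f' : FS (S : Subgroup G) (Co W i) (W i) y) :
    ∃ A : Subgroup G, KL.TwoS.Mx (o2 (centralizer ({x} : Set G) ⊓ centralizer ({y} : Set G))) A ∧
      ¬ A ≤ centralizer (W i : Set G) := by
  by_contra hc
  push Not at hc
  have hp := h.pairV B i f.mem.1 f.mem.2 f.ne f'.mem.1 f'.mem.2 f'.ne f.fact f'.fact (f'.nS.trans inf_le_right)
  refine hp.false_of hc hM hR hE (fun d hd => f'.bad d ?_) fun d hd => f.bad d hd
  exact ⟨hd.1, ⟨⟨⟨hd.2.1.1.1, hd.2.1.2⟩, hd.2.1.1.2⟩, hd.2.2⟩⟩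

/-- **`WRun K B`** -/
theorem wRun_of (hM : MLK.{u, u}) (hR : RedP.{u, u}) (hE : ML.Ex.Two.Ext.{u, u}) (K : Cls.{u}) (B : Fr.{u}) :
    WRun K B := by
  intro G _ _ _ S _ hW _ ι _ W hCM _ hL
  exact absurd (fun i x y f f' => exists_of_fs hW.toRB hCM hM hR hE f f') hL

/-- **`WRun K B`**, over (ML) -/
theorem wRun (hM : MLK.{u, u}) (K : Cls.{u}) (B : Fr.{u}) : WRun K B :=
  wRun_of hM (redP_of hM (simpP ML.Ex.KnownDone.rows hM)) ML.Ex.Two.ext K B

end Cfsg.Agent.Omega.NOThreeL.RRed.WideTree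

end

-- merged: Cfsg.Agent.Mrg.Omega.NOThreeL.RRed.Blk.AsmSml
section

/-!
# NO-3L, box R: the two facts on transvections (`AsmCov.Sml`)
-/

set_option autoImplicit false

namespace Cfsg.Agent.Omega.NOThreeL.RRed.Blk.AsmSml

open Subgroup Cfsg
open Cfsg.Agent.Omega.NOThreeL.RRed.TvFin (Full TvV)
open Cfsg.Agent.Omega.NOThreeL.RSplit (Nrm)
open Cfsg.Agent.Omega.NOThreeL.RRed.Blk.AsmCov (Sml)

universe u

variable {G : Type u} [Group G] [Finite G] {S : Sylow 2 G} {M V : Subgroup G} {I : Type u} {N E : I → Subgroup G}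
  {R₀ : Subgroup G} {Om : I → Type u} [∀ i, Fintype (Om i)] [∀ i, DecidableEq (Om i)] {phi : ∀ i, Finset (Om i) → G}

/-- **the facts on transvections** -/
theorem sml (F : Full (S : Subgroup G) M V N E R₀ Om phi) (Q : Nrm M V) (hV2 : ∀ v : Q.Mod, v + v = 0) :
    Sml (S : Subgroup G) Q N E where
  blk A hA h4 := by
    obtain ⟨b, a, ha, hb, hn, h1, -⟩ := AsmLet.exists_blk F Q hA h4
    exact ⟨b, a, ha, hb, hn, h1⟩
  atom _ hs _ hc ht hn := AsmLet.atom Q hV2 F.ab F.SL hs hc ht hn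

end Cfsg.Agent.Omega.NOThreeL.RRed.Blk.AsmSml

end

-- merged: Cfsg.Agent.Mrg.Omega.NOThreeL.RRed.Blk.AsmThree
section

/-!
# NO-3L, box R, the left case: the mixed family (natural blocks `RRs`, blocks of letters)

* **`mix_of`** : `Blk.Mix` for `N₁ = un Q (NN D)`, `D ∈ RRs`, and the blocks of letters `N b`;
* **`three_box`** : the left case: all blocks of letters have three letters.
-/

set_option autoImplicit false
set_option linter.unusedSectionVars false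

namespace Cfsg.Agent.Omega.NOThreeL.RRed.Blk.AsmThree

open Subgroup Cfsg Cfsg.Agent.ZN Cfsg.Agent.Omega.MinPar
open Cfsg.Agent.Omega.FFThm (NatKM NoOverM)
open Cfsg.Agent.Omega.NOThreeL.RSplit (Nrm)
open Cfsg.Agent.Omega.NOThreeL.RRed.NS (fxd brk mem_fxd un)
open Cfsg.Agent.Omega.NOThreeL.RRed.TvFin (Full TvV)
open Cfsg.Agent.Omega.NOThreeL.RRed.Blk.TypesNat (XH ph ph_smul XH_faith ph_eq ph_surj)
open Cfsg.Agent.Omega.NOThreeL.RRed.Blk.Asm
open Cfsg.Agent.Omega.NOThreeL.RRed.Blk.AsmG (Inp RRs)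
open Cfsg.Agent.Omega.NOThreeL.RRed.Blk.AsmT (NBT TD)
open Cfsg.Agent.Omega.NOThreeL.RRed.Blk.AsmNatBlk (pre mem_pre natBlk_of)
open Cfsg.Agent.Omega.NOThreeL.RRed.Blk.AsmCore (im)
open Cfsg.Agent.Omega.NOThreeL.RRed.Blk.AsmOneBlk (nat_fam rrs_sub)
open Cfsg.Agent.Omega.NOThreeL.RRed.Blk.AsmCls (irr_of cl_EE)
open Cfsg.Agent.Omega.NOThreeL.RRed.Blk.AsmCov (Sml cover excl)
open Cfsg.Agent.Omega.NOThreeL.RRed.WideTree (Act MvAct CM Wide NatBlk Left)
open Cfsg.Agent.Omega.NOThreeL.RTree (RB)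
open Cfsg.Agent.Omega.NOThreeL.Merge (MZ le_MZ isLoc_MZ)
open scoped Pointwise

universe u v

variable {G : Type u} [Group G] [Finite G] {S : Sylow 2 G} {ι : Type u} {W : ι → Subgroup G}
  {I : Type u} {N E : I → Subgroup G} {R₀ : Subgroup G} {Om : I → Type u} [∀ i, Fintype (Om i)] [∀ i, DecidableEq (Om i)]
  {phi : ∀ i, Finset (Om i) → G}

/-- the natural blocks in `G` -/
noncomputable abbrev N1 (S : Sylow 2 G) (Q : Nrm (MZ (S : Subgroup G)) (zl (S : Subgroup G) (MZ (S : Subgroup G))))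
    (D : ↥(RRs S (MZ (S : Subgroup G)) Q)) : Subgroup G :=
  un Q (NN (AsmOneBlk.EB S Q) Q.Mod (D : Subgroup (XH Q)))

/-- their complements -/
noncomputable abbrev C1 (S : Sylow 2 G) (Q : Nrm (MZ (S : Subgroup G)) (zl (S : Subgroup G) (MZ (S : Subgroup G))))
    (D : ↥(RRs S (MZ (S : Subgroup G)) Q)) : Subgroup G :=
  un Q (CC (AsmOneBlk.EB S Q) Q.Mod (D : Subgroup (XH Q)))

theorem ne_bot_of {X : Type u} [Group X] {D : Subgroup X} (h : 4 ≤ Nat.card D) : D ≠ ⊥ := by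
  rintro rfl
  rw [card_bot] at h
  omega

theorem nbt_inv {X : Type u} {V : Type v} [Group X] [AddCommGroup V] [DistribMulAction X V] {D T : Subgroup X}
    {N C : AddSubgroup V} (h : NBT D T N C) {x : X} (hx : x ∈ T) {m : V} (hm : m ∈ N) : x • m ∈ N := by
  obtain ⟨F, i1, i2, e, f, up, lo, hB, -, h3, h4⟩ := h.ex
  obtain ⟨B, hxB⟩ := AsmSL.sla_of_clo hB (h3.symm ▸ hx)
  rw [← h4] at hm ⊢
  obtain ⟨_, ⟨a, rfl⟩, _, ⟨b, rfl⟩, rfl⟩ := AddSubgroup.mem_sup.1 hm
  have h5 := hxB.act ![a, b]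
  simp only [Matrix.cons_val_zero, Matrix.cons_val_one] at h5
  rw [h5]
  exact add_mem (AddSubgroup.mem_sup_left ⟨_, rfl⟩) (AddSubgroup.mem_sup_right ⟨_, rfl⟩)

/-- **The mixed family** -/
theorem mix_of (B : RB S) (mv : MvAct (S : Subgroup G))
    (no : NoOverM (zl (S : Subgroup G) (MZ (S : Subgroup G))) (MZ (S : Subgroup G))) (h : CM (S : Subgroup G) W)
    (Q : Nrm (MZ (S : Subgroup G)) (zl (S : Subgroup G) (MZ (S : Subgroup G))))
    (F : Full (S : Subgroup G) (MZ (S : Subgroup G)) (Wd (S : Subgroup G)) N E R₀ Om phi)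
    (sm : Sml (S : Subgroup G) Q N E) :
    ∃ (T₁ : ↥(RRs S (MZ (S : Subgroup G)) Q) → Subgroup G) (cls₁ : ↥(RRs S (MZ (S : Subgroup G)) Q) → ι) (cls : I → ι),
      (∀ D : ↥(RRs S (MZ (S : Subgroup G)) Q), Cl (fun i => Q.ad (W i)) D.1 (cls₁ D)) ∧
      Blk.Mix (MZ (S : Subgroup G)) (Wd (S : Subgroup G)) N W (N1 S Q) (C1 S Q) T₁ cls₁ cls := by
  obtain ⟨hI, h4, hGB, hF, hTD⟩ := nat_fam B mv no Q
  have hSL : (S : Subgroup G) ≤ MZ (S : Subgroup G) := (isLoc_MZ B.ctx B.full B.data.noff).le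
  have hirr : ClsBlk.Irr (MZ (S : Subgroup G)) (zl (S : Subgroup G) (MZ (S : Subgroup G))) W := irr_of h
  have h2 : ∀ v : Q.Mod, v + v = 0 := hI.two
  have hC := AsmCls.cls_of hirr Q
  have h1 : ∀ D : ↥(RRs S (MZ (S : Subgroup G)) Q), ∃ T : Subgroup (XH Q), NBT (D : Subgroup (XH Q)) T
      (NN (AsmOneBlk.EB S Q) Q.Mod D) (CC (AsmOneBlk.EB S Q) Q.Mod D) := fun D => by
    obtain ⟨T, hT, -⟩ := hTD D D.2
    exact ⟨T, hT⟩
  choose T hT using h1
  choose cls₁ hcl₁ using fun D : ↥(RRs S (MZ (S : Subgroup G)) Q) => cl_EE h Q D.1 (rrs_sub D.2)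
  choose cls hcl using ClsBlk.exists_le hirr F
  have hcong : ∀ (i : ι) (D : ↥(RRs S (MZ (S : Subgroup G)) Q)),
      Cl (fun i => Q.ad (W i)) (D : Subgroup (XH Q)) i → N1 S Q D ≤ W i := fun i D hD => by
    have h3 := hC.le h2 (hF.nb D.1 D.2) hD
    rw [← AsmUn.un_le_iff (Q := Q), AsmUn.un_ad Q (hirr.le i)] at h3
    exact h3
  refine ⟨fun D => pre Q (T D), cls₁, cls, hcl₁, ?_⟩
  refine
    { irr := hirr
      ne := ?_
      sup := ?_
      inf := ?_
      oth := ?_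
      perm := ?_
      TM := ?_
      TC := ?_
      tr := ?_
      le₁ := fun D => hcong _ D (hcl₁ D)
      le₂ := hcl
      dis := ?_
      cov := ?_ }
  · intro D h0
    exact (hF.nb D D.2).ne_bot ((AsmUn.un_eq_bot Q).1 h0)
  · intro D
    show un Q _ ⊔ un Q _ = _
    rw [← AsmUn.un_sup, (show NN (AsmOneBlk.EB S Q) Q.Mod (D : Subgroup (XH Q)) ⊔ CC (AsmOneBlk.EB S Q) Q.Mod D = ⊤ from ?_),
      AsmUn.un_top]
    · rfl
    · obtain ⟨F', i1, i2, e, f, up, lo, hB, -, hN⟩ := (hF.nb D D.2).ex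
      rw [← hN]
      exact sup_eq_top hB
  · intro D
    show un Q _ ⊓ un Q _ = _
    rw [← AsmUn.un_inf, AsmUn.un_eq_bot, eq_bot_iff]
    rintro m ⟨hm, hm'⟩
    exact AddSubgroup.mem_bot.2 ((hF.nb D D.2).inf_bot hm hm')
  · intro D D' hne
    exact AsmUn.un_mono (hF.ind D D.2 D' D'.2 fun e => hne (Subtype.ext e))
  · intro g hg D
    obtain ⟨D', hD', -, h3⟩ := hF.perm (ph Q ⟨g, hg⟩) D D.2
    exact ⟨⟨D', hD'⟩, AsmNBs.un_conj (Q := Q) (h := ⟨g, hg⟩) h3⟩
  · intro D x hx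
    exact (mem_pre.1 hx).1
  · rintro D x hx
    obtain ⟨hxM, hxT⟩ := mem_pre.1 hx
    have h3 := (AsmNBs.mem_cent_un (Q := Q) (A := CC (AsmOneBlk.EB S Q) Q.Mod D) (h := ⟨x, hxM⟩)).2 fun m hm => by
      have := (hT D).cent hxT hm
      rwa [ph_smul] at this
    exact h3
  · intro D x hx hx1 y hy hy1
    obtain ⟨F', i1, i2, i3, e, -, hN⟩ := natBlk_of Q hI.el hSL S.isPGroup' (hT D) (hF.le D D.2)
    refine FullSup.NatBlk_trans hN ?_ hx hx1 hy hy1
    have hle : ∀ x ∈ pre Q (T D), ∀ v ∈ un Q (NN (AsmOneBlk.EB S Q) Q.Mod (D : Subgroup (XH Q))),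
        x * v * x⁻¹ ∈ un Q (NN (AsmOneBlk.EB S Q) Q.Mod (D : Subgroup (XH Q))) := by
      rintro x hx _ ⟨m, hm, rfl⟩
      obtain ⟨hxM, hxT⟩ := mem_pre.1 hx
      have h3 := nbt_inv (hT D) hxT hm
      rw [ph_smul] at h3
      exact ⟨_, h3, rfl⟩
    intro g hg
    refine mem_normalizer_iff.2 fun v => ⟨hle g hg v, fun hv => ?_⟩
    have h5 := hle g⁻¹ (inv_mem hg) _ hv
    have e1 : g⁻¹ * (g * v * g⁻¹) * g⁻¹⁻¹ = v := by group
    rwa [e1] at h5
  · intro D b hDb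
    exact excl (b := b) (i := cls₁ D) h Q F sm h2 hF hGB rrs_sub h4 D.2 (hcl₁ D) (by rw [hDb]; exact hcl b)
  · intro i
    rcases cover B mv h Q F sm i with ⟨D, hD, hi⟩ | ⟨b, hb⟩
    · left
      refine ⟨⟨D, hD⟩, ?_⟩
      exact hC.uniq hI.hf (hcl₁ ⟨D, hD⟩) hi (ne_bot_of (h4 D hD))
    · right
      exact ⟨b, (ClsBlk.not_le_two hirr F hb (hcl b))⟩

/-- **The left case: three letters in each block** -/
theorem three_box [Finite I] (B : RB S) (mv : MvAct (S : Subgroup G))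
    (no : NoOverM (zl (S : Subgroup G) (MZ (S : Subgroup G))) (MZ (S : Subgroup G))) (h : CM (S : Subgroup G) W)
    (hL : Left (S : Subgroup G) W) (hij : ∃ i j : ι, i ≠ j)
    (Q : Nrm (MZ (S : Subgroup G)) (zl (S : Subgroup G) (MZ (S : Subgroup G))))
    (F : Full (S : Subgroup G) (MZ (S : Subgroup G)) (Wd (S : Subgroup G)) N E R₀ Om phi)
    (sm : Sml (S : Subgroup G) Q N E)
    (b : I) : Fintype.card (Om b) = 3 := by
  obtain ⟨T₁, cls₁, cls, hcl₁, X⟩ := mix_of B mv no h Q F sm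
  obtain ⟨hI, h4, hGB, hF, hTD⟩ := nat_fam B mv no Q
  have hirr : ClsBlk.Irr (MZ (S : Subgroup G)) (zl (S : Subgroup G) (MZ (S : Subgroup G))) W := irr_of h
  have hC := AsmCls.cls_of hirr Q
  have h2 : ∀ v : Q.Mod, v + v = 0 := hI.two
  have sq : ∀ v ∈ Wd (S : Subgroup G), v * v = 1 := fun v hv => by
    have := (NS.elem_Wd B).2 v hv
    rwa [pow_two] at this
  obtain ⟨D, O, hW⟩ := mix_main sq F X
  refine AsmLeftA.three_of B h hL hij F X.le₁ X.le₂ X.dis D O hW (HBadOf.hBad_mix F X sq (PermRRs.permN_rrs' B mv no Q) fun D => ?_) b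
  refine KdRR.kd_rrs B mv no Q D.2 (N' := Sum.elim (N1 S Q) N) (b := Sum.inl D) rfl ?_
  rintro (c | c) hc
  · exact X.oth D c fun e => hc (by rw [e])
  · -- a block of letters lies in the complement
    have h3 : Q.ad (W (cls c)) ≤ CC (AsmOneBlk.EB S Q) Q.Mod D.1 :=
      (hF.nb D.1 D.2).inv_le h2 (hC.inv (cls c)) (hcl₁ D (cls c) (X.dis D c).symm)
    rw [← AsmUn.un_le_iff (Q := Q), AsmUn.un_ad Q (hirr.le _)] at h3
    exact (X.le₂ c).trans h3

end Cfsg.Agent.Omega.NOThreeL.RRed.Blk.AsmThree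

end

-- merged: Cfsg.Agent.Mrg.Omega.NOThreeL.RRed.Blk.AsmLeftBlk
section

/-!
# NO-3L, box R: the socket `LeftBlk` (helper283)

* **`leftBlk`** : the left case: natural blocks of all classes.
-/

set_option autoImplicit false
set_option linter.unusedSectionVars false

namespace Cfsg.Agent.Omega.NOThreeL.RRed.Blk.AsmLeftBlk

open Subgroup Cfsg Cfsg.Agent.ZN Cfsg.Agent.Omega.MinPar
open Cfsg.Agent.Omega.NOThreeL.RRed.WideTree (MvAct CM Left LeftBlk)
open Cfsg.Agent.Omega.NOThreeL.Merge (MZ le_MZ isLoc_MZ)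

universe u

/-- **`LeftBlk`** -/
theorem leftBlk : LeftBlk.{u} := by
  intro G _ _ S hW mv ι _ W h hij hL
  have B := hW.toRB
  have hSL : (S : Subgroup G) ≤ MZ (S : Subgroup G) := (isLoc_MZ B.ctx B.full B.data.noff).le
  have no := AsmMain.no B mv
  obtain ⟨I, hI, _, N, E, R₀, Om, _, _, phi, F⟩ := TvFin.blocks_zl hSL (NS.elem_Wd B).2 no
  have Q := AsmInp.nrm_box B
  have sm := AsmSml.sml F Q (AsmMain.inp_of B mv Q).two
  exact AsmLeftB.fin B mv h no Q F sm (AsmThree.three_box B mv no h hL hij Q F sm)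

end Cfsg.Agent.Omega.NOThreeL.RRed.Blk.AsmLeftBlk

end

-- merged: Cfsg.Agent.Mrg.Omega.NOThreeL.QWR.NlQ
section

/-!
# NO-3L, box R, one class, the level `(Q, V*)`: no 2-group `≠ 1` is normalised by `C_G(Z_J)` and all `L i`

`wl : WL S Q`, `Ω₁Z(Q) = V`, `FrL (BK S Q) Q V V (ZK S Q) L W Z C A 2` (any `S`-orbits of blocks), `Q ≤ O₂(P)` for all
`P ∈ P*(S)`.

* `exists_full` : an element of full support in `Ω₁Z(S)`;
* **`exists_MQ`** : `NlTop.exists_M` at `K₀ = Q`;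
* **`cz_le_M`** : `C_G(Z) ≤ M` for `M ≥ C_G(Z_J), L i, N_G(B)`, all FF-blocks over `B` in `V`, and QW for the pairs `F ≰ M`;
* **`nl_q`** : no 2-group `≠ 1` is normalised by `C_G(Z_J)` and all `L i`.
-/

set_option autoImplicit false
set_option linter.unusedSectionVars false

namespace Cfsg.Agent.Omega.NOThreeL.QWR.NlQ

open Subgroup Cfsg Cfsg.Agent.Omega.MinPar Cfsg.Agent.Omega.Frame Cfsg.Agent.ZN.ChoiceBase Cfsg.Agent.ZN.ChoiceSit
open Cfsg.Agent.ZN (zc o2 jj)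
open Cfsg.Agent.Omega.NO3S.Level (lev Lev nxt)
open Cfsg.Agent.Omega.OM
open Cfsg.Agent.Omega.OM.LevB (FBlk)
open Cfsg.Agent.Omega.OM.Lev.Uni (FrL)
open Cfsg.Agent.Omega.OM.SwapK (WL BK ZK)
open Cfsg.Agent.Omega.OM.SwapV (CrA BMH)
open Cfsg.Agent.Omega.NOThreeL.RTree (RB)
open Cfsg.Agent.Omega.NOThreeL.Merge (MZ)
open Cfsg.Agent.Omega.FrameNOFF (CZ)
open Cfsg.Agent.Omega.NOThreeL.QWR.LowM (OffM)

universe u

variable {G : Type u} [Group G] [Finite G] {ι : Type} [Finite ι] {S : Sylow 2 G} {Q V : Subgroup G}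
  {L W Z C A : ι → Subgroup G}

/-- **An element of full support in `Ω₁Z(S)`.** -/
theorem exists_full {K B ZJ : Subgroup G} (h : CrA S K B V ZJ L W Z C A) :
    ∃ c ∈ zc (S : Subgroup G), ∀ i, c ∉ C i := by
  obtain ⟨x, hx, hs⟩ := OM.SwapV.Cr.exists_supp h.toCr Set.univ
  have hn : ∀ i, x ∉ C i := fun i hi => ((hs i).1 hi) (Set.mem_univ i)
  refine ⟨x, mem_zc.2 ⟨h.lb.BS (h.lb.ZB hx), h.lb.sq x hx, fun s hs' => ?_⟩, hn⟩
  exact OM.SwapV.Cr.comm_of_supp h.toCr (h.lb.two_le S.isPGroup' h.lb.BS hs') hx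
    fun i j _ => ⟨fun h1 => absurd h1 (hn i), fun h1 => absurd h1 (hn j)⟩

section top

variable (wl : WL S Q) (hz : zc Q = V) (fr : FrL (BK (S : Subgroup G) Q) Q V V (ZK (S : Subgroup G) Q) L W Z C A 2)
include wl hz fr

/-- **The local group `M`** at the level `(Q, V)`. -/
theorem exists_MQ (B : RB S) (hall : ∀ P : Subgroup G, IsParS (S : Subgroup G) P → Q ≤ o2 P)
    {R : Subgroup G} (hR : IsPGroup 2 R) (hR1 : R ≠ ⊥)
    (hD : centralizer (ZK (S : Subgroup G) Q : Set G) ≤ normalizer (R : Set G))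
    (hLR : ∀ i, L i ≤ normalizer (R : Set G)) :
    ∃ M O : Subgroup G, M = normalizer (O : Set G) ∧ IsPGroup 2 O ∧ O ≠ ⊥ ∧ O ≤ BK (S : Subgroup G) Q ∧
      O = o2 (centralizer (ZK (S : Subgroup G) Q : Set G) ⊔ ⨆ i, L i) ∧ IsLoc (S : Subgroup G) M ∧
      centralizer (ZK (S : Subgroup G) Q : Set G) ≤ M ∧ (∀ i, L i ≤ M) ∧
      normalizer (BK (S : Subgroup G) Q : Set G) ≤ M ∧ normalizer (ZK (S : Subgroup G) Q : Set G) ≤ M ∧
      MZ (S : Subgroup G) ≤ M ∧
      (∀ L' V' : Subgroup G, FBlk (BK (S : Subgroup G) Q) L' V' → V' ≤ zc Q → L' ≤ M) := by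
  have fr' : FrL (OM.SwapT.BT (S : Subgroup G) Q) Q V (zc Q) (OM.SwapT.ZT (S : Subgroup G) Q) L W Z C A 2 := by
    rw [hz]
    exact fr
  exact NlTop.exists_M B wl.wc wl.lev fr' hall hR hR1 hD hLR

/-- **`C_G(Z) ≤ M`.** -/
theorem cz_le_M (cr : CrA S (nxt (S : Subgroup G) Q) (BK (S : Subgroup G) Q) V (ZK (S : Subgroup G) Q) L W Z C A)
    {M : Subgroup G} (hS1 : (S : Subgroup G) ≠ ⊥) (ho : OffM S V Q M)
    (hD : centralizer (ZK (S : Subgroup G) Q : Set G) ≤ M) (hLM : ∀ i, L i ≤ M)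
    (hN : normalizer (BK (S : Subgroup G) Q : Set G) ≤ M)
    (hF : ∀ L' V' : Subgroup G, FBlk (BK (S : Subgroup G) Q) L' V' → V' ≤ zc Q → L' ≤ M) :
    CZ (S : Subgroup G) ≤ M := by
  obtain ⟨c, hc, hcf⟩ := exists_full cr
  exact cr.cz_leN (LowM.bmh_of wl fr hz ho hc hcf hF hN) hLM hD hN hS1

/-- **No 2-group `≠ 1` is normalised by `C_G(Z_J)` and all `L i`.** -/
theorem nl_q (B : RB S) (hall : ∀ P : Subgroup G, IsParS (S : Subgroup G) P → Q ≤ o2 P)
    (cr : ∀ M : Subgroup G, IsLoc (S : Subgroup G) M → centralizer (ZK (S : Subgroup G) Q : Set G) ≤ M →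
      (∀ i, L i ≤ M) → normalizer (BK (S : Subgroup G) Q : Set G) ≤ M → MZ (S : Subgroup G) ≤ M →
      OffM S V Q M ∧ CrA S (nxt (S : Subgroup G) Q) (BK (S : Subgroup G) Q) V (ZK (S : Subgroup G) Q) L W Z C A)
    {R : Subgroup G} (hR : IsPGroup 2 R)
    (hD : centralizer (ZK (S : Subgroup G) Q : Set G) ≤ normalizer (R : Set G))
    (hLR : ∀ i, L i ≤ normalizer (R : Set G)) : R = ⊥ := by
  by_contra hR1
  obtain ⟨M, O, rfl, hO2, hO1, hOB, -, h1, h2, h3, h4, -, h6, h7⟩ := exists_MQ wl hz fr B hall hR hR1 hD hLR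
  obtain ⟨ho, hc⟩ := cr _ h1 h2 h3 h4 h6
  have hS1 : (S : Subgroup G) ≠ ⊥ := fun e => hO1 (by
    have h8 := hOB.trans wl.lb.BS
    rw [e] at h8
    exact le_bot_iff.1 h8)
  exact hO1 (FrameNOFF.eq_bot_of_norm B.ctx S B.full hO2 (fun P hP => (le_sSup hP).trans h6)
    (cz_le_M wl hz fr hc hS1 ho h2 h3 h4 h7))

end top

end Cfsg.Agent.Omega.NOThreeL.QWR.NlQ

end

-- merged: Cfsg.Agent.Mrg.Omega.NOThreeL.QWR.NlLt
section

/-!
# NO-3L, box R, one class, the level `(Q, V*)`, `LtV S V Q`: no 2-group `≠ 1` is normalised by `C_G(Z_J)`, all `L i`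

* `cz_le_M` : `C_G(Z) ≤ M`;
* **`nl_lt`** : `nl` from `LtV S V Q`, the frame and THEOREM QW (`OffR S V Q`) for the local groups `M`.
-/

set_option autoImplicit false
set_option linter.unusedSectionVars false

namespace Cfsg.Agent.Omega.NOThreeL.QWR.NlLt

open Subgroup Cfsg Cfsg.Agent.Omega.MinPar Cfsg.Agent.Omega.Frame Cfsg.Agent.ZN.ChoiceBase Cfsg.Agent.ZN.ChoiceSit
open Cfsg.Agent.ZN (zc o2 jj)
open Cfsg.Agent.Omega.OM
open Cfsg.Agent.Omega.OM.LevB (FBlk)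
open Cfsg.Agent.Omega.OM.Lev.Uni (FrL)
open Cfsg.Agent.Omega.OM.SwapK (WL BK ZK)
open Cfsg.Agent.Omega.NOThreeL.RTree (RB)
open Cfsg.Agent.Omega.NOThreeL.Merge (MZ)
open Cfsg.Agent.Omega.FrameNOFF (CZ)
open Cfsg.Agent.Omega.NOThreeL.QWR.LowM (OffM)
open Cfsg.Agent.Omega.NOThreeL.QWR.Sw (LtV OffR)

universe u

variable {G : Type u} [Group G] [Finite G] {ι : Type} [Finite ι] {S : Sylow 2 G} {Q V : Subgroup G}
  {L W Z C A : ι → Subgroup G}

theorem offM (ho : OffR S V Q) (M : Subgroup G) : OffM S V Q M :=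
  fun T F a b c d e f g h i _ => ho T F a b c d e f g h i

section top

variable (h : LtV S V Q) (fr : FrL (BK (S : Subgroup G) Q) Q V V (ZK (S : Subgroup G) Q) L W Z C A 2)
include h fr

/-- **`C_G(Z) ≤ M`.** -/
theorem cz_le_M (ho : OffR S V Q) {M : Subgroup G} (hS1 : (S : Subgroup G) ≠ ⊥)
    (hD : centralizer (ZK (S : Subgroup G) Q : Set G) ≤ M) (hLM : ∀ i, L i ≤ M)
    (hN : normalizer (BK (S : Subgroup G) Q : Set G) ≤ M)
    (hF : ∀ L' V' : Subgroup G, FBlk (BK (S : Subgroup G) Q) L' V' → V' ≤ zc Q → L' ≤ M) :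
    CZ (S : Subgroup G) ≤ M :=
  NlQ.cz_le_M h.wl h.zcQ fr (h.crA fr ho) hS1 (offM ho M) hD hLM hN hF

/-- **No 2-group `≠ 1` is normalised by `C_G(Z_J)` and all `L i`.** -/
theorem nl_lt (B : RB S) (hall : ∀ P : Subgroup G, IsParS (S : Subgroup G) P → Q ≤ o2 P)
    (off : ∀ M : Subgroup G, IsLoc (S : Subgroup G) M → centralizer (ZK (S : Subgroup G) Q : Set G) ≤ M →
      (∀ i, L i ≤ M) → normalizer (BK (S : Subgroup G) Q : Set G) ≤ M → MZ (S : Subgroup G) ≤ M → OffR S V Q)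
    {R : Subgroup G} (hR : IsPGroup 2 R)
    (hD : centralizer (ZK (S : Subgroup G) Q : Set G) ≤ normalizer (R : Set G))
    (hLR : ∀ i, L i ≤ normalizer (R : Set G)) : R = ⊥ :=
  NlQ.nl_q h.wl h.zcQ fr B hall
    (fun M h1 h2 h3 h4 h5 => ⟨offM (off M h1 h2 h3 h4 h5) M, h.crA fr (off M h1 h2 h3 h4 h5)⟩) hR hD hLR

end top

end Cfsg.Agent.Omega.NOThreeL.QWR.NlLt

end

-- merged: Cfsg.Agent.Mrg.Omega.NOThreeL.QWR.NlWd
section

/-!
# NO-3L, box R, one class: `nl` at the top level `(Q, V*)` from THEOREM QW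

* **`nl_wd`** : `RB S`, `WL S Q`, `Ω₁Z(Q) = V*`, the frame over `(BK S Q, Q, V*, V*, ZK S Q)` with `L i ≤ MZ S`, and THEOREM
  QW (`OffR S V* Q`) whenever a local group `M ≥ C_G(Z_J), L i, N_G(B), MZ S` exists: no 2-group `≠ 1` is normalised by
  `C_G(Z_J)` and all `L i`.
-/

set_option autoImplicit false
set_option linter.unusedSectionVars false

namespace Cfsg.Agent.Omega.NOThreeL.QWR.NlWd

open Subgroup Cfsg Cfsg.Agent.Omega.MinPar Cfsg.Agent.Omega.Frame Cfsg.Agent.ZN.ChoiceBase Cfsg.Agent.ZN.ChoiceSit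
open Cfsg.Agent.ZN (zc o2 jj)
open Cfsg.Agent.Omega.OM.Lev.Uni (FrL)
open Cfsg.Agent.Omega.OM.SwapK (WL BK ZK)
open Cfsg.Agent.Omega.NOThreeL.RTree (RB)
open Cfsg.Agent.Omega.NOThreeL.RRed (Wd)
open Cfsg.Agent.Omega.NOThreeL.Merge (MZ)
open Cfsg.Agent.Omega.NOThreeL.QWR.Sw (LtV OffR)
open Cfsg.Agent.Omega.NOThreeL.QWR.FrTop (ltV_of)

universe u

variable {G : Type u} [Group G] [Finite G] {ι : Type} [Finite ι] {S : Sylow 2 G} {Q : Subgroup G}
  {L W Z C A : ι → Subgroup G}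

/-- **`nl` at `(Q, V*)`.** -/
theorem nl_wd (B : RB S) (wl : WL S Q) (hX : zc Q = Wd (S : Subgroup G))
    (fr : FrL (BK (S : Subgroup G) Q) Q (Wd (S : Subgroup G)) (Wd (S : Subgroup G)) (ZK (S : Subgroup G) Q) L W Z C A 2)
    (hL : ∀ i, L i ≤ MZ (S : Subgroup G))
    (off : ∀ M : Subgroup G, IsLoc (S : Subgroup G) M → centralizer (ZK (S : Subgroup G) Q : Set G) ≤ M →
      (∀ i, L i ≤ M) → normalizer (BK (S : Subgroup G) Q : Set G) ≤ M → MZ (S : Subgroup G) ≤ M →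
      OffR S (Wd (S : Subgroup G)) Q)
    {R : Subgroup G} (hR : IsPGroup 2 R)
    (hD : centralizer (ZK (S : Subgroup G) Q : Set G) ≤ normalizer (R : Set G))
    (hLR : ∀ i, L i ≤ normalizer (R : Set G)) : R = ⊥ :=
  NlLt.nl_lt (ltV_of B wl hX fr hL) fr B (FrTop.hall wl.lev.le hX.ge) off hR hD hLR

end Cfsg.Agent.Omega.NOThreeL.QWR.NlWd

end

-- merged: Cfsg.Agent.Mrg.Omega.NOThreeL.RRed.WOneSTop
section

/-!
# The socket `TopS` of `RRed/WOneS`: the top level `(Q, V*)`, `Q = C_S(V*)`, `𝔽₂`-blocks, one class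

The level: helper978, 2, 319; the frame and the 2-group: helper343, 164, 947; `nl`: helper132, 194; THEOREM QW: helper733,
743, 281, 587, 623.

* **`topS`** : `TopS K (FBR Ref)`;  **`wOneS`** : the field `oneS`.
-/

set_option autoImplicit false
set_option linter.unusedSectionVars false

namespace Cfsg.Agent.Omega.NOThreeL.RRed.WideTree

open Subgroup Cfsg Cfsg.Agent.ZN Cfsg.Agent.Omega.MinPar Cfsg.Agent.Omega.Frame Cfsg.Agent.Omega.FrameNOFF
open Cfsg.Agent.Omega.Node.NO3L Cfsg.Agent.Omega.NOThreeL.Basic Cfsg.Agent.Omega.NOThreeL.RTree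
open Cfsg.Agent.Omega.NOThreeL.RTreeF
open Cfsg.Agent.Omega.NOThreeL.Merge (MZ S_le_MZ)
open Cfsg.Agent.Omega.NOThreeL.RRed.GlueSig
open Cfsg.Agent.Omega.NOThreeL.RRed.FourTree (Bks LevX nxtX HypJ)
open Cfsg.Agent.Omega.NO3S.Level (lev Lev lev_isLev normalizer_le_zc)
open Cfsg.Agent.Omega.NO3b.Wc (WH)
open Cfsg.Agent.Omega.NO3b.EndX (AbsP)
open Cfsg.Agent.Omega.OM.Lev.Uni (FrL)
open Cfsg.Agent.Omega.OM.SwapK (WL BK ZK)
open Cfsg.Agent.Omega.NOThreeL.QWR.FrTop (zv_eq bv_eq)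

open scoped Pointwise

universe u

variable {K : Cls.{u}} {Ref : Fr.{u}}

/-- **The top level.** -/
theorem topS (ml : ML.Final.MLK.{u, u}) (ha : AbsP.{u, u}) : TopS K (FBR Ref) := by
  intro G _ _ hK S hB hW hm hCM I _ _ N E Om _ _ phi hN tr hcnt hlev
  have h : RBF S := hB.1
  have hR : RB S := hW.toRB
  have irr : ∀ W : Subgroup G, W ≤ Wd (S : Subgroup G) → MZ (S : Subgroup G) ≤ normalizer (W : Set G) → W ≠ ⊥ →
      Wd (S : Subgroup G) ≤ W := fun W h1 h2 h3 => hCM.irr PUnit.unit W h1 h2 h3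
  have hj : jj (S : Subgroup G) ≤ centralizer (Wd (S : Subgroup G) : Set G) := hlev 0
  rcases RLev.exists_hatLev ml ha h with h1 | ⟨K₀, X, H⟩
  · exact h1 hj
  have hKQ := LevVX.top_K hR hN irr H.toTopLev
  have hT := LevVX.topQ hR hN irr H.toTopLev
  have hWQ : WH (S : Subgroup G) (Star.YS (S : Subgroup G)) =
      (S : Subgroup G) ⊓ centralizer (Wd (S : Subgroup G) : Set G) := H.eqK.symm.trans hKQ
  have hs := RLev.LowZc.seedX ml ha h hj
  rw [hWQ] at hs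
  have hz := LevVX.zcQ_eq hR hN irr hT hs
  have wl : WL S ((S : Subgroup G) ⊓ centralizer (Wd (S : Subgroup G) : Set G)) := ⟨hT.wc, hT.toLev⟩
  have rq := QWR.RQOf.rq_bks ml ha hW hCM hN hj hT.wc hz.le
  obtain ⟨ι, _, L, W, Z, C, A, -, -, hL, fr, -, R, hne, hRp, hD, hLR⟩ :=
    BFr.exists_top ml hR hW.rr hN hW.four_le irr hT.levX hz.le
  have e1 := zv_eq hT.toLev hz
  have e2 := bv_eq hT.toLev hz
  have fr' : FrL (BK (S : Subgroup G) ((S : Subgroup G) ⊓ centralizer (Wd (S : Subgroup G) : Set G)))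
      ((S : Subgroup G) ⊓ centralizer (Wd (S : Subgroup G) : Set G)) (Wd (S : Subgroup G)) (Wd (S : Subgroup G))
      (ZK (S : Subgroup G) ((S : Subgroup G) ⊓ centralizer (Wd (S : Subgroup G) : Set G))) L W Z C A 2 := by
    rw [show BK (S : Subgroup G) ((S : Subgroup G) ⊓ centralizer (Wd (S : Subgroup G) : Set G)) = _ from e2,
      show ZK (S : Subgroup G) ((S : Subgroup G) ⊓ centralizer (Wd (S : Subgroup G) : Set G)) = _ from e1]
    exact fr
  have hD' : centralizer (ZK (S : Subgroup G) ((S : Subgroup G) ⊓ centralizer (Wd (S : Subgroup G) : Set G)) : Set G) ≤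
      normalizer (R : Set G) := by
    rw [show ZK (S : Subgroup G) ((S : Subgroup G) ⊓ centralizer (Wd (S : Subgroup G) : Set G)) = _ from e1]
    exact hD
  exact hne (QWR.NlWd.nl_wd hR wl hz fr' hL
    (fun M h1 h2 _ _ h5 => QWR.OffTop.offR_top hR ml hW.four_le rq wl hz rfl fr' hL h1 h2 h5) hRp hD' hLR)

/-- **The field `oneS`.** -/
theorem wOneS (ml : ML.Final.MLK.{u, u}) (hE : ML.Ex.Two.Ext.{u, u}) (ha : AbsP.{u, u}) : WOneS K (FBR Ref) :=
  wOneS_of ml hE (topS ml ha)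

end Cfsg.Agent.Omega.NOThreeL.RRed.WideTree

end

-- merged: Cfsg.Agent.Mrg.Omega.KL.Star.CrwB
section

/-!
# LEMMA CRW for several components (helper178, bb #24302, LEMMA CRW)

`SysB H M T A x` : `H` faithful and irreducible on `M`, `A` an exact low atom, `T` a Sylow 2-subgroup, `x ≠ 1` a
`T`-fixed vector.  `Y ≤ M`, `Y ≠ 1`, is normalised by `N_H(T)` and by every `T`-minimal `P` which moves `x`.
**Then every `T`-fixed vector lies in `Y`.**

* `fixE`, `crE` : the facts about one component `E` on `N = [M,E]`;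
* `fixK` : `T ≤ P` fixes `x ≠ 1`: `P ⊓ K` centralises `C_M(T ⊓ K)`;
* `mem_of_parts` : a vector all whose parts are in `D`;
* `CmpM.crw`;  **`le_of_sysB`**;  **`false_of_sysB`**.
-/

set_option autoImplicit false
set_option linter.style.haveILetI false
set_option linter.unusedSectionVars false

namespace Cfsg.Agent.Omega.KL.Star.CrwB

open Subgroup Cfsg Cfsg.Agent.ZN Cfsg.Agent.Omega.NOThree.NoOver Cfsg.Agent.Omega.ML.CD
open Cfsg.Agent.ClassTwoFusion.Quad Cfsg.Agent.Omega.ML.MinFrame Cfsg.Agent.Omega.ML.Ex Cfsg.Agent.Omega.ML.Ex.Red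
open Cfsg.Agent.Omega.ML.Ex.SecLow
open Cfsg.Agent.Omega.ML.LieRow.CRB (fix_splitAb HasSplitAb hasSplitAb_of_lie)
open Cfsg.Agent.MinSimple.MinParabolic (IsMinPar le_of_forall)
open Cfsg.Agent.Omega.ML.Final (MLK)
open Cfsg.Agent.FixBN (HasSplit)

universe u v

section

variable {X : Type u} [Group X] {M : Type v} [Group M] [MulDistribMulAction X M] {T B K E : Subgroup X} {lam : M}

/-- the action of `E` on `[M,E]` -/
@[reducible] def actE (M : Type v) [Group M] [MulDistribMulAction X M] (E : Subgroup X) :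
    MulDistribMulAction E (cm M E) where
  smul e n := ⟨(e : X) • (n : M), smul_mem_cm (le_normalizer e.2) n.2⟩
  one_smul n := Subtype.ext (one_smul X (n : M))
  mul_smul a b n := Subtype.ext (mul_smul (a : X) (b : X) (n : M))
  smul_mul e m n := Subtype.ext (smul_mul' (e : X) (m : M) (n : M))
  smul_one e := Subtype.ext (smul_one (e : X))

/-- what is used of one component -/
structure Good (M : Type v) [Group M] [MulDistribMulAction X M] (E : Subgroup X) : Prop where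
  ab : HasSplitAb 2 E
  irr : ∀ W : Subgroup M, W ≤ cm M E → (∀ e ∈ E, ∀ w ∈ W, e • w ∈ W) → W = ⊥ ∨ W = cm M E

/-- an overgroup of `T ⊓ E` in `E` which fixes one vector of `[M,E]` -/
theorem fixE [Finite X] [Finite M] (g : Good M E) (two : IsPGroup 2 T) (sylE : ¬ 2 ∣ (T ⊓ E).relIndex E)
    (sq : ∀ m : M, m * m = 1) {R : Subgroup X} (hR : T ⊓ E ≤ R) {a : M} (ha : a ∈ cm M E) (a1 : a ≠ 1)
    (hRa : ∀ r ∈ R, r ∈ E → r • a = a) :
    ∀ r ∈ R, r ∈ E → ∀ n ∈ cm M E, (∀ s ∈ T ⊓ E, s • n = n) → r • n = n := by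
  letI := actE M E
  intro r hrR hrE n hn hs
  have hi : ¬ 2 ∣ (T.subgroupOf E).index := by
    rw [inf_relIndex_right] at sylE
    exact sylE
  have h0 : HasSplitAb 2 (⊤ : Subgroup E) := g.ab.congr Subgroup.topEquiv.symm
  have h1 := fix_splitAb (H := E) (K := ⊤) (T := T.subgroupOf E) (R := R.subgroupOf E) (N := cm M E) inferInstance h0
    (two.comap_of_injective _ E.subtype_injective) hi (top_sup_eq _) (fun m => Subtype.ext (sq m))
    (fun L hL => by
      have h2 : L.map (cm M E).subtype ≤ cm M E := map_subtype_le L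
      rcases g.irr _ h2 (by
        rintro e he _ ⟨w, hw, rfl⟩
        exact ⟨_, hL ⟨e, he⟩ w hw, rfl⟩) with h3 | h3
      · left
        exact (Subgroup.map_eq_bot_iff_of_injective _ (cm M E).subtype_injective).1 h3
      · right
        rw [eq_top_iff]
        intro w _
        have h4 : (w : M) ∈ L.map (cm M E).subtype := by rw [h3]; exact w.2
        obtain ⟨w', hw', h5⟩ := h4
        rwa [← Subtype.ext (show (w' : M) = w from h5)])
    (fun t ht => mem_subgroupOf.2 (hR ⟨mem_subgroupOf.1 ht, t.2⟩)) (y := (⟨a, ha⟩ : cm M E))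
    (fun h2 => a1 (congrArg Subtype.val h2))
    (fun r hr => Subtype.ext (hRa r (mem_subgroupOf.1 hr) r.2)) ⟨r, hrE⟩ (mem_subgroupOf.2 hrR) ⟨n, hn⟩
    (fun t ht => Subtype.ext (hs t ⟨mem_subgroupOf.1 ht, t.2⟩))
  exact congrArg Subtype.val h1

/-- Curtis-Richen for one component -/
theorem crE [Finite X] [Finite M] (g : Good M E) (two : IsPGroup 2 T) (sylE : ¬ 2 ∣ (T ⊓ E).relIndex E)
    (sq : ∀ m : M, m * m = 1) {W : Subgroup M} (hWN : W ≤ cm M E) (hW1 : W ≠ ⊥)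
    (hWT : ∀ w ∈ W, ∀ s ∈ T ⊓ E, s • w = w)
    (hWn : ∀ n ∈ E, n ∈ normalizer ((T ⊓ E : Subgroup X) : Set X) → ∀ w ∈ W, n • w ∈ W) :
    ∀ n ∈ cm M E, (∀ s ∈ T ⊓ E, s • n = n) → n ∈ W := by
  letI := actE M E
  intro n hn hs
  have hi : ¬ 2 ∣ (T.subgroupOf E).index := by
    rw [inf_relIndex_right] at sylE
    exact sylE
  have h0 : HasSplit 2 E := by
    obtain ⟨P, U, h1, h2, -⟩ := g.ab
    exact ⟨P, U, h1, h2⟩
  have h1 := CR.Bl.cr_split h0 (S := T.subgroupOf E) (two.comap_of_injective _ E.subtype_injective) hi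
    (M := cm M E) (fun m => Subtype.ext (sq m))
    (fun L hL => by
      have h2 : L.map (cm M E).subtype ≤ cm M E := map_subtype_le L
      rcases g.irr _ h2 (by
        rintro e he _ ⟨w, hw, rfl⟩
        exact ⟨_, hL ⟨e, he⟩ w hw, rfl⟩) with h3 | h3
      · left
        exact (Subgroup.map_eq_bot_iff_of_injective _ (cm M E).subtype_injective).1 h3
      · right
        rw [eq_top_iff]
        intro w _
        have h4 : (w : M) ∈ L.map (cm M E).subtype := by rw [h3]; exact w.2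
        obtain ⟨w', hw', h5⟩ := h4
        rwa [← Subtype.ext (show (w' : M) = w from h5)])
    (W := W.subgroupOf (cm M E))
    (fun w hw s hs => Subtype.ext (hWT w (mem_subgroupOf.1 hw) s ⟨mem_subgroupOf.1 hs, s.2⟩))
    (fun k hk w hw => by
      refine mem_subgroupOf.2 (hWn k k.2 ?_ w (mem_subgroupOf.1 hw))
      rw [mem_normalizer_iff] at hk ⊢
      intro s
      constructor
      · rintro ⟨h2, h3⟩
        exact ⟨mem_subgroupOf.1 ((hk ⟨s, h3⟩).1 (mem_subgroupOf.2 h2)),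
          E.mul_mem (E.mul_mem k.2 h3) (E.inv_mem k.2)⟩
      · rintro ⟨h2, h3⟩
        have h4 : s ∈ E := by
          have := E.mul_mem (E.mul_mem (E.inv_mem k.2) h3) k.2
          have e : (k : X)⁻¹ * (k * s * (k : X)⁻¹) * k = s := by group
          rwa [e] at this
        exact ⟨mem_subgroupOf.1 ((hk ⟨s, h4⟩).2 (mem_subgroupOf.2 h2)), h4⟩)
    (by
      intro h2
      apply hW1
      rw [eq_bot_iff]
      intro w hw
      have h3 : (⟨w, hWN hw⟩ : cm M E) ∈ W.subgroupOf (cm M E) := mem_subgroupOf.2 hw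
      rw [h2, mem_bot] at h3
      exact mem_bot.2 (congrArg Subtype.val h3))
    ⟨n, hn⟩ (fun s hsT => Subtype.ext (hs s ⟨mem_subgroupOf.1 hsT, s.2⟩))
  exact mem_subgroupOf.1 h1

/-- `N_E(T ⊓ E)` normalises `T ⊓ K` -/
theorem norm_TK [Finite X] (h : Cp T K E (K ⊓ centralizer (E : Set X))) {n : X} (hn : n ∈ E)
    (hnN : n ∈ normalizer ((T ⊓ E : Subgroup X) : Set X)) : n ∈ normalizer ((T ⊓ K : Subgroup X) : Set X) := by
  have key : ∀ n ∈ E, n ∈ normalizer ((T ⊓ E : Subgroup X) : Set X) → ∀ s ∈ T ⊓ K, n * s * n⁻¹ ∈ T ⊓ K := by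
    rintro n hn hnN s ⟨hsT, hsK⟩
    obtain ⟨e, he, f, hf, rfl⟩ := h.KEF s hsK
    have h1 : e ∈ T ⊓ E := h.pr_T ⟨he, f, hf, hsT⟩
    have h2 : n * e * n⁻¹ ∈ T ⊓ E := (mem_normalizer_iff.1 hnN e).1 h1
    have h3 : f ∈ T := by
      have := T.mul_mem (T.inv_mem h1.1) hsT
      rwa [inv_mul_cancel_left] at this
    have h4 : n * (e * f) * n⁻¹ = (n * e * n⁻¹) * f := by
      have h5 : f * n⁻¹ = n⁻¹ * f := (h.cEF _ (E.inv_mem hn) f hf).symm
      calc n * (e * f) * n⁻¹ = n * e * (f * n⁻¹) := by group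
        _ = _ := by rw [h5]; group
    rw [h4]
    exact ⟨T.mul_mem h2.1 h3, K.mul_mem (h.EK h2.2) (h.FK hf)⟩
  rw [mem_normalizer_iff]
  intro s
  refine ⟨key n hn hnN s, fun hs => ?_⟩
  have h1 := key n⁻¹ (E.inv_mem hn) ((normalizer ((T ⊓ E : Subgroup X) : Set X)).inv_mem hnN) _ hs
  have e : n⁻¹ * (n * s * n⁻¹) * n⁻¹⁻¹ = s := by group
  rwa [e] at h1

variable [Finite X] [Finite M] (h : CmpM T B K E lam)
  (irr : ∀ W : Subgroup M, (∀ g : X, ∀ w ∈ W, g • w ∈ W) → W = ⊥ ∨ W = ⊤)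

omit [Finite X] [Finite M] in
include h irr in
/-- the part in `[M,E]` of a vector fixed by `T ⊓ K` -/
theorem part_fix {a a' : M} (ha : a ∈ cm M E) (ha' : a' ∈ cv M (E : Set X))
    (hm : ∀ s ∈ T ⊓ K, s • (a * a') = a * a') : ∀ s ∈ T ⊓ E, s • a = a := by
  rintro s ⟨hsT, hsE⟩
  have h1 := hm s ⟨hsT, h.cmp.EK hsE⟩
  rw [smul_mul', ha' s hsE] at h1
  exact (h.uniq irr (smul_mem_cm (le_normalizer hsE) ha) ha ha' ha' h1).1

include h irr in
/-- **(1)** `T ≤ P` fixes `x ≠ 1`: `P ⊓ K` centralises `C_M(T ⊓ K)` -/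
theorem fixK (g : Good M E) {P : Subgroup X} (hTP : T ≤ P) {x : M} (x1 : x ≠ 1) (hx : ∀ p ∈ P, p • x = x) :
    ∀ k ∈ P, k ∈ K → ∀ m : M, (∀ s ∈ T ⊓ K, s • m = m) → k • m = m := by
  have sq := h.cmp.mn.sq
  have hcp := h.cmp.cp
  have hnc : ∀ c ∈ centralizer (E : Set X), c ∈ normalizer (E : Set X) := fun c hc =>
    (centralizer_le_normalizer (E : Set X)) hc
  have hcvN : (cv M (E : Set X)).Normal := ⟨fun x hx g => by
    rw [comm_of_sq' sq g x, mul_inv_cancel_right]; exact hx⟩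
  obtain ⟨a, ha, a', ha', hxa, ha1, -⟩ := h.exists_part irr (fun t ht => hx t (hTP ht)) x1
  -- the projection of `P ⊓ K` fixes `a`
  have hRa : ∀ e ∈ hcp.pr P, e ∈ E → e • a = a := by
    rintro e ⟨he, c, hc, hec⟩ -
    have h1 := hx _ hec
    rw [hxa, smul_mul', mul_smul, mul_smul, h.cenN c hc.1 hc.2 a ha] at h1
    have h2 : c • a' ∈ cv M (E : Set X) := CmpM.smul_mem_cv (hnc c hc.2) ha'
    rw [h2 e he] at h1
    exact (h.uniq irr (smul_mem_cm (le_normalizer he) ha) ha h2 ha' h1).1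
  have hfE := fixE g h.cmp.mn.two h.cmp.sylE sq (R := hcp.pr P)
    ((inf_le_inf_right _ hTP).trans (hcp.inf_le_pr P)) ha ha1 hRa
  -- modulo `C_M(E)`
  have key : ∀ k ∈ P, k ∈ K → ∀ m : M, (∀ s ∈ T ⊓ K, s • m = m) → k • m * m ∈ cv M (E : Set X) := by
    intro k hkP hkK m hm
    obtain ⟨b, hb, b', hb', rfl⟩ := mem_sup_of_normal_right.1 (h.sup_top irr m)
    obtain ⟨e, he, f, hf, rfl⟩ := hcp.KEF k hkK
    have h1 : e • b = b := hfE e ⟨he, f, hf, hkP⟩ he b hb (part_fix h irr hb hb' hm)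
    have h2 : f • b' ∈ cv M (E : Set X) := CmpM.smul_mem_cv (hnc f hf.2) hb'
    have h3 : (e * f) • (b * b') * (b * b') = (f • b') * b' := by
      rw [smul_mul', mul_smul, mul_smul, h.cenN f hf.1 hf.2 b hb, h1, h2 e he, comm_of_sq' sq b (f • b'), mul_assoc,
        ← mul_assoc b, sq, one_mul]
    rw [h3]
    exact Subgroup.mul_mem _ h2 hb'
  intro k hkP hkK m hm
  have h1 : k • m * m = 1 := by
    refine h.eq_one_of_fix irr fun t ht e he => ?_
    have h4 : t⁻¹ * k * t ∈ P := P.mul_mem (P.mul_mem (P.inv_mem (hTP ht)) hkP) (hTP ht)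
    have h5 : t⁻¹ * k * t ∈ K := by
      have := h.cmp.normK.conj_mem k hkK t⁻¹
      rwa [inv_inv] at this
    have h6 : ∀ s ∈ T ⊓ K, s • (t⁻¹ • m) = t⁻¹ • m := by
      rintro s ⟨hsT, hsK⟩
      have h7 : t * s * t⁻¹ ∈ T ⊓ K :=
        ⟨T.mul_mem (T.mul_mem ht hsT) (T.inv_mem ht), h.cmp.normK.conj_mem s hsK t⟩
      have h8 := hm _ h7
      rw [mul_smul, mul_smul] at h8
      have h9 := congrArg (fun w => t⁻¹ • w) h8
      simp only [inv_smul_smul] at h9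
      exact h9
    have h7 := key _ h4 h5 _ h6 e he
    have h8 : (t⁻¹ * k * t) • (t⁻¹ • m) * (t⁻¹ • m) = t⁻¹ • (k • m * m) := by
      rw [smul_mul', mul_smul, mul_smul, smul_inv_smul]
    rw [h8] at h7
    rw [mul_smul, mul_smul, h7, smul_inv_smul]
  rw [eq_inv_of_mul_eq_one_left h1, inv_eq_of_mul_eq_one_right (sq m)]

include h in
/-- the other conjugates of `[M,E]` are centralised by `E` -/
theorem conj_cv {t : X} (ht : t ∈ T) (htn : t ∉ normalizer (E : Set X)) {a : M} (ha : a ∈ cm M E) :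
    t • a ∈ cv M (E : Set X) := by
  intro f hf
  obtain ⟨h1, h2⟩ := h.conj_inv ht htn hf
  have h3 := h.cenN _ h1 h2 a ha
  rwa [mul_smul, mul_smul, inv_smul_eq_iff] at h3

include h irr in
/-- a vector all whose parts are in `D` -/
theorem mem_of_parts {D : Subgroup M} {y : M}
    (hD : ∀ t ∈ T, ∀ a ∈ cm M E, ∀ a' ∈ cv M (E : Set X), t⁻¹ • y = a * a' → t • a ∈ D) : y ∈ D := by
  classical
  have sq := h.cmp.mn.sq
  have hcvN : (cv M (E : Set X)).Normal := ⟨fun x hx g => by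
    rw [comm_of_sq' sq g x, mul_inv_cancel_right]; exact hx⟩
  induction hn : {t : X | t ∈ T ∧ t⁻¹ • y ∉ cv M (E : Set X)}.ncard using Nat.strong_induction_on generalizing y with
  | _ n IH =>
  by_cases h0 : ∀ t ∈ T, t⁻¹ • y ∈ cv M (E : Set X)
  · have h1 : y = 1 := h.eq_one_of_fix irr fun t ht e he => by
      rw [mul_smul, mul_smul, h0 t ht e he, smul_inv_smul]
    rw [h1]
    exact D.one_mem
  push Not at h0
  obtain ⟨r, hr, hry⟩ := h0
  obtain ⟨a, ha, a', ha', hra⟩ := mem_sup_of_normal_right.1 (h.sup_top irr (r⁻¹ • y))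
  have hraD : r • a ∈ D := hD r hr a ha a' ha' hra.symm
  -- the rest
  have hin : ∀ t ∈ T, t⁻¹ * r ∈ normalizer (E : Set X) → t⁻¹ • ((r • a) * y) ∈ cv M (E : Set X) := by
    intro t ht htr
    have h1 : t⁻¹ • ((r • a) * y) = (t⁻¹ * r) • a' := by
      have h2 : y = r • (a * a') := by rw [hra, smul_inv_smul]
      rw [h2, smul_mul' r a a', ← mul_assoc, sq, one_mul, mul_smul]
    rw [h1]
    exact CmpM.smul_mem_cv htr ha'
  have hout : ∀ t ∈ T, t⁻¹ * r ∉ normalizer (E : Set X) → ∃ c ∈ cv M (E : Set X),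
      t⁻¹ • ((r • a) * y) = c * t⁻¹ • y := by
    intro t ht htr
    refine ⟨(t⁻¹ * r) • a, conj_cv h (T.mul_mem (T.inv_mem ht) hr) htr ha, ?_⟩
    rw [smul_mul', mul_smul]
  have hlt : {t : X | t ∈ T ∧ t⁻¹ • ((r • a) * y) ∉ cv M (E : Set X)}.ncard < n := by
    rw [← hn]
    refine Set.ncard_lt_ncard ⟨?_, ?_⟩ (Set.toFinite _)
    · rintro t ⟨ht, ht1⟩
      refine ⟨ht, fun h1 => ht1 ?_⟩
      by_cases htr : t⁻¹ * r ∈ normalizer (E : Set X)
      · exact hin t ht htr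
      · obtain ⟨c, hc, h2⟩ := hout t ht htr
        rw [h2]
        exact Subgroup.mul_mem _ hc h1
    · intro h1
      have h2 := h1 (show r ∈ {t : X | t ∈ T ∧ t⁻¹ • y ∉ cv M (E : Set X)} from ⟨hr, hry⟩)
      refine h2.2 (hin r hr ?_)
      rw [inv_mul_cancel]
      exact Subgroup.one_mem _
  have h1 : (r • a) * y ∈ D := by
    refine IH _ hlt ?_ rfl
    intro t ht b hb b' hb' htb
    by_cases htr : t⁻¹ * r ∈ normalizer (E : Set X)
    · have h2 := hin t ht htr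
      rw [htb] at h2
      have h3 := (h.uniq irr hb (cm M E).one_mem hb' h2 (by rw [one_mul])).1
      rw [h3, smul_one]
      exact D.one_mem
    · obtain ⟨c, hc, h2⟩ := hout t ht htr
      refine hD t ht b hb (c⁻¹ * b') (Subgroup.mul_mem _ (Subgroup.inv_mem _ hc) hb') ?_
      rw [h2] at htb
      have h3 : t⁻¹ • y = c⁻¹ * (b * b') := by rw [← htb, inv_mul_cancel_left]
      rw [h3, ← mul_assoc, comm_of_sq' sq c⁻¹ b, mul_assoc]
  have h2 : y = (r • a)⁻¹ * ((r • a) * y) := by rw [inv_mul_cancel_left]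
  rw [h2]
  exact D.mul_mem (D.inv_mem hraD) h1

include h irr in
/-- **LEMMA CRW for several components** -/
theorem crw (g : Good M E) {x : M} (x1 : x ≠ 1) {Y : Subgroup M} (hne : Y ≠ ⊥)
    (NY : ∀ g ∈ normalizer (T : Set X), ∀ w ∈ Y, g • w ∈ Y)
    (PY : ∀ P : Subgroup X, IsMinPar T P → (∃ p ∈ P, p • x ≠ x) → ∀ p ∈ P, ∀ w ∈ Y, p • w ∈ Y) {y : M}
    (ty : ∀ t ∈ T, t • y = y) : y ∈ Y := by
  classical
  have sq := h.cmp.mn.sq
  have hcp := h.cmp.cp
  have two := h.cmp.mn.two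
  have hcvN : (cv M (E : Set X)).Normal := ⟨fun x hx g => by
    rw [comm_of_sq' sq g x, mul_inv_cancel_right]; exact hx⟩
  by_cases y1 : y = 1
  · rw [y1]
    exact Y.one_mem
  have hB := Crw.norm_D h.cmp.normK h.cmp.gen NY PY fun P hTP hPx k hkP hkK => fixK h irr g hTP x1 hPx k hkP hkK
  set D : Subgroup M := Y ⊓ cv M ((T ⊓ K : Subgroup X) : Set X) with hD
  have hTN : T ≤ normalizer ((T ⊓ K : Subgroup X) : Set X) := by
    intro t ht
    rw [mem_normalizer_iff]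
    intro s
    constructor
    · rintro ⟨h1, h2⟩
      exact ⟨T.mul_mem (T.mul_mem ht h1) (T.inv_mem ht), h.cmp.normK.conj_mem s h2 t⟩
    · rintro ⟨h1, h2⟩
      have e : t⁻¹ * (t * s * t⁻¹) * t = s := by group
      refine ⟨?_, ?_⟩
      · have := T.mul_mem (T.mul_mem (T.inv_mem ht) h1) ht
        rwa [e] at this
      · have := h.cmp.normK.conj_mem _ h2 t⁻¹
        rw [inv_inv] at this
        rwa [e] at this
  have hTKE : T ⊓ E ≤ T ⊓ K := inf_le_inf_left _ h.cmp.EK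
  by_cases hA : ∃ w ∈ D, ∃ e ∈ E, e ∈ normalizer ((T ⊓ E : Subgroup X) : Set X) ∧ e • w ≠ w
  · -- the torus is not trivial
    obtain ⟨w, hw, e, he, heN, hew⟩ := hA
    have h1 : e • w * w ∈ D ⊓ cm M E :=
      ⟨D.mul_mem (hB e (norm_TK hcp he heN) w hw) hw, mem_cm he w⟩
    have h2 : D ⊓ cm M E ≠ ⊥ := by
      intro h3
      rw [h3, mem_bot] at h1
      apply hew
      rw [eq_inv_of_mul_eq_one_left h1, inv_eq_of_mul_eq_one_right (sq w)]
    have h3 := crE g two h.cmp.sylE sq (W := D ⊓ cm M E) inf_le_right h2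
      (fun w hw s hs => hw.1.2 s (hTKE hs))
      (fun n hn hnN w hw => ⟨hB n (norm_TK hcp hn hnN) w hw.1, smul_mem_cm (le_normalizer hn) hw.2⟩)
    have h4 : y ∈ D := by
      refine mem_of_parts h irr fun t ht a ha a' ha' hta => ?_
      rw [ty _ (T.inv_mem ht)] at hta
      have h5 : a ∈ D := (h3 a ha (part_fix h irr ha ha' fun s hs => by rw [← hta]; exact ty s hs.1)).1
      exact hB t (hTN ht) a h5
    exact h4.1
  · -- the torus is trivial
    push Not at hA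
    obtain ⟨w, hw, w1, hwf⟩ := Crw.exists_fix sq two hne fun g hg w hw => NY g (le_normalizer hg) w hw
    have hwD : w ∈ D := ⟨hw, fun s hs => hwf s hs.1⟩
    obtain ⟨b, hb, b', hb', hwb, hb1, -⟩ := h.exists_part irr hwf w1
    have hbN : ∀ n ∈ E, n ∈ normalizer ((T ⊓ E : Subgroup X) : Set X) → n • b = b := by
      intro n hn hnN
      have h1 := hA w hwD n hn hnN
      rw [hwb, smul_mul', hb' n hn] at h1
      exact (h.uniq irr (smul_mem_cm (le_normalizer hn) hb) hb hb' hb' h1).1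
    have hz : ∀ m ∈ zpowers b, m = 1 ∨ m = b := by
      rintro m ⟨n, rfl⟩
      change b ^ n = 1 ∨ b ^ n = b
      rcases Int.even_or_odd' n with ⟨k, rfl | rfl⟩
      · left
        rw [zpow_mul, zpow_ofNat, pow_two, sq, one_zpow]
      · right
        rw [zpow_add, zpow_mul, zpow_ofNat, pow_two, sq, one_zpow, one_mul, zpow_one]
    have h3 := crE g two h.cmp.sylE sq (W := zpowers b) ((zpowers_le).2 hb) (fun h1 => hb1 (zpowers_eq_bot.1 h1))
      (fun w hw s hs => by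
        rcases hz w hw with rfl | rfl
        · exact smul_one _
        · exact hbN s hs.2 (le_normalizer hs))
      (fun n hn hnN w hw => by
        rcases hz w hw with rfl | rfl
        · rw [smul_one]; exact Subgroup.one_mem _
        · rw [hbN n hn hnN]; exact hw)
    -- `y w` has no part in `[M,E]`
    obtain ⟨a, ha, a', ha', hya, ha1, -⟩ := h.exists_part irr ty y1
    have h4 : a = b := by
      rcases hz a (h3 a ha (part_fix h irr ha ha' fun s hs => by rw [← hya]; exact ty s hs.1)) with h5 | h5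
      · exact absurd h5 ha1
      · exact h5
    have h5 : y * w = 1 := by
      by_contra h6
      obtain ⟨c, hc, c', hc', hyc, hc1, -⟩ := h.exists_part irr (x := y * w) (fun t ht => by
        rw [smul_mul', ty t ht, hwf t ht]) h6
      apply hc1
      refine (h.uniq irr hc (cm M E).one_mem hc' (Subgroup.mul_mem _ ha' hb') ?_).1
      rw [← hyc, hya, hwb, h4, one_mul]
      calc b * a' * (b * b') = b * (a' * b) * b' := by group
        _ = b * (b * a') * b' := by rw [comm_of_sq' sq a' b]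
        _ = (b * b) * (a' * b') := by group
        _ = a' * b' := by rw [sq, one_mul]
    rw [eq_inv_of_mul_eq_one_left h5, inv_eq_of_mul_eq_one_right (sq w)]
    exact hw

/-- the two facts about a component of Lie type in characteristic two -/
theorem good_of (ml : MLK.{u, v}) (hKG : IsKGroup X) {X₁ : Type u} [Group X₁] [Finite X₁]
    [MulDistribMulAction X₁ (cm M E)] {a : YY T E →* X₁} (h : Sc T B K E lam a)
    (irr : ∀ W : Subgroup M, (∀ g : X, ∀ w ∈ W, g • w ∈ W) → W = ⊥ ∨ W = ⊤) (hl : IsLieTypeChar 2 (im a E)) :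
    Good M E := by
  have hI := h.inX irr
  have hKG₁ : IsKGroup X₁ := ML.Final.kgroup_of_surj hKG (YY T E) a h.surj
  have hirr := hI.irr_K ml hKG₁
  refine ⟨?_, ?_⟩
  · have hs : IsSimpleGroup (im a E) := hI.simple
    exact (hasSplitAb_of_lie hs hl).congr h.quo.equiv.symm
  · intro W hW hWE
    rcases hirr (W.subgroupOf (cm M E)) (by
      rintro _ ⟨y, hy, rfl⟩ w hw
      refine mem_subgroupOf.2 ?_
      rw [h.act]
      exact hWE y hy w (mem_subgroupOf.1 hw)) with h1 | h1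
    · left
      rw [eq_bot_iff]
      intro w hw
      have h2 : (⟨w, hW hw⟩ : cm M E) ∈ W.subgroupOf (cm M E) := mem_subgroupOf.2 hw
      rw [h1, mem_bot] at h2
      exact mem_bot.2 (congrArg Subtype.val h2)
    · right
      exact le_antisymm hW (subgroupOf_eq_top.1 h1)

end

open Cfsg.Agent.Omega.KL.StarD (SysB)
open Cfsg.Agent.Omega.ML.Ex.Two (ExitN)

/-- the input of RED -/
theorem mn_of_sysB {X : Type u} [Group X] {M : Type v} [Group M] [MulDistribMulAction X M] {T B : Subgroup X} {x : M}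
    (h : SysB X M T B x) : Mn T B x where
  sq := h.sq
  faith := h.faith
  gen := by
    rcases h.irr (orb (⊤ : Subgroup X) x) (fun g w hw => smul_mem_orb (mem_top g) hw) with h1 | h1
    · have h2 := mem_orb_self (⊤ : Subgroup X) x
      rw [h1, mem_bot] at h2
      exact absurd h2 h.x1
    · exact h1
  fixT := h.tx
  odd := h.odd
  two := h.two
  syl := h.syl
  el := h.el
  four := h.four
  exact := h.exact
  atom := h.atom
  low := h.low
  nmax := h.nmax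

/-- **LEMMA CRW**: in `SysB` every subgroup `Y ≠ 1` of `M` which is normalised by `N_H(T)` and by every `T`-minimal `P`
moving `x` contains all the `T`-fixed vectors. -/
theorem le_of_sysB {H : Type u} [Group H] [Finite H] {M : Type v} [Group M] [Finite M] [MulDistribMulAction H M]
    {T A : Subgroup H} {x : M} (ml : MLK.{u, v}) (h2 : ExitN.{u, v}) (h : SysB H M T A x) {Y : Subgroup M} (hne : Y ≠ ⊥)
    (NY : ∀ g ∈ normalizer (T : Set H), ∀ w ∈ Y, g • w ∈ Y)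
    (PY : ∀ P : Subgroup H, IsMinPar T P → (∃ p ∈ P, p • x ≠ x) → ∀ p ∈ P, ∀ w ∈ Y, p • w ∈ Y) {y : M}
    (ty : ∀ t ∈ T, t • y = y) : y ∈ Y := by
  obtain ⟨K, E, hC⟩ := (mn_of_sysB h).exists_cmpM ml h.KH
  letI := hC.qact
  have hs := hC.sc
  have hI := hs.inX h.irr
  have hfin : Finite hC.Xq := inferInstance
  rcases h2 _ _ _ _ _ (InN.of_inX hI hs.atm) (hs.known h.KH) with hl | hu
  · exact crw hC h.irr (good_of ml h.KH hs h.irr hl) h.x1 hne NY PY ty
  · -- `U₃(3)`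
    obtain ⟨w, hw, w1, hwf⟩ := Crw.exists_fix h.sq h.two hne fun g hg w hw => NY g (le_normalizer hg) w hw
    by_cases y1 : y = 1
    · rw [y1]
      exact Y.one_mem
    have hpart : ∀ {z : M}, (∀ t ∈ T, t • z = z) → z ≠ 1 → ∃ c ∈ cm M E, ∃ c' ∈ cv M (E : Set H), z = c * c' ∧ c ≠ 1 ∧
        ∀ t ∈ T, t ∈ normalizer (E : Set H) → t • c = c := fun hz z1 => hC.exists_part h.irr hz z1
    obtain ⟨b, hb, b', hb', hwb, hb1, hbt⟩ := hpart hwf w1
    obtain ⟨a, ha, a', ha', hya, ha1, hat⟩ := hpart ty y1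
    have hY : YY T E ≤ normalizer (E : Set H) := sup_le le_normalizer inf_le_right
    have hfixT : ∀ {c : M} (hc : c ∈ cm M E), (∀ t ∈ T, t ∈ normalizer (E : Set H) → t • c = c) →
        ∀ t ∈ im (QuotientGroup.mk' hC.rep.ker) (T1 T E), t • (⟨c, hc⟩ : cm M E) = ⟨c, hc⟩ := by
      rintro c hc hct _ ⟨t, ht, rfl⟩
      refine Subtype.ext ?_
      rw [hs.act]
      exact hct t ht.1 ht.2
    have hab : a = b := by
      by_contra hne'
      exact RowU33X.dead_two hI hu (x := ⟨a, ha⟩) (y := ⟨b, hb⟩) (fun h3 => ha1 (congrArg Subtype.val h3))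
        (fun h3 => hb1 (congrArg Subtype.val h3)) (fun h3 => hne' (congrArg Subtype.val h3)) (hfixT ha hat)
        (hfixT hb hbt)
    have h5 : y * w = 1 := by
      by_contra h6
      obtain ⟨c, hc, c', hc', hyc, hc1, -⟩ := hpart (z := y * w) (fun t ht => by
        rw [smul_mul', ty t ht, hwf t ht]) h6
      apply hc1
      refine (hC.uniq h.irr hc (cm M E).one_mem hc' (Subgroup.mul_mem _ ha' hb') ?_).1
      rw [← hyc, hya, hwb, hab, one_mul]
      calc b * a' * (b * b') = b * (a' * b) * b' := by group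
        _ = b * (b * a') * b' := by rw [comm_of_sq' h.sq a' b]
        _ = (b * b) * (a' * b') := by group
        _ = a' * b' := by rw [h.sq, one_mul]
    rw [eq_inv_of_mul_eq_one_left h5, inv_eq_of_mul_eq_one_right (h.sq w)]
    exact hw

/-- the form of the consumers -/
theorem false_of_sysB {H : Type u} [Group H] [Finite H] {M : Type v} [Group M] [Finite M] [MulDistribMulAction H M]
    {T A : Subgroup H} {x : M} (ml : MLK.{u, v}) (h2 : ExitN.{u, v}) (h : SysB H M T A x) {Y : Subgroup M} (hne : Y ≠ ⊥)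
    (NY : ∀ g ∈ normalizer (T : Set H), ∀ w ∈ Y, g • w ∈ Y)
    (PY : ∀ P : Subgroup H, IsMinPar T P → (∃ p ∈ P, p • x ≠ x) → ∀ p ∈ P, ∀ w ∈ Y, p • w ∈ Y) {y : M}
    (ty : ∀ t ∈ T, t • y = y) (hy : y ∉ Y) : False :=
  hy (le_of_sysB ml h2 h hne NY PY ty)

end Cfsg.Agent.Omega.KL.Star.CrwB

end

-- merged: Cfsg.Agent.Mrg.Omega.KL.StarM.Fin
section

/-!
# LEMMA MOV, the end ([L2] + [L3] of bb #24920; helper831 over helper178's LEMMA CRW)

* **`SysM.false_of (ml : MLK) (h2 : ExitN)`**, **`SysM.false (ml : MLK)`**, **`SysM.dead (ml : MLK)`** :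
  `SysM H M T A x y Y₁ Y₂ → False`.
-/

set_option autoImplicit false

namespace Cfsg.Agent.Omega.KL.StarM

open Subgroup Cfsg Cfsg.Agent.ZN
open Cfsg.Agent.MinSimple.MinParabolic (IsMinPar)

universe u v

variable {H : Type u} [Group H] [Finite H] {M : Type v} [Group M] [Finite M] [MulDistribMulAction H M]
  {T A : Subgroup H} {x y : M} {Y₁ Y₂ : Subgroup M}

/-- **no `SysM`** : by LEMMA CRW `x ∈ Y₁`, against the link -/
theorem SysM.false_of (ml : ML.Final.MLK.{u, v}) (h2 : ML.Ex.Two.ExitN.{u, v}) (h : SysM H M T A x y Y₁ Y₂) :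
    False := by
  have hne : Y₁ ≠ ⊥ := by
    intro h1
    have h3 := h.yY
    rw [h1, mem_bot] at h3
    exact h.y1 h3
  have hx : x ∈ Y₁ := Star.CrwB.le_of_sysB ml h2 h.toSysB hne h.N₁ (fun P hP hm => by
    rcases h.par P hP with h3 | h3
    · obtain ⟨p, hp, hpx⟩ := hm
      exact absurd (h3 p hp) hpx
    · exact h3.1) h.tx
  obtain ⟨R, -, ⟨r, hr, hrx⟩, hl⟩ := h.link
  exact hrx (hl x hx h.xY h.tx r hr)

/-- closed over (ML) -/
theorem SysM.false (ml : ML.Final.MLK.{u, v}) (h : SysM H M T A x y Y₁ Y₂) : False :=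
  h.false_of ml ML.Ex.KnownDone.exitN

/-- closed over (ML) -/
theorem SysM.dead (ml : ML.Final.MLK.{u, v}) (h : SysM H M T A x y Y₁ Y₂) : False :=
  h.false ml

end Cfsg.Agent.Omega.KL.StarM

end

-- merged: Cfsg.Agent.Mrg.Omega.KL.StarM.Done
section

/-!
# LEMMA MOV = THEOREM KL*(q) with all K2's, closed (bb #24831 of helper192, #24920 of helper351, typed by 181, 815, 178, 351)

* **`noInpM_of (ml : MLK) : NoInpM`**, **`noInpM : NoInpM`**.
-/

set_option autoImplicit false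

namespace Cfsg.Agent.Omega.KL.StarM

universe u v

/-- over (ML) -/
theorem noInpM_of (ml : ML.Final.MLK.{u, v}) : NoInpM.{u, v} := by
  intro H _ _ M _ _ _ T A Z Y Y' i
  obtain ⟨H', _, _, N, _, _, _, T', A', x', y', Y₁, Y₂, h⟩ := i.out ml
  exact h.dead ml

/-- **THEOREM KL*(q) with all K2's** -/
theorem noInpM : NoInpM.{u, v} := noInpM_of ML.KnownAll.mlk

end Cfsg.Agent.Omega.KL.StarM

end

-- merged: Cfsg.Agent.Mrg.Omega.Node.NO3LOpen
section

/-!
# The leaf NO-3L and its open sockets (assembler: helper597)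

`Ref := E1Fr` (`C_Z(E₁) = 1`, helper616 `RRed/EOneDef`), `BF := FBR E1Fr` (`RBF S ∧ E1S S`); the tree of box R with `E1S`
is `RRed/WideTree` v5 (helper585, 699) for `FourOf` and `WideAll` together.

* `OpenR K` : the open sockets;  **`OpenR.node (L : Landed) : OpenR K → NodeNO3L K`**;
* `OpenR.four`, `OpenR.wide`, `OpenR.toRef` : the sockets of `Node/NO3LRef`.

When a socket is proved its field is deleted here and the theorem is plugged below. Plugged: `rr` (helper616), `cm`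
(`CI.cmThm`, helper241, 732), `perm` (helper540, 278), `leftOne` (helper958), `oneOne` (helper966, 982, 557), `run` (helper391,
820), `oneBlk` (helper163, 168, 208, 374, 877 et al.), `leftFld` (helper19, 916, 410, 401, 853),
`all` (helper863, 314, 329), `blk` (helper283, 163 et al.), `oneS`
(helper460, 827, 566, 343, 733, 440 et al.).
-/

set_option autoImplicit false

namespace Cfsg.Agent.Omega.Node.NO3LOpen

open Cfsg.Agent.Omega.Frame Cfsg.Agent.Omega.NOThreeL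
open Cfsg.Agent.Omega.NOThreeL.RRed Cfsg.Agent.Omega.NOThreeL.RRed.GlueSig
open Cfsg.Agent.Omega.Landed (Landed)

universe u

/-- `RBF S ∧ E1S S` -/
abbrev BF : Fr.{u} := FBR EOne.E1Fr.{u}

theorem toRB (G : Type u) [Group G] [Finite G] (S : Sylow 2 G) (h : BF G S) : RTree.RB S := h.1.toRB

/-- `E1S S` implies `RR S = 1` (helper616) -/
theorem rr (G : Type u) [Group G] [Finite G] (S : Sylow 2 G) (h : RTreeF.RBF S) (he : EOne.E1Fr G S) :
    RZ.RR (S : Subgroup G) = ⊥ := EOne.rr_of_e1s h.toRB he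

/-- **The open sockets of the leaf NO-3L.** -/
structure OpenR (K : Cls.{u}) : Prop where
  /-- `C_Z(E₁) ≠ 1` (helper455, 652, 820, 568) -/
  nr : NrOf K EOne.E1Fr
  /-- some `z` is moved by inactive `P` only (helper811) -/
  noMv : WideTree.WNoMv K BF
  /-- `≥ 3` blocks (helper848, 583) -/
  leftMany : WideTree.WLeftMany K BF
  /-- one class, two blocks (helper483, 381, 223, 529) -/
  oneTwo : WideTree.WOneTwo K BF
  /-- one class, `≥ 3` blocks (helper51, 461, 848) -/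
  oneMany : WideTree.WOneMany K BF

variable {K : Cls.{u}}

/-- `≥ 2` classes -/
theorem OpenR.mul (L : Landed.{u}) (I : OpenR K) : WideTree.WMul K BF :=
  WideTree.wMul_of Blk.AsmLeftBlk.leftBlk (LeftAllOf.leftAll L.mlk BF) (LeftPermPlug.leftPerm BF)
    (WideTree.wRun L.mlk K BF) (WLeft.wLeftOne L.mlk L.ext K BF)
    (WLF.wLeftFld L.mlk L.ext (KL.StarM.noInpM_of L.mlk) K BF) I.leftMany

/-- one class -/
theorem OpenR.one (L : Landed.{u}) (I : OpenR K) : WideTree.WOne K BF :=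
  WideTree.wOne_of WideTree.oneBlk (WideTree.wOneS L.mlk L.ext (NO3b.EndX.absP_all L.mlk L.rows)) (WOneOne.wOneOne K BF) I.oneTwo I.oneMany

/-- everything over `Wide S` -/
theorem OpenR.known (L : Landed.{u}) (I : OpenR K) :
    ∀ (G : Type u) [Group G] [Finite G], K G → ∀ (S : Sylow 2 G), BF G S → WideTree.Wide S → IsKnownSimple' G :=
  WideTree.all_of CI.cmThm I.noMv (I.mul L) (I.one L)

theorem OpenR.wide (L : Landed.{u}) (I : OpenR K) : WideAll K BF :=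
  fun G _ _ hK S hB hr hwd => I.known L G hK S hB { toRB := toRB G S hB, rr := hr, wd := Or.inl hwd }

theorem OpenR.four (L : Landed.{u}) (I : OpenR K) : FourOf K BF :=
  fun G _ _ hK S hB hr _ hz hn _ => I.known L G hK S hB { toRB := toRB G S hB, rr := hr, wd := Or.inr ⟨hz, hn⟩ }

theorem OpenR.toRef (L : Landed.{u}) (I : OpenR K) : NO3LRef.OpenRef K EOne.E1Fr where
  rr := rr
  four := I.four L
  wide := I.wide L
  nr := I.nr

/-- **The leaf NO-3L from its open sockets.** -/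
theorem OpenR.node (L : Landed.{u}) (I : OpenR K) : FrameNOFF.NodeNO3L K := (I.toRef L).node

end Cfsg.Agent.Omega.Node.NO3LOpen

end
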