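import Cfsg.Agent.Mrg.Omega.NOThreeL.RRed.Blk.InNEnd
import Cfsg.Agent.Mrg.Omega.NOThreeL.RRed.Blk.AcNK
import Cfsg.Agent.Mrg.Omega.NOThreeL.RWide.TFm
import Cfsg.Agent.Omega.NOThreeL.RWide.TWc
import Cfsg.Agent.Mrg.Omega.NOThreeL.RWide.UniT.Exc
import Cfsg.Agent.Mrg.Omega.NOThreeL.RWide.ParQ.I
import Cfsg.Agent.Omega.NOThreeL.RWide.TBlk
import Cfsg.Agent.Mrg.Omega.NOThreeL.RRed.OneManyOf
import Cfsg.Agent.Mrg.Omega.NOThreeL.RWide.ParT.Loc
import Cfsg.Agent.Mrg.Omega.CaseLQ.PsiBg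
import Cfsg.Agent.Mrg.Omega.NOThreeL.RWide.ParA.One
import Cfsg.Agent.Mrg.Omega.TTn.DiCoreAbs
import Cfsg.Agent.Mrg.Omega.NOThreeL.RWide.UniT.ATwoB
import Cfsg.Agent.Mrg.Omega.NOThreeL.RWide.UniT.FixBl
import Cfsg.Agent.Mrg.Omega.NOThreeL.RWide.UniT.ATwo
import Cfsg.Agent.Mrg.Omega.FFBr.Final
import Cfsg.Agent.Mrg.Omega.NOThreeL.RZ.TwoE.NatAll
import Cfsg.Agent.Mrg.Omega.NOThreeL.RRed.Blk.AsmInp
import Cfsg.Agent.Mrg.Omega.NOThreeL.RRed.Blk.AsmLeftB
import Cfsg.Agent.Mrg.Omega.NOThreeL.RZ.TwoC.BadNat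
import Cfsg.Agent.Mrg.Omega.NOThreeL.RTreeF
import Cfsg.Agent.Mrg.Omega.NOThreeL.RZ.TwoC.FrEOf
import Cfsg.Agent.Mrg.Omega.NOThreeL.RRed.EOneTr
import Cfsg.Agent.Mrg.Omega.NOThreeL.RRed.ClassMx
import Cfsg.Agent.Mrg.Omega.NOThreeL.RZ.TwoE.Tv
import Cfsg.Agent.Mrg.Omega.NOThreeL.RZ.TwoE.NsEnd
import Cfsg.Agent.Mrg.Omega.NOThreeL.RRed.Blk.UniOf
import Cfsg.Agent.Mrg.Omega.Node.NO3LOpen
import Cfsg.Agent.Mrg.Omega.NOThreeL.RRed.TopQEnd
import Cfsg.Agent.Mrg.Omega.NOThreeL.RRed.Blk.MvNatH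

-- merged: Cfsg.Agent.Mrg.Omega.NOThreeL.RRed.Blk.InBOf
section

/-!
# NO-3L, box R: the inputs `InN` of the family of the nonsplit natural blocks

* `normC` : `NormC S L P` (helper426's `AcNK.norm_C`);
* `inN` : `InN S Q`;  **`inB`** : the statement `NsEnd.InB`.
-/

set_option autoImplicit false
set_option linter.unusedSectionVars false

namespace Cfsg.Agent.Omega.NOThreeL.RRed.Blk.InBOf

open Subgroup Cfsg Cfsg.Agent.ZN Cfsg.Agent.Omega.MinPar
open Cfsg.Agent.Omega.FFThm Cfsg.Agent.Lib.SL2Mat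
open Cfsg.Agent.Omega.FrameFF (cv)
open Cfsg.Agent.Omega.NOThreeL.RTree (RB)
open Cfsg.Agent.Omega.NOThreeL.Merge (MZ le_MZ isLoc_MZ)
open Cfsg.Agent.Omega.NOThreeL.RSplit (Nrm)
open Cfsg.Agent.Omega.NOThreeL.RRed.Blk.TypesNat (XH ph ph_smul)
open Cfsg.Agent.Omega.NOThreeL.RRed.Blk.AsmCore
open Cfsg.Agent.Omega.NOThreeL.RRed.Blk.FamOf (InN no_norm)
open scoped Pointwise

universe u

/-- **`NormC`** -/
theorem normC {G : Type u} [Group G] [Finite G] {S : Sylow 2 G} {L P H : Subgroup G} (hc : IsCharacteristicTwoType G)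
    (hL : IsLoc (S : Subgroup G) L) (hP : IsParS (S : Subgroup G) P) (hPL : P ≤ L) (LH : L ≤ H)
    (noH : NoOverM (zl (S : Subgroup G) L) H) (Q : Nrm H (zl (S : Subgroup G) L)) : InNEnd.NormC S L P := by
  intro F _ _ _ k M hF A hA j O p hp hpA x hx w hw hwC
  have hxH : x ∈ H := ((KP_le hP.le).trans hPL |>.trans LH) hx
  have h1 := @AcNK.norm_C G _ F _ (S : Subgroup G) P (zl (S : Subgroup G) P) (cv (S : Subgroup G) P) k M _ S L P H hc
    hP hPL LH (FFThm.elem_zl hc S hL) noH Q F _ _ _ k M A j hF hA O p hp hpA _ (ph_mem_im Q (a := ⟨x, hxH⟩) hx)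
    (Q.of w hw) hwC
  rw [ph_smul] at h1
  have h2 : Q.val ((⟨x, hxH⟩ : H) • Q.of w hw) ∈ centralizer ((A ⊔ MulAut.conj p • A : Subgroup G) : Set G) := h1
  rwa [Nrm.val_smul, Nrm.val_of] at h2

/-- **`InN`** -/
theorem inN {G : Type u} [Group G] [Finite G] {S : Sylow 2 G} (hc : IsCharacteristicTwoType G)
    (hL : IsLoc (S : Subgroup G) (MZ (S : Subgroup G)))
    (no : NoOverM (zl (S : Subgroup G) (MZ (S : Subgroup G))) (MZ (S : Subgroup G)))
    (Q : Nrm (normalizer (MZ (S : Subgroup G) : Set G)) (zl (S : Subgroup G) (MZ (S : Subgroup G)))) : InN S Q :=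
  InNEnd.inN_of hc hL no (fun _ hP => normC hc hL hP (le_MZ hP) le_normalizer (no_norm hL.le no) Q) Q

/-- **The inputs `NsEnd.InB` (`NsO`, `noMv`).** -/
theorem inB : ∀ (G : Type u) [Group G] [Finite G] (S : Sylow 2 G), RB S →
    NoOverM (zl (S : Subgroup G) (MZ (S : Subgroup G))) (MZ (S : Subgroup G)) →
    ∀ Q : Nrm (normalizer (MZ (S : Subgroup G) : Set G)) (zl (S : Subgroup G) (MZ (S : Subgroup G))), InN S Q :=
  fun _ _ _ _ h no Q => inN h.ctx.char2 (isLoc_MZ h.ctx h.full h.data.noff) no Q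

end Cfsg.Agent.Omega.NOThreeL.RRed.Blk.InBOf

end

-- merged: Cfsg.Agent.Mrg.Omega.NOThreeL.RWide.VPerm
section

/-!
# `N_G(V)` permutes the blocks (helper655 #26581; hypothesis `hR` of helper51's `Bfr.hW`)

* `UU V R` : the kernel of `C(R) ∩ N(V)` on `V / R`;  `UU.act` : a `2`-element of `UU` acts on `V` as an element of a given
  Sylow subgroup of `UU`;
* `Tf.V_perm`, `TFm.V_perm`.
-/

set_option autoImplicit false
set_option linter.unusedSectionVars false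

namespace Cfsg.Agent.Omega.NOThreeL.RWide.VPerm

open Subgroup Cfsg Cfsg.Agent.Omega.MinPar
open Cfsg.Agent.ZN (zc o2)
open Cfsg.Agent.ZN.ChoiceBase (cj cj_mono cj_inf cj_centralizer cj_eq_of_mem_normalizer mem_cj mem_normalizer_iff_cj
  cj_cj_inv cj_inv_cj cj_cj cj_one mem_zc isPGroup_cj card_cj)
open Cfsg.Agent.ZN.ChoiceSit (Syl syl_conj exists_syl)
open Cfsg.Agent.MinSimple.MinParabolic (IsMinPar le_of_forall)
open Cfsg.Agent.Omega.NOThreeL.RWide.TAct (TT BB Tf)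
open Cfsg.Agent.Omega.NOThreeL.RWide.TBlk (Bls)

universe u v

variable {G : Type u} [Group G] {ι : Type v}

/-- the kernel of `C(R) ∩ N(V)` on `V / R` -/
def UU (V R : Subgroup G) : Subgroup G where
  carrier := {g | g ∈ centralizer (R : Set G) ∧ g ∈ normalizer (V : Set G) ∧ ∀ v ∈ V, g * v * g⁻¹ * v⁻¹ ∈ R}
  one_mem' := ⟨one_mem _, one_mem _, fun v _ => by
    rw [one_mul, inv_one, mul_one, mul_inv_cancel]; exact one_mem _⟩
  mul_mem' := by
    rintro g k ⟨hg1, hg2, hg3⟩ ⟨hk1, hk2, hk3⟩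
    refine ⟨mul_mem hg1 hk1, mul_mem hg2 hk2, fun v hv => ?_⟩
    have h1 : g * (k * v * k⁻¹ * v⁻¹) * g⁻¹ = k * v * k⁻¹ * v⁻¹ := by
      rw [← mem_centralizer_iff.1 hg1 _ (hk3 v hv), mul_inv_cancel_right]
    have e : g * k * v * (g * k)⁻¹ * v⁻¹ = g * (k * v * k⁻¹ * v⁻¹) * g⁻¹ * (g * v * g⁻¹ * v⁻¹) := by group
    rw [e, h1]
    exact mul_mem (hk3 v hv) (hg3 v hv)
  inv_mem' := by
    rintro g ⟨hg1, hg2, hg3⟩
    refine ⟨inv_mem hg1, inv_mem hg2, fun v hv => ?_⟩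
    have hw : g⁻¹ * v * g ∈ V := (mem_normalizer_iff'' (g := g)).1 hg2 v |>.1 hv
    have h0 := hg3 _ hw
    have h1 : g⁻¹ * (g * (g⁻¹ * v * g) * g⁻¹ * (g⁻¹ * v * g)⁻¹)⁻¹ * g =
        (g * (g⁻¹ * v * g) * g⁻¹ * (g⁻¹ * v * g)⁻¹)⁻¹ := by
      rw [mul_assoc, mem_centralizer_iff.1 hg1 _ (inv_mem h0), inv_mul_cancel_left]
    have e : g⁻¹ * v * g⁻¹⁻¹ * v⁻¹ = (g * (g⁻¹ * v * g) * g⁻¹ * (g⁻¹ * v * g)⁻¹)⁻¹ := by group
    rw [e]
    exact inv_mem h0

theorem mem_UU {V R : Subgroup G} {g : G} : g ∈ UU V R ↔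
    g ∈ centralizer (R : Set G) ∧ g ∈ normalizer (V : Set G) ∧ ∀ v ∈ V, g * v * g⁻¹ * v⁻¹ ∈ R := Iff.rfl

/-- `UU` is normal in `C(R) ∩ N(V)` -/
theorem UU_conj {V R : Subgroup G} {d g : G} (hd1 : d ∈ centralizer (R : Set G)) (hd2 : d ∈ normalizer (V : Set G))
    (hg : g ∈ UU V R) : d * g * d⁻¹ ∈ UU V R := by
  obtain ⟨hg1, hg2, hg3⟩ := hg
  refine ⟨mul_mem (mul_mem hd1 hg1) (inv_mem hd1), mul_mem (mul_mem hd2 hg2) (inv_mem hd2), fun v hv => ?_⟩
  have hw : d⁻¹ * v * d ∈ V := (mem_normalizer_iff'' (g := d)).1 hd2 v |>.1 hv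
  have h0 := hg3 _ hw
  have h1 : d * (g * (d⁻¹ * v * d) * g⁻¹ * (d⁻¹ * v * d)⁻¹) * d⁻¹ = g * (d⁻¹ * v * d) * g⁻¹ * (d⁻¹ * v * d)⁻¹ := by
    rw [← mem_centralizer_iff.1 hd1 _ h0, mul_inv_cancel_right]
  have e : d * g * d⁻¹ * v * (d * g * d⁻¹)⁻¹ * v⁻¹ = d * (g * (d⁻¹ * v * d) * g⁻¹ * (d⁻¹ * v * d)⁻¹) * d⁻¹ := by
    group
  rw [e, h1]
  exact h0

/-- conjugate elements of `UU` act in the same way on `V` -/
theorem UU_act {V R : Subgroup G} (hRV : R ≤ V) (hc : ∀ v ∈ V, ∀ w ∈ V, v * w = w * v) {x b : G} (hx : x ∈ UU V R)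
    (hb : b ∈ UU V R) {v : G} (hv : v ∈ V) : x * b * x⁻¹ * v * (x * b * x⁻¹)⁻¹ = b * v * b⁻¹ := by
  obtain ⟨hx1, hx2, hx3⟩ := hx
  obtain ⟨hb1, hb2, hb3⟩ := hb
  obtain ⟨z, hz⟩ : ∃ z, z = x⁻¹ * v * x⁻¹⁻¹ * v⁻¹ := ⟨_, rfl⟩
  have hxi : x⁻¹ ∈ UU V R := (UU V R).inv_mem ⟨hx1, hx2, hx3⟩
  have hzR : z ∈ R := hz ▸ (mem_UU.1 hxi).2.2 v hv
  obtain ⟨y, hy⟩ : ∃ y, y = b * v * b⁻¹ * v⁻¹ := ⟨_, rfl⟩
  have hyR : y ∈ R := hy ▸ hb3 v hv
  have cx : ∀ r ∈ R, x * r * x⁻¹ = r := fun r hr => by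
    rw [← mem_centralizer_iff.1 hx1 r hr, mul_inv_cancel_right]
  have cb : ∀ r ∈ R, b * r * b⁻¹ = r := fun r hr => by
    rw [← mem_centralizer_iff.1 hb1 r hr, mul_inv_cancel_right]
  have e1 : x⁻¹ * v * x = z * v := by rw [hz]; group
  have e2 : x * v * x⁻¹ = z⁻¹ * v := by
    have h1 : v = x * (z * v) * x⁻¹ := by rw [← e1]; group
    have h2 : x * (z * v) * x⁻¹ = z * (x * v * x⁻¹) := by
      calc x * (z * v) * x⁻¹ = (x * z * x⁻¹) * (x * v * x⁻¹) := by group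
        _ = z * (x * v * x⁻¹) := by rw [cx z hzR]
    rw [h2] at h1
    rw [h1, inv_mul_cancel_left, ← h1]
  have e3 : b * v * b⁻¹ = y * v := by rw [hy]; group
  calc x * b * x⁻¹ * v * (x * b * x⁻¹)⁻¹ = x * (b * (x⁻¹ * v * x) * b⁻¹) * x⁻¹ := by group
    _ = x * (b * (z * v) * b⁻¹) * x⁻¹ := by rw [e1]
    _ = x * ((b * z * b⁻¹) * (b * v * b⁻¹)) * x⁻¹ := by group
    _ = x * (z * (y * v)) * x⁻¹ := by rw [cb z hzR, e3]
    _ = (x * z * x⁻¹) * ((x * y * x⁻¹) * (x * v * x⁻¹)) := by group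
    _ = z * (y * (z⁻¹ * v)) := by rw [cx z hzR, cx y hyR, e2]
    _ = z * z⁻¹ * (y * v) := by
      have h3 : y * z⁻¹ = z⁻¹ * y := hc y (hRV hyR) z⁻¹ (inv_mem (hRV hzR))
      rw [← mul_assoc y, h3]; group
    _ = b * v * b⁻¹ := by rw [mul_inv_cancel, one_mul, e3]

/-- squares of elements of `UU` centralise `V` -/
theorem UU_sq {V R : Subgroup G} (h2 : ∀ v ∈ R, v ^ 2 = 1) {u : G} (hu : u ∈ UU V R) {v : G} (hv : v ∈ V) :
    u ^ 2 * v * (u ^ 2)⁻¹ = v := by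
  obtain ⟨hu1, hu2, hu3⟩ := hu
  obtain ⟨y, hy⟩ : ∃ y, y = u * v * u⁻¹ * v⁻¹ := ⟨_, rfl⟩
  have hyR : y ∈ R := hy ▸ hu3 v hv
  have e3 : u * v * u⁻¹ = y * v := by rw [hy]; group
  have cu : u * y * u⁻¹ = y := by rw [← mem_centralizer_iff.1 hu1 y hyR, mul_inv_cancel_right]
  calc u ^ 2 * v * (u ^ 2)⁻¹ = u * (u * v * u⁻¹) * u⁻¹ := by rw [pow_two]; group
    _ = u * (y * v) * u⁻¹ := by rw [e3]
    _ = (u * y * u⁻¹) * (u * v * u⁻¹) := by group
    _ = y ^ 2 * v := by rw [cu, e3, pow_two, mul_assoc]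
    _ = v := by rw [h2 y hyR, one_mul]

/-- `UU ≤ N(M)` for every `M ≤ V` normalised by a Sylow `2`-subgroup of `UU` -/
theorem UU_le [Finite G] {V R B M : Subgroup G} (hRV : R ≤ V) (hc : ∀ v ∈ V, ∀ w ∈ V, v * w = w * v)
    (h2 : ∀ v ∈ R, v ^ 2 = 1) (hB : Syl B (UU V R)) (hM : M ≤ V) (hBM : B ≤ normalizer (M : Set G)) :
    UU V R ≤ normalizer (M : Set G) := by
  have key : ∀ t ∈ UU V R, IsPGroup 2 (zpowers t) → t ∈ normalizer (M : Set G) := by
    intro t ht h3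
    obtain ⟨Q, hQ, hle⟩ := exists_syl h3 (zpowers_le.2 ht)
    obtain ⟨x, hx, rfl⟩ := syl_conj hB hQ
    obtain ⟨b, hb, e⟩ := hle (mem_zpowers t)
    have e' : t = x * b * x⁻¹ := e.symm
    refine Cfsg.Agent.ZN.ChoiceBase.mem_normalizer_of_cj_le ?_
    rintro _ ⟨m, hm, rfl⟩
    change t * m * t⁻¹ ∈ M
    rw [e', UU_act hRV hc hx (hB.1 hb) (hM hm)]
    exact (mem_normalizer_iff.1 (hBM hb) m).1 hm
  intro u hu
  obtain ⟨k, m, hm, hkm⟩ := Nat.exists_eq_two_pow_mul_odd (orderOf_pos u).ne'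
  have h4 : u ^ 2 ∈ normalizer (M : Set G) := by
    refine Cfsg.Agent.ZN.ChoiceBase.mem_normalizer_of_cj_le ?_
    rintro _ ⟨w, hw, rfl⟩
    change u ^ 2 * w * (u ^ 2)⁻¹ ∈ M
    rw [UU_sq h2 hu (hM hw)]
    exact hw
  have h5 : u ^ m ∈ normalizer (M : Set G) := by
    refine key _ (pow_mem hu m) ?_
    have h6 : (u ^ m) ^ 2 ^ k = 1 := by
      rw [← pow_mul, mul_comm, ← hkm, pow_orderOf_eq_one]
    intro y
    obtain ⟨j, hj⟩ := mem_zpowers_iff.1 y.2
    refine ⟨k, Subtype.ext ?_⟩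
    rw [SubmonoidClass.coe_pow, ← hj, ← zpow_natCast, ← zpow_mul, mul_comm, zpow_mul, zpow_natCast, h6, one_zpow]
    rfl
  obtain ⟨j, hj⟩ := hm
  have h7 : u = u ^ m * ((u ^ 2) ^ j)⁻¹ := by
    rw [hj, pow_succ', pow_mul, mul_inv_cancel_right]
  rw [h7]
  exact mul_mem h5 (inv_mem (pow_mem h4 j))

/-- the elements which permute the blocks -/
def PB [Finite ι] (N : ι → Subgroup G) (inj : ∀ b c, N b = N c → b = c) : Subgroup G where
  carrier := {g | ∀ b, ∃ c, cj g (N b) = N c}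
  one_mem' := fun b => ⟨b, cj_one _⟩
  mul_mem' := by
    intro g k hg hk b
    obtain ⟨c, hc⟩ := hk b
    obtain ⟨d, hd⟩ := hg c
    exact ⟨d, by rw [← cj_cj, hc, hd]⟩
  inv_mem' := by
    intro g hg b
    choose f hf using hg
    have hfi : Function.Injective f := by
      intro b c e
      apply inj
      have h1 : cj g (N b) = cj g (N c) := by rw [hf b, hf c, e]
      have h2 := congrArg (cj g⁻¹) h1
      rwa [cj_inv_cj, cj_inv_cj] at h2
    obtain ⟨c, rfl⟩ := (Finite.injective_iff_surjective.1 hfi) b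
    exact ⟨c, by rw [← hf c, cj_inv_cj]⟩

variable [Finite G] {S : Sylow 2 G} {V : Subgroup G} {N l E : ι → Subgroup G}

/-- **`N_G(V)` permutes the blocks.** -/
theorem _root_.Cfsg.Agent.Omega.NOThreeL.RWide.TAct.Tf.V_perm [Finite ι] (h : Tf S V N l)
    (hpar : ∀ R, IsPar (S : Subgroup G) R → R ≤ centralizer (zc (S : Subgroup G) : Set G) ∨
      ∀ r ∈ R, ∀ b, ∃ c, cj r (N b) = N c)
    (hC : ∀ R, IsPar (S : Subgroup G) R → R ≤ centralizer (zc (S : Subgroup G) : Set G) →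
      R ≤ normalizer (V : Set G) → R ≤ normalizer ((⨆ b, l b : Subgroup G) : Set G))
    (hU : ∀ s ∈ BB (S : Subgroup G) l, ∀ v ∈ V, s * v * s⁻¹ * v⁻¹ ∈ ⨆ b, l b) :
    ∀ g ∈ normalizer (V : Set G), ∀ b, ∃ c, cj g (N b) = N c := by
  rcases isEmpty_or_nonempty ι with hι | hι
  · exact fun _ _ b => hι.elim b
  have hV1 : V ≠ ⊥ := fun e => h.R_ne (by rw [eq_bot_iff, ← e]; exact h.RV)
  have hX : ∀ x ∈ normalizer (BB (S : Subgroup G) l : Set G), x ∈ normalizer (V : Set G) →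
      x ∈ PB N fun _ _ e => h.N_inj e := fun x h1 h2 b => by
    obtain ⟨c, -, hc⟩ := h.permX x h1 h2 b
    exact ⟨c, hc⟩
  have hcom : ∀ v ∈ V, ∀ w ∈ V, v * w = w * v := fun v hv w hw => mem_centralizer_iff.1 (h.com hw) v hv
  have hBU : BB (S : Subgroup G) l ≤ UU V (⨆ b, l b) := fun s hs => ⟨hs.2, h.SV hs.1, hU s hs⟩
  -- `B` is a Sylow `2`-subgroup of `UU`
  have hsB : Syl (BB (S : Subgroup G) l) (UU V (⨆ b, l b)) := by
    refine ⟨hBU, h.B2, fun Q hQ hQ2 hBQ => ?_⟩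
    have h1 := SQ1.FFOne.syl_inf (T := (S : Subgroup G)) (H := normalizer ((⨆ b, l b : Subgroup G) : Set G))
      (N := centralizer ((⨆ b, l b : Subgroup G) : Set G)) (Tf.sylS h.SR) (centralizer_le_normalizer _)
      (fun g hg n hn => by
        have h2 : cj g (centralizer ((⨆ b, l b : Subgroup G) : Set G)) = centralizer ((⨆ b, l b : Subgroup G) : Set G) := by
          rw [cj_centralizer, cj_eq_of_mem_normalizer hg]
        rw [← h2]
        exact ⟨n, hn, rfl⟩)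
    exact h1.2.2 Q (fun q hq => (mem_UU.1 (hQ hq)).1) hQ2 hBQ
  have hUN : ∀ u ∈ UU V (⨆ b, l b), u ∈ PB N fun _ _ e => h.N_inj e := by
    intro u hu b
    refine ⟨b, cj_eq_of_mem_normalizer (UU_le h.RV hcom (fun v hv => h.sq v (h.RV hv)) hsB (h.NV b) ?_ hu)⟩
    exact fun s hs => mem_iInf.1 (h.BT hs).2 b
  have hD : ∀ d ∈ centralizer ((⨆ b, l b : Subgroup G) : Set G), d ∈ normalizer (V : Set G) →
      d ∈ PB N fun _ _ e => h.N_inj e := by
    intro d hd hdV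
    have h1 : cj d (BB (S : Subgroup G) l) ≤ UU V (⨆ b, l b) := by
      rintro _ ⟨s, hs, rfl⟩
      exact UU_conj hd hdV (hBU hs)
    obtain ⟨Q, hQ, hle⟩ := exists_syl (isPGroup_cj d h.B2) h1
    obtain ⟨u, hu, rfl⟩ := syl_conj hsB hQ
    have h3 : cj (u⁻¹ * d) (BB (S : Subgroup G) l) ≤ BB (S : Subgroup G) l := by
      have := cj_mono u⁻¹ hle
      rwa [cj_inv_cj, cj_cj] at this
    have h4 : u⁻¹ * d ∈ normalizer (BB (S : Subgroup G) l : Set G) :=
      mem_normalizer_iff_cj.2 (Subgroup.eq_of_le_of_card_ge h3 (by rw [card_cj]))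
    have h5 := mul_mem (hUN u hu) (hX _ h4 (mul_mem (inv_mem (mem_UU.1 hu).2.1) hdV))
    rwa [mul_inv_cancel_left] at h5
  have key : normalizer (V : Set G) ≤ PB N fun _ _ e => h.N_inj e := by
    refine le_of_forall h.SV ?_ fun R hR hRV => ?_
    · rintro g ⟨hgV, hgS⟩
      exact hX g (h.nS_nB hgS) hgV
    · have hR' := h.isPar_of hR h.V2 hV1 hRV
      rcases hpar R hR' with h1 | h1
      · intro r hr
        obtain ⟨d, hd, hdR, n, hn, hnR, rfl⟩ := h.frattini hR.le (hC R hR' h1 hRV) hr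
        exact mul_mem (hD d hd (hRV hdR)) (hX n hn (hRV hnR))
      · exact h1
  exact key

/-- `B` acts trivially on `V / ∏ l b` -/
theorem _root_.Cfsg.Agent.Omega.NOThreeL.RWide.TBlk.Bls.comm_mem {S V : Subgroup G} [Finite ι] (h : Bls S V N l E)
    (hSV : S ≤ normalizer (V : Set G)) (hS : IsPGroup 2 S) {s : G} (hs : s ∈ BB S l) {v : G} (hv : v ∈ V) :
    s * v * s⁻¹ * v⁻¹ ∈ ⨆ b, l b := by
  obtain ⟨F, i1, i2, i3, x, y, hk⟩ := h.exists_kd
  obtain ⟨t, ht⟩ := hk.actB hS hs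
  have h1 : s * v * s⁻¹ ∈ V := (mem_normalizer_iff.1 (hSV hs.1) v).1 hv
  refine hk.memZ.2 ⟨mul_mem h1 (inv_mem hv), fun b => ?_⟩
  rw [hk.ym _ h1 _ (inv_mem hv), hk.y_inv hv, (ht v hv b).2, add_neg_cancel]

/-- **`N_G(V)` permutes the blocks.** `hC` : from `C_G(Ω₁Z(S)) ≤ N_G(∏ l b)`. -/
theorem _root_.Cfsg.Agent.Omega.NOThreeL.RWide.TFm.V_perm [Finite ι] (h : TFm S V N l E)
    (permX : ∀ x ∈ normalizer (BB (S : Subgroup G) l : Set G), x ∈ normalizer (V : Set G) →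
      ∀ b, ∃ c, cj x (l b) = l c ∧ cj x (N b) = N c)
    (hC : ∀ R, IsPar (S : Subgroup G) R → R ≤ centralizer (zc (S : Subgroup G) : Set G) →
      R ≤ normalizer (V : Set G) → R ≤ normalizer ((⨆ b, l b : Subgroup G) : Set G)) :
    ∀ g ∈ normalizer (V : Set G), ∀ b, ∃ c, cj g (N b) = N c :=
  (h.tf (fun _ hg hB => h.toBls.wc hg hB) permX).V_perm (fun R hR => (h.par R hR).imp id And.right) hC
    fun _ hs _ hv => h.toBls.comm_mem ((le_normalizer : (S : Subgroup G) ≤ _).trans h.nS) S.isPGroup' hs hv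

end Cfsg.Agent.Omega.NOThreeL.RWide.VPerm

end

-- merged: Cfsg.Agent.Mrg.Omega.NOThreeL.RWide.UniT.ParT
section

/-!
# `parT` (helper995 #27590): the end

`T = TT S N`, `P ∈ 𝒫(T)`, `P ≤ Y_j`, `P` moves `F j`.

* `end_V` : `P ≤ N_G(V)` fixes all blocks;
* **`parT_of`** : `parT` (literal of helper848 #27137) from the frame `Fr`, `active`, (A1), (A2).
-/

set_option autoImplicit false
set_option linter.unusedSectionVars false

namespace Cfsg.Agent.Omega.NOThreeL.RWide.UniT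

open Subgroup Cfsg Cfsg.Agent.Omega.MinPar Cfsg.Agent.Omega.Frame
open Cfsg.Agent.ZN (zc o2 zl)
open Cfsg.Agent.ZN.ChoiceBase (cj AA)
open Cfsg.Agent.MinSimple.MinParabolic (IsMinPar)
open Cfsg.Agent.Omega.EDel.ThmU (XF)
open Cfsg.Agent.Omega.NOThreeL.RWide.TAct (TT BB Tf OT)
open Cfsg.Agent.Omega.NOThreeL.RWide.ParQ (toTf)

universe u v

variable {G : Type u} [Group G] [Finite G] {ι : Type v} [Finite ι] [Nonempty ι] {S : Sylow 2 G} {V : Subgroup G}
  {N l E : ι → Subgroup G}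

/-- `C_G(Ω₁Z(S)) ≤ N_G(∏ l b)` from `ln` -/
theorem cz_of_ln (ln : ∀ c ∈ centralizer (zc (S : Subgroup G) : Set G), ∀ b, ∃ b', cj c (l b) = l b') :
    centralizer (zc (S : Subgroup G) : Set G) ≤ normalizer ((⨆ b, l b : Subgroup G) : Set G) := by
  intro c hc
  refine Cfsg.Agent.ZN.ChoiceBase.mem_normalizer_of_cj_le ?_
  rw [cj, Subgroup.map_iSup]
  refine iSup_le fun b => ?_
  obtain ⟨b', hb'⟩ := ln c hc b
  exact (le_of_eq hb').trans (le_iSup l b')

/-- `R ≤ Y_j ∩ N_G(V)` fixes all blocks. -/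
theorem end_V (h : TFm S V N l E)
    (ln : ∀ c ∈ centralizer (zc (S : Subgroup G) : Set G), ∀ b, ∃ b', cj c (l b) = l b') {j : ι} {R : Subgroup G}
    (hRY : R ≤ YY (TAct.FF (S : Subgroup G) N l) j) (hV : R ≤ normalizer ((⨆ b, N b : Subgroup G) : Set G)) (b : ι) :
    R ≤ normalizer (N b : Set G) := by
  have t := toTf h
  have hp : ∀ g ∈ normalizer (V : Set G), ∀ b, ∃ c, cj g (N b) = N c :=
    h.V_perm t.permX fun R hR hRC _ => hRC.trans (cz_of_ln ln)
  intro g hg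
  have hgV : g ∈ normalizer (V : Set G) := by
    have := hV hg
    rwa [h.sup] at this
  choose f hf using hp g hgV
  have hinj : Function.Injective f := by
    intro a c e
    apply t.N_inj
    have h1 : cj g (N a) = cj g (N c) := by rw [hf a, hf c, e]
    have h2 := congrArg (cj g⁻¹) h1
    rwa [Cfsg.Agent.ZN.ChoiceBase.cj_inv_cj, Cfsg.Agent.ZN.ChoiceBase.cj_inv_cj] at h2
  have hb : Function.Bijective f := ⟨hinj, Finite.injective_iff_surjective.1 hinj⟩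
  have h1 := t.perm_eq (hRY hg) (σ := Equiv.ofBijective f hb) (fun b => hf b) b
  have h2 := hf b
  have h3 : f b = b := h1
  rw [h3] at h2
  exact Cfsg.Agent.ZN.ChoiceBase.mem_normalizer_iff_cj.2 h2

/-- **`parT`** from its pieces. -/
theorem parT_of (h : TFm S V N l E)
    (ln : ∀ c ∈ centralizer (zc (S : Subgroup G) : Set G), ∀ b, ∃ b', cj c (l b) = l b')
    (fr : ∀ j P, IsMinPar (TT (S : Subgroup G) N) P → P ≤ YY (TAct.FF (S : Subgroup G) N l) j →
      ¬ P ≤ centralizer (TAct.FF (S : Subgroup G) N l j : Set G) →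
      Fr (TT (S : Subgroup G) N) (OT (TT (S : Subgroup G) N)) P N l
        (fun c => XS (zc (TT (S : Subgroup G) N)) (XF (TAct.FF (S : Subgroup G) N l) j c)) j)
    (active : ∀ (j : ι) (P : Subgroup G), Fr (TT (S : Subgroup G) N) (OT (TT (S : Subgroup G) N)) P N l
        (fun c => XS (zc (TT (S : Subgroup G) N)) (XF (TAct.FF (S : Subgroup G) N l) j c)) j →
      (∃ A ∈ AA (OT (TT (S : Subgroup G) N)), ¬ A ≤ o2 P) → P ≤ normalizer ((⨆ b, N b : Subgroup G) : Set G))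
    (A1 : ∀ j P, IsMinPar (TT (S : Subgroup G) N) P → P ≤ YY (TAct.FF (S : Subgroup G) N l) j →
      ¬ P ≤ centralizer (TAct.FF (S : Subgroup G) N l j : Set G) → zl (TT (S : Subgroup G) N) P ≤ ⨆ b, l b →
      ∀ b, P ≤ normalizer (N b : Set G))
    (A2 : ∀ j P, Fr (TT (S : Subgroup G) N) (OT (TT (S : Subgroup G) N)) P N l
        (fun c => XS (zc (TT (S : Subgroup G) N)) (XF (TAct.FF (S : Subgroup G) N l) j c)) j →
      P ≤ YY (TAct.FF (S : Subgroup G) N l) j → ¬ zl (TT (S : Subgroup G) N) P ≤ ⨆ b, l b →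
      ∃ A ∈ AA (OT (TT (S : Subgroup G) N)), ¬ A ≤ o2 P) :
    ∀ j P, IsMinPar (TT (S : Subgroup G) N) P → P ≤ YY (TAct.FF (S : Subgroup G) N l) j →
      P ≤ centralizer (TAct.FF (S : Subgroup G) N l j : Set G) ∨ ∀ i, P ≤ normalizer (N i : Set G) := by
  intro j P hP hPY
  by_cases hF : P ≤ centralizer (TAct.FF (S : Subgroup G) N l j : Set G)
  · exact Or.inl hF
  refine Or.inr ?_
  by_cases hU : zl (TT (S : Subgroup G) N) P ≤ ⨆ b, l b
  · exact A1 j P hP hPY hF hU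
  · have hfr := fr j P hP hPY hF
    exact end_V h ln hPY (active j P hfr (A2 j P hfr hPY hU))

end Cfsg.Agent.Omega.NOThreeL.RWide.UniT

end

-- merged: Cfsg.Agent.Mrg.Omega.NOThreeL.RWide.UniT.Root
section

/-!
# `Rts` (the blocks under `T`) from `Bls` (helper995 #27055, frame `UniT.Rts`)

`T = TT S N`, `N b = F²` with coordinates `e`, `T` upper triangular and semilinear on `N b`.

* `Cd` : coordinates of one block under `T`; `Cd.root`, `Cd.rt`, `Cd.rep`, `Cd.cardN`;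
* `Cd.off` : **the ROOT LEMMA**: an offender is trivial or the full root group (fields included, by `SemiCnt.semi_cnt`);
* `exists_pure` : **pure members** of `AA(O)`: a member of `AA(O)` which moves `N b` and moves the least number of blocks
  moves `N b` only (exactness on `N b × N c`);
* `rts` : the fields of `Rts (TT S N) O N l`.
-/

set_option autoImplicit false
set_option linter.unusedSectionVars false

namespace Cfsg.Agent.Omega.NOThreeL.RWide.UniT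

open Subgroup Cfsg Cfsg.Agent.Omega.NOThreeL.RWide.TBlk Cfsg.Agent.Omega.NOThreeL.RWide.SemiCnt
open Cfsg.Agent.ZN (zc)
open Cfsg.Agent.ZN.ChoiceBase (cj AA cj_eq_of_mem_normalizer mem_normalizer_iff_cj)

universe u v

variable {G : Type u} [Group G]

/-- coordinates of one block under `T` -/
structure Cd (T N l : Subgroup G) (F : Type) [Field F] (e : G → Fin 2 → F) : Prop where
  two : IsPGroup 2 T
  nor : T ≤ normalizer (N : Set G)
  mul : ∀ v ∈ N, ∀ w ∈ N, e (v * w) = e v + e w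
  inj : ∀ v ∈ N, e v = 0 → v = 1
  sur : ∀ x : Fin 2 → F, ∃ v ∈ N, e v = x
  line : ∀ v, v ∈ l ↔ v ∈ N ∧ e v 1 = 0
  semi : ∀ s ∈ T, ∃ (σ : F ≃+* F) (a b d : F),
    ∀ v ∈ N, e (s * v * s⁻¹) = ![a * σ (e v 0) + b * σ (e v 1), d * σ (e v 1)]

namespace Cd

variable {T N l : Subgroup G} {F : Type} [Field F] {e : G → Fin 2 → F} (h : Cd T N l F e)
include h

theorem one : e 1 = 0 := by
  have h1 := h.mul 1 (one_mem _) 1 (one_mem _)
  rw [mul_one] at h1
  exact left_eq_add.1 h1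

theorem inv {v : G} (hv : v ∈ N) : e v⁻¹ = - e v := by
  have h1 := h.mul v⁻¹ (inv_mem hv) v hv
  rw [inv_mul_cancel, h.one] at h1
  exact eq_neg_of_add_eq_zero_left h1.symm

theorem eq_of {v w : G} (hv : v ∈ N) (hw : w ∈ N) (he : e v = e w) : v = w := by
  have h1 : v * w⁻¹ = 1 := by
    refine h.inj _ (mul_mem hv (inv_mem hw)) ?_
    rw [h.mul _ hv _ (inv_mem hw), h.inv hw, he, add_neg_cancel]
  exact mul_inv_eq_one.1 h1

theorem eq_of2 {v w : G} (hv : v ∈ N) (hw : w ∈ N) (h0 : e v 0 = e w 0) (h1 : e v 1 = e w 1) : v = w := by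
  refine h.eq_of hv hw (funext fun i => ?_)
  fin_cases i
  · exact h0
  · exact h1

theorem lN : l ≤ N := fun v hv => ((h.line v).1 hv).1

theorem cn {t : G} (ht : t ∈ T) {v : G} (hv : v ∈ N) : t * v * t⁻¹ ∈ N := (mem_normalizer_iff.1 (h.nor ht) v).1 hv

theorem cl {t : G} (ht : t ∈ T) {v : G} (hv : v ∈ l) : t * v * t⁻¹ ∈ l := by
  obtain ⟨σ, a, b, d, hs⟩ := h.semi t ht
  obtain ⟨h1, h2⟩ := (h.line v).1 hv
  refine (h.line _).2 ⟨h.cn ht h1, ?_⟩
  rw [hs v h1, h2, map_zero, mul_zero, mul_zero]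
  rfl

theorem Tl : T ≤ normalizer (l : Set G) := by
  intro t ht
  refine mem_normalizer_iff.2 fun v => ⟨fun hv => h.cl ht hv, fun hv => ?_⟩
  have h1 := h.cl (inv_mem ht) hv
  have e1 : t⁻¹ * (t * v * t⁻¹) * t⁻¹⁻¹ = v := by group
  rwa [e1] at h1

theorem sq [CharP F 2] {v : G} (hv : v ∈ N) : v * v = 1 := by
  refine h.inj _ (mul_mem hv hv) ?_
  rw [h.mul _ hv _ hv]
  funext i
  exact CharTwo.add_self_eq_zero _

theorem lne : l ≠ ⊥ := by
  intro hl
  obtain ⟨v, hv, he⟩ := h.sur ![1, 0]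
  have h1 : v ∈ l := (h.line v).2 ⟨hv, by rw [he]; rfl⟩
  rw [hl] at h1
  have h2 : v = 1 := mem_bot.1 h1
  rw [h2, h.one] at he
  exact zero_ne_one (congrFun he 0)

/-- an element of `T` which centralises the line acts as a root element -/
theorem root [CharP F 2] {t : G} (ht : t ∈ T) (hl : t ∈ centralizer (l : Set G)) :
    ∃ c : F, ∀ v ∈ N, e (t * v * t⁻¹) = ![e v 0 + c * e v 1, e v 1] := by
  refine RootB.act_root h.sur h.line ?_ (h.nor ht) hl (h.semi t ht)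
  obtain ⟨k, hk⟩ := h.two ⟨t, ht⟩
  exact ⟨k, by have := congrArg Subtype.val hk; simpa using this⟩

/-- the commutator with a root element -/
theorem comm {t : G} (ht : t ∈ T) {c : F} (hc : ∀ v ∈ N, e (t * v * t⁻¹) = ![e v 0 + c * e v 1, e v 1]) {v : G}
    (hv : v ∈ N) : t * v * t⁻¹ * v⁻¹ ∈ N ∧ e (t * v * t⁻¹ * v⁻¹) 0 = c * e v 1 ∧ e (t * v * t⁻¹ * v⁻¹) 1 = 0 := by
  have h1 := h.cn ht hv
  have h2 : e (t * v * t⁻¹ * v⁻¹) = ![e v 0 + c * e v 1, e v 1] + - e v := by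
    rw [h.mul _ h1 _ (inv_mem hv), h.inv hv, hc v hv]
  refine ⟨mul_mem h1 (inv_mem hv), ?_, ?_⟩
  · rw [h2]
    change e v 0 + c * e v 1 + - e v 0 = c * e v 1
    ring
  · rw [h2]
    change e v 1 + - e v 1 = 0
    ring

theorem zero {t : G} (ht : t ∈ T) (hc : ∀ v ∈ N, e (t * v * t⁻¹) = ![e v 0 + 0 * e v 1, e v 1]) :
    t ∈ centralizer (N : Set G) := by
  rw [mem_centralizer_iff]
  intro v hv
  have h1 : t * v * t⁻¹ = v := by
    refine h.eq_of2 (h.cn ht hv) hv ?_ ?_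
    · rw [hc v hv]
      change e v 0 + 0 * e v 1 = e v 0
      ring
    · rw [hc v hv]; rfl
  calc v * t = t * v * t⁻¹ * t := by rw [h1]
    _ = t * v := by group

theorem hit {t : G} (ht : t ∈ T) {c : F} (hc : ∀ v ∈ N, e (t * v * t⁻¹) = ![e v 0 + c * e v 1, e v 1]) {v z : G}
    (hv : v ∈ N) (hz : z ∈ l) (hcz : c * e v 1 = e z 0) : t * v * t⁻¹ * v⁻¹ = z := by
  obtain ⟨h1, h2, h3⟩ := h.comm ht hc hv
  obtain ⟨h4, h5⟩ := (h.line z).1 hz
  exact h.eq_of2 h1 h4 (h2.trans hcz) (h3.trans h5.symm)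

theorem inl {t : G} (ht : t ∈ T) {c : F} (hc : ∀ v ∈ N, e (t * v * t⁻¹) = ![e v 0 + c * e v 1, e v 1]) {v : G}
    (hv : v ∈ N) : t * v * t⁻¹ * v⁻¹ ∈ l := by
  obtain ⟨h1, -, h3⟩ := h.comm ht hc hv
  exact (h.line _).2 ⟨h1, h3⟩

theorem onN {t : G} (ht : t ∈ T) {c : F} (hc : ∀ v ∈ N, e (t * v * t⁻¹) = ![e v 0 + c * e v 1, e v 1]) (h0 : c ≠ 0)
    {z : G} (hz : z ∈ l) : ∃ v ∈ N, t * v * t⁻¹ * v⁻¹ = z := by
  obtain ⟨v, hv, he⟩ := h.sur ![0, c⁻¹ * e z 0]
  refine ⟨v, hv, h.hit ht hc hv hz ?_⟩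
  rw [he]
  change c * (c⁻¹ * e z 0) = e z 0
  rw [mul_inv_cancel_left₀ h0]

theorem ne_zero {t : G} (ht : t ∈ T) {c : F} (hc : ∀ v ∈ N, e (t * v * t⁻¹) = ![e v 0 + c * e v 1, e v 1])
    (hn : t ∉ centralizer (N : Set G)) : c ≠ 0 := by
  rintro rfl
  exact hn (h.zero ht hc)

theorem rt [CharP F 2] {t : G} (ht : t ∈ T) (hl : t ∈ centralizer (l : Set G)) :
    (∀ v ∈ N, t * v * t⁻¹ * v⁻¹ ∈ l) ∧
      (t ∉ centralizer (N : Set G) → ∀ z ∈ l, ∃ v ∈ N, t * v * t⁻¹ * v⁻¹ = z) := by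
  obtain ⟨c, hc⟩ := h.root ht hl
  exact ⟨fun v hv => h.inl ht hc hv, fun hn z hz => h.onN ht hc (h.ne_zero ht hc hn) hz⟩

theorem rep [CharP F 2] {A : Subgroup G} (hA : A ≤ T) (hF : Full A N l) {t : G} (ht : t ∈ T)
    (hl : t ∈ centralizer (l : Set G)) : ∃ a ∈ A, a⁻¹ * t ∈ centralizer (N : Set G) := by
  obtain ⟨c, hc⟩ := h.root ht hl
  obtain ⟨v₁, hv₁, he₁⟩ := h.sur ![0, 1]
  have hv₁1 : e v₁ 1 = 1 := by rw [he₁]; rfl
  obtain ⟨z, hz, hez⟩ := h.sur ![c, 0]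
  have hzl : z ∈ l := (h.line z).2 ⟨hz, by rw [hez]; rfl⟩
  have hv₁l : v₁ ∉ l := fun hh => by
    have h1 := ((h.line _).1 hh).2
    rw [hv₁1] at h1
    exact one_ne_zero h1
  obtain ⟨a, ha, haz⟩ := hF.onA v₁ hv₁ hv₁l z hzl
  obtain ⟨c', hc'⟩ := h.root (hA ha) (hF.cent ha)
  have h1 := (h.comm (hA ha) hc' hv₁).2.1
  rw [haz, hez, hv₁1, mul_one] at h1
  have h2 : c = c' := h1
  subst h2
  refine ⟨a, ha, ?_⟩
  rw [mem_centralizer_iff]
  intro v hv
  have h3 : t * v * t⁻¹ = a * v * a⁻¹ := by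
    refine h.eq_of (h.cn ht hv) (h.cn (hA ha) hv) ?_
    rw [hc v hv, hc' v hv]
  calc v * (a⁻¹ * t) = a⁻¹ * (a * v * a⁻¹) * t := by group
    _ = a⁻¹ * (t * v * t⁻¹) * t := by rw [h3]
    _ = a⁻¹ * t * v := by group

/-- `N ≃ F²` -/
noncomputable def ep : N ≃ (Fin 2 → F) :=
  Equiv.ofBijective (fun v : N => e v) ⟨fun v w hvw => Subtype.ext (h.eq_of v.2 w.2 hvw), fun x => by
    obtain ⟨v, hv, he⟩ := h.sur x
    exact ⟨⟨v, hv⟩, he⟩⟩

theorem e_symm (x : Fin 2 → F) : e (h.ep.symm x : N) = x := h.ep.apply_symm_apply x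

theorem symm_e {v : G} (hv : v ∈ N) : ((h.ep.symm (e v) : N) : G) = v :=
  congrArg Subtype.val (h.ep.symm_apply_apply ⟨v, hv⟩)

theorem card_N : Nat.card N = Nat.card F ^ 2 := by
  rw [Nat.card_congr h.ep, Nat.card_fun, Nat.card_eq_fintype_card (α := Fin 2), Fintype.card_fin]

theorem card_l : Nat.card l = Nat.card F := by
  refine Nat.card_congr (Equiv.ofBijective (fun v : l => e v 0) ⟨fun v w hvw => ?_, fun x => ?_⟩)
  · have h1 := (h.line _).1 v.2
    have h2 := (h.line _).1 w.2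
    exact Subtype.ext (h.eq_of2 h1.1 h2.1 hvw (h1.2.trans h2.2.symm))
  · obtain ⟨v, hv, he⟩ := h.sur ![x, 0]
    refine ⟨⟨v, (h.line v).2 ⟨hv, by rw [he]; rfl⟩⟩, ?_⟩
    change e v 0 = x
    rw [he]
    rfl

theorem cardN : Nat.card N = Nat.card l * Nat.card l := by
  rw [h.card_N, h.card_l, pow_two]

/-- the action of `A ≤ T` on `F²` -/
noncomputable def rho {A : Subgroup G} (hA : A ≤ T) : A →* Equiv.Perm (Fin 2 → F) :=
  MonoidHom.toHomPerm
    { toFun := fun a => (fun x => e ((a : G) * ((h.ep.symm x : N) : G) * (a : G)⁻¹) : Function.End (Fin 2 → F))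
      map_one' := by
        funext x
        change e ((1 : G) * ((h.ep.symm x : N) : G) * (1 : G)⁻¹) = x
        rw [one_mul, inv_one, mul_one, h.e_symm]
      map_mul' := by
        intro a b
        funext x
        change e ((a * b : G) * ((h.ep.symm x : N) : G) * (a * b : G)⁻¹) =
          e ((a : G) * ((h.ep.symm (e ((b : G) * ((h.ep.symm x : N) : G) * (b : G)⁻¹)) : N) : G) * (a : G)⁻¹)
        rw [h.symm_e (h.cn (hA b.2) (h.ep.symm x).2)]
        congr 1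
        group }

theorem rho_e {A : Subgroup G} (hA : A ≤ T) (a : A) {v : G} (hv : v ∈ N) :
    h.rho hA a (e v) = e ((a : G) * v * (a : G)⁻¹) := by
  change e ((a : G) * ((h.ep.symm (e v) : N) : G) * (a : G)⁻¹) = _
  rw [h.symm_e hv]

theorem ker_rho {A : Subgroup G} (hA : A ≤ T) (a : A) :
    a ∈ (h.rho hA).ker ↔ (a : G) ∈ centralizer (N : Set G) := by
  rw [MonoidHom.mem_ker, mem_centralizer_iff]
  constructor
  · intro h1 v hv
    have h2 : e ((a : G) * v * (a : G)⁻¹) = e v := by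
      rw [← h.rho_e hA a hv, h1]
      rfl
    have h3 := h.eq_of (h.cn (hA a.2) hv) hv h2
    calc v * (a : G) = (a : G) * v * (a : G)⁻¹ * a := by rw [h3]
      _ = (a : G) * v := by group
  · intro h1
    refine Equiv.ext fun x => ?_
    obtain ⟨v, hv, rfl⟩ := h.sur x
    rw [h.rho_e hA a hv]
    have h2 : (a : G) * v * (a : G)⁻¹ = v := by rw [← h1 v hv]; group
    rw [h2]
    rfl

theorem card_A [Finite G] {A : Subgroup G} (hA : A ≤ T) :
    Nat.card A = Nat.card (h.rho hA).range * Nat.card ↥(A ⊓ centralizer (N : Set G)) := by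
  have h1 := Subgroup.card_mul_index (h.rho hA).ker
  rw [Subgroup.index_ker] at h1
  have h2 : Nat.card (h.rho hA).ker = Nat.card ↥(A ⊓ centralizer (N : Set G)) :=
    Nat.card_congr
      { toFun := fun a => ⟨a.1.1, a.1.2, (h.ker_rho hA a.1).1 a.2⟩
        invFun := fun a => ⟨⟨a.1, a.2.1⟩, (h.ker_rho hA ⟨a.1, a.2.1⟩).2 a.2.2⟩
        left_inv := fun _ => rfl
        right_inv := fun _ => rfl }
  rw [← h1, h2, mul_comm]

theorem card_fix {A : Subgroup G} (hA : A ≤ T) :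
    Nat.card {v : Fin 2 → F // ∀ g, h.rho hA g v = v} = Nat.card ↥(N ⊓ centralizer (A : Set G)) := by
  symm
  refine Nat.card_congr (Equiv.ofBijective (fun v => ⟨e v.1, fun g => ?_⟩) ⟨fun v w hvw => ?_, ?_⟩)
  · rw [h.rho_e hA g v.2.1]
    have h1 : (g : G) * v.1 * (g : G)⁻¹ = v.1 := by
      rw [mem_centralizer_iff.1 v.2.2 g g.2]; group
    rw [h1]
  · exact Subtype.ext (h.eq_of v.2.1 w.2.1 (congrArg Subtype.val hvw))
  · rintro ⟨x, hx⟩
    obtain ⟨v, hv, rfl⟩ := h.sur x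
    refine ⟨⟨v, hv, mem_centralizer_iff.2 fun g hg => ?_⟩, rfl⟩
    have h1 := hx ⟨g, hg⟩
    rw [h.rho_e hA ⟨g, hg⟩ hv] at h1
    have h2 : g * v * g⁻¹ = v := h.eq_of (h.cn (hA hg) hv) hv h1
    calc g * v = g * v * g⁻¹ * g := by group
      _ = v * g := by rw [h2]

/-- **the ROOT LEMMA** -/
theorem off [Finite G] [Finite F] [CharP F 2] {A : Subgroup G} (hA : A ≤ T) (hAe : IsElementaryAbelian 2 A)
    (hle : Nat.card N * Nat.card ↥(A ⊓ centralizer (N : Set G)) ≤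
      Nat.card A * Nat.card ↥(N ⊓ centralizer (A : Set G))) :
    A ≤ centralizer (N : Set G) ∨ Full A N l := by
  classical
  by_cases hA0 : A ≤ centralizer (N : Set G)
  · exact Or.inl hA0
  right
  have hsq : ∀ a ∈ A, a * a = 1 := fun a ha => by
    have h1 := hAe.2 a ha
    rwa [pow_two] at h1
  have hsm : ∀ g, ∃ σ a b d, Sm (h.rho hA g) σ a b d := by
    intro g
    obtain ⟨σ, a, b, d, hs⟩ := h.semi g (hA g.2)
    refine ⟨σ, a, b, d, fun x => ?_⟩
    obtain ⟨v, hv, rfl⟩ := h.sur x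
    rw [h.rho_e hA g hv, hs v hv]
  have h2 : ∀ g v, h.rho hA g (h.rho hA g v) = v := by
    intro g v
    have h1 : g * g = 1 := Subtype.ext (hsq g g.2)
    rw [← Equiv.Perm.mul_apply, ← map_mul, h1, map_one]
    rfl
  obtain ⟨hc1, hc2⟩ := semi_cnt (h.rho hA) hsm h2
  have hcA := h.card_A hA
  rw [h.card_fix hA] at hc1 hc2
  have hpos : 0 < Nat.card ↥(A ⊓ centralizer (N : Set G)) := Nat.card_pos
  have heq : Nat.card (h.rho hA).range * Nat.card ↥(N ⊓ centralizer (A : Set G)) = Nat.card F ^ 2 := by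
    refine le_antisymm hc1 ?_
    rw [hcA, h.card_N] at hle
    refine Nat.le_of_mul_le_mul_right (hle.trans (le_of_eq ?_)) hpos
    ring
  have hline := hc2 heq
  -- `A` centralises the line
  have hAl : A ≤ centralizer (l : Set G) := by
    intro a ha
    rw [mem_centralizer_iff]
    intro z hz
    obtain ⟨hzN, hz1⟩ := (h.line z).1 hz
    have h3 : e z = ![e z 0, 0] := by
      funext i
      fin_cases i
      · rfl
      · exact hz1
    have h4 := hline ⟨a, ha⟩ (e z 0)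
    rw [← h3, h.rho_e hA ⟨a, ha⟩ hzN] at h4
    have h5 : a * z * a⁻¹ = z := h.eq_of (h.cn (hA ha) hzN) hzN h4
    calc z * a = a * z * a⁻¹ * a := by rw [h5]
      _ = a * z := by group
  have hroot : ∀ a : A, ∃ c : F, ∀ v ∈ N, e ((a : G) * v * (a : G)⁻¹) = ![e v 0 + c * e v 1, e v 1] :=
    fun a => h.root (hA a.2) (hAl a.2)
  choose c hc using hroot
  obtain ⟨a₀, ha₀, hn₀⟩ := SetLike.not_le_iff_exists.1 hA0
  have hc₀ : c ⟨a₀, ha₀⟩ ≠ 0 := h.ne_zero (hA ha₀) (hc ⟨a₀, ha₀⟩) hn₀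
  -- the fixed points form the line
  have hfix : N ⊓ centralizer (A : Set G) = l := by
    refine le_antisymm ?_ (le_inf h.lN (Subgroup.le_centralizer_iff.1 hAl))
    intro v hv
    obtain ⟨hvN, hvc⟩ := mem_inf.1 hv
    refine (h.line v).2 ⟨hvN, ?_⟩
    have h3 := (h.comm (hA ha₀) (hc ⟨a₀, ha₀⟩) hvN).2.1
    have h4 : a₀ * v * a₀⁻¹ * v⁻¹ = 1 := by rw [mem_centralizer_iff.1 hvc a₀ ha₀]; group
    change e (a₀ * v * a₀⁻¹ * v⁻¹) 0 = _ at h3
    rw [h4, h.one] at h3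
    exact (mul_eq_zero.1 h3.symm).resolve_left hc₀
  have hq : 0 < Nat.card F := Nat.card_pos
  have hrange : Nat.card (h.rho hA).range = Nat.card F := by
    rw [hfix, h.card_l, pow_two] at heq
    exact Nat.eq_of_mul_eq_mul_right hq heq
  -- all root elements occur
  have hval : ∀ a : A, (h.rho hA a ![0, 1]) 0 = c a := by
    intro a
    obtain ⟨v, hv, he⟩ := h.sur ![0, 1]
    rw [← he, h.rho_e hA a hv, hc a v hv, he]
    change (0 : F) + c a * 1 = c a
    ring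
  have hall : ∀ x : F, ∃ a : A, c a = x := by
    have h3 : Function.Injective (fun r : (h.rho hA).range => (r.1 ![0, 1]) 0) := by
      rintro ⟨r, a, rfl⟩ ⟨r', a', rfl⟩ hr
      have hr' : (h.rho hA a ![0, 1]) 0 = (h.rho hA a' ![0, 1]) 0 := hr
      rw [hval, hval] at hr'
      apply Subtype.ext
      refine Equiv.ext fun x => ?_
      obtain ⟨v, hv, rfl⟩ := h.sur x
      change h.rho hA a (e v) = h.rho hA a' (e v)
      rw [h.rho_e hA a hv, h.rho_e hA a' hv, hc a v hv, hc a' v hv, hr']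
    have h4 := (Function.Injective.bijective_of_nat_card_le h3 hrange.ge).2
    intro x
    obtain ⟨⟨r, a, rfl⟩, hr⟩ := h4 x
    exact ⟨a, (hval a).symm.trans hr⟩
  refine ⟨hAl, fun a ha v hv => h.inl (hA ha) (hc ⟨a, ha⟩) hv, fun v hv hvl z hz => ?_,
    fun a ha hn z hz => h.onN (hA ha) (hc ⟨a, ha⟩) (h.ne_zero (hA ha) (hc ⟨a, ha⟩) hn) hz, ?_, hA0⟩
  · have hv1 : e v 1 ≠ 0 := fun h0 => hvl ((h.line v).2 ⟨hv, h0⟩)
    obtain ⟨a, ha⟩ := hall (e z 0 * (e v 1)⁻¹)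
    refine ⟨a, a.2, h.hit (hA a.2) (hc a) hv hz ?_⟩
    rw [ha, inv_mul_cancel_right₀ hv1]
  · rw [hcA, hrange, h.card_l, mul_comm]

end Cd

/-! ### Pure members -/

namespace Root

section pure

variable {ι : Type v} {O A : Subgroup G} {N l : ι → Subgroup G}

/-- the fixed points of a full root group -/
theorem fix_eq {N l : Subgroup G} (hF : Full A N l) (lN : l ≤ N) (lne : l ≠ ⊥) :
    N ⊓ centralizer (A : Set G) = l := by
  refine le_antisymm (fun v hv => ?_) (le_inf lN (Subgroup.le_centralizer_iff.1 hF.cent))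
  obtain ⟨hvN, hvc⟩ := mem_inf.1 hv
  by_contra hvl
  obtain ⟨z, hz, hz1⟩ : ∃ z ∈ l, z ≠ 1 := by
    by_contra hcon
    push Not at hcon
    exact lne ((eq_bot_iff_forall l).2 hcon)
  obtain ⟨a, ha, he⟩ := hF.onA v hvN hvl z hz
  apply hz1
  rw [← he, mem_centralizer_iff.1 hvc a ha]
  group

theorem eab_of {N : Subgroup G} (hc : N ≤ centralizer (N : Set G)) (hs : ∀ v ∈ N, v * v = 1) :
    IsElementaryAbelian 2 N :=
  ⟨⟨⟨fun a b => Subtype.ext (mem_centralizer_iff.1 (hc b.2) a a.2)⟩⟩, fun a ha => by rw [pow_two]; exact hs a ha⟩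

/-- if `A ∈ AA(O)` is full on `N` then `C_A(N) N ∈ AA(O)` -/
theorem swap_full [Finite G] {N l : Subgroup G} (hA : A ∈ AA O) (hF : Full A N l) (lN : l ≤ N) (lne : l ≠ ⊥)
    (hc : N ≤ centralizer (N : Set G)) (hs : ∀ v ∈ N, v * v = 1) (hNO : N ≤ O)
    (cardN : Nat.card N = Nat.card l * Nat.card l) : (A ⊓ centralizer (N : Set G)) ⊔ N ∈ AA O := by
  refine swap_mem hA (eab_of hc hs) hNO (le_of_eq ?_)
  rw [fix_eq hF lN lne, hF.cardA, cardN]
  ring

/-- **pure members** -/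
theorem exists_pure [Finite G] [Finite ι] (com : ∀ a b, N a ≤ centralizer (N b : Set G))
    (sq : ∀ b, ∀ v ∈ N b, v * v = 1) (NO : ∀ b, N b ≤ O) (lN : ∀ b, l b ≤ N b) (dis : ∀ a b, a ≠ b → N a ⊓ N b = ⊥)
    (lne : ∀ b, l b ≠ ⊥) (nor : ∀ b, O ≤ normalizer (N b : Set G))
    (cardN : ∀ b, Nat.card (N b) = Nat.card (l b) * Nat.card (l b))
    (off : ∀ b, ∀ A ∈ AA O, A ≤ centralizer (N b : Set G) ∨ Full A (N b) (l b))
    (all : ∀ b, ∃ A ∈ AA O, ¬ A ≤ centralizer (N b : Set G)) (b : ι) :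
    ∃ A ∈ AA O, ¬ A ≤ centralizer (N b : Set G) ∧ ∀ c, c ≠ b → A ≤ centralizer (N c : Set G) := by
  have key : ∀ n : ℕ, ∀ A ∈ AA O, ¬ A ≤ centralizer (N b : Set G) →
      Set.ncard {c | ¬ A ≤ centralizer (N c : Set G)} ≤ n →
      ∃ A ∈ AA O, ¬ A ≤ centralizer (N b : Set G) ∧ ∀ c, c ≠ b → A ≤ centralizer (N c : Set G) := by
    intro n
    induction n with
    | zero =>
      intro A _ hb hn
      have h1 := (Set.ncard_eq_zero (Set.toFinite _)).1 (Nat.le_zero.1 hn)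
      have h2 : b ∈ {c | ¬ A ≤ centralizer (N c : Set G)} := hb
      rw [h1] at h2
      exact absurd h2 (Set.notMem_empty b)
    | succ n ih =>
      intro A hA hb hn
      by_cases hp : ∀ c, c ≠ b → A ≤ centralizer (N c : Set G)
      · exact ⟨A, hA, hb, hp⟩
      push Not at hp
      obtain ⟨c, hcb, hc⟩ := hp
      have hFc := (off c A hA).resolve_left hc
      have hFb := (off b A hA).resolve_left hb
      have hA' := swap_full hA hFc (lN c) (lne c) (com c c) (sq c) (NO c) (cardN c)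
      refine ih _ hA' (fun hb' => ?_) ?_
      · -- `C_A(N c) ≤ C(N b)` : the count on `N b × N c`
        have h1 : A ⊓ centralizer (N c : Set G) ≤ centralizer (N b : Set G) := le_sup_left.trans hb'
        have hX := Cfsg.Agent.PLocal.ElemAbSup.isElementaryAbelian_sup (eab_of (com b b) (sq b))
          (eab_of (com c c) (sq c)) (com c b)
        have h2 := thom hA hX (sup_le (NO b) (NO c))
        have h3 := Cfsg.Agent.PLocal.ElemAbSup.card_sup_mul_card_inf (com c b)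
        rw [dis b c (Ne.symm hcb), card_bot, mul_one] at h3
        have h4 : Nat.card ↥(A ⊓ centralizer (N c : Set G)) ≤
            Nat.card ↥(A ⊓ centralizer ((N b ⊔ N c : Subgroup G) : Set G)) := by
          refine Subgroup.card_le_of_le (le_inf inf_le_left ?_)
          refine Subgroup.le_centralizer_iff.1 (sup_le ?_ ?_)
          · exact Subgroup.le_centralizer_iff.1 h1
          · exact Subgroup.le_centralizer_iff.1 inf_le_right
        have h5 : (N b ⊔ N c) ⊓ centralizer (A : Set G) ≤ l b ⊔ l c := by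
          intro v hv
          obtain ⟨hv1, hv2⟩ := mem_inf.1 hv
          have hv3 : v ∈ ((N b ⊔ N c : Subgroup G) : Set G) := hv1
          rw [Cfsg.Agent.PLocal.ElemAbSup.coe_sup_of_le_centralizer (com c b)] at hv3
          obtain ⟨x, hx, y, hy, rfl⟩ := Set.mem_mul.1 hv3
          have hkey : ∀ a ∈ A, a * x * a⁻¹ = x ∧ a * y * a⁻¹ = y := by
            intro a ha
            have hax : a * x * a⁻¹ ∈ N b := (mem_normalizer_iff.1 (nor b (hA.2.1 ha)) x).1 hx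
            have hay : a * y * a⁻¹ ∈ N c := (mem_normalizer_iff.1 (nor c (hA.2.1 ha)) y).1 hy
            have e1 : (a * x * a⁻¹) * (a * y * a⁻¹) = x * y := by
              calc (a * x * a⁻¹) * (a * y * a⁻¹) = a * (x * y) * a⁻¹ := by group
                _ = x * y * a * a⁻¹ := by rw [mem_centralizer_iff.1 hv2 a ha]
                _ = x * y := by group
            have e2 : x⁻¹ * (a * x * a⁻¹) = y * (a * y * a⁻¹)⁻¹ := by
              calc x⁻¹ * (a * x * a⁻¹) = x⁻¹ * ((a * x * a⁻¹) * (a * y * a⁻¹)) * (a * y * a⁻¹)⁻¹ := by group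
                _ = x⁻¹ * (x * y) * (a * y * a⁻¹)⁻¹ := by rw [e1]
                _ = y * (a * y * a⁻¹)⁻¹ := by group
            have e3 : x⁻¹ * (a * x * a⁻¹) ∈ N b ⊓ N c := by
              refine mem_inf.2 ⟨mul_mem (inv_mem hx) hax, ?_⟩
              rw [e2]
              exact mul_mem hy (inv_mem hay)
            rw [dis b c (Ne.symm hcb)] at e3
            have e4 := mem_bot.1 e3
            refine ⟨(inv_mul_eq_one.1 e4).symm, ?_⟩
            rw [e2] at e4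
            exact (mul_inv_eq_one.1 e4).symm
          have hxl : x ∈ l b := by
            rw [← fix_eq hFb (lN b) (lne b)]
            refine mem_inf.2 ⟨hx, mem_centralizer_iff.2 fun a ha => ?_⟩
            calc a * x = a * x * a⁻¹ * a := by group
              _ = x * a := by rw [(hkey a ha).1]
          have hyl : y ∈ l c := by
            rw [← fix_eq hFc (lN c) (lne c)]
            refine mem_inf.2 ⟨hy, mem_centralizer_iff.2 fun a ha => ?_⟩
            calc a * y = a * y * a⁻¹ * a := by group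
              _ = y * a := by rw [(hkey a ha).2]
          exact mul_mem (mem_sup_left hxl) (mem_sup_right hyl)
        have h6 : Nat.card ↥((N b ⊔ N c) ⊓ centralizer (A : Set G)) ≤ Nat.card (l b) * Nat.card (l c) := by
          refine (Subgroup.card_le_of_le h5).trans ?_
          have h7 : l c ≤ centralizer (l b : Set G) :=
            (lN c).trans ((com c b).trans (centralizer_le (lN b)))
          rw [← Cfsg.Agent.PLocal.ElemAbSup.card_sup_mul_card_inf h7]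
          exact Nat.le_mul_of_pos_right _ Nat.card_pos
        -- `|l b| ≤ 1`
        have hpA : 0 < Nat.card ↥(A ⊓ centralizer (N c : Set G)) := Nat.card_pos
        have hpb : 0 < Nat.card (l b) := Nat.card_pos
        have hpc : 0 < Nat.card (l c) := Nat.card_pos
        have h8 : (Nat.card (l b) * Nat.card (l b)) * (Nat.card (l c) * Nat.card (l c)) *
            Nat.card ↥(A ⊓ centralizer (N c : Set G)) ≤
            (Nat.card ↥(A ⊓ centralizer (N c : Set G)) * Nat.card (l c)) * (Nat.card (l b) * Nat.card (l c)) := by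
          rw [← hFc.cardA, ← cardN b, ← cardN c, ← h3]
          exact (Nat.mul_le_mul_left _ h4).trans (h2.trans (Nat.mul_le_mul_left _ h6))
        have h9 : Nat.card (l b) * (Nat.card (l b) * (Nat.card (l c) * Nat.card (l c)) *
            Nat.card ↥(A ⊓ centralizer (N c : Set G))) ≤
            1 * (Nat.card (l b) * (Nat.card (l c) * Nat.card (l c)) * Nat.card ↥(A ⊓ centralizer (N c : Set G))) := by
          refine le_trans (le_of_eq ?_) (h8.trans (le_of_eq ?_)) <;> ring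
        have h10 : Nat.card (l b) ≤ 1 := Nat.le_of_mul_le_mul_right h9 (by positivity)
        exact lne b ((Subgroup.card_le_one_iff_eq_bot _).1 h10)
      · -- fewer blocks are moved
        have h1 : {d | ¬ A ⊓ centralizer (N c : Set G) ⊔ N c ≤ centralizer (N d : Set G)} ⊂
            {d | ¬ A ≤ centralizer (N d : Set G)} := by
          refine ⟨fun d hd hAd => hd (sup_le (inf_le_left.trans hAd) (com c d)), fun hss => ?_⟩
          exact hss hc (sup_le inf_le_right (com c c))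
        have h2 := Set.ncard_lt_ncard h1 (Set.toFinite _)
        exact Nat.le_of_lt_succ (h2.trans_le hn)
  obtain ⟨A, hA, hb⟩ := all b
  exact key _ A hA hb le_rfl

end pure

end Root

/-! ### the frame -/

section bls

variable {ι : Type v} {S V O : Subgroup G} {N l E : ι → Subgroup G}

theorem Root.exists_cd (h : Bls S V N l E) (hS : IsPGroup 2 S) (b : ι) :
    ∃ (F : Type) (_ : Field F) (_ : Finite F) (_ : CharP F 2) (e : G → Fin 2 → F), Cd (TT S N) (N b) (l b) F e := by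
  obtain ⟨F, i1, i2, i3, e, he⟩ := h.nat b
  have hn : TT S N ≤ normalizer (N b : Set G) := inf_le_right.trans (iInf_le _ b)
  exact ⟨F, i1, i2, i3, e, hS.to_le inf_le_left, hn, he.mul, he.inj, he.sur, he.line,
    fun s hs => he.semi s hs.1 (hn hs)⟩

theorem Root.dis (h : Bls S V N l E) (a b : ι) (hab : a ≠ b) : N a ⊓ N b = ⊥ := by
  rw [eq_bot_iff, ← h.ind a]
  exact inf_le_inf_left _ (le_iSup (fun c : {c // c ≠ a} => N c) ⟨b, Ne.symm hab⟩)

theorem Root.com (h : Bls S V N l E) (a b : ι) : N a ≤ centralizer (N b : Set G) := by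
  have hNV : ∀ c, N c ≤ V := fun c => h.sup ▸ le_iSup N c
  exact fun v hv => mem_centralizer_iff.2 fun w hw => h.com w (hNV b hw) v (hNV a hv)

/-- **`Rts` from `Bls`.** -/
theorem rts [Finite G] [Finite ι] (h : Bls S V N l E) (hS : IsPGroup 2 S) (hO : O ≤ TT S N) (NO : ∀ b, N b ≤ O)
    (all : ∀ b, ∃ A ∈ AA O, ¬ A ≤ centralizer (N b : Set G))
    (I4 : zc (TT S N ⊓ centralizer ((⨆ b, l b : Subgroup G) : Set G)) ≤ ⨆ b, l b) : Rts (TT S N) O N l := by
  have hcd := Root.exists_cd h hS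
  have hoff : ∀ b, ∀ A ≤ TT S N, IsElementaryAbelian 2 A →
      Nat.card (N b) * Nat.card ↥(A ⊓ centralizer (N b : Set G)) ≤
        Nat.card A * Nat.card ↥(N b ⊓ centralizer (A : Set G)) →
      A ≤ centralizer (N b : Set G) ∨ Full A (N b) (l b) := by
    intro b A hA hAe hle
    obtain ⟨F, _, _, _, e, hc⟩ := hcd b
    exact hc.off hA hAe hle
  have hsq : ∀ b, ∀ v ∈ N b, v * v = 1 := by
    intro b v hv
    obtain ⟨F, _, _, _, e, hc⟩ := hcd b
    exact hc.sq hv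
  have hlN : ∀ b, l b ≤ N b := by
    intro b
    obtain ⟨F, _, _, _, e, hc⟩ := hcd b
    exact hc.lN
  have hlne : ∀ b, l b ≠ ⊥ := by
    intro b
    obtain ⟨F, _, _, _, e, hc⟩ := hcd b
    exact hc.lne
  have hcardN : ∀ b, Nat.card (N b) = Nat.card (l b) * Nat.card (l b) := by
    intro b
    obtain ⟨F, _, _, _, e, hc⟩ := hcd b
    exact hc.cardN
  have hTN : ∀ b, TT S N ≤ normalizer (N b : Set G) := fun b => inf_le_right.trans (iInf_le _ b)
  exact
    { two := hS.to_le inf_le_left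
      OT := hO
      com := Root.com h
      sq := hsq
      NO := NO
      lN := hlN
      dis := Root.dis h
      TN := hTN
      Tl := fun b => by
        obtain ⟨F, _, _, _, e, hc⟩ := hcd b
        exact hc.Tl
      cardN := hcardN
      lne := hlne
      rt := fun b t ht hl => by
        obtain ⟨F, _, _, _, e, hc⟩ := hcd b
        exact hc.rt ht hl
      rep := fun b A hA hF t ht hl => by
        obtain ⟨F, _, _, _, e, hc⟩ := hcd b
        exact hc.rep hA hF ht hl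
      off := hoff
      pure := Root.exists_pure (Root.com h) hsq NO hlN (Root.dis h) hlne (fun b => hO.trans (hTN b)) hcardN
        (fun b A hA => hoff b A (hA.2.1.trans hO) hA.1
          (thom hA (Root.eab_of (Root.com h b b) (hsq b)) (NO b))) all
      I4 := I4 }

end bls

end Cfsg.Agent.Omega.NOThreeL.RWide.UniT

end

-- merged: Cfsg.Agent.Mrg.Omega.NOThreeL.RWide.UniT.FrOf
section

section


/-!
# The frame `UniT.Fr` from `Rts` and `Typ0`

* `frat` : Frattini in `Y_c ∩ N(V)` for `C_T(V)`;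
* `exists_opp` : an element of `E c` with `l c ∩ (l c)^e = 1`;
* `lam` : the field `lam`;
* **`fr_of`** : `Rts T O N l` and `Typ0 T F N` give `Fr T O P N l (fun c => ⟨Ω₁Z(T)^(X_jc)⟩) j` for every minimal parabolic
  `P ≤ Y_j` over `T` which moves `F_j`.
-/

set_option autoImplicit false
set_option linter.unusedSectionVars false

namespace Cfsg.Agent.Omega.NOThreeL.RWide.UniT

open Subgroup Cfsg Cfsg.Agent.Omega.MinPar
open Cfsg.Agent.ZN (zc o2 zl)
open Cfsg.Agent.ZN.ChoiceBase (cj AA cj_mono cj_inf cj_centralizer cj_eq_of_mem_normalizer mem_cj mem_normalizer_iff_cj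
  cj_cj_inv cj_inv_cj cj_cj isPGroup_cj card_cj)
open Cfsg.Agent.ZN.ChoiceSit (Syl syl_conj exists_syl)
open Cfsg.Agent.MinSimple.MinParabolic (IsMinPar)
open Cfsg.Agent.Omega.EDel.ThmU (XF)
open Cfsg.Agent.Omega.NOThreeL.RWide.ParT.Loc (Typ0 XF_norm_X)
open Cfsg.Agent.Omega.NOThreeL.RWide.TBlk (Bls NB)

universe u v

variable {G : Type u} [Group G] {ι : Type v}

/-- Frattini for `C_T(V)` in `Y_c ∩ N(V)` -/
theorem frat [Finite G] {T V : Subgroup G} {F N : ι → Subgroup G} (t : Typ0 T F N) (hTV : T ≤ normalizer (V : Set G))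
    {c : ι} {e : G} (he : e ∈ YY F c) (heV : e ∈ normalizer (V : Set G)) :
    ∃ m ∈ YY F c, m ∈ normalizer ((T ⊓ centralizer (V : Set G) : Subgroup G) : Set G) ∧
      ∀ v ∈ V, m * v * m⁻¹ = e * v * e⁻¹ := by
  set X := YY F c ⊓ normalizer (V : Set G) with hX
  set K := X ⊓ centralizer (V : Set G) with hK
  have hTX : T ≤ X := le_inf (t.T_le c) hTV
  have hs : Syl T X := t.syl_of' hTX inf_le_left
  have hKn : ∀ g ∈ X, cj g K = K := fun g hg => by
    rw [hK, cj_inf, cj_eq_of_mem_normalizer (Subgroup.le_normalizer hg), cj_centralizer,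
      cj_eq_of_mem_normalizer hg.2]
  have hQ : Syl (T ⊓ centralizer (V : Set G)) K := by
    have h1 : Syl (T ⊓ K) K := SQ1.FFOne.syl_inf hs inf_le_left (fun g hg n hn => by
      have h2 : g * n * g⁻¹ ∈ cj g K := ⟨n, hn, rfl⟩
      rwa [hKn g hg] at h2)
    have e1 : T ⊓ K = T ⊓ centralizer (V : Set G) := by
      rw [hK, ← inf_assoc, inf_eq_left.2 hTX]
    rwa [e1] at h1
  have heX : e ∈ X := ⟨he, heV⟩
  have h1 : cj e (T ⊓ centralizer (V : Set G)) ≤ K := by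
    have h2 := cj_mono e hQ.1
    rwa [hKn e heX] at h2
  obtain ⟨Q, hQs, hle⟩ := exists_syl (isPGroup_cj e hQ.2.1) h1
  obtain ⟨k, hk, rfl⟩ := syl_conj hQ hQs
  refine ⟨k⁻¹ * e, mul_mem (inv_mem hk.1.1) he, ?_, fun v hv => ?_⟩
  · have h3 : cj (k⁻¹ * e) (T ⊓ centralizer (V : Set G)) ≤ T ⊓ centralizer (V : Set G) := by
      have := cj_mono k⁻¹ hle
      rwa [cj_inv_cj, cj_cj] at this
    exact mem_normalizer_iff_cj.2 (Subgroup.eq_of_le_of_card_ge h3 (by rw [card_cj]))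
  · have hw : e * v * e⁻¹ ∈ V := (mem_normalizer_iff.1 heV v).1 hv
    have h4 : e * v * e⁻¹ * k = k * (e * v * e⁻¹) := mem_centralizer_iff.1 hk.2 _ hw
    calc k⁻¹ * e * v * (k⁻¹ * e)⁻¹ = k⁻¹ * (e * v * e⁻¹ * k) := by group
      _ = e * v * e⁻¹ := by rw [h4]; group

/-- an element of `E` which moves the line to an opposite one -/
theorem NB.exists_opp {S E N l : Subgroup G} {F : Type} [Field F] {e : G → Fin 2 → F} (h : NB S E N l F e) :
    ∃ g ∈ E, cj g l ⊓ l = ⊥ := by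
  let M : Matrix.SpecialLinearGroup (Fin 2) F := ⟨!![0, 1; -1, 0], by simp [Matrix.det_fin_two]⟩
  obtain ⟨g, hg, hgM⟩ := h.full M
  refine ⟨g, hg, ?_⟩
  rw [eq_bot_iff]
  rintro _ ⟨⟨v, hv, rfl⟩, hw⟩
  obtain ⟨hvN, hv1⟩ := (h.line v).1 hv
  obtain ⟨-, hw1⟩ := (h.line _).1 hw
  have h1 := hgM v hvN
  have h2 : e (g * v * g⁻¹) 1 = 0 := hw1
  rw [h1] at h2
  have h3 : e v 0 = 0 := by
    have h4 : (M.1.mulVec (e v)) 1 = -e v 0 := by
      simp [M, Matrix.mulVec, dotProduct, Fin.sum_univ_two]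
    rw [h4] at h2
    exact neg_eq_zero.1 h2
  have h5 : v = 1 := h.inj v hvN (by
    funext i
    fin_cases i
    · exact h3
    · exact hv1)
  rw [mem_bot, h5]
  simp

/-- **The field `lam`.** -/
theorem lam [Finite G] {S T V : Subgroup G} {F N l E : ι → Subgroup G} (hB : Bls S V N l E) (t : Typ0 T F N)
    (j c : ι) : ∃ m, m ∈ normalizer (XS (zc T) (XF F j c) : Set G) ∧ m ∈ normalizer (N c : Set G) ∧
      (∀ b, b ≠ c → m ∈ centralizer (N b : Set G)) ∧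
      m ∈ normalizer ((T ⊓ centralizer ((⨆ b, N b : Subgroup G) : Set G) : Subgroup G) : Set G) ∧
      cj m (l c) ⊓ l c = ⊥ := by
  obtain ⟨F', _, _, _, e', he'⟩ := hB.nat c
  obtain ⟨e, heE, heo⟩ := NB.exists_opp he'
  have hN : ∀ b, N b ≤ ⨆ b, N b := le_iSup N
  have heN : ∀ b, e ∈ normalizer (N b : Set G) := by
    intro b
    by_cases hb : c = b
    · subst hb; exact hB.EN c heE
    · exact centralizer_le_normalizer _ (hB.EC c b hb heE)
  have heV : e ∈ normalizer ((⨆ b, N b : Subgroup G) : Set G) := by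
    refine Cfsg.Agent.ZN.ChoiceBase.mem_normalizer_of_cj_le ?_
    rw [cj, Subgroup.map_iSup]
    exact iSup_le fun b => (cj_eq_of_mem_normalizer (heN b)).le.trans (hN b)
  have heY : e ∈ YY F c := le_YY (K := E c) (fun b hb => (hB.EC c b fun h => hb h.symm).trans
    (centralizer_le (t.FV b))) heE
  have hTV : T ≤ normalizer ((⨆ b, N b : Subgroup G) : Set G) := by
    intro s hs
    refine Cfsg.Agent.ZN.ChoiceBase.mem_normalizer_of_cj_le ?_
    rw [cj, Subgroup.map_iSup]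
    exact iSup_le fun b => (cj_eq_of_mem_normalizer (t.TV b hs)).le.trans (hN b)
  obtain ⟨m, hm, hmQ, hmv⟩ := frat t hTV heY heV
  have hcj : ∀ A : Subgroup G, A ≤ ⨆ b, N b → cj m A = cj e A := by
    intro A hA
    ext x
    constructor
    · rintro ⟨a, ha, rfl⟩
      exact ⟨a, ha, (hmv a (hA ha)).symm⟩
    · rintro ⟨a, ha, rfl⟩
      exact ⟨a, ha, hmv a (hA ha)⟩
  have hlN : l c ≤ N c := fun v hv => ((he'.line v).1 hv).1
  refine ⟨m, XF_norm_X T F j c (Typ0.YY_le_XF' F j c hm), ?_, fun b hb => ?_, hmQ, ?_⟩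
  · rw [mem_normalizer_iff_cj, hcj _ (hN c), cj_eq_of_mem_normalizer (heN c)]
  · refine mem_centralizer_iff.2 fun v hv => ?_
    have h1 := hmv v (hN b hv)
    have h2 : v * e = e * v := mem_centralizer_iff.1 (hB.EC c b (fun h => hb h.symm) heE) v hv
    rw [← h2, mul_inv_cancel_right] at h1
    exact (mul_inv_eq_iff_eq_mul.1 h1).symm
  · rw [hcj _ (hlN.trans (hN c)), heo]

/-- **The frame.** -/
theorem fr_of [Finite G] {S T V : Subgroup G} {N l E : ι → Subgroup G} (hc : IsCharacteristicTwoType G)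
    (hB : Bls S V N l E) (t : Typ0 T (fun b => l b ⊓ centralizer (T : Set G)) N)
    (r : Rts T (o2 (centralizer (zc T : Set G))) N l) {j : ι} {P : Subgroup G} (hP : IsMinPar T P)
    (hPY : P ≤ YY (fun b => l b ⊓ centralizer (T : Set G)) j)
    (hmv : ¬ P ≤ centralizer ((l j ⊓ centralizer (T : Set G) : Subgroup G) : Set G)) :
    Fr T (o2 (centralizer (zc T : Set G))) P N l
      (fun c => XS (zc T) (XF (fun b => l b ⊓ centralizer (T : Set G)) j c)) j where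
  toRts := r
  syl := t.syl_of' hP.le hPY
  par := hP
  UQ := t.inf_cent_zl hc hP hPY hmv
  cR := t.char2_of hc hP.le hPY
  zT := t.sup
  RF _ hb := hPY.trans (YY_le_cent hb)
  mv := hmv
  ex := t.exists_ne j
  EO _ hcj := t.X_le_O hc (fun h => hcj h.symm)
  eab _ hcj := t.eab_X hc (fun h => hcj h.symm)
  RE c _ := (hPY.trans (Typ0.YY_le_XF _ j c)).trans (XF_norm_X T _ j c)
  jE c _ := t.V_le_X' j c
  NE c _ := t.V_le_X j c
  ZE c _ := t.zc_le_X j c
  lam c _ := lam hB t j c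

end Cfsg.Agent.Omega.NOThreeL.RWide.UniT

end

section


/-!
# `lamj` : the field `lam` of `Fr` for the moved block `j` (helper819 #28024)
-/

set_option autoImplicit false

namespace Cfsg.Agent.Omega.NOThreeL.RWide.UniT

open Subgroup Cfsg
open Cfsg.Agent.ZN (zc)
open Cfsg.Agent.ZN.ChoiceBase (cj)
open Cfsg.Agent.Omega.EDel.ThmU (XF XF_comm)
open Cfsg.Agent.Omega.NOThreeL.RWide.ParT.Loc (Typ0)
open Cfsg.Agent.Omega.NOThreeL.RWide.TBlk (Bls)

universe u v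

variable {G : Type u} [Group G] {ι : Type v}

/-- an element of `L_j` which moves the line `l j` and normalises `E_ja`, for every `a` -/
theorem lam_swap [Finite G] {S T V : Subgroup G} {F N l E : ι → Subgroup G} (hB : Bls S V N l E) (t : Typ0 T F N)
    (j a : ι) : ∃ m, m ∈ normalizer (XS (zc T) (XF F j a) : Set G) ∧ m ∈ normalizer (N j : Set G) ∧
      (∀ b, b ≠ j → m ∈ centralizer (N b : Set G)) ∧
      m ∈ normalizer ((T ⊓ centralizer ((⨆ b, N b : Subgroup G) : Set G) : Subgroup G) : Set G) ∧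
      cj m (l j) ⊓ l j = ⊥ := by
  have h1 := lam hB t a j
  rwa [XF_comm] at h1

/-- **`lamj`** -/
theorem lamj [Finite G] {S T V : Subgroup G} {F N l E : ι → Subgroup G} (hB : Bls S V N l E) (t : Typ0 T F N)
    (j : ι) : ∃ a, a ≠ j ∧ ∃ m, m ∈ normalizer (XS (zc T) (XF F j a) : Set G) ∧ m ∈ normalizer (N j : Set G) ∧
      (∀ b, b ≠ j → m ∈ centralizer (N b : Set G)) ∧
      m ∈ normalizer ((T ⊓ centralizer ((⨆ b, N b : Subgroup G) : Set G) : Subgroup G) : Set G) ∧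
      cj m (l j) ⊓ l j = ⊥ := by
  obtain ⟨a, ha⟩ := t.exists_ne j
  exact ⟨a, ha, lam_swap hB t j a⟩

end Cfsg.Agent.Omega.NOThreeL.RWide.UniT

end

end

-- merged: Cfsg.Agent.Mrg.Omega.NOThreeL.RWide.ParA.NBFacts
section

/-!
# The action of a 2-group `T ≤ S` on one natural block (helper971's request for `parT`)

`h : TBlk.NB S E N l F e`, `T ≤ S`, `T ≤ N(N)`, `T` a 2-group.

* `natT` : `NatT F N l T e`; `cardl`, `cardN` : `|l| = |F|`, `|N| = |l| |l|`;
* `root_of` : an element of `T` which centralises `l` is `x ↦ x + b y`, `y ↦ y`; `rt`, `rep`;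
* `offM`, `off` : the ROOT LEMMA (module form, resp. for elementary abelian `A`).
-/

set_option autoImplicit false
set_option linter.unusedSectionVars false

namespace Cfsg.Agent.Omega.NOThreeL.RWide.ParA.NBFacts

open Subgroup Cfsg
open Cfsg.Agent.Omega.CaseLQ (NatT)
open Cfsg.Agent.Omega.FFThm (ElemM OffM)
open Cfsg.Agent.Omega.NOThreeL.RWide.TBlk (NB)
open Cfsg.Agent.Omega.NOThreeL.RWide.UniT (Full)

universe u

variable {G : Type u} [Group G] {S E N l T A : Subgroup G} {F : Type} [Field F] {e : G → Fin 2 → F}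

theorem natT (h : NB S E N l F e) (TS : T ≤ S) (TN : T ≤ normalizer (N : Set G)) : NatT F N l T e where
  mul := h.mul
  surj := h.sur
  inj := h.inj
  TN := fun t ht v hv => (mem_normalizer_iff.1 (TN ht) v).1 hv
  memZ := h.line
  semi := fun t ht => by
    obtain ⟨σ, a, b, d, hs⟩ := h.semi t (TS ht) (TN ht)
    refine ⟨σ, fun c v hv w hw hwv => ?_⟩
    rw [hs w hw, hs v hv, hwv]
    funext i
    fin_cases i
    · simp only [Pi.smul_apply, smul_eq_mul, map_mul, Fin.zero_eta, Matrix.cons_val_zero]; ring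
    · simp only [Pi.smul_apply, smul_eq_mul, map_mul, Fin.mk_one, Matrix.cons_val_one, Matrix.cons_val_fin_one]; ring
  line := fun t ht v hv hv1 => by
    obtain ⟨σ, a, b, d, hs⟩ := h.semi t (TS ht) (TN ht)
    rw [hs v hv]
    simp [hv1]

theorem natB (h : NB S E N l F e) : NatT F N l (⊥ : Subgroup G) e := natT h bot_le bot_le

theorem cardl [Finite G] [Finite F] (h : NB S E N l F e) [CharP F 2] : Nat.card l = Nat.card F := (natB h).card_Z

theorem cardN [Finite G] [Finite F] [CharP F 2] (h : NB S E N l F e) : Nat.card N = Nat.card l * Nat.card l := by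
  rw [cardl h, (natB h).card_N, sq]

theorem lN (h : NB S E N l F e) : l ≤ N := fun v hv => ((h.line v).1 hv).1

theorem lne (h : NB S E N l F e) : l ≠ ⊥ := by
  intro h0
  obtain ⟨v, hv, hv'⟩ := h.sur ![1, 0]
  have h1 : v ∈ l := (h.line v).2 ⟨hv, by rw [hv']; rfl⟩
  rw [h0, mem_bot] at h1
  rw [h1, (natB h).e_one] at hv'
  exact zero_ne_one (congrFun hv' 0)

theorem sq [CharP F 2] (h : NB S E N l F e) : ∀ v ∈ N, v * v = 1 := fun v hv =>
  h.inj _ (mul_mem hv hv) (by rw [h.mul v hv v hv, CharTwo.add_self_eq_zero])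

theorem Tl (h : NB S E N l F e) (TS : T ≤ S) (TN : T ≤ normalizer (N : Set G)) : T ≤ normalizer (l : Set G) := by
  have h1 := natT h TS TN
  have h2 : ∀ t ∈ T, ∀ v ∈ l, t * v * t⁻¹ ∈ l := fun t ht v hv =>
    (h.line _).2 ⟨h1.TN t ht v ((h.line v).1 hv).1, h1.line t ht v ((h.line v).1 hv).1 ((h.line v).1 hv).2⟩
  intro t ht
  refine mem_normalizer_iff.2 fun v => ⟨h2 t ht v, fun hv => ?_⟩
  have h3 := h2 t⁻¹ (inv_mem ht) _ hv
  have h4 : t⁻¹ * (t * v * t⁻¹) * t⁻¹⁻¹ = v := by group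
  rwa [h4] at h3

theorem pow_two_pow_eq_one [CharP F 2] {d : F} : ∀ k : ℕ, d ^ 2 ^ k = 1 → d = 1
  | 0, h => by simpa using h
  | k + 1, h => by
      refine pow_two_pow_eq_one k ?_
      have h1 : (d ^ 2 ^ k + 1) * (d ^ 2 ^ k + 1) = 0 := by
        have h2 : (d ^ 2 ^ k + 1) * (d ^ 2 ^ k + 1) = d ^ 2 ^ k * d ^ 2 ^ k + 1 + (d ^ 2 ^ k + d ^ 2 ^ k) := by ring
        rw [h2, CharTwo.add_self_eq_zero, add_zero, ← pow_add, ← two_mul, ← pow_succ', h, CharTwo.add_self_eq_zero]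
      have h2 := mul_self_eq_zero.1 h1
      exact (CharTwo.add_eq_zero.1 h2)

/-- an element of a 2-group which centralises the line is a root element -/
theorem root_of [CharP F 2] (h : NB S E N l F e) (TS : T ≤ S) (TN : T ≤ normalizer (N : Set G)) (T2 : IsPGroup 2 T)
    {t : G} (ht : t ∈ T) (hl : t ∈ centralizer (l : Set G)) :
    ∃ b : F, ∀ v ∈ N, e (t * v * t⁻¹) = ![e v 0 + b * e v 1, e v 1] := by
  have hN := natT h TS TN
  obtain ⟨σ, a, b, d, hs⟩ := h.semi t (TS ht) (TN ht)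
  have h1 : ∀ x : F, a * σ x = x := by
    intro x
    obtain ⟨v, hv, hv'⟩ := h.sur ![x, 0]
    have h2 : v ∈ l := (h.line v).2 ⟨hv, by rw [hv']; rfl⟩
    have h3 : t * v * t⁻¹ = v := mul_inv_eq_iff_eq_mul.2 (mem_centralizer_iff.1 hl v h2).symm
    have h4 := congrFun (hs v hv) 0
    rw [h3, hv'] at h4
    simpa using h4.symm
  have ha : a = 1 := by simpa using h1 1
  have hσ : ∀ x : F, σ x = x := fun x => by simpa [ha] using h1 x
  have hs' : ∀ v ∈ N, e (t * v * t⁻¹) = ![e v 0 + b * e v 1, d * e v 1] := fun v hv => by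
    rw [hs v hv, hσ, hσ, ha, one_mul]
  have hn : ∀ n : ℕ, ∀ v ∈ N, e (t ^ n * v * (t ^ n)⁻¹) 1 = d ^ n * e v 1 := by
    intro n
    induction n with
    | zero => intro v hv; simp
    | succ n ih =>
      intro v hv
      have h2 := hN.TN (t ^ n) (pow_mem ht n) v hv
      have h3 : t ^ (n + 1) * v * (t ^ (n + 1))⁻¹ = t * (t ^ n * v * (t ^ n)⁻¹) * t⁻¹ := by rw [pow_succ']; group
      rw [h3, hs' _ h2]
      have h4 : (![e (t ^ n * v * (t ^ n)⁻¹) 0 + b * e (t ^ n * v * (t ^ n)⁻¹) 1,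
        d * e (t ^ n * v * (t ^ n)⁻¹) 1] : Fin 2 → F) 1 = d * e (t ^ n * v * (t ^ n)⁻¹) 1 := rfl
      rw [h4, ih v hv, pow_succ', mul_assoc]
  obtain ⟨k, hk⟩ := T2 ⟨t, ht⟩
  have hk' : t ^ 2 ^ k = 1 := by simpa using congrArg Subtype.val hk
  obtain ⟨v, hv, hv'⟩ := h.sur ![0, 1]
  have h2 := hn (2 ^ k) v hv
  rw [hk'] at h2
  have h3 : d ^ 2 ^ k = 1 := by
    have h4 : e v 1 = 1 := by rw [hv']; rfl
    simpa [h4] using h2.symm
  have hd := pow_two_pow_eq_one k h3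
  exact ⟨b, fun v hv => by rw [hs' v hv, hd, one_mul]⟩

variable [CharP F 2]

/-- the commutator of a root element -/
theorem e_comm (h : NB S E N l F e) {t : G} (tN : ∀ v ∈ N, t * v * t⁻¹ ∈ N) {b : F}
    (hb : ∀ v ∈ N, e (t * v * t⁻¹) = ![e v 0 + b * e v 1, e v 1]) {v : G} (hv : v ∈ N) :
    t * v * t⁻¹ * v⁻¹ ∈ N ∧ e (t * v * t⁻¹ * v⁻¹) = ![b * e v 1, 0] := by
  have hN := natB h
  refine ⟨mul_mem (tN v hv) (inv_mem hv), ?_⟩
  rw [h.mul _ (tN v hv) _ (inv_mem hv), hN.e_inv hv, hb v hv]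
  funext i
  fin_cases i <;> simp

/-- (2) an element of `T` which centralises the line acts as a root element -/
theorem rt (h : NB S E N l F e) (TS : T ≤ S) (TN : T ≤ normalizer (N : Set G)) (T2 : IsPGroup 2 T) :
    ∀ t ∈ T, t ∈ centralizer (l : Set G) → (∀ v ∈ N, t * v * t⁻¹ * v⁻¹ ∈ l) ∧
      (t ∉ centralizer (N : Set G) → ∀ z ∈ l, ∃ v ∈ N, t * v * t⁻¹ * v⁻¹ = z) := by
  intro t ht hl
  have hN := natT h TS TN
  obtain ⟨b, hb⟩ := root_of h TS TN T2 ht hl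
  have hc := fun {v : G} (hv : v ∈ N) => e_comm h (hN.TN t ht) hb hv
  refine ⟨fun v hv => (h.line _).2 ⟨(hc hv).1, by rw [(hc hv).2]; rfl⟩, fun htn z hz => ?_⟩
  have hb0 : b ≠ 0 := by
    rintro rfl
    refine htn (mem_centralizer_iff.2 fun v hv => ?_)
    have h2 := hb v hv
    rw [zero_mul, add_zero] at h2
    have h3 := hN.ext (hN.TN _ ht v hv) hv (h2.trans (by funext i; fin_cases i <;> rfl))
    exact (mul_inv_eq_iff_eq_mul.1 h3).symm
  obtain ⟨v, hv, hv'⟩ := h.sur ![0, b⁻¹ * e z 0]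
  refine ⟨v, hv, hN.ext (hc hv).1 (lN h hz) ?_⟩
  rw [(hc hv).2, hv']
  funext i
  fin_cases i
  · simp [mul_inv_cancel_left₀ hb0]
  · exact ((h.line z).1 hz).2.symm

/-- (3) ... and is covered by every full root group -/
theorem rep (h : NB S E N l F e) (TS : T ≤ S) (TN : T ≤ normalizer (N : Set G)) (T2 : IsPGroup 2 T) (AT : A ≤ T)
    (hA : Full A N l) {t : G} (ht : t ∈ T) (hl : t ∈ centralizer (l : Set G)) :
    ∃ a ∈ A, a⁻¹ * t ∈ centralizer (N : Set G) := by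
  have hN := natT h TS TN
  obtain ⟨b, hb⟩ := root_of h TS TN T2 ht hl
  obtain ⟨v, hv, hv'⟩ := h.sur ![0, 1]
  have hvl : v ∉ l := fun h0 => by
    have h1 := ((h.line v).1 h0).2
    rw [hv'] at h1
    exact one_ne_zero h1
  obtain ⟨a, ha, h1⟩ := hA.onA v hv hvl _ ((rt h TS TN T2 t ht hl).1 v hv)
  obtain ⟨c, hc⟩ := root_of h TS TN T2 (AT ha) (hA.cent ha)
  have h2 : c = b := by
    have h3 := congrFun (e_comm h (hN.TN a (AT ha)) hc hv).2 0
    rw [h1, (e_comm h (hN.TN t ht) hb hv).2, hv'] at h3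
    simpa using h3.symm
  refine ⟨a, ha, mem_centralizer_iff.2 fun w hw => ?_⟩
  have h3 : t * w * t⁻¹ = a * w * a⁻¹ := hN.ext (hN.TN t ht w hw) (hN.TN a (AT ha) w hw) (by rw [hb w hw, hc w hw, h2])
  have h4 : a⁻¹ * t * w * (a⁻¹ * t)⁻¹ = w := by
    calc a⁻¹ * t * w * (a⁻¹ * t)⁻¹ = a⁻¹ * (t * w * t⁻¹) * a := by group
      _ = w := by rw [h3]; group
  exact (mul_inv_eq_iff_eq_mul.1 h4).symm

/-- a subgroup of `T` which acts as the full root group -/
theorem full_of (h : NB S E N l F e) (AN : ∀ t ∈ A, ∀ v ∈ N, t * v * t⁻¹ ∈ N)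
    (h1 : ∀ t ∈ A, ∃ b : F, ∀ v ∈ N, e (t * v * t⁻¹) = ![e v 0 + b * e v 1, e v 1])
    (h2 : ∀ b : F, ∃ t ∈ A, ∀ v ∈ N, e (t * v * t⁻¹) = ![e v 0 + b * e v 1, e v 1])
    (hc : Nat.card A = Nat.card ↥(A ⊓ centralizer (N : Set G)) * Nat.card l) : Full A N l := by
  have hN := natB h
  refine ⟨fun t ht => mem_centralizer_iff.2 fun v hv => ?_, fun t ht v hv => ?_, fun v hv hvl z hz => ?_,
    fun t ht htn z hz => ?_, hc, fun hle => ?_⟩
  · obtain ⟨b, hb⟩ := h1 t ht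
    have hv' := (h.line v).1 hv
    have h3 := hb v hv'.1
    rw [hv'.2, mul_zero, add_zero] at h3
    have h4 := hN.ext (AN t ht v hv'.1) hv'.1 (h3.trans (by
      funext i
      fin_cases i
      · rfl
      · exact hv'.2.symm))
    exact (mul_inv_eq_iff_eq_mul.1 h4).symm
  · obtain ⟨b, hb⟩ := h1 t ht
    have h3 := e_comm h (AN t ht) hb hv
    exact (h.line _).2 ⟨h3.1, by rw [h3.2]; rfl⟩
  · have hv1 : e v 1 ≠ 0 := fun h0 => hvl ((h.line v).2 ⟨hv, h0⟩)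
    obtain ⟨t, ht, hb⟩ := h2 (e z 0 * (e v 1)⁻¹)
    have h3 := e_comm h (AN t ht) hb hv
    refine ⟨t, ht, hN.ext h3.1 (lN h hz) ?_⟩
    rw [h3.2]
    funext i
    fin_cases i
    · simp [inv_mul_cancel₀ hv1, mul_assoc]
    · simp [((h.line z).1 hz).2]
  · obtain ⟨b, hb⟩ := h1 t ht
    have hb0 : b ≠ 0 := by
      rintro rfl
      refine htn (mem_centralizer_iff.2 fun v hv => ?_)
      have h2 := hb v hv
      rw [zero_mul, add_zero] at h2
      have h3 := hN.ext (AN _ ht v hv) hv (h2.trans (by funext i; fin_cases i <;> rfl))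
      exact (mul_inv_eq_iff_eq_mul.1 h3).symm
    obtain ⟨v, hv, hv'⟩ := h.sur ![0, b⁻¹ * e z 0]
    have h3 := e_comm h (AN t ht) hb hv
    refine ⟨v, hv, hN.ext h3.1 (lN h hz) ?_⟩
    rw [h3.2, hv']
    funext i
    fin_cases i
    · simp [mul_inv_cancel_left₀ hb0]
    · exact ((h.line z).1 hz).2.symm
  · obtain ⟨t, ht, hb⟩ := h2 1
    obtain ⟨v, hv, hv'⟩ := h.sur ![0, 1]
    have h3 : t * v * t⁻¹ = v := mul_inv_eq_iff_eq_mul.2 (mem_centralizer_iff.1 (hle ht) v hv).symm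
    have h4 := congrFun (hb v hv) 0
    rw [h3, hv'] at h4
    simp at h4

variable [Finite G] [Finite F]

/-- (4) the ROOT LEMMA, module form -/
theorem offM (h : NB S E N l F e) (TS : T ≤ S) (TN : T ≤ normalizer (N : Set G)) (AT : A ≤ T) (hm : ElemM N A)
    (hle : Nat.card N * Nat.card ↥(A ⊓ centralizer (N : Set G)) ≤ Nat.card A * Nat.card ↥(N ⊓ centralizer (A : Set G))) :
    A ≤ centralizer (N : Set G) ∨ Full A N l := by
  have hN := natT h TS TN
  by_cases hc : A ≤ centralizer (N : Set G)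
  · exact Or.inl hc
  refine Or.inr ?_
  have ho : OffM N A := ⟨hm, hc, hle⟩
  obtain ⟨h1, h2⟩ := hN.full AT ho
  refine full_of h (fun t ht => hN.TN t (AT ht)) h1 h2 ?_
  have h3 := hN.no AT hm hc
  have h4 := le_antisymm h3 hle
  rw [hN.cent_eq AT ho, hN.card_N, hN.card_Z] at h4
  rw [hN.card_Z]
  have h5 : 0 < Nat.card F := Nat.card_pos
  refine Nat.eq_of_mul_eq_mul_right h5 ?_
  rw [h4]
  ring

theorem elemM_of (hA : IsElementaryAbelian 2 A) : ElemM N A where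
  sq := fun a ha => by
    rw [hA.2 a ha]
    exact one_mem _
  comm := fun a ha b hb => by
    have h1 : a * b = b * a := congrArg (fun t : A => (t : G)) (hA.1.is_comm.comm ⟨a, ha⟩ ⟨b, hb⟩)
    rw [h1, mul_inv_cancel_right, mul_inv_cancel]
    exact one_mem _

/-- (4) the ROOT LEMMA -/
theorem off (h : NB S E N l F e) (TS : T ≤ S) (TN : T ≤ normalizer (N : Set G)) (AT : A ≤ T)
    (hA : IsElementaryAbelian 2 A)
    (hle : Nat.card N * Nat.card ↥(A ⊓ centralizer (N : Set G)) ≤ Nat.card A * Nat.card ↥(N ⊓ centralizer (A : Set G))) :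
    A ≤ centralizer (N : Set G) ∨ Full A N l := offM h TS TN AT (elemM_of hA) hle

/-- no over-offender -/
theorem no (h : NB S E N l F e) (TS : T ≤ S) (TN : T ≤ normalizer (N : Set G)) (AT : A ≤ T) (hm : ElemM N A) :
    Nat.card A * Nat.card ↥(N ⊓ centralizer (A : Set G)) ≤ Nat.card N * Nat.card ↥(A ⊓ centralizer (N : Set G)) := by
  by_cases hc : A ≤ centralizer (N : Set G)
  · have h1 : A ⊓ centralizer (N : Set G) = A := inf_eq_left.2 hc
    have h2 := Subgroup.card_le_of_le (inf_le_left : N ⊓ centralizer (A : Set G) ≤ N)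
    rw [h1, mul_comm]
    exact Nat.mul_le_mul_right _ h2
  · exact (natT h TS TN).no AT hm hc

end Cfsg.Agent.Omega.NOThreeL.RWide.ParA.NBFacts

end

-- merged: Cfsg.Agent.Mrg.Omega.NOThreeL.RWide.ParA.Glue
section

/-!
# `parT`, active case: the input of [O] over `TFm` (helper506 #27090, helper971 #27366)

`T = TT S N`, `F = FF S N l`, `P ∈ 𝒫(T)`, `P ≤ Y_j`, `P` moves `F_j`; `A ∈ 𝒜(O)` moves `N_j`, `O₂(P) ≤ C(N_j)` ([X]).

* `YG T P V = ⟨Ω₁Z(T)^P⟩ ⟨V^P⟩`; `Y_eab`, `Y_le_T`, `Y_le_O`, `P_norm_Y` for `V = N_j`;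
* **`inT_of`** : `InT T P A (N j) (l j) (YG T P (N j))`.
-/

set_option autoImplicit false
set_option linter.unusedSectionVars false

namespace Cfsg.Agent.Omega.NOThreeL.RWide.ParA.Glue

open Subgroup Cfsg Cfsg.Agent.Omega.MinPar
open Cfsg.Agent.ZN (zc o2 zl)
open Cfsg.Agent.ZN.ChoiceBase (cj cj_mono cj_inf cj_centralizer cj_eq_of_mem_normalizer mem_cj mem_normalizer_iff_cj
  cj_cj_inv cj_inv_cj cj_cj cj_one mem_zc isPGroup_cj card_cj)
open Cfsg.Agent.MinSimple.MinParabolic (IsMinPar)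
open Cfsg.Agent.MinSimple.VModule (le_normalizer_zl le_normalizer_o2 oddGen)
open Cfsg.Agent.Omega.NoFF.Basic (comm_symm)
open Cfsg.Agent.Omega.EDel.ThmU (XF)
open Cfsg.Agent.Omega.FFThm (ElemM OffM relIndex_le_iff)
open Cfsg.Agent.Omega.FrameFF (cv)
open Cfsg.Agent.Omega.KL.TwoS (Mx)
open Cfsg.Agent.Omega.NO3S.EThree Cfsg.Agent.Omega.NO3S.EThree.ExactA
open Cfsg.Agent.Omega.NOThreeL.RWide.TAct (TT Tf OT)
open Cfsg.Agent.Omega.NOThreeL.RWide.ParQ (toTf cj_N_le)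
open Cfsg.Agent.Omega.NOThreeL.RWide.ParT.Loc (Typ0)

universe u v

variable {G : Type u} [Group G]

/-- `⟨Ω₁Z(T)^P⟩ ⟨V^P⟩` -/
def YG (T P V : Subgroup G) : Subgroup G := zl T P ⊔ ⨆ x : P, cj (x : G) V

theorem zl_le_YG (T P V : Subgroup G) : zl T P ≤ YG T P V := le_sup_left

theorem V_le_YG (T P V : Subgroup G) : V ≤ YG T P V := by
  refine le_trans ?_ le_sup_right
  have := le_iSup (fun x : P => cj (x : G) V) 1
  simpa [cj_one] using this

theorem YG_norm [Finite G] (T P V : Subgroup G) : P ≤ normalizer (YG T P V : Set G) := by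
  intro g hg
  refine Cfsg.Agent.ZN.ChoiceBase.mem_normalizer_of_cj_le ?_
  have e : cj g (YG T P V) = cj g (zl T P) ⊔ ⨆ x : P, cj g (cj (x : G) V) := by
    unfold YG
    rw [cj, Subgroup.map_sup, Subgroup.map_iSup]
  rw [e]
  refine sup_le ?_ (iSup_le fun x => ?_)
  · rw [cj_eq_of_mem_normalizer (le_normalizer_zl T P hg)]
    exact le_sup_left
  · rw [cj_cj]
    exact (le_iSup (fun x : P => cj (x : G) V) ⟨g * x, mul_mem hg x.2⟩).trans le_sup_right

variable {ι : Type v} [Finite G] [Finite ι] [Nonempty ι] {S : Sylow 2 G} {V : Subgroup G} {N l E : ι → Subgroup G}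
  {P A : Subgroup G} {i j : ι}

/-- the frame facts -/
theorem typ0 (h : TFm S V N l E) (three : ∀ i j : ι, ∃ k, k ≠ i ∧ k ≠ j) :
    Typ0 (TT (S : Subgroup G) N) (TAct.FF (S : Subgroup G) N l) N :=
  (toTf h).typ0 three h.EN h.EC h.irr h.ord

theorem Y_le_X (h : TFm S V N l E) (three : ∀ i j : ι, ∃ k, k ≠ i ∧ k ≠ j)
    (hPY : P ≤ YY (TAct.FF (S : Subgroup G) N l) j) (i : ι) : YG (TT (S : Subgroup G) N) P (N j) ≤
      XS (zc (TT (S : Subgroup G) N)) (XF (TAct.FF (S : Subgroup G) N l) i j) :=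
  sup_le ((typ0 h three).zl_le_X i hPY) (iSup_le fun x => cj_N_le h (Or.inr rfl) (hPY x.2))

theorem Y_eab (h : TFm S V N l E) (hc : IsCharacteristicTwoType G) (three : ∀ i j : ι, ∃ k, k ≠ i ∧ k ≠ j)
    (hPY : P ≤ YY (TAct.FF (S : Subgroup G) N l) j) : IsElementaryAbelian 2 (YG (TT (S : Subgroup G) N) P (N j)) := by
  obtain ⟨i, hi⟩ := (typ0 h three).exists_ne j
  exact eab_mono ((typ0 h three).eab_X hc hi) (Y_le_X h three hPY i)

theorem Y_le_O (h : TFm S V N l E) (hc : IsCharacteristicTwoType G) (three : ∀ i j : ι, ∃ k, k ≠ i ∧ k ≠ j)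
    (hPY : P ≤ YY (TAct.FF (S : Subgroup G) N l) j) :
    YG (TT (S : Subgroup G) N) P (N j) ≤ OT (TT (S : Subgroup G) N) := by
  obtain ⟨i, hi⟩ := (typ0 h three).exists_ne j
  exact (Y_le_X h three hPY i).trans ((typ0 h three).X_le_O hc hi)

theorem Y_le_T (h : TFm S V N l E) (hc : IsCharacteristicTwoType G) (three : ∀ i j : ι, ∃ k, k ≠ i ∧ k ≠ j)
    (hPY : P ≤ YY (TAct.FF (S : Subgroup G) N l) j) :
    YG (TT (S : Subgroup G) N) P (N j) ≤ TT (S : Subgroup G) N :=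
  (Y_le_O h hc three hPY).trans ((typ0 h three).o2_CZ_le j)

/-- **the input of [O]** -/
theorem inT_of (h : TFm S V N l E) (hc : IsCharacteristicTwoType G) (three : ∀ i j : ι, ∃ k, k ≠ i ∧ k ≠ j)
    (hP : IsMinPar (TT (S : Subgroup G) N) P) (hPY : P ≤ YY (TAct.FF (S : Subgroup G) N l) j)
    (hmv : ¬ P ≤ centralizer (TAct.FF (S : Subgroup G) N l j : Set G))
    (hA : Mx (OT (TT (S : Subgroup G) N)) A) (hAj : ¬ A ≤ centralizer (N j : Set G))
    (hX : o2 P ≤ centralizer (N j : Set G)) :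
    InT (TT (S : Subgroup G) N) P A (N j) (l j) (YG (TT (S : Subgroup G) N) P (N j)) := by
  have t := typ0 h three
  set T := TT (S : Subgroup G) N with hT
  set F := TAct.FF (S : Subgroup G) N l with hF
  have hOT : OT T ≤ T := t.o2_CZ_le j
  have AT : A ≤ T := hA.le.trans hOT
  have hYO := Y_le_O h hc three hPY
  have hYT := Y_le_T h hc three hPY
  have hYe := Y_eab h hc three hPY
  have hY2 : ∀ x ∈ YG T P (N j), x ^ 2 = 1 := (eab_iff.1 hYe).2
  have hcz := t.inf_cent_zl hc hP hPY hmv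
  have hAzl : ¬ A ≤ centralizer (zl T P : Set G) := fun h1 => hAj (by
    refine le_trans ?_ hX
    rw [← hcz]
    exact le_inf AT h1)
  have TN : T ≤ normalizer (N j : Set G) := inf_le_right.trans (iInf_le _ j)
  have TS : T ≤ (S : Subgroup G) := inf_le_left
  have T2 : IsPGroup 2 T := (toTf h).T2
  obtain ⟨Fd, _, _, _, e, he⟩ := h.nat j
  have hAe : IsElementaryAbelian 2 A := eab_iff.2 ⟨hA.comm, hA.sq⟩
  have hthN := hA.thom ((t.V_le_O hc j)) (fun v hv => by rw [pow_two]; exact NBFacts.sq he v hv)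
  have hfull : UniT.Full A (N j) (l j) :=
    (NBFacts.off he TS TN AT hAe (relIndex_le_iff.2 hthN)).resolve_left hAj
  refine ⟨t.syl_of' hP.le hPY, hP, t.char2_of hc hP.le hPY, AT, ⟨⟨fun a ha => ?_, fun a ha b hb => ?_⟩, hAzl, ?_⟩,
    fun x hx y hy => ?_, fun x hx => ?_, zl_le_YG _ _ _, V_le_YG _ _ _, YG_norm _ _ _, fun g hg hgz => ?_,
    hA.thom hYO hY2, NBFacts.lN he, fun hle => ?_, (toTf h).T_norm_l j, comm_symm hfull.cent, hfull.inl, hfull.onA,
    hfull.onN, ?_, fun hle => hmv ?_⟩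
  · rw [hA.sq a ha]; exact one_mem _
  · have h1 : a * b = b * a := (mem_centralizer_iff.1 (hA.comm ha) b hb).symm
    rw [h1, mul_inv_cancel_right, mul_inv_cancel]
    exact one_mem _
  · exact relIndex_le_iff.2 (hA.thom ((zl_le_YG _ _ _).trans hYO) fun x hx => hY2 x (zl_le_YG _ _ _ hx))
  · exact (mem_centralizer_iff.1 ((eab_iff.1 hYe).1 hx) y hy).symm
  · rw [← pow_two]; exact hY2 x hx
  · -- `C_T(zl T P)` centralises `Y`
    have hgo : g ∈ o2 P := by rw [← hcz]; exact ⟨hg, hgz⟩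
    have key : YG T P (N j) ≤ centralizer ({g} : Set G) := by
      refine sup_le (fun z hz => mem_centralizer_singleton_iff.2 (mem_centralizer_iff.1 hgz z hz)) (iSup_le fun x => ?_)
      intro z hz
      have h1 : (x : G)⁻¹ * g * x ∈ o2 P := by
        have := (mem_normalizer_iff.1 (le_normalizer_o2 P (inv_mem x.2)) g).1 hgo
        rwa [inv_inv] at this
      have h2 := mem_centralizer_iff.1 (hX h1) _ (mem_cj.1 hz)
      refine mem_centralizer_singleton_iff.2 ?_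
      have h3 : z * g = x * (((x : G)⁻¹ * z * x) * ((x : G)⁻¹ * g * x)) * (x : G)⁻¹ := by group
      rw [h3, h2]; group
    exact mem_centralizer_iff.2 fun z hz => mem_centralizer_singleton_iff.1 (key hz)
  · -- `N j ≰ l j`
    obtain ⟨v, hv, hve⟩ := he.sur ![0, 1]
    have h1 := ((he.line v).1 (hle hv)).2
    rw [hve] at h1
    exact one_ne_zero h1
  · have h1 := NBFacts.no he TS TN AT (NBFacts.elemM_of hAe)
    have h2 := (relIndex_le_iff (V := A) (A := N j) (B := centralizer (A : Set G)) (D := centralizer (N j : Set G))).1 h1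
    exact h2
  · -- `l j ≰ cv T P`
    have h1 : F j ≤ cv T P := (inf_le_left : F j ≤ l j).trans hle
    have h2 := TTn.DiCoreAbs.oddGen_sup hP.le (t.syl_of hP.le hPY)
    rw [← h2]
    exact sup_le (comm_symm (h1.trans inf_le_right)) (t.TC j)

end Cfsg.Agent.Omega.NOThreeL.RWide.ParA.Glue

end

-- merged: Cfsg.Agent.Mrg.Omega.NOThreeL.RWide.UniT.Plug
section

section


/-!
# `parT` (helper995 #27590): the plug

* `frT` : the frame `Fr` from `TFm` and `Rts`;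
* **`parT_of'`** : `parT` from `Rts`, (A1), (A2).
-/

set_option autoImplicit false
set_option linter.unusedSectionVars false

namespace Cfsg.Agent.Omega.NOThreeL.RWide.UniT

open Subgroup Cfsg Cfsg.Agent.Omega.MinPar Cfsg.Agent.Omega.Frame
open Cfsg.Agent.ZN (zc o2 zl)
open Cfsg.Agent.ZN.ChoiceBase (cj AA)
open Cfsg.Agent.MinSimple.MinParabolic (IsMinPar)
open Cfsg.Agent.Omega.EDel.ThmU (XF)
open Cfsg.Agent.Omega.NOThreeL.RWide.TAct (TT BB Tf OT)
open Cfsg.Agent.Omega.NOThreeL.RWide.ParQ (toTf)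

universe u v

variable {G : Type u} [Group G] [Finite G] {ι : Type v} [Finite ι] [Nonempty ι] {S : Sylow 2 G} {V : Subgroup G}
  {N l E : ι → Subgroup G}

/-- **the frame** -/
theorem frT (hc : IsCharacteristicTwoType G) (h : TFm S V N l E) (three : ∀ i j : ι, ∃ k, k ≠ i ∧ k ≠ j)
    (r : Rts (TT (S : Subgroup G) N) (OT (TT (S : Subgroup G) N)) N l) (j : ι) (P : Subgroup G)
    (hP : IsMinPar (TT (S : Subgroup G) N) P) (hPY : P ≤ YY (TAct.FF (S : Subgroup G) N l) j)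
    (hmv : ¬ P ≤ centralizer (TAct.FF (S : Subgroup G) N l j : Set G)) :
    Fr (TT (S : Subgroup G) N) (OT (TT (S : Subgroup G) N)) P N l
      (fun c => XS (zc (TT (S : Subgroup G) N)) (XF (TAct.FF (S : Subgroup G) N l) j c)) j :=
  fr_of hc h.toBls (ParA.Glue.typ0 h three) r hP hPY hmv

/-- **`parT`** from `Rts`, (A1), (A2). -/
theorem parT_of' (hFF : FFThm.Stmt.{u}) (hc : IsCharacteristicTwoType G) (h : TFm S V N l E)
    (three : ∀ i j : ι, ∃ k, k ≠ i ∧ k ≠ j)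
    (ln : ∀ c ∈ centralizer (zc (S : Subgroup G) : Set G), ∀ b, ∃ b', cj c (l b) = l b')
    (r : Rts (TT (S : Subgroup G) N) (OT (TT (S : Subgroup G) N)) N l)
    (A1 : ∀ j P, IsMinPar (TT (S : Subgroup G) N) P → P ≤ YY (TAct.FF (S : Subgroup G) N l) j →
      ¬ P ≤ centralizer (TAct.FF (S : Subgroup G) N l j : Set G) → zl (TT (S : Subgroup G) N) P ≤ ⨆ b, l b →
      ∀ b, P ≤ normalizer (N b : Set G))
    (A2 : ∀ j P, Fr (TT (S : Subgroup G) N) (OT (TT (S : Subgroup G) N)) P N l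
        (fun c => XS (zc (TT (S : Subgroup G) N)) (XF (TAct.FF (S : Subgroup G) N l) j c)) j →
      P ≤ YY (TAct.FF (S : Subgroup G) N l) j → ¬ zl (TT (S : Subgroup G) N) P ≤ ⨆ b, l b →
      ∃ A ∈ AA (OT (TT (S : Subgroup G) N)), ¬ A ≤ o2 P) :
    ∀ j P, IsMinPar (TT (S : Subgroup G) N) P → P ≤ YY (TAct.FF (S : Subgroup G) N l) j →
      P ≤ centralizer (TAct.FF (S : Subgroup G) N l j : Set G) ∨ ∀ i, P ≤ normalizer (N i : Set G) :=
  parT_of h ln (frT hc h three r) (fun _ _ hfr hex => Act.active' hFF hfr hex) A1 A2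

/-- **`parT`** from `Rts` and the passive case. -/
theorem parT_of_passive (hFF : FFThm.Stmt.{u}) (hc : IsCharacteristicTwoType G) (h : TFm S V N l E)
    (three : ∀ i j : ι, ∃ k, k ≠ i ∧ k ≠ j)
    (ln : ∀ c ∈ centralizer (zc (S : Subgroup G) : Set G), ∀ b, ∃ b', cj c (l b) = l b')
    (r : Rts (TT (S : Subgroup G) N) (OT (TT (S : Subgroup G) N)) N l)
    (passive : ∀ j P, IsMinPar (TT (S : Subgroup G) N) P → P ≤ YY (TAct.FF (S : Subgroup G) N l) j →
      ¬ P ≤ centralizer (TAct.FF (S : Subgroup G) N l j : Set G) →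
      (∀ A ∈ AA (OT (TT (S : Subgroup G) N)), A ≤ o2 P) → ∀ b, P ≤ normalizer (N b : Set G)) :
    ∀ j P, IsMinPar (TT (S : Subgroup G) N) P → P ≤ YY (TAct.FF (S : Subgroup G) N l) j →
      P ≤ centralizer (TAct.FF (S : Subgroup G) N l j : Set G) ∨ ∀ i, P ≤ normalizer (N i : Set G) := by
  intro j P hP hPY
  by_cases hF : P ≤ centralizer (TAct.FF (S : Subgroup G) N l j : Set G)
  · exact Or.inl hF
  refine Or.inr ?_
  by_cases hA : ∃ A ∈ AA (OT (TT (S : Subgroup G) N)), ¬ A ≤ o2 P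
  · exact end_V h ln hPY (Act.active' hFF (frT hc h three r j P hP hPY hF) hA)
  · push Not at hA
    exact passive j P hP hPY hF hA

end Cfsg.Agent.Omega.NOThreeL.RWide.UniT

end

section


/-!
# [A1] of `parT` (helper971 #27366): `AA(O₂(C_G(Ω₁Z(S)))) ⊆ AA(O₂(C_G(Ω₁Z(T))))` and `Rts` over `TFm`

`C = C_G(Ω₁Z(S))`, `Z_J = ∏ l b`, `D = C_G(Z_J)`, `T = TT S N`, `OT T = O₂(C_G(Ω₁Z(T)))`.

* `cent_lines` : `V ≤ O ≤ S`, `A ∈ AA(O)`: `A` normalises all blocks and centralises all lines;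
* `V_le_DJ`, `low` : `V ≤ O₂(D) ≤ O₂(C)`; `V_le_OT`, `OT_le`;
* `le_DJ`, `le_DJT` : `AA(O₂(C))`, `AA(OT T)` lie in `O₂(D)`; `AA_sub` : `AA(O₂(C)) ⊆ AA(OT T)`;
* **`allT`** ; **`rtsT`** : `Rts (TT S N) (OT (TT S N)) N l`.
-/

set_option autoImplicit false
set_option linter.unusedSectionVars false

namespace Cfsg.Agent.Omega.NOThreeL.RWide.UniT

open Subgroup Cfsg Cfsg.Agent.Omega.MinPar
open Cfsg.Agent.ZN (zc zl o2)
open Cfsg.Agent.ZN.ChoiceBase (cj AA cj_mono cj_inf cj_centralizer cj_eq_of_mem_normalizer mem_normalizer_iff_cj mem_zc)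
open Cfsg.Agent.MinSimple.VModule (le_centralizer_zc le_normalizer_o2 o2_isPGroup le_o2 o2_le o2_le_of_sylow)
open Cfsg.Agent.Omega.KL.TwoS (Mx)
open Cfsg.Agent.Omega.NOThreeL.RWide.TAct (TT BB Tf OT)
open Cfsg.Agent.Omega.NOThreeL.RWide.ParQ (toTf)

universe u v

variable {G : Type u} [Group G] [Finite G]

theorem AllT.o2_inf_le {C D : Subgroup G} (hDC : D ≤ C) : o2 C ⊓ D ≤ o2 D := by
  refine le_o2 inf_le_right ((o2_isPGroup _).to_le inf_le_left) fun d hd => ?_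
  rw [mem_normalizer_iff_cj, cj_inf, cj_eq_of_mem_normalizer (le_normalizer_o2 _ (hDC hd)),
    cj_eq_of_mem_normalizer (Subgroup.le_normalizer hd)]

theorem AllT.mem_AA {O A : Subgroup G} (h : Mx O A) : A ∈ AA O := by
  refine ⟨⟨⟨⟨fun a b => ?_⟩⟩, h.sq⟩, h.le, fun B hB hBO => h.max B hBO hB.2⟩
  exact Subtype.ext (mem_centralizer_iff.1 (h.comm b.2) a a.2)

variable {ι : Type v} [Finite ι] {S : Sylow 2 G} {V : Subgroup G} {N l E : ι → Subgroup G}

/-- **`A ∈ AA(O)`, `V ≤ O ≤ S`: `A` normalises all blocks and centralises all lines** -/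
theorem cent_lines (h : TFm S V N l E) {O A : Subgroup G} (hOS : O ≤ (S : Subgroup G)) (hVO : V ≤ O) (hA : A ∈ AA O) :
    A ≤ TT (S : Subgroup G) N ∧ A ≤ centralizer ((⨆ b, l b : Subgroup G) : Set G) := by
  have hAS : A ≤ (S : Subgroup G) := hA.2.1.trans hOS
  have hNV : ∀ b, N b ≤ V := fun b => h.sup ▸ le_iSup N b
  have hel : ∀ X : Subgroup G, X ≤ V → IsElementaryAbelian 2 X := fun X hX =>
    ⟨⟨⟨fun a b => Subtype.ext (h.com a (hX a.2) b (hX b.2))⟩⟩, fun a ha => h.sq a (hX ha)⟩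
  have hth : ∀ X : Subgroup G, X ≤ V → Nat.card X * Nat.card ↥(A ⊓ centralizer (X : Set G)) ≤
      Nat.card A * Nat.card ↥(X ⊓ centralizer (A : Set G)) := fun X hX => thom hA (hel X hX) (hX.trans hVO)
  have abA : ∀ a ∈ A, ∀ b ∈ A, a * b = b * a := fun a ha b hb =>
    congrArg Subtype.val (hA.1.1.is_comm.comm (⟨a, ha⟩ : A) (⟨b, hb⟩ : A))
  have hfix : ∀ b, A ≤ normalizer (N b : Set G) := by
    intro b
    obtain ⟨F, _, _, _, e, he⟩ := h.nat b
    refine FixBl.fix_of abA (fun i j v hv w hw => h.com v (hNV i hv) w (hNV j hw)) h.toBls.indep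
      (fun a ha b => ?_) (fun X hX => hth X (h.sup ▸ hX)) ?_ ?_
    · obtain ⟨c, hc, -⟩ := h.perm a (hAS ha) b
      exact ⟨c, hc⟩
    · rw [ParA.NBFacts.cardN he, ParA.NBFacts.cardl he]
      have h1 : 1 < Nat.card F := Finite.one_lt_card
      nlinarith
    · exact ParA.NBFacts.no he (inf_le_left.trans hAS) inf_le_right le_rfl
        (ParA.NBFacts.elemM_of (eab_mono hA.1 inf_le_left))
  have hAT : A ≤ TT (S : Subgroup G) N := le_inf hAS (le_iInf hfix)
  refine ⟨hAT, ?_⟩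
  rw [Subgroup.le_centralizer_iff]
  refine iSup_le fun b => ?_
  rw [Subgroup.le_centralizer_iff]
  obtain ⟨F, _, _, _, e, he⟩ := h.nat b
  rcases ParA.NBFacts.off he hAS (hfix b) le_rfl hA.1 (hth _ (hNV b)) with h1 | h1
  · exact h1.trans (centralizer_le (ParA.NBFacts.lN he))
  · exact h1.cent

variable [Nonempty ι]

/-- `V ≤ O₂(C_G(Ω₁Z(T)))` -/
theorem V_le_OT (hc : IsCharacteristicTwoType G) (h : TFm S V N l E) (three : ∀ i j : ι, ∃ k, k ≠ i ∧ k ≠ j) :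
    V ≤ OT (TT (S : Subgroup G) N) := by
  rw [← h.sup]
  exact iSup_le fun b => ((toTf h).typ0 three h.EN h.EC h.irr h.ord).V_le_O hc b

theorem OT_le (h : TFm S V N l E) (three : ∀ i j : ι, ∃ k, k ≠ i ∧ k ≠ j) :
    OT (TT (S : Subgroup G) N) ≤ TT (S : Subgroup G) N :=
  ((toTf h).typ0 three h.EN h.EC h.irr h.ord).o2_CZ_le (Classical.arbitrary ι)

/-- `D ≤ C_G(Ω₁Z(T))` -/
theorem DJ_le (h : TFm S V N l E) : centralizer ((⨆ b, l b : Subgroup G) : Set G) ≤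
    centralizer (zc (TT (S : Subgroup G) N) : Set G) := centralizer_le (toTf h).zcT_le_R

/-- **`V ≤ O₂(C_G(Z_J))`** -/
theorem V_le_DJ (hc : IsCharacteristicTwoType G) (h : TFm S V N l E) (three : ∀ i j : ι, ∃ k, k ≠ i ∧ k ≠ j) :
    V ≤ o2 (centralizer ((⨆ b, l b : Subgroup G) : Set G)) :=
  (le_inf (V_le_OT hc h three) ((toTf h).com.trans (centralizer_le (toTf h).RV))).trans
    (AllT.o2_inf_le (DJ_le h))

section ln

variable (ln : ∀ c ∈ centralizer (zc (S : Subgroup G) : Set G), ∀ b, ∃ b', cj c (l b) = l b')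
include ln

/-- `O₂(D) ≤ O₂(C)` -/
theorem o2D_le_C (h : TFm S V N l E) : o2 (centralizer ((⨆ b, l b : Subgroup G) : Set G)) ≤
    o2 (centralizer (zc (S : Subgroup G) : Set G)) := o2_le_of (toTf h).DC (cz_of_ln ln)

/-- `O₂(D) ≤ OT T` -/
theorem o2D_le_OT (h : TFm S V N l E) : o2 (centralizer ((⨆ b, l b : Subgroup G) : Set G)) ≤
    OT (TT (S : Subgroup G) N) :=
  o2_le_of (DJ_le h) ((centralizer_le (toTf h).Z_le_zcT).trans (cz_of_ln ln))

/-- **`V ≤ O₂(C)`** -/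
theorem low (hc : IsCharacteristicTwoType G) (h : TFm S V N l E) (three : ∀ i j : ι, ∃ k, k ≠ i ∧ k ≠ j) :
    V ≤ o2 (centralizer (zc (S : Subgroup G) : Set G)) := (V_le_DJ hc h three).trans (o2D_le_C ln h)

/-- `A ∈ AA(O₂(C))` lies in `O₂(D)` -/
theorem le_DJ (hc : IsCharacteristicTwoType G) (h : TFm S V N l E) (three : ∀ i j : ι, ∃ k, k ≠ i ∧ k ≠ j)
    {A : Subgroup G} (hA : A ∈ AA (o2 (centralizer (zc (S : Subgroup G) : Set G)))) :
    A ≤ o2 (centralizer ((⨆ b, l b : Subgroup G) : Set G)) := by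
  have hSC : (S : Subgroup G) ≤ centralizer (zc (S : Subgroup G) : Set G) := le_centralizer_zc _
  have hOS : o2 (centralizer (zc (S : Subgroup G) : Set G)) ≤ (S : Subgroup G) :=
    o2_le_of_sylow S.isPGroup' (Cfsg.Agent.MinSimple.Basic.not_dvd_relIndex S hSC)
  exact (le_inf hA.2.1 (cent_lines h hOS (low ln hc h three) hA).2).trans (AllT.o2_inf_le (toTf h).DC)

omit ln in
/-- `A ∈ AA(OT T)` lies in `O₂(D)` -/
theorem le_DJT (hc : IsCharacteristicTwoType G) (h : TFm S V N l E) (three : ∀ i j : ι, ∃ k, k ≠ i ∧ k ≠ j)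
    {A : Subgroup G} (hA : A ∈ AA (OT (TT (S : Subgroup G) N))) :
    A ≤ o2 (centralizer ((⨆ b, l b : Subgroup G) : Set G)) :=
  (le_inf hA.2.1 (cent_lines h ((OT_le h three).trans inf_le_left) (V_le_OT hc h three) hA).2).trans
    (AllT.o2_inf_le (DJ_le h))

/-- **`AA(O₂(C)) ⊆ AA(OT T)`** -/
theorem AA_sub (hc : IsCharacteristicTwoType G) (h : TFm S V N l E) (three : ∀ i j : ι, ∃ k, k ≠ i ∧ k ≠ j)
    {A : Subgroup G} (hA : A ∈ AA (o2 (centralizer (zc (S : Subgroup G) : Set G)))) :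
    A ∈ AA (OT (TT (S : Subgroup G) N)) := by
  refine ⟨hA.1, (le_DJ ln hc h three hA).trans (o2D_le_OT ln h), fun B hB hBO => ?_⟩
  obtain ⟨A', hA'⟩ := Cfsg.Agent.ZN.ChoiceBase.AA_nonempty (OT (TT (S : Subgroup G) N))
  exact (hA'.2.2 B hB hBO).trans (hA.2.2 A' hA'.1 ((le_DJT hc h three hA').trans (o2D_le_C ln h)))

/-- **[A1]** -/
theorem allT (hc : IsCharacteristicTwoType G) (h : TFm S V N l E) (three : ∀ i j : ι, ∃ k, k ≠ i ∧ k ≠ j)
    (all : ∀ b, ∃ A, Mx (o2 (centralizer (zc (S : Subgroup G) : Set G))) A ∧ ¬ A ≤ centralizer (N b : Set G)) (b : ι) :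
    ∃ A ∈ AA (OT (TT (S : Subgroup G) N)), ¬ A ≤ centralizer (N b : Set G) := by
  obtain ⟨A, hA, hb⟩ := all b
  exact ⟨A, AA_sub ln hc h three (AllT.mem_AA hA), hb⟩

/-- **`Rts` over `TFm`** -/
theorem rtsT (hc : IsCharacteristicTwoType G) (h : TFm S V N l E) (three : ∀ i j : ι, ∃ k, k ≠ i ∧ k ≠ j)
    (all : ∀ b, ∃ A, Mx (o2 (centralizer (zc (S : Subgroup G) : Set G))) A ∧ ¬ A ≤ centralizer (N b : Set G)) :
    Rts (TT (S : Subgroup G) N) (OT (TT (S : Subgroup G) N)) N l := by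
  refine rts h.toBls S.isPGroup' (OT_le h three)
    (fun b => ((toTf h).typ0 three h.EN h.EC h.irr h.ord).V_le_O hc b) (allT ln hc h three all) ?_
  refine le_trans (le_of_eq ?_) h.I4
  congr 1
  exact le_antisymm (le_inf (inf_le_left.trans inf_le_left) inf_le_right) (le_inf (toTf h).BT inf_le_right)

end ln

end Cfsg.Agent.Omega.NOThreeL.RWide.UniT

end

end

-- merged: Cfsg.Agent.Mrg.Omega.NOThreeL.RWide.ParQ.AOne
section

/-!
# The passive case of PAR, (A1) (helper528 #27296, helper801 #27718)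

`T = TT S N`, `D = C_G(Ω₁Z(T))`, `O = O₂(D)`, `P ∈ 𝒫(T)`, `P ≤ Y_j` moves `F j`.

* `mx_AA`, `AA_mx` : `Mx` and `AA`;
* `mx_of` : the members of `𝒜(O₂(D'))` and `𝒜(O₂(C_G(Z_J)))` agree for `C_G(Z_J) ≤ D' ≤ N_G(Z_J)` (no `V`);
* `cj_of` : `V ∩ C(J(O)) ≤ Z_J` if every block is moved by a member of `𝒜(O)`;
* **`norm_J`** : a group `U` with `Ω₁Z(T) ≤ U ≤ Z_J` normalised by `P`: `P ≤ N_G(J(O))`;
* **`case_U`** : then `P` normalises all blocks.
-/

set_option autoImplicit false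
set_option linter.unusedSectionVars false

namespace Cfsg.Agent.Omega.NOThreeL.RWide.ParQ

open Subgroup Cfsg Cfsg.Agent.Omega.MinPar
open Cfsg.Agent.ZN (zc zl o2 jj)
open Cfsg.Agent.ZN.ChoiceBase (cj cj_mono cj_inf cj_centralizer cj_eq_of_mem_normalizer mem_cj mem_normalizer_iff_cj
  cj_cj_inv cj_inv_cj cj_cj cj_one mem_zc isPGroup_cj card_cj AA jj_eq jj_le jj_cj le_jj normalizer_le_of_cj)
open Cfsg.Agent.ZN.ChoiceSit (Syl)
open Cfsg.Agent.MinSimple.MinParabolic (IsMinPar)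
open Cfsg.Agent.MinSimple.VModule (zc_le le_centralizer_zc le_normalizer_o2 o2_isPGroup le_o2 o2_le zc_le_zl
  le_normalizer_zl)
open Cfsg.Agent.Omega.NoFF.Basic (comm_symm)
open Cfsg.Agent.Omega.NOThreeL.RWide.TBlk (NB Bls)
open Cfsg.Agent.Omega.NOThreeL.RWide.TAct (TT BB Tf OT)
open Cfsg.Agent.Omega.KL.TwoS (Mx)

universe u v

variable {G : Type u} [Group G]

theorem mx_AA [Finite G] {O A : Subgroup G} (h : Mx O A) : A ∈ AA O := by
  refine ⟨⟨⟨⟨fun a b => Subtype.ext ?_⟩⟩, h.sq⟩, h.le, fun B hB hBO => h.max B hBO hB.2⟩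
  exact mem_centralizer_iff.1 (h.comm b.2) a a.2

theorem AA_mx [Finite G] {O A : Subgroup G} (h : A ∈ AA O) : Mx O A := by
  obtain ⟨B, hB⟩ := Mx.exists_mx O
  exact hB.of_card h.2.1 h.1.2 (h.2.2 B (mx_AA hB).1 hB.le)

/-- the same elementary abelian subgroups of maximal order -/
theorem mx_of [Finite G] {ZJ D' A : Subgroup G} (DJ : centralizer (ZJ : Set G) ≤ D')
    (Dn : D' ≤ normalizer (ZJ : Set G)) (off : ∀ A : Subgroup G, Mx (o2 D') A → A ≤ centralizer (ZJ : Set G)) :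
    Mx (o2 D') A ↔ Mx (o2 (centralizer (ZJ : Set G))) A := by
  have h1 := UniT.o2_le_of DJ Dn
  have h2 : ∀ A : Subgroup G, Mx (o2 D') A → Mx (o2 (centralizer (ZJ : Set G))) A := by
    intro A hA
    have h4 : o2 D' ⊓ centralizer (ZJ : Set G) ≤ o2 (centralizer (ZJ : Set G)) := by
      refine le_o2 inf_le_right ((o2_isPGroup _).to_le inf_le_left) fun d hd => ?_
      rw [mem_normalizer_iff_cj, cj_inf, cj_eq_of_mem_normalizer (le_normalizer_o2 _ (DJ hd)),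
        cj_eq_of_mem_normalizer (Subgroup.le_normalizer hd)]
    exact ⟨(le_inf hA.le (off A hA)).trans h4, hA.sq, fun B hB hB2 => hA.max B (hB.trans h1) hB2⟩
  refine ⟨h2 A, fun hA => ?_⟩
  obtain ⟨A', hA'⟩ := Mx.exists_mx (o2 D')
  exact hA'.of_card (hA.le.trans h1) hA.sq (hA.max A' (h2 A' hA').le hA'.sq)

section tfm

variable {ι : Type v} [Finite G] {S : Sylow 2 G} {V : Subgroup G} {N l E : ι → Subgroup G} [Finite ι] [Nonempty ι]

/-- a 2-group `A ≤ T` which is exact on every block centralises `Z_J` -/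
theorem exact_cent (h : TFm S V N l E) {A : Subgroup G} (hA : A ≤ TT (S : Subgroup G) N) (hA2 : ∀ a ∈ A, a ^ 2 = 1)
    (he : ∀ b, (centralizer (A : Set G)).relIndex (N b) ≤ (centralizer (N b : Set G)).relIndex A) :
    A ≤ centralizer ((⨆ b, l b : Subgroup G) : Set G) := by
  refine comm_symm (iSup_le fun b => comm_symm ?_)
  obtain ⟨F', _, _, _, e, hb⟩ := h.nat b
  exact line_cent hb (hA.trans inf_le_left) (hA.trans (inf_le_right.trans (iInf_le _ b)))
    (fun a ha => by rw [hA2 a ha]; exact one_mem _) (he b)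

omit [Finite G] [Nonempty ι] in
/-- an element of `T` which centralises `l b` and a vector `v` with `N b`-component off `l b` centralises `N b` -/
theorem root_act {S : Subgroup G} {F : ι → Type} [∀ b, Field (F b)] {x y : G → ∀ b, F b}
    (K : TBlk.Kd S V N l E x y) {b : ι} {s : G} (hs : s ∈ TT S N) (hsc : s ∈ centralizer (l b : Set G)) {v : G}
    (hv : v ∈ V) (hvy : y v b ≠ 0) (hsv : s * v = v * s) : s ∈ centralizer (N b : Set G) := by
  have hsN : s ∈ normalizer (N b : Set G) := (iInf_le _ b : _ ≤ normalizer (N b : Set G)) hs.2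
  obtain ⟨σ, a, c, d, hact⟩ := K.semi s hs.1 b hsN
  have hline : ∀ t : F b, a * σ t = t := by
    intro t
    obtain ⟨w, hw, hwx⟩ := K.exists_x b t
    have h2 : s * w * s⁻¹ = w := by
      rw [← mem_centralizer_iff.1 hsc w hw, mul_inv_cancel_right]
    have h1 := (hact w (K.lV b hw)).1
    rw [h2, hwx, ((K.meml b w).1 hw).2.2 b, map_zero, mul_zero, add_zero] at h1
    exact h1.symm
  have ha : a = 1 := by simpa using hline 1
  have hσ : ∀ t, σ t = t := fun t => by simpa [ha] using hline t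
  have h2 : s * v * s⁻¹ = v := by rw [hsv, mul_inv_cancel_right]
  obtain ⟨h3, h4⟩ := hact v hv
  rw [h2, ha, hσ, hσ, one_mul] at h3
  rw [h2, hσ] at h4
  have hc : c = 0 := (mul_eq_zero.1 (left_eq_add.1 h3)).resolve_right hvy
  have hd : d = 1 := by
    have h5 : (d - 1) * y v b = 0 := by rw [sub_mul, one_mul, ← h4, sub_self]
    exact sub_eq_zero.1 ((mul_eq_zero.1 h5).resolve_right hvy)
  rw [mem_centralizer_iff]
  intro w hw
  have hw' : s * w * s⁻¹ ∈ N b := (mem_normalizer_iff.1 hsN w).1 hw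
  obtain ⟨h5, h6⟩ := hact w (K.NV b hw)
  rw [ha, hc, hσ, one_mul, zero_mul, add_zero] at h5
  rw [hd, hσ, one_mul] at h6
  obtain ⟨-, n1, n2⟩ := (K.memN b w).1 hw
  obtain ⟨-, n3, n4⟩ := (K.memN b _).1 hw'
  have h8 : s * w * s⁻¹ = w := by
    refine K.ext (K.NV b hw') (K.NV b hw) (fun c => ?_) fun c => ?_
    · by_cases e : c = b
      · subst e; exact h5
      · rw [n1 c e, n3 c e]
    · by_cases e : c = b
      · subst e; exact h6
      · rw [n2 c e, n4 c e]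
  calc w * s = (s * w * s⁻¹) * s := by rw [h8]
    _ = s * w := by group

/-- `V ∩ C(J(O)) ≤ Z_J` if every block is moved by a member of `𝒜(O)` -/
theorem cj_of (h : TFm S V N l E) {O : Subgroup G} (hO : O ≤ TT (S : Subgroup G) N)
    (cent : ∀ A : Subgroup G, Mx O A → A ≤ centralizer ((⨆ b, l b : Subgroup G) : Set G))
    (allT : ∀ b, ∃ A, Mx O A ∧ ¬ A ≤ centralizer (N b : Set G)) :
    V ⊓ centralizer (jj O : Set G) ≤ ⨆ b, l b := by
  obtain ⟨F, _, _, _, x, y, K⟩ := h.toBls.exists_kd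
  rintro v ⟨hv, hvc⟩
  refine K.memZ.2 ⟨hv, fun b => ?_⟩
  by_contra hne
  obtain ⟨A, hA, hAN⟩ := allT b
  refine hAN fun s hs => root_act K (hO (hA.le hs)) (centralizer_le (le_iSup l b) (cent A hA hs)) hv hne ?_
  exact mem_centralizer_iff.1 hvc s (le_jj (mx_AA hA) hs)

theorem N_le_O (h : TFm S V N l E) (hc : IsCharacteristicTwoType G) (three : ∀ i j : ι, ∃ k, k ≠ i ∧ k ≠ j) (b : ι) :
    N b ≤ OT (TT (S : Subgroup G) N) := by
  have h1 := cj_le_O h hc three (j := b) (one_mem _) b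
  rwa [cj_one] at h1

/-- `C_G(Z_J) ≤ C_G(Ω₁Z(T))` -/
theorem DJ_le (h : TFm S V N l E) : centralizer ((⨆ b, l b : Subgroup G) : Set G) ≤
    centralizer (zc (TT (S : Subgroup G) N) : Set G) := centralizer_le (by exact_mod_cast (toTf h).zcT_le_R)

/-- `N b ≤ O₂(C_G(Z_J))` -/
theorem N_le_DJ (h : TFm S V N l E) (hc : IsCharacteristicTwoType G) (three : ∀ i j : ι, ∃ k, k ≠ i ∧ k ≠ j) (b : ι) :
    N b ≤ o2 (centralizer ((⨆ b, l b : Subgroup G) : Set G)) := by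
  have h2 : OT (TT (S : Subgroup G) N) ⊓ centralizer ((⨆ b, l b : Subgroup G) : Set G) ≤
      o2 (centralizer ((⨆ b, l b : Subgroup G) : Set G)) := by
    refine le_o2 inf_le_right ((o2_isPGroup _).to_le inf_le_left) fun d hd => ?_
    rw [mem_normalizer_iff_cj, cj_inf, cj_eq_of_mem_normalizer (le_normalizer_o2 _ (DJ_le h hd)),
      cj_eq_of_mem_normalizer (Subgroup.le_normalizer hd)]
  refine (le_inf (N_le_O h hc three b) ?_).trans h2
  exact ((toTf h).NV b).trans ((toTf h).com.trans (centralizer_le (by exact_mod_cast (toTf h).RV)))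

/-- members of `𝒜(O₂(D'))` centralise `Z_J` -/
theorem cent_of (h : TFm S V N l E) (hc : IsCharacteristicTwoType G) (three : ∀ i j : ι, ∃ k, k ≠ i ∧ k ≠ j)
    {D' : Subgroup G} (DJ : centralizer ((⨆ b, l b : Subgroup G) : Set G) ≤ D')
    (Dn : D' ≤ normalizer ((⨆ b, l b : Subgroup G) : Set G)) (hO : o2 D' ≤ TT (S : Subgroup G) N) {A : Subgroup G}
    (hA : Mx (o2 D') A) : A ≤ centralizer ((⨆ b, l b : Subgroup G) : Set G) :=
  exact_cent h (hA.le.trans hO) hA.sq fun b =>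
    hA.thom ((N_le_DJ h hc three b).trans (UniT.o2_le_of DJ Dn)) fun _ hx => sqN h b hx

omit [Nonempty ι] in
/-- `C_G(Ω₁Z(S)) ≤ N_G(Z_J)` -/
theorem CS_le_nZ {S : Subgroup G} {l : ι → Subgroup G}
    (ln : ∀ c ∈ centralizer (zc S : Set G), ∀ b, ∃ b', cj c (l b) = l b') :
    centralizer (zc S : Set G) ≤ normalizer ((⨆ b, l b : Subgroup G) : Set G) := by
  intro c hc
  refine Cfsg.Agent.ZN.ChoiceBase.mem_normalizer_of_cj_le ?_
  rw [cj, Subgroup.map_iSup]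
  refine iSup_le fun b => ?_
  obtain ⟨b', hb'⟩ := ln c hc b
  exact (le_of_eq hb').trans (le_iSup l b')

/-- `C_G(Ω₁Z(T)) ≤ N_G(Z_J)` -/
theorem D_le_nZ (h : TFm S V N l E)
    (ln : ∀ c ∈ centralizer (zc (S : Subgroup G) : Set G), ∀ b, ∃ b', cj c (l b) = l b') :
    centralizer (zc (TT (S : Subgroup G) N) : Set G) ≤ normalizer ((⨆ b, l b : Subgroup G) : Set G) :=
  (centralizer_le (by exact_mod_cast (toTf h).Z_le_zcT)).trans (CS_le_nZ ln)

/-- `T` is Sylow in `D` -/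
theorem syl_D (h : TFm S V N l E) : Syl (TT (S : Subgroup G) N) (centralizer (zc (TT (S : Subgroup G) N) : Set G)) :=
  UniT.syl_of_odd (toTf h).T2 (le_centralizer_zc _) ((toTf h).syl_sub (j := Classical.arbitrary ι) (le_centralizer_zc _)
    (le_YY fun b _ => centralizer_le (by exact_mod_cast (toTf h).F_le b)))

theorem OT_le (h : TFm S V N l E) : OT (TT (S : Subgroup G) N) ≤ TT (S : Subgroup G) N :=
  Cfsg.Agent.ZN.ChoiceSit.o2_le_syl (syl_D h)

/-- members of `𝒜(O)` centralise `Z_J` -/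
theorem cent_O (h : TFm S V N l E) (hc : IsCharacteristicTwoType G) (three : ∀ i j : ι, ∃ k, k ≠ i ∧ k ≠ j)
    (ln : ∀ c ∈ centralizer (zc (S : Subgroup G) : Set G), ∀ b, ∃ b', cj c (l b) = l b') {A : Subgroup G}
    (hA : Mx (OT (TT (S : Subgroup G) N)) A) : A ≤ centralizer ((⨆ b, l b : Subgroup G) : Set G) :=
  cent_of h hc three (DJ_le h) (D_le_nZ h ln) (OT_le h) hA

/-- **`P` normalises `J(O)`** if it normalises a group between `Ω₁Z(T)` and `Z_J` -/
theorem norm_J (h : TFm S V N l E) (hc : IsCharacteristicTwoType G) (three : ∀ i j : ι, ∃ k, k ≠ i ∧ k ≠ j)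
    (ln : ∀ c ∈ centralizer (zc (S : Subgroup G) : Set G), ∀ b, ∃ b', cj c (l b) = l b') {P U : Subgroup G}
    (hTP : TT (S : Subgroup G) N ≤ P) (hU1 : zc (TT (S : Subgroup G) N) ≤ U) (hU2 : U ≤ ⨆ b, l b)
    (hPU : P ≤ normalizer (U : Set G)) : P ≤ normalizer (jj (OT (TT (S : Subgroup G) N)) : Set G) := by
  have DJ : centralizer ((⨆ b, l b : Subgroup G) : Set G) ≤ centralizer (U : Set G) :=
    centralizer_le (by exact_mod_cast hU2)
  have D'D : centralizer (U : Set G) ≤ centralizer (zc (TT (S : Subgroup G) N) : Set G) :=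
    centralizer_le (by exact_mod_cast hU1)
  have hPO : P ≤ normalizer (o2 (centralizer (U : Set G)) : Set G) :=
    (hPU.trans UniT.norm_cent).trans (Cfsg.Agent.Omega.normalizer_le_normalizer_o2' _)
  have hO : o2 (centralizer (U : Set G)) ≤ TT (S : Subgroup G) N := by
    have h1 : IsPGroup 2 (TT (S : Subgroup G) N ⊔ o2 (centralizer (U : Set G)) : Subgroup G) :=
      IsPGroup.to_sup_of_normal_right' (toTf h).T2 (o2_isPGroup _) (hTP.trans hPO)
    have h2 := (syl_D h).2.2 _ (sup_le (le_centralizer_zc _) ((o2_le _).trans D'D)) h1 le_sup_left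
    rw [← h2]
    exact le_sup_right
  have key : ∀ A, Mx (o2 (centralizer (U : Set G))) A ↔ Mx (OT (TT (S : Subgroup G) N)) A := fun A =>
    (mx_of DJ (D'D.trans (D_le_nZ h ln)) fun A hA => cent_of h hc three DJ (D'D.trans (D_le_nZ h ln)) hO hA).trans
      (mx_of (DJ_le h) (D_le_nZ h ln) fun A hA => cent_O h hc three ln hA).symm
  have e : jj (o2 (centralizer (U : Set G))) = jj (OT (TT (S : Subgroup G) N)) := by
    rw [jj_eq, jj_eq]
    congr 1
    ext A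
    exact ⟨fun hA => mx_AA ((key A).1 (AA_mx hA)), fun hA => mx_AA ((key A).2 (AA_mx hA))⟩
  rw [← e]
  intro p hp
  exact normalizer_le_of_cj (F := jj) jj_cj _ (hPO hp)

/-- `N_G(J(O)) ≤ N_G(Z_J)` -/
theorem nJ_le (h : TFm S V N l E) (hc : IsCharacteristicTwoType G) (three : ∀ i j : ι, ∃ k, k ≠ i ∧ k ≠ j)
    (ln : ∀ c ∈ centralizer (zc (S : Subgroup G) : Set G), ∀ b, ∃ b', cj c (l b) = l b')
    (allT : ∀ b, ∃ A, Mx (OT (TT (S : Subgroup G) N)) A ∧ ¬ A ≤ centralizer (N b : Set G)) :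
    normalizer (jj (OT (TT (S : Subgroup G) N)) : Set G) ≤ normalizer ((⨆ b, l b : Subgroup G) : Set G) := by
  refine (toTf h).J_le ?_ (cj_of h (OT_le h) (fun A hA => cent_O h hc three ln hA) allT) (CS_le_nZ ln)
  rw [jj_eq]
  exact sSup_le fun A hA => cent_O h hc three ln (AA_mx hA)

/-- **(A1)** `P ∈ 𝒫(T)` in `Y_j` moves `F j` and normalises a group between `Ω₁Z(T)` and `Z_J`: `P` normalises all blocks. -/
theorem case_U (h : TFm S V N l E) (hc : IsCharacteristicTwoType G) (three : ∀ i j : ι, ∃ k, k ≠ i ∧ k ≠ j)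
    (ln : ∀ c ∈ centralizer (zc (S : Subgroup G) : Set G), ∀ b, ∃ b', cj c (l b) = l b')
    (allT : ∀ b, ∃ A, Mx (OT (TT (S : Subgroup G) N)) A ∧ ¬ A ≤ centralizer (N b : Set G))
    {j : ι} {P U : Subgroup G} (hP : IsMinPar (TT (S : Subgroup G) N) P)
    (hPX : P ≤ YY (TAct.FF (S : Subgroup G) N l) j)
    (hm : ¬ P ≤ centralizer (TAct.FF (S : Subgroup G) N l j : Set G)) (hU1 : zc (TT (S : Subgroup G) N) ≤ U)
    (hU2 : U ≤ ⨆ b, l b) (hPU : P ≤ normalizer (U : Set G)) (b : ι) : P ≤ normalizer (N b : Set G) :=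
  (toTf h).norm_of_R hP hPX ((norm_J h hc three ln hP.le hU1 hU2 hPU).trans (nJ_le h hc three ln allT)) hm b

/-- (A1) with `U = zl T P` -/
theorem case_zl (h : TFm S V N l E) (hc : IsCharacteristicTwoType G) (three : ∀ i j : ι, ∃ k, k ≠ i ∧ k ≠ j)
    (ln : ∀ c ∈ centralizer (zc (S : Subgroup G) : Set G), ∀ b, ∃ b', cj c (l b) = l b')
    (allT : ∀ b, ∃ A, Mx (OT (TT (S : Subgroup G) N)) A ∧ ¬ A ≤ centralizer (N b : Set G))
    {j : ι} {P : Subgroup G} (hP : IsMinPar (TT (S : Subgroup G) N) P)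
    (hPX : P ≤ YY (TAct.FF (S : Subgroup G) N l) j)
    (hm : ¬ P ≤ centralizer (TAct.FF (S : Subgroup G) N l j : Set G))
    (hU : zl (TT (S : Subgroup G) N) P ≤ ⨆ b, l b) (b : ι) : P ≤ normalizer (N b : Set G) :=
  case_U h hc three ln allT hP hPX hm (zc_le_zl _ _) hU (le_normalizer_zl _ _) b

end tfm

end Cfsg.Agent.Omega.NOThreeL.RWide.ParQ

end

-- merged: Cfsg.Agent.Mrg.Omega.NOThreeL.RWide.UniT.Fin
section

/-!
# `parT` (helper995 #27590, helper528 #27296): the end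

* `rts_of` : `Rts` from `TFm`, lines, `allT`;
* **`parT_of_allT`** : `parT` if every block is moved by a member of `AA(O₂(C_G(Ω₁Z(T))))`;
* **`parX`** : `RRed.UPar.ParX` (no input).
-/

set_option autoImplicit false
set_option linter.unusedSectionVars false

namespace Cfsg.Agent.Omega.NOThreeL.RWide.UniT

open Subgroup Cfsg Cfsg.Agent.Omega.MinPar Cfsg.Agent.Omega.Frame
open Cfsg.Agent.ZN (zc o2 zl)
open Cfsg.Agent.ZN.ChoiceBase (cj AA)
open Cfsg.Agent.MinSimple.MinParabolic (IsMinPar)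
open Cfsg.Agent.Omega.EDel.ThmU (XF)
open Cfsg.Agent.Omega.NOThreeL.RWide.TAct (TT BB Tf OT)
open Cfsg.Agent.Omega.NOThreeL.RWide.ParQ (toTf)

universe u v

section fin

variable {G : Type u} [Group G] [Finite G] {ι : Type v} [Finite ι] [Nonempty ι] {S : Sylow 2 G} {V : Subgroup G}
  {N l E : ι → Subgroup G}

/-- **`Rts`** -/
theorem rts_of (h : TFm S V N l E) (hc : IsCharacteristicTwoType G) (three : ∀ i j : ι, ∃ k, k ≠ i ∧ k ≠ j)
    (allT : ∀ b, ∃ A ∈ AA (OT (TT (S : Subgroup G) N)), ¬ A ≤ centralizer (N b : Set G)) :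
    Rts (TT (S : Subgroup G) N) (OT (TT (S : Subgroup G) N)) N l := by
  refine rts h.toBls S.isPGroup' (ParQ.OT_le h) (ParQ.N_le_O h hc three) allT ?_
  have e1 : BB (S : Subgroup G) l = TT (S : Subgroup G) N ⊓ centralizer ((⨆ b, l b : Subgroup G) : Set G) :=
    le_antisymm (le_inf (toTf h).BT inf_le_right) (le_inf (inf_le_left.trans inf_le_left) inf_le_right)
  have h2 := h.I4
  rwa [e1] at h2

/-- **`parT`** -/
theorem parT_of_allT (hFF : FFThm.Stmt.{u}) (hc : IsCharacteristicTwoType G) (h : TFm S V N l E)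
    (three : ∀ i j : ι, ∃ k, k ≠ i ∧ k ≠ j)
    (ln : ∀ c ∈ centralizer (zc (S : Subgroup G) : Set G), ∀ b, ∃ b', cj c (l b) = l b')
    (allT : ∀ b, ∃ A ∈ AA (OT (TT (S : Subgroup G) N)), ¬ A ≤ centralizer (N b : Set G)) :
    ∀ j P, IsMinPar (TT (S : Subgroup G) N) P → P ≤ YY (TAct.FF (S : Subgroup G) N l) j →
      P ≤ centralizer (TAct.FF (S : Subgroup G) N l j : Set G) ∨ ∀ i, P ≤ normalizer (N i : Set G) :=
  parT_of' hFF hc h three ln (rts_of h hc three allT)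
    (fun _ _ hP hPY hm hU b => ParQ.case_zl h hc three ln
      (fun b => (allT b).imp fun _ hA => ⟨ParQ.AA_mx hA.1, hA.2⟩) hP hPY hm hU b)
    (fun j _ hfr _ hU => hfr.atwo hFF
      (lamj h.toBls (ParA.Glue.typ0 h three) j) hU)

end fin

/-- **`parX`** (helper848 #27137, helper258): the theorem `parT` -/
theorem parX : RRed.UPar.ParX.{u} := by
  intro G _ _ hG S V ι _ N l E h ln all three j
  have : Nonempty ι := ⟨j⟩
  have ln' : ∀ c ∈ centralizer (zc (S : Subgroup G) : Set G), ∀ b, ∃ b', cj c (l b) = l b' := ln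
  exact parT_of_allT FFBr.ffthm hG.char2 h three ln' (allT ln' hG.char2 h three all) j

end Cfsg.Agent.Omega.NOThreeL.RWide.UniT

end

-- merged: Cfsg.Agent.Mrg.Omega.NOThreeL.RZ.TwoE.NatFam
section

/-!
# [R-z], [Nat] : the family of all natural blocks in `V*`

`S` in box R with `V*` FF, no transvection in `S`, all natural blocks of the active `P ∈ P*(S)` split (`Spl S (MZ S)`).

* `NatF S Q N C` : every minimal exact offender of `S` is the root group of a natural block; the blocks and complements are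
  permuted by `Y`;
* `natF_of`, **`exists_natF`** : there is such a family;
* `NatF.dec` : `Blk.Dec`.
-/

set_option autoImplicit false
set_option linter.unusedSectionVars false

namespace Cfsg.Agent.Omega.NOThreeL.RZ.TwoE.NatFam

open Subgroup Cfsg Cfsg.Agent.ZN Cfsg.Agent.Omega.MinPar
open Cfsg.Agent.Omega.NOThreeL.RSplit (Nrm)
open Cfsg.Agent.Omega.NOThreeL.RRed
open Cfsg.Agent.Omega.NOThreeL.RRed.Blk
open Cfsg.Agent.Omega.NOThreeL.RRed.NS (fxd brk mem_fxd conj_eq_cj smul_eq_iff)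
open Cfsg.Agent.Omega.NOThreeL.RRed.WideTree (Act)
open Cfsg.Agent.Omega.NOThreeL.RRed.FourTree (TvS gen_MZ)
open Cfsg.Agent.Omega.NOThreeL.RTree (RB)
open Cfsg.Agent.Omega.NOThreeL.RTreeF (RBF)
open Cfsg.Agent.Omega.NOThreeL.Merge (MZ isLoc_MZ)
open Cfsg.Agent.Omega.NOThreeL.RRed.Blk.TypesNat (XH ph ph_smul XH_faith ph_eq ph_surj no_XH two_of)
open Cfsg.Agent.Omega.NOThreeL.RRed.Blk.Asm
open Cfsg.Agent.Omega.NOThreeL.RRed.Blk.AsmG (Inp RRs Ps sSup_Ps inact)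
open Cfsg.Agent.Omega.NOThreeL.RRed.Blk.AsmCore (EP KP im ph_mem_im)
open Cfsg.Agent.Omega.NOThreeL.RRed.Blk.AsmInp (Spl type_of inp_of act_iff nrm_box)
open Cfsg.Agent.Omega.NOThreeL.RRed.Blk.SrcBox (main_box four_le)
open scoped Pointwise

universe u

variable {G : Type u} [Group G] [Finite G] {S : Sylow 2 G}

/-- the images of the minimal exact offenders of `S` on `V*` -/
abbrev EB (S : Sylow 2 G) (Q : Nrm (MZ (S : Subgroup G)) (zl (S : Subgroup G) (MZ (S : Subgroup G)))) : Set (Subgroup (XH Q)) :=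
  im Q '' AsmCore.EE (S : Subgroup G) (zl (S : Subgroup G) (MZ (S : Subgroup G)))

/-- **Every minimal exact offender of `S` is the root group of a natural block.** -/
structure NatF (S : Sylow 2 G) (Q : Nrm (MZ (S : Subgroup G)) (zl (S : Subgroup G) (MZ (S : Subgroup G))))
    (N C : Subgroup (XH Q) → AddSubgroup Q.Mod) : Prop where
  inp : Inp S (MZ (S : Subgroup G)) Q
  four : ∀ D ∈ EB S Q, 4 ≤ Nat.card D
  gb : ∀ D ∈ EB S Q, GB (EB S Q) D (N D) (C D)
  fam : Fam (im Q (S : Subgroup G)) (EB S Q) N C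
  perm : ∀ g : XH Q, ∀ D ∈ EB S Q, ∃ D' ∈ EB S Q, Nat.card D' = Nat.card D ∧ ∀ m, m ∈ C D ↔ g • m ∈ C D'

/-- **The family.** -/
theorem natF_of (B : RB S) (ht : ¬ TvS (S : Subgroup G)) (hs : Spl S (MZ (S : Subgroup G)))
    {Q : Nrm (MZ (S : Subgroup G)) (zl (S : Subgroup G) (MZ (S : Subgroup G)))} (I : Inp S (MZ (S : Subgroup G)) Q) :
    NatF S Q (NN (EB S Q) Q.Mod) (CC (EB S Q) Q.Mod) := by
  have hc := B.ctx.char2
  have hL := isLoc_MZ B.ctx B.full B.data.noff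
  have hSH : (S : Subgroup G) ≤ MZ (S : Subgroup G) := hL.le
  have no := I.no
  have h2 := I.two
  obtain ⟨h1, h4, hGB, hF⟩ := I.main (RR := RRs S (MZ (S : Subgroup G)) Q) le_rfl
  have hRE : RRs S (MZ (S : Subgroup G)) Q ⊆ EB S Q := by
    rintro _ ⟨-, P, -, -, A, hA, rfl⟩
    exact ⟨A, hA.1, rfl⟩
  have hall : FFs (EB S Q) (RRs S (MZ (S : Subgroup G)) Q) = EB S Q := NatAll.all_of B Q h2 I.hno (RR := RRs S (MZ (S : Subgroup G)) Q) I.es
    (fun P a => I.ac P a.1 (Merge.le_MZ a.1) ((act_iff hc a.1).1 a)) (by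
      rintro P a _ ⟨A, hA, rfl⟩
      exact ⟨four_le Q hSH I ht ⟨A, hA.1, rfl⟩, P, a.1, Merge.le_MZ a.1, A, hA, rfl⟩) hRE h4
    fun D hD => ⟨_, _, hGB D hD⟩
  have hPC := Asm.permC h2 I.hf I.hno (EE := EB S Q) I.es (Ps := Ps (S : Subgroup G) (MZ (S : Subgroup G)) Q) (by
    rintro _ ⟨P, hP, hPL, rfl⟩
    by_cases ne : (EP (S : Subgroup G) P (zl (S : Subgroup G) (MZ (S : Subgroup G)))).Nonempty
    · refine Or.inr ⟨_, _, I.ac P hP hPL ne, ?_⟩
      rintro _ ⟨A, hA, rfl⟩ hA4 N C hNC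
      rcases type_of hc hL no hP hPL ne with h3 | ⟨F, i1, i2, i3, k, hF4, hk, ⟨M⟩⟩
      · have h5 := AsmSmall.card_small hc hL hP hPL no h3 Q hA
        exfalso
        change 4 ≤ Nat.card (im Q A) at hA4
        have h6 : Nat.card (im Q A) ≤ 2 := h5
        omega
      · obtain ⟨-, N', C', hNB, -, -, -, hC, -⟩ := AsmAct.typC_nat hc hL hP hPL no M (hs P hP hPL ne F k M hF4) Q hF4 _
          ⟨A, hA, rfl⟩
        have h6 := hNB.uniq h2 I.hf I.hno hNC hA4
        rw [← h6.2]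
        exact hC
    · exact Or.inl (inact hc Q hP ne)) (sSup_Ps Q I.gen) hRE (fun A hA => hA.1) (by
    intro D hD
    exact ⟨_, _, hGB D (le_FFs hD)⟩)
  rw [hall] at h1 h4 hGB hF hPC
  exact { inp := I, four := h4, gb := hGB, fam := hF, perm := hPC }

/-- **There is such a family.** -/
theorem exists_natF (h : RBF S) (ht : ¬ TvS (S : Subgroup G)) (hs : Spl S (MZ (S : Subgroup G))) :
    ∃ (Q : Nrm (MZ (S : Subgroup G)) (zl (S : Subgroup G) (MZ (S : Subgroup G)))) (N C : Subgroup (XH Q) → AddSubgroup Q.Mod),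
      NatF S Q N C ∧ (EB S Q).Nonempty := by
  have B : RB S := h.toRB
  have hc := B.ctx.char2
  have hL := isLoc_MZ B.ctx B.full B.data.noff
  obtain ⟨A₀, hA₀, hoff⟩ := h.ff
  obtain ⟨P₀, A₁, g₁⟩ := exists_gOne hc hL (gen_MZ S) ⟨A₀, hA₀.trans hL.le, hoff⟩
  obtain ⟨A₂, hA₂, -, hmx, g₂⟩ := g₁.exists_mx hc
  have I := inp_of hc hL g₁.no (gen_MZ S) hs (nrm_box B)
  exact ⟨nrm_box B, _, _, natF_of B ht hs I, ⟨_, A₂, ⟨hA₂.trans g₁.AS, hmx⟩, rfl⟩⟩

namespace NatF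

variable {Q : Nrm (MZ (S : Subgroup G)) (zl (S : Subgroup G) (MZ (S : Subgroup G)))} {N C : Subgroup (XH Q) → AddSubgroup Q.Mod}
  (F : NatF S Q N C)
include F

/-- the intersection of the complements is invariant -/
theorem rs (g : XH Q) {m : Q.Mod} (hm : m ∈ Rs (EB S Q) C) : g • m ∈ Rs (EB S Q) C := by
  rw [mem_Rs] at hm ⊢
  intro D hD
  obtain ⟨D', hD', -, h⟩ := F.perm g⁻¹ D hD
  rw [h, inv_smul_smul]
  exact hm D' hD'

/-- **`Blk.Dec`** -/
theorem dec (hSL : (S : Subgroup G) ≤ MZ (S : Subgroup G)) : Dec (S : Subgroup G) (MZ (S : Subgroup G)) (zl (S : Subgroup G) (MZ (S : Subgroup G))) (fun b : EB S Q => su Q (N b))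
    (fun b : EB S Q => pre Q (Eg (EB S Q) N b)) (su Q (Rs (EB S Q) C)) :=
  dec_of_fam hSL F.fam fun g _ hm => F.rs g hm

end NatF

end Cfsg.Agent.Omega.NOThreeL.RZ.TwoE.NatFam

end

-- merged: Cfsg.Agent.Mrg.Omega.NOThreeL.RZ.TwoE.NatE
section

/-!
# [R-z], [Nat] : the family of all natural blocks and `E₁`

`F : NatF S Q N C`, `N' b = su Q (N b)`, `E' b = pre Q (Eg EB N b)`, `R₀ = su Q (Rs EB C)`.

* `dt` : `BadNat.Dt`; **`sup_E`** : `⨆ E' b = E₁ (Y ∩ C(V*))`;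
* `E1_cent` : `R₀ ≤ C(E₁)`; **`R1_le`** : `R₁ ≤ R₀`; `mx_cent` : the minimal exact offenders of `S` centralise `R₀`;
* **`sB`** : `N_G(S)` normalises `∏ N' b`;
* **`hA`** : the members of `𝒜(O₂(C_G(Z)))` centralise `R₀`.
-/

set_option autoImplicit false
set_option linter.unusedSectionVars false

namespace Cfsg.Agent.Omega.NOThreeL.RZ.TwoE.NatFam

open Subgroup Cfsg Cfsg.Agent.ZN Cfsg.Agent.Omega.MinPar Cfsg.Agent.Omega.Frame Cfsg.Agent.Omega.FrameNOFF
open Cfsg.Agent.Omega.NOThreeL.RSplit (Nrm)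
open Cfsg.Agent.Omega.NOThreeL.RRed
open Cfsg.Agent.Omega.NOThreeL.RRed.Blk
open Cfsg.Agent.Omega.NOThreeL.Star (YS)
open Cfsg.Agent.Omega.NOThreeL.RTree (RB)
open Cfsg.Agent.Omega.NOThreeL.RTreeF (RBF)
open Cfsg.Agent.Omega.NOThreeL.Merge (MZ isLoc_MZ)
open Cfsg.Agent.Omega.NOThreeL.RRed.Blk.TypesNat (XH ph ph_smul XH_faith ph_eq ph_surj)
open Cfsg.Agent.Omega.NOThreeL.RRed.Blk.Asm
open Cfsg.Agent.Omega.NOThreeL.RRed.Blk.AsmCore (im ph_mem_im)
open Cfsg.Agent.Omega.NOThreeL.RRed.EOne (E1 J1 E1S R1 Z1)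
open Cfsg.Agent.Omega.NOThreeL.RZ.TwoC (BadNat.Dt)
open Cfsg.Agent.Omega.ML.Final (MLK)
open scoped Pointwise

universe u

variable {G : Type u} [Group G] [Finite G] {S : Sylow 2 G}

namespace NatF

variable {Q : Nrm (MZ (S : Subgroup G)) (zl (S : Subgroup G) (MZ (S : Subgroup G)))}
  {N C : Subgroup (XH Q) → AddSubgroup Q.Mod} (F : NatF S Q N C)
include F

/-- the data of `BadNat` -/
theorem dt (hSL : (S : Subgroup G) ≤ MZ (S : Subgroup G)) :
    TwoC.BadNat.Dt S (MZ (S : Subgroup G)) Q (EB S Q) N C where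
  SL := hSL
  fam := F.fam
  hR g m hm := F.rs g hm
  sq := F.inp.el.2
  hA := by
    rintro _ ⟨A, hA, rfl⟩
    exact ⟨A, hA, rfl⟩
  oth D hD A hA hne := (F.gb D hD).oth _ ⟨A, hA, rfl⟩ hne

/-- an atom is in the group of its block -/
theorem le_E {A : Subgroup G} (hSL : (S : Subgroup G) ≤ MZ (S : Subgroup G))
    (hA : A ∈ AsmCore.EE (S : Subgroup G) (zl (S : Subgroup G) (MZ (S : Subgroup G)))) :
    A ≤ ⨆ b : EB S Q, pre Q (Eg (EB S Q) N b) := by
  intro a ha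
  have h1 : im Q A ∈ EB S Q := ⟨A, hA, rfl⟩
  refine le_iSup (fun b : EB S Q => pre Q (Eg (EB S Q) N b)) ⟨_, h1⟩ ?_
  exact mem_pre.2 ⟨hSL (hA.1 ha), le_Eg h1 (ph_mem_im Q (a := ⟨a, hSL (hA.1 ha)⟩) ha)⟩

/-- `E' b ≤ E₁ C(V*)` -/
theorem E_le (hSL : (S : Subgroup G) ≤ MZ (S : Subgroup G)) (b : EB S Q) :
    pre Q (Eg (EB S Q) N b) ≤ E1 (S : Subgroup G) ⊔ (MZ (S : Subgroup G) ⊓
      centralizer (zl (S : Subgroup G) (MZ (S : Subgroup G)) : Set G)) := by
  have h1 : Eg (EB S Q) N b ≤ im Q (E1 (S : Subgroup G)) := by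
    refine (Subgroup.closure_le _).2 ?_
    rintro _ ⟨g, D', ⟨A, hA, rfl⟩, -, _, ⟨a, ha, rfl⟩, rfl⟩
    obtain ⟨x, rfl⟩ := ph_surj Q g
    rw [← map_inv, ← map_mul, ← map_mul]
    have haE : (a : G) ∈ E1 (S : Subgroup G) := EOne.mx_le_E1 hA.1 hA.2 ha
    exact ph_mem_im Q (a := x * a * x⁻¹) ((mem_normalizer_iff.1 (EOne.YS_le_norm_E1 _ x.2) _).1 haE)
  intro x hx
  obtain ⟨hxL, hxE⟩ := mem_pre.1 hx
  obtain ⟨y, hy, hxy⟩ := h1 hxE
  have h3 : y⁻¹ * ⟨x, hxL⟩ ∈ (ph Q).ker := by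
    rw [MonoidHom.mem_ker, map_mul, map_inv, hxy, inv_mul_cancel]
  have h4 : (y : G)⁻¹ * x ∈ centralizer (zl (S : Subgroup G) (MZ (S : Subgroup G)) : Set G) :=
    (TypesNat.mem_ker Q).1 h3
  have e : x = y * ((y : G)⁻¹ * x) := by group
  rw [e]
  have h5 : (y : G)⁻¹ * x ∈ MZ (S : Subgroup G) :=
    (MZ (S : Subgroup G)).mul_mem ((MZ (S : Subgroup G)).inv_mem y.2) hxL
  exact mul_mem (mem_sup_left hy) (mem_sup_right ⟨h5, h4⟩)

/-- **`⨆ E' b = E₁ (Y ∩ C(V*))`** -/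
theorem sup_E [Nonempty (EB S Q)] (hSL : (S : Subgroup G) ≤ MZ (S : Subgroup G)) :
    (⨆ b : EB S Q, pre Q (Eg (EB S Q) N b)) = E1 (S : Subgroup G) ⊔ (MZ (S : Subgroup G) ⊓
      centralizer (zl (S : Subgroup G) (MZ (S : Subgroup G)) : Set G)) := by
  apply le_antisymm (iSup_le (F.E_le hSL))
  refine sup_le ?_ ?_
  · exact EOne.E1_le_of (TwoC.FrEOf.le_norm_E (F.dec hSL)) fun A hA hm => F.le_E hSL ⟨hA, hm⟩
  · obtain ⟨b⟩ := (inferInstance : Nonempty (EB S Q))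
    exact cent_le_pre.trans (le_iSup (fun b : EB S Q => pre Q (Eg (EB S Q) N b)) b)

/-- `R₀ ≤ C(E₁)` -/
theorem E1_cent (hSL : (S : Subgroup G) ≤ MZ (S : Subgroup G)) [Nonempty (EB S Q)] :
    E1 (S : Subgroup G) ≤ centralizer (su Q (Rs (EB S Q) C) : Set G) := by
  refine (le_sup_left.trans (F.sup_E hSL).ge).trans ?_
  exact iSup_le (F.dec hSL).ER

/-- the minimal exact offenders of `S` centralise `R₀` -/
theorem mx_cent (hSL : (S : Subgroup G) ≤ MZ (S : Subgroup G)) {A : Subgroup G} (hA : A ≤ (S : Subgroup G))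
    (hm : Mx (zl (S : Subgroup G) (MZ (S : Subgroup G))) A) : A ≤ centralizer (su Q (Rs (EB S Q) C) : Set G) :=
  (F.le_E hSL ⟨hA, hm⟩).trans (iSup_le (F.dec hSL).ER)

/-- **`R₁ ≤ R₀`** -/
theorem R1_le (hSL : (S : Subgroup G) ≤ MZ (S : Subgroup G)) [Nonempty (EB S Q)] :
    R1 (S : Subgroup G) ≤ su Q (Rs (EB S Q) C) := by
  have h1 := TwoC.BadE.R_eq (F.dt hSL).dec (F.dt hSL).irr (F.dt hSL).mv
  rw [h1]
  refine le_inf EOne.R1_le ?_
  rw [le_centralizer_iff, F.sup_E hSL]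
  refine sup_le EOne.E1_cent ?_
  exact inf_le_right.trans (centralizer_le EOne.R1_le)

/-- **`N_G(S)` normalises the product of the blocks.** -/
theorem sB (hSL : (S : Subgroup G) ≤ MZ (S : Subgroup G)) [Nonempty (EB S Q)] :
    normalizer ((S : Subgroup G) : Set G) ≤ normalizer ((⨆ b : EB S Q, su Q (N b) : Subgroup G) : Set G) := by
  have hU : normalizer ((S : Subgroup G) : Set G) ≤
      normalizer (zl (S : Subgroup G) (MZ (S : Subgroup G)) : Set G) := TwoC.FrEOf.nS_Vs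
  have hY : normalizer ((S : Subgroup G) : Set G) ≤ normalizer (MZ (S : Subgroup G) : Set G) := TwoC.nS_ys
  have hE : normalizer ((S : Subgroup G) : Set G) ≤
      normalizer ((⨆ b : EB S Q, pre Q (Eg (EB S Q) N b) : Subgroup G) : Set G) := by
    rw [F.sup_E hSL]
    exact Cfsg.Agent.Omega.NO3b.Bang.le_normalizer_sup EOne.nS_E1 (TwoC.FrEOf.norm_inf_cent hY hU)
  intro n hn
  have key : ∀ n ∈ normalizer ((S : Subgroup G) : Set G),
      MulAut.conj n • (⨆ b : EB S Q, su Q (N b)) ≤ ⨆ b : EB S Q, su Q (N b) := by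
    intro n hn
    change (⨆ b : EB S Q, su Q (N b)).map (MulAut.conj n).toMonoidHom ≤ _
    rw [Subgroup.map_iSup]
    refine iSup_le fun b => ?_
    obtain ⟨c, hc⟩ := TwoC.BadE.perm_of (F.dt hSL).dec (F.dt hSL).irr (F.dt hSL).mv (hU hn) (hE hn) b
    exact hc.le.trans (le_iSup (fun b : EB S Q => su Q (N b)) c)
  exact ChoiceBase.mem_normalizer_of_cj_le (key n hn)

/-- the members of `𝒜(O₂(C_G(Z)))` centralise `R₀` -/
theorem hA (ml : MLK.{u, u}) (B : RB S) [Nonempty (EB S Q)]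
    (gB : (⨆ b : EB S Q, su Q (N b)) ≤ NoFF.Basic.V (zc (S : Subgroup G) ⊓ ⨆ b : EB S Q, su Q (N b))
      (MZ (S : Subgroup G) ⊓ centralizer ((zc (S : Subgroup G) ⊓ su Q (Rs (EB S Q) C) : Subgroup G) : Set G)))
    (VO : zl (S : Subgroup G) (MZ (S : Subgroup G)) ≤ o2 (CZ (S : Subgroup G))) :
    ∀ A ∈ ChoiceBase.AA (o2 (CZ (S : Subgroup G))), A ≤ centralizer (su Q (Rs (EB S Q) C) : Set G) := by
  have hL := isLoc_MZ B.ctx B.full B.data.noff
  have hSL := hL.le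
  have hd := F.dec hSL
  have hZ := TwoC.DecE.zc_eq hd (EOne.VS B) F.inp.el.2 (MinSimple.VModule.zc_le_zl _ _)
  exact BestR.hA ml hSL (ML.GNN.kgroup_of_isLoc B.ctx B.ctx.not_isPGroup hL) F.inp.el VO hd.sup
    (TwoC.DecE.disj hd) (TwoC.DecE.le_norm_B hd) hd.Rnor hZ.le gB F.inp.no fun X hX hm => F.mx_cent hSL hX hm

end NatF

end Cfsg.Agent.Omega.NOThreeL.RZ.TwoE.NatFam

end

-- merged: Cfsg.Agent.Mrg.Omega.NOThreeL.RZ.TwoE.Nat
section

section


/-!
# [R-z], [Nat] : the end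

`F : NatF S Q N C`, `C_Z(E₁) ≠ 1`, orbits `O b` for the blocks.

* `gB` : `∏ N' b = ⟨(Z ∩ ∏ N' b)^{C_Y(Z ∩ R₀)}⟩`;
* **`false_of`** : a contradiction.
-/

set_option autoImplicit false
set_option linter.unusedSectionVars false

namespace Cfsg.Agent.Omega.NOThreeL.RZ.TwoE.NatFam

open Subgroup Cfsg Cfsg.Agent.ZN Cfsg.Agent.Omega.MinPar Cfsg.Agent.Omega.Frame Cfsg.Agent.Omega.FrameNOFF
open Cfsg.Agent.Omega.NOThreeL.RSplit (Nrm)
open Cfsg.Agent.Omega.NOThreeL.RRed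
open Cfsg.Agent.Omega.NOThreeL.RRed.Blk
open Cfsg.Agent.Omega.NOThreeL.Star (YS)
open Cfsg.Agent.Omega.NOThreeL.RTree (RB)
open Cfsg.Agent.Omega.NOThreeL.Merge (MZ isLoc_MZ)
open Cfsg.Agent.Omega.NOThreeL.RRed.Blk.TypesNat (XH ph)
open Cfsg.Agent.Omega.NOThreeL.RRed.Blk.Asm
open Cfsg.Agent.Omega.NOThreeL.RRed.EOne (E1 E1S R1 Z1)
open Cfsg.Agent.Omega.NOThreeL.RZ.TwoC (FrE)
open Cfsg.Agent.Omega.NOThreeL.RZ.TwoC.DecE (Orbs PP)
open Cfsg.Agent.Omega.ML.Final (MLK)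
open scoped Pointwise

universe u

variable {G : Type u} [Group G] [Finite G] {S : Sylow 2 G}

namespace NatF

variable {Q : Nrm (MZ (S : Subgroup G)) (zl (S : Subgroup G) (MZ (S : Subgroup G)))}
  {N C : Subgroup (XH Q) → AddSubgroup Q.Mod} (F : NatF S Q N C) {O : EB S Q → Set G}
include F

/-- **`∏ N' b` is generated from `Z ∩ ∏ N' b`.** -/
theorem gB (hSL : (S : Subgroup G) ≤ MZ (S : Subgroup G))
    (o : Orbs (MZ (S : Subgroup G)) (fun b : EB S Q => su Q (N b)) (fun b : EB S Q => pre Q (Eg (EB S Q) N b)) O)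
    (hdif : ∀ b : EB S Q, su Q (N b) ≤ closure {g | ∃ x ∈ O b, ∃ y ∈ O b, g = y * x⁻¹}) {e : G}
    (he : e ∈ PP (fun b : EB S Q => su Q (N b)) (su Q (Rs (EB S Q) C)) O) (heZ : e ∈ zc (S : Subgroup G)) :
    (⨆ b : EB S Q, su Q (N b)) ≤ NoFF.Basic.V (zc (S : Subgroup G) ⊓ ⨆ b : EB S Q, su Q (N b))
      (MZ (S : Subgroup G) ⊓ centralizer ((zc (S : Subgroup G) ⊓ su Q (Rs (EB S Q) C) : Subgroup G) : Set G)) := by
  have hd := F.dec hSL
  refine iSup_le fun b => (hdif b).trans ?_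
  rw [closure_le]
  rintro _ ⟨x, hx, y, hy, rfl⟩
  refine TwoC.FrEOf.dif_mem hd o he (fun b g hg => ?_) hx hy
  have hgK : g ∈ MZ (S : Subgroup G) ⊓
      centralizer ((zc (S : Subgroup G) ⊓ su Q (Rs (EB S Q) C) : Subgroup G) : Set G) :=
    ⟨hd.EL b hg, centralizer_le inf_le_right (hd.ER b hg)⟩
  exact (mem_normalizer_iff.1 (RZ.le_norm_V _ _ hgK) e).1 (RZ.Z_le _ _ ⟨heZ, he.1⟩)

/-- **The end.** -/
theorem false_of (hM : MLK.{u, u}) (hR : NO3b.EndX.RedP.{u, u}) (hE : ML.Ex.Two.Ext.{u, u}) (B : RB S)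
    (h1 : ¬ E1S (S : Subgroup G)) [Nonempty (EB S Q)]
    (o : Orbs (MZ (S : Subgroup G)) (fun b : EB S Q => su Q (N b)) (fun b : EB S Q => pre Q (Eg (EB S Q) N b)) O)
    (hdif : ∀ b : EB S Q, su Q (N b) ≤ closure {g | ∃ x ∈ O b, ∃ y ∈ O b, g = y * x⁻¹}) : False := by
  have hL := isLoc_MZ B.ctx B.full B.data.noff
  have hSL := hL.le
  have hd := F.dec hSL
  obtain ⟨e, he, heS⟩ := TwoC.DecE.exists_e hd o S.isPGroup'
  have eU : e ∈ zl (S : Subgroup G) (MZ (S : Subgroup G)) := TwoC.DecE.B_le hd he.1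
  have eZ : e ∈ zc (S : Subgroup G) :=
    MinSimple.VModule.mem_zc.2 ⟨EOne.VS B eU, fun s hs => (mem_centralizer_iff.1 (heS hs) e rfl).symm, F.inp.el.2 e eU⟩
  have hne : R1 (S : Subgroup G) ⊓ zc (S : Subgroup G) ≠ ⊥ := by
    intro h0
    apply (EOne.ne_of_not B h1).1
    rw [eq_bot_iff, ← h0]
    exact le_inf (EOne.Z1_le_R1 _) (EOne.Z1_le _)
  obtain ⟨e', he', f⟩ := Tv.frE_ofR B hd o hdif (F.R1_le hSL) (EOne.YS_le_norm_R1 _) EOne.nS_R1 hne
    (fun low A hA => (F.hA hM B (F.gB hSL o hdif he eZ) low A hA).trans (centralizer_le (F.R1_le hSL))) (F.sB hSL)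
  refine f.false_of hM hR hE (TwoC.BadNat.bad_nat (F.dt hSL) (F.R1_le hSL) (fun A hA => ?_) ?_ fun b => ?_)
  · exact EOne.mx_cent hA.1 hA.2
  · intro s hs
    rw [mem_centralizer_singleton_iff]
    exact (MinSimple.VModule.mem_zc.1 f.eZ).2.1 s hs
  · obtain ⟨n, hn, hc⟩ := he'.2 b
    exact ⟨n, fun h => o.one b (h ▸ hn), hc⟩

end NatF

end Cfsg.Agent.Omega.NOThreeL.RZ.TwoE.NatFam

end

section


/-!
# [R-z]: the socket `SpO` (no transvection in `S`, all natural blocks split, `C_Z(E₁) ≠ 1`)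

**`spO`** : `NrTree.SpO`.
-/

set_option autoImplicit false
set_option linter.unusedSectionVars false

namespace Cfsg.Agent.Omega.NOThreeL.RZ.TwoE.NatFam

open Subgroup Cfsg
open Cfsg.Agent.Omega.NOThreeL.Merge (isLoc_MZ)
open Cfsg.Agent.Omega.NOThreeL.RRed.Blk.Asm (orbs_of_fam hdif_of_fam)
open Cfsg.Agent.Omega.ML.Final (MLK)

universe u

/-- **The socket `SpO`.** -/
theorem spO (hM : MLK.{u, u}) (hR : NO3b.EndX.RedP.{u, u}) (hE : ML.Ex.Two.Ext.{u, u}) : NrTree.SpO.{u} := by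
  intro G _ _ S h h1 ht hn
  obtain ⟨Q, N, C, F, hne⟩ := exists_natF h ht (not_not.1 hn)
  have : Nonempty (EB S Q) := hne.to_subtype
  exact F.false_of hM hR hE h.toRB h1 (orbs_of_fam F.fam F.inp.two) (hdif_of_fam F.fam F.inp.two)

end Cfsg.Agent.Omega.NOThreeL.RZ.TwoE.NatFam

end

end

-- merged: Cfsg.Agent.Mrg.Omega.NOThreeL.RZ.TwoE.NrEnd
section

/-!
# NO-3L, box R: `NrOf K E1Fr` and `BrTOf K FBF` (the plug)

* **`nr`** : `NrOf K E1Fr`, **`br`** : `BrTOf K FBF`, from `MLK`, `RedP`, `Ext` and the inputs `InB` of the nonsplit case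
  (`TvEnd.tvO`, `NatFam.spO`, `NsEnd.nsO`).
-/

set_option autoImplicit false

namespace Cfsg.Agent.Omega.NOThreeL.RZ.TwoE.NrEnd

open Cfsg.Agent.Omega.ML.Final (MLK)
open Cfsg.Agent.Omega.Frame Cfsg.Agent.Omega.FrameNOFF
open Cfsg.Agent.Omega.NOThreeL.RRed.GlueSig
open Cfsg.Agent.Omega.NOThreeL.RRed.EOne (E1Fr)

universe u

variable {K : Cls.{u}}

/-- **`C_Z(E₁) ≠ 1`** -/
theorem nr (hM : MLK.{u, u}) (hR : NO3b.EndX.RedP.{u, u}) (hE : ML.Ex.Two.Ext.{u, u}) (inp : NsEnd.InB.{u}) :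
    NrOf K E1Fr.{u} :=
  NrTree.nrOf (TvEnd.tvO hM hR hE) (NatFam.spO hM hR hE) (NsEnd.nsO hM hR hE inp)

/-- `BrTOf K FBF` -/
theorem br (hM : MLK.{u, u}) (hR : NO3b.EndX.RedP.{u, u}) (hE : ML.Ex.Two.Ext.{u, u}) (inp : NsEnd.InB.{u}) :
    BrTOf K FBF.{u} :=
  NrTree.brOf (TvEnd.tvO hM hR hE) (NatFam.spO hM hR hE) (NsEnd.nsO hM hR hE inp)

end Cfsg.Agent.Omega.NOThreeL.RZ.TwoE.NrEnd

end

-- merged: Cfsg.Agent.Mrg.Omega.Node.NO3LDone2
section

/-!
# The leaf NO-3L is closed (assembler: helper597)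

**`openR (L : Landed) (K) : OpenR K`**, **`node (L : Landed) (K) : NodeNO3L K`**.

* `nr` : helper568, 290 (THEOREM EX), 455, 892, 842, 878;  `noMv` : helper811, 702, 342, 374, 878;
* `leftMany` : helper823, 258, 848 and the theorem `parT` (helper971, 860, 995, 801, 528, 480);
* `oneTwo`, `oneMany` : helper776, 778, 540, 381, 192, 49, 391, 739, 727.
-/

set_option autoImplicit false

namespace Cfsg.Agent.Omega.Node.NO3LDone2

open Cfsg.Agent.Omega.Frame Cfsg.Agent.Omega.NOThreeL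
open Cfsg.Agent.Omega.NOThreeL.RRed Cfsg.Agent.Omega.NOThreeL.RRed.GlueSig
open Cfsg.Agent.Omega.Landed (Landed)
open Cfsg.Agent.Omega.Node.NO3LOpen (BF OpenR)

universe u

/-- `RedP`, from the landed rows -/
theorem redP (L : Landed.{u}) : NO3b.EndX.RedP.{u, u} :=
  NO3b.EndX.redP_of L.mlk (NO3b.EndX.simpP L.rows L.mlk)

/-- `AbsP`, from the landed rows -/
theorem absP (L : Landed.{u}) : NO3b.EndX.AbsP.{u, u} := NO3b.EndX.absP_all L.mlk L.rows

theorem isR : TopQEnd.IsR BF.{u} := fun _ _ _ _ h => h.1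

/-- one class, one orbit of natural blocks, `q ≥ 8` -/
theorem orbD (L : Landed.{u}) : OneTwoOf.OrbD BF.{u} := TopQEnd.orbD_of isR L.mlk (absP L)

/-- one class, `≥ 2` orbits of natural blocks, `≥ 3` blocks -/
theorem allOrb (L : Landed.{u}) : OneManyOf.AllOrb BF.{u} :=
  TopQEnd.allOrb_of isR L.mlk (redP L) L.ext (absP L)

/-- **All sockets of the leaf NO-3L.** -/
theorem openR (L : Landed.{u}) (K : Cls.{u}) : OpenR K where
  nr := RZ.TwoE.NrEnd.nr L.mlk (redP L) L.ext Blk.InBOf.inB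
  noMv := MvFam.wNoMv_of_inB Blk.InBOf.inB K
  leftMany := UPar.wLeftMany_of L.mlk (KL.StarM.noInpM_of L.mlk) RWide.UniT.parX K BF
  oneTwo := OneTwoOf.wOneTwo_of_orbD (orbD L)
  oneMany := OneManyOf.wOneMany_of_orbD L.mlk (KL.StarM.noInpM_of L.mlk) RWide.UniT.parX (allOrb L) (orbD L)

/-- **The leaf NO-3L.** -/
theorem node (L : Landed.{u}) (K : Cls.{u}) : FrameNOFF.NodeNO3L K := (openR L K).node L

end Cfsg.Agent.Omega.Node.NO3LDone2

end
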