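import Cfsg.Agent.Mrg.Omega.OM.SWQ.CaseOne
import Cfsg.Agent.Mrg.Omega.OM.SWQ.CaseTwoEnd
import Cfsg.Agent.Mrg.Omega.OM.SwapL.Off
import Cfsg.Agent.Mrg.Omega.OM.Lev.Low.LowMain
import Cfsg.Agent.Mrg.Omega.OM.Lev.Main
import Cfsg.Agent.Mrg.Omega.OM.YThm.End8D
import Cfsg.Agent.Mrg.Omega.OM.FourF.OneF
import Cfsg.Agent.Mrg.Omega.OM.YThm.XPlug
import Cfsg.Agent.Mrg.Omega.OM.SWQ.CaseFour
import Cfsg.Agent.Mrg.Omega.FF.GlobEnd

-- merged: Cfsg.Agent.Mrg.Omega.Node.OmLevFour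
section

/-!
# THEOREM SWQ (#21705): (Om) is impossible at stage `n ≥ 0`, `q ≥ 4`

* `FourStmt` : `q = 4`, the case in which `T` normalises all `Z i` (helper87);
* `le_of_char2Q` : every subgroup of characteristic 2 over `B` is contained in every `X ≥ C_G(Z_J), L_i, N_G(B)`;
* `nlocQ` : `K0` normalises no nontrivial 2-subgroup;
* `omLev_q` : the socket `MultiOf.OmLev K (fun _ q => 4 ≤ q)`.
-/

set_option autoImplicit false

namespace Cfsg.Agent.Omega.Node.OmLevFour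

open Subgroup Cfsg Cfsg.Agent.ZN.ChoiceBase Cfsg.Agent.ZN.ChoiceSit
open Cfsg.Agent.ZN (jj zj bau zc zl o2)
open Cfsg.Agent.Omega.NO3S (HypN HypL)
open Cfsg.Agent.Omega.NO3S.Level (lev)
open Cfsg.Agent.Omega.NO3S.OneLine (NatC)
open Cfsg.Agent.Omega.FFThm (NatK NatKM)
open Cfsg.Agent.Omega.FrameFF (cv)
open Cfsg.Agent.Omega.Frame (Cls)
open Cfsg.Agent.Omega.OM
open Cfsg.Agent.Omega.OM.LevD (Fam)
open Cfsg.Agent.Omega.OM.LevB (FBlk)
open Cfsg.Agent.Omega.OM.SwapL (BL ZL Ln BM BG lb Phi Pair)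
open Cfsg.Agent.Omega.OM.SWQ (DtL Sel exists_dtl exists_sel phi_univ)
open Cfsg.Agent.Omega.Node.MultiOf (FBl KZ NLoc OmLev)

universe u

/-- the case `q = 4`, `T` normalises all `Z i` (helper87: `DtL.case_four`) -/
def FourStmt : Prop :=
  ∀ (G : Type u) [Group G] [Finite G] (S : Sylow 2 G) (P : Subgroup G) (n : ℕ) (F : Type) [Field F] [Finite F]
    [CharP F 2] (k : ℕ) (M : NatC F (S : Subgroup G) P (zl (S : Subgroup G) P) (cv (S : Subgroup G) P) k)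
    (L Z A : Fin k → Subgroup G) (D : DtL S P n M L Z A) (X T Y : Subgroup G), Sel D X T Y → P ≤ X →
      centralizer (ZL (S : Subgroup G) n : Set G) ≤ X → normalizer (BL (S : Subgroup G) n : Set G) ≤ X →
      (∀ i, i ∈ Phi Z T) → Nat.card F = 4 → False

section line

variable {G : Type u} [Group G] [Finite G] {S : Sylow 2 G} {P : Subgroup G} {n : ℕ} {F : Type} [Field F] [Finite F]
  [CharP F 2] {k : ℕ} {M : NatC F (S : Subgroup G) P (zl (S : Subgroup G) P) (cv (S : Subgroup G) P) k}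
  {L Z A : Fin k → Subgroup G}

/-- **THEOREM SWQ.** -/
theorem le_of_char2Q (h4 : FourStmt.{u}) (D : DtL S P n M L Z A) (hq : 4 ≤ Nat.card F) {X H : Subgroup G}
    (hBM : BM S n X) (hLM : ∀ i, L i ≤ X) (hP : P ≤ X) (hD : centralizer (ZL (S : Subgroup G) n : Set G) ≤ X)
    (hN : normalizer (BL (S : Subgroup G) n : Set G) ≤ X)
    (hB : BL (S : Subgroup G) n ≤ H) (hc : H ⊓ centralizer (o2 H : Set G) ≤ o2 H) : H ≤ X := by
  by_contra hM
  obtain ⟨T, Y, s⟩ := exists_sel D hBM hD hN hB hc hM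
  have hPhi : ∀ i, i ∈ Phi Z T := phi_univ D s hLM hD hN hq
  by_cases hF : Nat.card F = 4
  · exact h4 G S P n F k M L Z A D X T Y s hP hD hN hPhi hF
  · exact D.case_two s hD hN hPhi hF

/-- **`K0` normalises no nontrivial 2-subgroup, `q ≥ 4`.** -/
theorem nlocD (h4 : FourStmt.{u}) (D : DtL S P n M L Z A) (hq : 4 ≤ Nat.card F)
    (hn1 : ¬ lev (S : Subgroup G) (n + 1) ≤ o2 P)
    (hF : Fam (BL (S : Subgroup G) n) (ZL (S : Subgroup G) n) (FBl (BL (S : Subgroup G) n)))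
    (hL : ∀ i, FBl (BL (S : Subgroup G) n) (L i) (Lev.Nat.Wn M i)) :
    NLoc (KZ (BL (S : Subgroup G) n) (ZL (S : Subgroup G) n)) := by
  have hBG : BG S n (FBl (BL (S : Subgroup G) n)) :=
    Lev.Low.bg_four D.ln (by omega) fun L' V' h => ⟨h.fb, h.blk⟩
  intro R hR hRn
  by_contra hR1
  obtain ⟨ho, hoB, hle⟩ := hF.dich (lb S n) hR hR1 hRn
  set O : Subgroup G := o2 (LevD.K0 (ZL (S : Subgroup G) n) (FBl (BL (S : Subgroup G) n))) with hO
  set X : Subgroup G := normalizer (O : Set G) with hX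
  have hK : LevD.K0 (ZL (S : Subgroup G) n) (FBl (BL (S : Subgroup G) n)) ≤ X := le_sup_left.trans hle
  have hN : normalizer (BL (S : Subgroup G) n : Set G) ≤ X := le_sup_right.trans hle
  have hSM : (S : Subgroup G) ≤ X := D.S_norm.trans hN
  have hS1 : (S : Subgroup G) ≠ ⊥ := D.ln.hyp.ctx.sylow_ne_bot S
  have h1 := MinPar.isLoc_centralizer_zc S hS1
  have hP : P ≤ X := by
    have h3 := hBG S P D.ln.hyp.toHyp.syl D.BS D.ln.hyp.star.toIsMinPar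
      (D.ln.hyp.star.isLoc.char2 S D.ln.hyp.ctx.char2) hn1
      (fun hc => D.ln.hyp.star.not_zc (hc.trans (centralizer_le_normalizer _)))
    exact h3.trans (sup_le hK hSM)
  have hCZ : FrameNOFF.CZ (S : Subgroup G) ≤ X :=
    le_of_char2Q h4 D hq (hBG.bm hK hN) (fun i => (LevD.blk_le_K0 (hL i)).trans hK) hP
      (LevD.cent_le_K0.trans hK) hN (D.BS.trans h1.le) (h1.char2 S D.ln.hyp.ctx.char2)
  exact ho (D.ln.hyp.nonLoc _ (isPGroup_o2 _) hP hCZ)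

end line

/-- **(Om) is impossible at stage `n`, `q ≥ 4`.** -/
theorem nlocQ (h4 : FourStmt.{u}) {G : Type u} [Group G] [Finite G] {S : Sylow 2 G}
    {P : Subgroup G} {k : ℕ} (h : HypL S P) {n : ℕ}
    (hall : ∀ R, MinPar.IsParS (S : Subgroup G) R → lev (S : Subgroup G) n ≤ o2 R)
    (hn1 : ¬ lev (S : Subgroup G) (n + 1) ≤ o2 P) (hk : 2 ≤ k)
    {F : Type} [Field F] [Finite F] [CharP F 2] (hF : 4 ≤ Nat.card F)
    (N : NatKM F (S : Subgroup G) P (zl (S : Subgroup G) P) (cv (S : Subgroup G) P) k) :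
    NLoc (KZ (BL (S : Subgroup G) n) (ZL (S : Subgroup G) n)) := by
  obtain ⟨M, L, Z, A, -, D⟩ := exists_dtl h.toHypN (hall P h.star) hn1 hk N
  have hm : Node.MultiOf.Mul S P (lev (S : Subgroup G) (n + 1)) (BL (S : Subgroup G) n) (ZL (S : Subgroup G) n)
      L _ Z _ (Nat.card F) :=
    ⟨h, Node.MultiOf.StgP.lev n hall (hall P h.star) hn1, D.bg, F, inferInstance, inferInstance, inferInstance, rfl,
      ⟨N⟩⟩
  exact nlocD h4 D hF hn1 hm.fam hm.fbl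

/-- **(Om), stage `n ≥ 0`, `q ≥ 4`.** -/
theorem omLev_q {K : Cls.{u}} (h4 : FourStmt.{u}) : OmLev K fun _ q => 4 ≤ q := by
  intro G _ _ hK S P k h n hall hn1 hk F _ _ _ hF N B ZJ hZJ hB ho
  subst hZJ hB
  exact absurd (nlocQ h4 h hall hn1 hk hF N _ (isPGroup_o2 _) (le_normalizer_o2 _)) ho

end Cfsg.Agent.Omega.Node.OmLevFour

end

-- merged: Cfsg.Agent.Mrg.Omega.Node.OmNegQ
section

/-!
# `OmNeg` for `q ≥ 4`: (Om) is impossible at stage `-1`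

THEOREM Y (`C_G(Z) ≤ N_G(Z_J)` or `(4F)`), its companion for `q = 4` (`C_G(Z) ≤ C_G(η) N_G(Z_J)`) and THEOREM F4
(`C_G(η) ≤ M`).
-/

set_option autoImplicit false

namespace Cfsg.Agent.Omega.Node.OmNegQ

open Subgroup Cfsg Cfsg.Agent.ZN.ChoiceBase Cfsg.Agent.ZN.ChoiceSit
open Cfsg.Agent.ZN (jj zj bau zc zl o2)
open Cfsg.Agent.Omega.FFThm (NatK NatKM)
open Cfsg.Agent.Omega.FrameFF (cv)
open Cfsg.Agent.Omega.FrameNOFF (CZ)
open Cfsg.Agent.Omega.NO3S (HypL HypJ)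
open Cfsg.Agent.Omega.Frame (Cls)
open Cfsg.Agent.Omega.OM Cfsg.Agent.Omega.OM.YThm.Plug
open Cfsg.Agent.Omega.OM.Dich (K0)
open Cfsg.Agent.Omega.OM.BlkGen (FBlk)
open Cfsg.Agent.Omega.Node.MultiOf

universe u

section dt

variable {G : Type u} [Group G] [Finite G] {S : Sylow 2 G} {P : Subgroup G} {F : Type} [Field F] [Finite F]
  [CharP F 2] {k : ℕ} {N : NatK F (S : Subgroup G) P (zl (S : Subgroup G) P) (cv (S : Subgroup G) P) k}
  {L W Z C A : Fin k → Subgroup G}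

omit [Finite F] [CharP F 2] in
/-- (Om) is impossible if `C_G(Z) ≤ N_G(Z_J)`. -/
theorem noOm_of_le (hFF : FFThm.Stmt.{u}) (D : Dt S P N L W Z C A)
    (hZ : CZ (S : Subgroup G) ≤ normalizer (zj (S : Subgroup G) : Set G)) :
    ∀ R : Subgroup G, IsPGroup 2 R → K0 (S : Subgroup G) (FBlk (S : Subgroup G)) ≤ normalizer (R : Set G) →
      R = ⊥ := by
  rcases D.line.cases hFF with hE | ⟨M, hM, ho, -, hK, hD, -, hN, hS, hP⟩
  · exact hE
  exfalso
  have h2 : CZ (S : Subgroup G) ≤ M := hZ.trans ((Dich.norm_zj_le S).trans (sup_le hD hN))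
  apply ho
  refine D.line.hyp.nonLoc _ (isPGroup_o2 _) ?_ ?_
  · rw [← hM]; exact hP
  · rw [← hM]; exact h2

/-- The companion of THEOREM Y for `q = 4`. -/
def Comp (_ : Dt S P N L W Z C A) : Prop :=
  ∃ E : Subgroup G, E ≤ zj (S : Subgroup G) ∧ (∀ i, ∃ z ∈ Z i, z ≠ 1 ∧ z ∈ E) ∧
    CZ (S : Subgroup G) ≤ centralizer (E : Set G) ⊔ normalizer (zj (S : Subgroup G) : Set G)

theorem comp (hFF : FFThm.Stmt.{u}) (D : Dt S P N L W Z C A) (hq : 4 ≤ Nat.card F) : Comp D := by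
  obtain ⟨E, h1, h2, -, h3⟩ := D.eta hFF hq
  refine ⟨E, h1, h2, fun g hg => ?_⟩
  obtain ⟨a, ha, b, hb, rfl⟩ := h3 g hg
  exact mul_mem (mem_sup_left (mem_inf.1 ha).2) (mem_sup_right hb)

/-- **(Om) is impossible at stage `-1` for `q ≥ 4`.** -/
theorem noOm (hFF : FFThm.Stmt.{u}) (hA : FFBr.AStmt.{u}) (D : Dt S P N L W Z C A) (hq : 4 ≤ Nat.card F) :
    ∀ R : Subgroup G, IsPGroup 2 R → K0 (S : Subgroup G) (FBlk (S : Subgroup G)) ≤ normalizer (R : Set G) →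
      R = ⊥ := by
  rcases D.thmY hFF hq with h | h
  · exact noOm_of_le hFF D h
  · exact FourF.noOm_of_four FourF.oneMain hFF hA D h.1 (comp hFF D hq)

theorem nLoc (hFF : FFThm.Stmt.{u}) (hA : FFBr.AStmt.{u}) (h : HypJ S P) (hk : 2 ≤ k) (hq : 4 ≤ Nat.card F)
    (N : NatK F (S : Subgroup G) P (zl (S : Subgroup G) P) (cv (S : Subgroup G) P) k) :
    NLoc (KZ (bau (S : Subgroup G)) (zj (S : Subgroup G))) := by
  obtain ⟨L, W, Z, C, A, D⟩ := exists_dt h hk N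
  rw [KZ_neg]
  exact noOm hFF hA D hq

end dt

/-- **`OmNeg` for `q ≥ 4`.** -/
theorem omNeg_q {K : Cls.{u}} (hFF : FFThm.Stmt.{u}) (hA : FFBr.AStmt.{u}) : OmNeg K fun _ q => 4 ≤ q := by
  intro G _ _ _ S P k _ hJ hk F _ _ _ hF N ho
  exact absurd (nLoc hFF hA hJ hk hF N.toNatK _ (isPGroup_o2 _) (le_normalizer_o2 _)) ho

end Cfsg.Agent.Omega.Node.OmNegQ

end

-- merged: Cfsg.Agent.Mrg.Omega.Node.OmLevQ
section

/-!
# (Om) is impossible for `q ≥ 4`, all stages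

`omLev_q : OmLev K (4 ≤ q)`, `omNeg_q : OmNeg K (4 ≤ q)`, `omOf_q : OmOf K (4 ≤ q)` (no hypotheses).
THEOREM SWQ (helper987, 340, 359, 362; `q = 4`: helper87, 203), (LL): helper584; stage `-1`: helper350, 359, 520, 87, 203.
-/

set_option autoImplicit false

namespace Cfsg.Agent.Omega.Node.OmLevQ

open Cfsg.Agent.Omega.Frame (Cls)
open Cfsg.Agent.Omega.Node.MultiOf (OmLev OmNeg OmOf omOf_of)

universe u

/-- (4F) at the levels -/
theorem fourStmt : OmLevFour.FourStmt.{u} :=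
  fun _ _ _ _ _ _ _ _ _ _ _ _ _ _ _ D _ _ _ hs hP hD hN hPhi hq =>
    D.case_four hs (fun i => (D.LP i).trans hP) hD hN hPhi hq

/-- **(Om), stage `n ≥ 0`, `q ≥ 4`.** -/
theorem omLev_q {K : Cls.{u}} : OmLev K fun _ q => 4 ≤ q := OmLevFour.omLev_q fourStmt

/-- **(Om), stage `-1`, `q ≥ 4`.** -/
theorem omNeg_q {K : Cls.{u}} : OmNeg K fun _ q => 4 ≤ q := OmNegQ.omNeg_q FF.Glob.ffthm FF.Glob.aStmt

/-- **(Om), `q ≥ 4`.** -/
theorem omOf_q {K : Cls.{u}} : OmOf K fun _ q => 4 ≤ q := omOf_of omNeg_q omLev_q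

end Cfsg.Agent.Omega.Node.OmLevQ

end
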