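import Cfsg.Agent.Mrg.Omega.NO3S.EThree.UInOf
import Cfsg.Agent.Mrg.Omega.NO3S.EThree.TiNegY
import Cfsg.Agent.Mrg.Omega.NO3S.EThree.FourTwo.Plug
import Cfsg.Agent.Mrg.Omega.KL.QF.QIn
import Cfsg.Agent.Mrg.Omega.FF.GlobEnd
import Cfsg.Agent.Mrg.Omega.NO3S.SOne.PlugRad
import Cfsg.Agent.Mrg.Omega.NO3S.Act.NTwo.Inst
import Cfsg.Agent.Mrg.Omega.NO3S.MidB.Main
import Cfsg.Agent.Mrg.Omega.NO3S.FullQ.PlugT
import Cfsg.Agent.Mrg.Omega.NO3S.MidB.Base
import Cfsg.Agent.Mrg.Omega.NO3S.FarB.Node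
import Cfsg.Agent.Mrg.Omega.NO3S.ThmB.Main
import Cfsg.Agent.Mrg.Omega.NO3S.OneQ.KOneTIG
import Cfsg.Agent.Mrg.Omega.NO3S.Fld.LevEnd
import Cfsg.Agent.Mrg.Omega.NO3S.PB.Geom
import Cfsg.Agent.Mrg.Omega.Node.NO3SLevel
import Cfsg.Agent.Mrg.Omega.NO3S.OneQ
import Cfsg.Agent.Mrg.Omega.NO3S.Fld.RedMod
import Cfsg.Agent.Mrg.Omega.NO3S.OneQ.CaseN1
import Cfsg.Agent.Mrg.Omega.NO3S.OneQ.TrE.InjLft
import Cfsg.Agent.Mrg.Omega.NO3S.OneQ.Sg.Asm
import Cfsg.Agent.Mrg.Omega.NO3S.TwoOne.Cases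
import Cfsg.Agent.Mrg.Omega.NO3S.KOne.TAlpha
import Cfsg.Agent.Mrg.Omega.NO3S.SLTwo.App
import Cfsg.Agent.Mrg.Omega.NO3S.TwoOne.TvOne
import Cfsg.Agent.Mrg.Omega.NO3S.TwoOne.PG.Five
import Cfsg.Agent.Mrg.Omega.NO3S.Dual.Basic
import Cfsg.Agent.Mrg.Omega.NO3S.WZero.EndPlug
import Cfsg.Agent.Mrg.Omega.NO3S.WZero.Canon
import Cfsg.Agent.Mrg.Omega.NO3S.TwoFar.FullNode
import Cfsg.Agent.Mrg.Omega.EDel.FinalL
import Cfsg.Agent.Mrg.Omega.Node.OmLevQ
import Cfsg.Agent.Mrg.Omega.Node.MulXTwo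
import Cfsg.Agent.Mrg.Omega.Node.MulG
import Cfsg.Agent.Mrg.Omega.Node.NO3SWF
import Cfsg.Agent.Mrg.Omega.NO3S.Sym.Light
import Cfsg.Agent.Mrg.Omega.NO3b.CTwoFF.End
import Cfsg.Agent.Mrg.Omega.Node.CaseLPEnds
import Cfsg.Agent.Mrg.Omega.NO3S.SFive.FinAll
import Cfsg.Agent.Mrg.Omega.Node.NO3SPlug
import Cfsg.Agent.Mrg.Omega.Landed
import Cfsg.Agent.Mrg.Omega.NO3S.SN.Plug
import Cfsg.Agent.Mrg.Omega.NO3S.TwoMid.FinalF
import Cfsg.Agent.Mrg.Omega.NO3b.ExEnd.Final
import Cfsg.Agent.Mrg.Omega.NO3b.EndX.AbsAll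
import Cfsg.Agent.Mrg.Omega.ML.Ex.Lie2.Fin
import Cfsg.Agent.Mrg.Omega.ML.Ex.KnownDone
import Cfsg.Agent.Mrg.Omega.NO3b.BasePt.FamG
import Cfsg.Agent.Mrg.Omega.NO3b.Seed.LocFam
import Cfsg.Agent.Mrg.Omega.FOne.Glue.FsPs
import Cfsg.Agent.Mrg.Omega.FOne.QR.Plug
import Cfsg.Agent.Mrg.Omega.Node.CaseLPOpen
import Cfsg.Agent.Mrg.Omega.EK3.Q.Main
import Cfsg.Agent.Mrg.Omega.TC.NoLow
import Cfsg.Agent.Mrg.Omega.OM.LowT.Full
import Cfsg.Agent.Mrg.Omega.NO3S.CaseLW.LamQ.End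
import Cfsg.Agent.Mrg.Omega.LFive.FalseLF
import Cfsg.Agent.Mrg.Omega.NO3S.Sym.UnnOf
import Cfsg.Agent.Mrg.Omega.CaseLQ.NoWDone
import Cfsg.Agent.Mrg.Omega.KL.QF.HJ
import Cfsg.Agent.Mrg.Omega.NO3S.WY.FinDone
import Cfsg.Agent.Mrg.Omega.NO3S.WY.Tor.Main
import Cfsg.Agent.Mrg.Omega.CaseLQ.InstTwo
import Cfsg.Agent.Mrg.Omega.EK3.QL.Fin
import Cfsg.Agent.Mrg.Omega.Node.NoWFivePlug
import Cfsg.Agent.Mrg.Omega.Node.NoWFiveFin
import Cfsg.Agent.Mrg.Omega.OM.SwapL.Main

-- merged: Cfsg.Agent.Mrg.Omega.NO3S.EThree.Row7Fin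
section

/-!
# Row (7) of the ledger: `EOf K (k = 2 ∧ 4 ≤ q)`, all stages, from MLK and Ext
-/

set_option autoImplicit false
set_option linter.unusedSectionVars false

namespace Cfsg.Agent.Omega.NO3S.EThree.Row7

open Cfsg.Agent.Omega.Frame (Cls)
open Cfsg.Agent.Omega.Node.MultiOf

universe u

/-- **Row (7).** -/
theorem row7 {K : Cls.{u}} (hML : ML.Final.MLK.{u, u}) (hX : ML.Ex.Two.Ext.{u, u}) :
    EOf K fun k q => k = 2 ∧ 4 ≤ q :=
  Row7Split.eOf_split (FourTwo.fourK_of K hML hX) (TiNeg.nonLocIn K) (vIn hML)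
    (KL.QF.QIn.kIn FF.Glob.ffthm hML hX)

end Cfsg.Agent.Omega.NO3S.EThree.Row7

end

-- merged: Cfsg.Agent.Mrg.Omega.NO3S.GamRU
section

/-!
# The sockets `GamRad` and `GamUniq` of the leaf NO-3S, `GammaFF`, closed

* `gamRad K : GamRad K` : (S1) (helper894, `SOne/GamRad.lean`);
* `gamUniq K : GamUniq K` : (S2), (S3).
-/

set_option autoImplicit false

namespace Cfsg.Agent.Omega.NO3S.GamRU

open Subgroup Cfsg Cfsg.Agent.ZN Cfsg.Agent.Omega.MinPar Cfsg.Agent.Omega.Frame Cfsg.Agent.Omega.FrameNOFF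

universe u

/-- **(S1)** closed. -/
theorem gamRad (K : Cls.{u}) : GamRad K := SOne.GamRadPlug.gamRad K

/-- **(S1), local**, closed. -/
theorem sFour : NTwo.SFour.{u} := fun _ _ _ _ _ _ _ w hc h4 => SOne.PlugRad.s1_const w hc h4

/-- **(S2), (S3)** closed. -/
theorem gamUniq (K : Cls.{u}) : GamUniq K := NTwo.gamUniq_of_four sFour K

end Cfsg.Agent.Omega.NO3S.GamRU

end

-- merged: Cfsg.Agent.Mrg.Omega.NO3S.MidB.Plug
section

/-!
# NO-3S, natural lines, `q ≥ 4`, critical distance 2: the socket `MidBF`, plugged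

* `hf_of_fullK` : `FullK` gives (F1);
* `Mid.false_of_full` : `Mid` with a critical triple, (NO) and `FullK` is contradictory;
* `midBF'` : **the socket `MidBF K`** from (ML).
-/

set_option autoImplicit false

namespace Cfsg.Agent.Omega.NO3S.MidB

open Subgroup Cfsg Cfsg.Agent.ZN Cfsg.Agent.Omega.NO3S.PT
open Cfsg.Agent.Omega.MinPar Cfsg.Agent.Omega.Frame Cfsg.Agent.Omega.FrameNOFF Cfsg.Agent.Omega.NatPair
open Cfsg.Agent.Omega.NoFF.Lines (Crit)
open Cfsg.Agent.Omega.ML.Final (MLK)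
open Cfsg.Agent.Omega.NO3S.MidQ (TypN Cr)

universe u

section

variable {G : Type*} [Group G] [Finite G] {S : Sylow 2 G} {B P V Z : Subgroup G}

/-- (F1) from `FullK` -/
theorem hf_of_fullK (h : PB S B P V Z) (hF : FullK V Z) : ¬ kx V Z ≤ centralizer (V : Set G) := by
  intro hcon
  obtain ⟨w, hw, hwZ⟩ := h.exists_out
  obtain ⟨z, hz, hz1⟩ := Z.bot_or_exists_ne_one.resolve_left h.Zne
  obtain ⟨k, hk, e⟩ := hF w (h.V_le_ws h.ZV hw) hwZ z hz
  apply hz1
  rw [← e, ← mem_centralizer_iff.1 (hcon hk) w hw, mul_inv_cancel_right, mul_inv_cancel]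

/-- **`Mid` + `q ≥ 4` + (NO) + `FullK`: no critical triple** -/
theorem Mid.false_of_full (h : Mid S P V Z) (hq : 4 ≤ Nat.card Z) (hNO : No.NOg V Z) (hF : FullK V Z)
    (hex : ∃ A R C, Cr V Z A R C) : False :=
  h.no_typN (h.typN_of_no hq hNO hF) hex

end

/-- **The socket `MidBF`** from (ML). -/
theorem midBF' {K : Cls.{u}} (hML : MLK.{u, u}) : NO3S.MidBF K := by
  intro G _ _ _ S P h F _ _ _ hF _ B R hB hFull y hc
  have h4 : 4 ≤ Nat.card R := hB.card.symm ▸ hF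
  obtain ⟨hM, hex⟩ := front hB (hf_of_fullK hB.pb hFull) hc
  exact (hM.false_of_full h4 (No.nog_of_mlk hM h4 h.toHyp.ctx.kproper
    (FarB.centralizer_ne_top h.toHyp hB.pb.Zne) hML) hFull hex).elim

end Cfsg.Agent.Omega.NO3S.MidB

end

-- merged: Cfsg.Agent.Mrg.Omega.NO3S.OneQ.FrOf
section

/-!
# NO-3S, `OneQ`: the coordinates `Co` from the `(R, B)`-frame `FrB`

* `FrB.R_crd` : `R` is the line `{x₁ = 0}` of every adapted coordinate system (`Fld.Crd`);
* `FrB.W_eq` : `W_R = ⟨V^{N_G(R)}⟩` (`Lines.W R (N_G(R)) {P}`) is `ws V R`;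
* `FrB.exists_nc` : a critical pair at distance 1 gives two noncommuting points of `V`;
* **`FrB.exists_co`** : `Nonempty (Co F S B P V R)` from `FrB`, (F1) and a critical pair at distance 1.
-/

set_option autoImplicit false
set_option linter.unusedSectionVars false

namespace Cfsg.Agent.Omega.NO3S

open Subgroup Cfsg Cfsg.Agent.ZN Cfsg.Agent.Omega.MinPar Cfsg.Agent.Omega.Frame Cfsg.Agent.Omega.FrameNOFF
open Cfsg.Agent.Omega.NoFF.Lines Cfsg.Agent.Omega.NO3S.PT Cfsg.Agent.Omega.NO3S.OneQ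
open scoped Pointwise

universe u

variable {F : Type} [Field F] {G : Type u} [Group G] [Finite G] {S : Sylow 2 G} {P B R : Subgroup G}

namespace FrB

/-- `R` is the line `{x₁ = 0}` -/
theorem R_crd [Finite F] (h : FrB F S P B R) (M : Fld.Crd F (S : Subgroup G) P (zl (S : Subgroup G) P)) : R = M.R := by
  have h1 : R ≤ M.R := by
    intro v hv
    by_contra hvR
    have h2 : M.R ≤ R := by
      intro z hz
      obtain ⟨b, hb, hbz⟩ := M.full' (h.pb.ZV hv) hvR hz
      have h3 : b * v * b⁻¹ ∈ R := (mem_normalizer_iff.1 (h.pb.SN hb.1) v).1 hv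
      rw [← hbz]
      exact mul_mem h3 (inv_mem hv)
    have h3 : M.R = R := Subgroup.eq_of_le_of_card_ge h2 (by rw [h.card, M.card_R])
    rw [h3] at hvR
    exact hvR hv
  exact Subgroup.eq_of_le_of_card_ge h1 (by rw [h.card, M.card_R])

/-- `⟨V^{N_G(R)}⟩ = ws V R` -/
theorem W_eq {V R : Subgroup G} (h : PB S B P V R) : W R (normalizer (R : Set G)) {P} = ws V R := by
  have hV := h.V_eq
  apply le_antisymm
  · refine W_le fun Q hQ c hc => ?_
    rw [Set.mem_singleton_iff.1 hQ, hV]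
    refine le_ws ⟨c, rfl⟩ ?_
    have h1 : PT.cj c R ≤ PT.cj c V := PT.cj_le_cj.2 h.ZV
    rwa [PT.cj_eq_iff.2 hc] at h1
  · refine ws_le fun L hL hZL => ?_
    obtain ⟨c, hc, rfl⟩ := h.exists_cent_line hL hZL
    have h2 := line_le (Z := R) (C := normalizer (R : Set G)) (F := {P}) (Set.mem_singleton P)
      (centralizer_le_normalizer _ hc)
    rwa [hV] at h2

/-- a critical pair at distance 1 gives two noncommuting points of `V` -/
theorem exists_nc {V R : Subgroup G} (hp : PB S B P V R) {y : G} (hc : Crit R (normalizer (R : Set G)) {P} 1 1 y) :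
    ∃ Y, Pnt V R Y ∧ ¬ ws V R ≤ centralizer ((ws V Y : Subgroup G) : Set G) := by
  have hWN := W_eq hp
  obtain ⟨c, p, c', hc0, hp0, hc0', rfl⟩ : ∃ c p c', c ∈ normalizer (R : Set G) ∧ p ∈ P ∧
      c' ∈ normalizer (R : Set G) ∧ y = c * p * c' := by
    have h1 := hc.path
    cases h1 with
    | step hg _ _ _ =>
      cases hg with
      | zero g hc1 =>
        rename_i p1 c1 P1 h2 h3 h4 c2
        rw [Set.mem_singleton_iff.1 h2] at h3
        exact ⟨c2, p1, c1, hc1, h3, h4, by group⟩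
  refine ⟨PT.cj p R, ⟨⟨p, rfl⟩, hp.pt_le hp0⟩, fun hcon => hc.ne ?_⟩
  unfold Com
  rw [map_one, one_smul]
  have h2 : ∀ n ∈ normalizer (R : Set G), PT.cj n (ws V R) = ws V R := by
    intro n hn
    exact PT.cj_eq_iff.2 (normalizer_le_ws _ _ hn)
  have h3 : MulAut.conj (c * p * c') • ws V R = PT.cj c (PT.cj p (ws V R)) := by
    have h4 : PT.cj (c * p * c') (ws V R) = PT.cj c (PT.cj p (ws V R)) := by
      rw [← PT.cj_cj, h2 c' hc0', PT.cj_cj]
    exact h4
  rw [hWN]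
  show ws V R ≤ centralizer ((MulAut.conj (c * p * c') • ws V R : Subgroup G) : Set G)
  rw [h3, ← PT.cj_centralizer]
  have h5 := PT.cj_le_cj (g := c) |>.2 hcon
  rw [h2 c hc0, PT.ws_cj] at h5
  exact h5

/-- **`Co` from the `(R, B)`-frame.** -/
theorem exists_co [Finite F] [CharP F 2] (h : FrB F S P B R) (hp : Hyp S P) (N : NatP F (zl (S : Subgroup G) P) P)
    (hf : ¬ kx (zl (S : Subgroup G) P) R ≤ centralizer (zl (S : Subgroup G) P : Set G)) {y : G}
    (hc : Crit R (normalizer (R : Set G)) {P} 1 1 y) :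
    Nonempty (Co F S B P (zl (S : Subgroup G) P) R) := by
  obtain ⟨M⟩ := Fld.exists_crd hp N
  have hR := h.R_crd M
  refine exists_co_of ⟨h.pb, hf, h.om, exists_nc h.pb hc⟩ M.toNatP (w := ![1, 0]) ?_ ?_
  · intro e
    have := congrFun e 0
    simp at this
  · intro z
    rw [hR]
    constructor
    · rintro ⟨a, rfl⟩
      exact ⟨a, by congr 1; apply NatPair.ext2 <;> simp⟩
    · rintro ⟨a, rfl⟩
      exact ⟨a, by congr 1; apply NatPair.ext2 <;> simp⟩

end FrB

end Cfsg.Agent.Omega.NO3S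

end

-- merged: Cfsg.Agent.Mrg.Omega.Node.NO3SOneB
section

/-!
# NO-3S, natural lines, `q ≥ 4`, critical distance 1, over the `(R, B)`-frame: `OneB` from `OneSzB`

`OneSzB K` : `W_R / R` is the natural module for a normal subgroup `Sz(q)` of `N_G(R) / C`, `W_R = ⟨V^{N_G(R)}⟩`, so
`q = 2^{2m+1}`.  Then `F` has no automorphism of order 2, `S` centralises `R`, `R = Ω₁(Z(S))`, and THEOREM 2F4
(`Omega/TwoFFour`) applies.
-/

set_option autoImplicit false

namespace Cfsg.Agent.Omega.NO3S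

open Subgroup Cfsg Cfsg.Agent.ZN Cfsg.Agent.Omega.MinPar Cfsg.Agent.Omega.Frame Cfsg.Agent.Omega.FrameNOFF
open Cfsg.Agent.Omega.NoFF.Lines Cfsg.Agent.Omega.NatPair
open Cfsg.Agent.MinSimple.VModule
open Cfsg.Agent.LieRecognition.SzMatrix (Good)
open Cfsg.Agent.Omega.TwoFFour (SzMod)

universe u

/-- **The structure of `N_G(R)`**: `W_R / R` is natural for `Sz(q)`. -/
def OneSzB (K : Cls.{u}) : Prop :=
  ∀ (G : Type u) [Group G] [Finite G], K G → ∀ (S : Sylow 2 G) (P : Subgroup G), HypF S P →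
    ∀ (F : Type) [Field F] [Finite F] [CharP F 2], 4 ≤ Nat.card F → NatP F (zl (S : Subgroup G) P) P →
      ∀ B R : Subgroup G, FrB F S P B R → ∀ y : G, Crit R (normalizer (R : Set G)) {P} 1 1 y →
        (∃ (θ : F →+* F) (e m : ℕ) (H : Good F θ e), 1 ≤ m ∧ Nat.card F = 2 ^ (2 * m + 1) ∧
          Nonempty (SzMod H (normalizer (R : Set G)) (W R (normalizer (R : Set G)) {P}) R)) ∨ IsKnownSimple' G

/-- `OneSzB`, given (F1). -/
def OneSzBF (K : Cls.{u}) : Prop :=
  ∀ (G : Type u) [Group G] [Finite G], K G → ∀ (S : Sylow 2 G) (P : Subgroup G), HypF S P →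
    ∀ (F : Type) [Field F] [Finite F] [CharP F 2], 4 ≤ Nat.card F → NatP F (zl (S : Subgroup G) P) P →
      ∀ B R : Subgroup G, FrB F S P B R →
        ¬ PT.kx (zl (S : Subgroup G) P) R ≤ centralizer (zl (S : Subgroup G) P : Set G) →
        ∀ y : G, Crit R (normalizer (R : Set G)) {P} 1 1 y →
        (∃ (θ : F →+* F) (e m : ℕ) (H : Good F θ e), 1 ≤ m ∧ Nat.card F = 2 ^ (2 * m + 1) ∧
          Nonempty (SzMod H (normalizer (R : Set G)) (W R (normalizer (R : Set G)) {P}) R)) ∨ IsKnownSimple' G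

theorem oneSzB_of {K : Cls.{u}} (h1 : FOneB K) (h2 : OneSzBF K) : OneSzB K := by
  intro G _ _ hK S P h F _ _ _ hF M B R hB y hy
  rcases h1 G hK S P h F hF M B R hB 1 y le_rfl hy with h3 | h3
  · exact h2 G hK S P h F hF M B R hB h3 y hy
  · exact Or.inr h3

/-- a field of order `2^(2m+1)` has no automorphism of order 2 -/
theorem no_invol {F : Type*} [Field F] [Finite F] [CharP F 2] {m : ℕ} (hF : Nat.card F = 2 ^ (2 * m + 1))
    {σ : F ≃+* F} (h2 : ∀ x, σ (σ x) = x) : σ = RingEquiv.refl F := by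
  by_contra h1
  have h3 := Fld.card_fixed h1 h2
  rw [hF] at h3
  have h4 : (Nat.card {x : F // σ x = x}) ∣ 2 ^ (2 * m + 1) := ⟨_, h3.symm⟩
  obtain ⟨k, -, hk⟩ := (Nat.dvd_prime_pow Nat.prime_two).1 h4
  rw [hk, ← pow_add] at h3
  have h5 := Nat.pow_right_injective le_rfl h3
  omega

theorem eq_one_of_order {F : Type*} [Field F] [Finite F] [CharP F 2] {m : ℕ} (hF : Nat.card F = 2 ^ (2 * m + 1))
    {σ : F ≃+* F} {k : ℕ} (h : orderOf σ = 2 ^ k) : σ = 1 := by
  rcases Nat.eq_zero_or_pos k with rfl | hk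
  · exact orderOf_eq_one_iff.1 (by simpa using h)
  obtain ⟨j, rfl⟩ := Nat.exists_eq_succ_of_ne_zero hk.ne'
  exfalso
  have h1 : orderOf (σ ^ 2 ^ j) = 2 := by
    rw [orderOf_pow' σ (pow_ne_zero j two_ne_zero), h, Nat.gcd_eq_right (pow_dvd_pow 2 (Nat.le_succ j)), pow_succ]
    exact Nat.mul_div_cancel_left 2 (pow_pos two_pos j)
  have h2 : (σ ^ 2 ^ j) = RingEquiv.refl F := by
    refine no_invol hF fun x => ?_
    have h3 : (σ ^ 2 ^ j) ^ 2 = 1 := orderOf_dvd_iff_pow_eq_one.1 h1.dvd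
    rw [pow_two] at h3
    exact RingEquiv.congr_fun h3 x
  have h3 : (σ ^ 2 ^ j) = 1 := h2
  rw [h3, orderOf_one] at h1
  omega

/-- If `q = 2^(2m+1)` then `R = Ω₁(Z(S))`. -/
theorem FrB.R_eq {F : Type} [Field F] [Finite F] [CharP F 2] {G : Type u} [Group G] [Finite G] {S : Sylow 2 G}
    {P B R : Subgroup G} (h : FrB F S P B R) (hp : Hyp S P) (N : NatP F (zl (S : Subgroup G) P) P) {m : ℕ}
    (hF : Nat.card F = 2 ^ (2 * m + 1)) : zc (S : Subgroup G) = R := by
  obtain ⟨M⟩ := Fld.exists_crd hp N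
  obtain ⟨σ, k, hk, -, hact⟩ := M.exists_sigma S.isPGroup'
  have hσ : σ = 1 := eq_one_of_order hF hk
  have hVS : zl (S : Subgroup G) P ≤ (S : Subgroup G) := h.pb.VS
  have h1 : M.R ≤ zc (S : Subgroup G) := by
    rw [M.zc_eq hVS (zc_le_zl _ _)]
    refine le_inf le_rfl ?_
    rintro _ ⟨a, rfl⟩
    rw [mem_centralizer_iff]
    intro s hs
    obtain ⟨j, hj⟩ := hact s hs
    have h2 := hj a
    rw [hσ] at h2
    have h3 : (⇑(1 : F ≃+* F))^[j] a = a := by
      induction j with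
      | zero => rfl
      | succ n ih => simp
    rw [h3, mul_inv_eq_iff_eq_mul] at h2
    exact h2
  have h2 : zc (S : Subgroup G) ≤ R := h.pb.zc_le_R hp
  refine Subgroup.eq_of_le_of_card_ge h2 ?_
  rw [h.card, ← M.card_R]
  exact Subgroup.card_le_of_le h1

/-- **`OneB`** -/
theorem oneB {K : Cls.{u}} (hB : RootLemma.Bender.{u}) (h44 : Exits.St1144.{u}) (h : OneSzB K) : OneB K := by
  intro G _ _ hK S P hL F _ _ _ hF M B R hR y hc
  rcases h G hK S P hL F hF M B R hR y hc with ⟨θ, e, m, H, hm, hFc, ⟨M'⟩⟩ | h1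
  · have hZ : zc (S : Subgroup G) = R := hR.R_eq hL.toHyp M hFc
    subst hZ
    obtain ⟨s, -⟩ := TwoFFour.exists_sit hL.toHyp hF M hR.card hc hm hFc rfl M'
    refine s.known_of_par hB h44 hL.ctx (char2_cen hL.ctx.char2) hL.full
      ((MinSimple.VModule.normalizer_le_normalizer_zc _).trans le_sup_left) fun Q hQ => ?_
    by_cases h1 : Q ≤ normalizer (zc (S : Subgroup G) : Set G)
    · exact h1.trans le_sup_left
    · rcases hR.uniq Q ⟨hQ, h1⟩ with h2 | h2
      · exact h2.trans le_sup_left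
      · rw [← h2]
        exact (MinSimple.VModule.le_normalizer_zl _ _).trans le_sup_right
  · exact h1

end Cfsg.Agent.Omega.NO3S

end

-- merged: Cfsg.Agent.Mrg.Omega.NO3S.OneQ.SzB
section

/-!
# NO-3S, natural lines, `q ≥ 4`, critical distance 1, over the `(R, B)`-frame: the assembly of `OneSzBF`

* `Co.Sz` : the conclusion of `OneSzBF` over `Co`;
* case (N) always holds (`Co.ntr_all`, helper418, 703, 153, 482); `k = dim MF / Ē = 1` : `Co.szMod_one` (helper258);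
* `BigN` : `k ≥ 2` : `D_Z ≤ I` and TI;
* `coSz_of` : `Co ⟹ Sz`; **`oneSzBF_of`** : `OneSzBF K`;
* `benderAll_of` : `FlatBorel.BenderAll` from `Frame.Bender`.
-/

set_option autoImplicit false
set_option linter.unusedSectionVars false

namespace Cfsg.Agent.Omega.NO3S

open Subgroup Cfsg Cfsg.Agent.ZN Cfsg.Agent.Omega.MinPar Cfsg.Agent.Omega.Frame Cfsg.Agent.Omega.FrameNOFF
open Cfsg.Agent.Omega.NoFF.Lines Cfsg.Agent.Omega.NatPair Cfsg.Agent.Omega.NO3S.PT
open Cfsg.Agent.MinSimple.VModule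
open Cfsg.Agent.WeakTI.FlatBorel (CritAll BenderAll)

universe u

/-- `W_Z / Z` is natural for `Sz(q)` -/
def OneQ.Co.Sz {G : Type u} [Group G] [Finite G] {F : Type} [Field F] {S : Sylow 2 G} {B P V Z : Subgroup G}
    (_h : OneQ.Co F S B P V Z) : Prop :=
  ∃ (θ : F →+* F) (e m : ℕ) (T : Cfsg.Agent.LieRecognition.SzMatrix.Good F θ e), 1 ≤ m ∧
    Nat.card F = 2 ^ (2 * m + 1) ∧
    Nonempty (Cfsg.Agent.Omega.TwoFFour.SzMod T (normalizer (Z : Set G)) (ws V Z) Z)

namespace OneQ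

section sockets

/-- **Case (N), `k = dim MF / Ē ≥ 2`** : `D_Z ≤ I` and TI. Paper: helper46 #20317, 246 #21556; Lean: helper46, 246,
859, 482, 982, 279, 382. -/
def BigN : Prop :=
  ∀ (G : Type u) [Group G] [Finite G] (F : Type) [Field F] [Finite F] [CharP F 2] (S : Sylow 2 G)
    (B P V Z : Subgroup G) (h : Co F S B P V Z), IsCharacteristicTwoType G → 4 ≤ Nat.card F → NTr V Z →
      (¬ ∀ x y : h.MF, x ∉ h.Eb → ∃ c : F, y + c • x ∈ h.Eb) → dd V Z Z ≤ IV V Z ∧ TIw V Z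

/-- over `Co`: `W_Z / Z` is natural for `Sz(q)` -/
def CoSz : Prop :=
  ∀ (G : Type u) [Group G] [Finite G] (F : Type) [Field F] [Finite F] [CharP F 2] (S : Sylow 2 G)
    (B P V Z : Subgroup G) (h : Co F S B P V Z), IsCharacteristicTwoType G → 4 ≤ Nat.card F → h.Sz

end sockets

/-- **`Co ⟹ Sz`** -/
theorem coSz_of (hcrit : CritAll.{u}) (hbend : BenderAll.{u}) (h2 : BigN.{u}) : CoSz.{u} := by
  intro G _ _ F _ _ _ S B P V Z h hG hF
  have hN : NTr V Z := h.ntr_all (by omega)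
  by_cases hone : ∀ x y : h.MF, x ∉ h.Eb → ∃ c : F, y + c • x ∈ h.Eb
  · exact h.szMod_one hcrit hbend hG hN hone hF
  · obtain ⟨hD, hTI⟩ := h2 G F S B P V Z h hG hF hN hone
    exact h.szMod hcrit hbend hG hN hD hTI hF

end OneQ

/-- **`OneSzBF`** -/
theorem oneSzBF_of {K : Cls.{u}} (h : OneQ.CoSz.{u}) : OneSzBF K := by
  intro G _ _ _ S P hL F _ _ _ hF N B R hR hf y hc
  left
  obtain ⟨h1⟩ := hR.exists_co hL.toHyp N hf hc
  have h3 := h G F S B P _ R h1 hL.ctx.char2 hF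
  rw [FrB.W_eq hR.pb]
  exact h3

/-- Bender's theorem -/
theorem benderAll_of (h : Frame.Bender.{u}) : BenderAll.{u} := by
  intro X _ _ hs hna ⟨H, hH⟩
  have : IsSimpleGroup X := hs
  rcases h X hna H hH with ⟨F, i1, i2, ⟨n, hn, hF⟩, e⟩ | h | ⟨F, i1, i2, n, hn, hF, e⟩
  · left
    have : Fact (Nat.Prime 2) := ⟨Nat.prime_two⟩
    refine ⟨F, i1, i2, ?_, ?_, e⟩
    · exact charP_of_card_eq_prime_pow hF
    · rw [hF]
      calc 4 = 2 ^ 2 := rfl
        _ ≤ 2 ^ n := Nat.pow_le_pow_right (by norm_num) hn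
  · exact Or.inr (Or.inl h)
  · right; right
    refine ⟨F, i1, i2, 2 ^ n, hF, ?_, ?_, e⟩
    · exact (Nat.even_pow.mpr ⟨even_two, by omega⟩)
    · calc 4 = 2 ^ 2 := rfl
        _ ≤ 2 ^ n := Nat.pow_le_pow_right (by norm_num) hn

end Cfsg.Agent.Omega.NO3S

end

-- merged: Cfsg.Agent.Mrg.Omega.NO3S.OneQ.SzEnd
section

/-!
# NO-3S, natural lines, `q ≥ 4`, critical distance 1, over the `(R, B)`-frame: `OneSzBF`

* `OneQ.bigN` : case (N), `k ≥ 2` (TI: helper46, 859, 246, 482, 982; `D_Z ≤ I`: helper46, 382, 279);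
* **`oneSzBF`** : `OneSzBF K` from Aschbacher's criterion (`CritAll`, S1175) and Bender's theorem.
-/

set_option autoImplicit false

namespace Cfsg.Agent.Omega.NO3S

open Cfsg Cfsg.Agent.Omega.Frame
open Cfsg.Agent.WeakTI.FlatBorel (CritAll BenderAll)

universe u

theorem OneQ.bigN : OneQ.BigN.{u} := by
  intro G _ _ F _ _ _ S B P V Z h hG hF hN hone
  have hq := h.exists_ne_zero_one (by omega)
  have hk := h.big_of hone
  exact ⟨h.dx_le hN hq (h.ti_LL hN hq hk hG), h.tiw_big hN hq hk hG⟩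

/-- **`OneSzBF`** -/
theorem oneSzBF {K : Cls.{u}} (hcrit : CritAll.{u}) (hb : Frame.Bender.{u}) : OneSzBF K :=
  oneSzBF_of (OneQ.coSz_of hcrit (benderAll_of hb) OneQ.bigN)

end Cfsg.Agent.Omega.NO3S

end

-- merged: Cfsg.Agent.Mrg.Omega.NO3S.TwoOne.NtOne
section

section


/-!
# NO-3S, `CompP`, `k = 1`, no `λ`-transvection: `ntOneP : NtOneP K` (helper881 #18307, helper311, helper225)

* `TSys.exists_sp` : the S-pair in the form `Sp` of section 5;
* `One.false_of_nt` : `One T V z`, `KOne V`, `NT V`, (NL), `A` centralises `F(H)` is impossible;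
* `ntOneP`.
-/

set_option autoImplicit false
set_option linter.unusedSectionVars false

namespace Cfsg.Agent.Omega.NO3S.TwoOne

open Subgroup Cfsg Cfsg.Agent.Omega.MinPar Cfsg.Agent.Omega.Frame Cfsg.Agent.Omega.FrameNOFF
open Cfsg.Agent.ZN (zl zc o2)
open Cfsg.Agent.MinSimple.Geo (ws kq)
open Cfsg.Agent.Omega.NO3S.Fit
open Cfsg.Agent.Omega.NO3S.KOne.Five (false_of_sp)
open Cfsg.Agent.MinSimple.VModule

universe u v

/-- the output of section 4 in the form used in section 5 -/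
theorem TSys.exists_sp {M : Type u} {H : Type v} [AddCommGroup M] [Group H] [DistribMulAction H M] [Finite M]
    (S : TSys M H) {l : M} (hl : l ∈ S.L) : ∃ x : H, KOne.Five.Sp l (S.a l) x := by
  obtain ⟨v, w, hp⟩ := S.exists_pair
  obtain ⟨g, hg⟩ := S.trans v hp.hv l hl
  obtain ⟨x, hx⟩ := S.trans l hl (g • w) (S.smul_mem g w hp.hw)
  have hq : S.Pair l (x • l) := by
    rw [hx, ← hg]
    exact ⟨S.smul_mem g v hp.hv, S.smul_mem g w hp.hw, fun e => hp.vw ((S.E_smul g hp.hv).mp e),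
      fun e => hp.wv ((S.E_smul g hp.hw).mp e)⟩
  have ha : S.a (x • l) = x * S.a l * x⁻¹ := S.a_smul x l hl
  -- `C_M(a) = [M, a]`
  have hfix : ∀ n : M, S.a l • n = n → ∃ k, n = S.a l • k + k := by
    intro n hn
    have h1 : n ∈ S.I l := (S.mem_I_iff hl).mpr hn
    have h2 : ((S.cHom l).range : Set M) ⊆ S.I l := by
      rintro _ ⟨m, rfl⟩
      exact S.c_mem hl m
    have h3 : ((S.cHom l).range : Set M) = S.I l := by
      refine Set.eq_of_subset_of_ncard_le h2 ?_ (Set.toFinite _)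
      rw [S.range_eq hl hq.vw, S.four_card (m := S.c l (x • l)) (S.v_ne hl) (fun e => hq.vw (Or.inl e))
        (fun e => hq.vw (Or.inr e)), ← Nat.card_coe_set_eq]
      exact le_of_eq (S.card.2 l hl)
    have h4 : n ∈ ((S.cHom l).range : Set M) := by rw [h3]; exact h1
    obtain ⟨k, hk⟩ := h4
    exact ⟨k, hk.symm⟩
  refine ⟨x, ?_⟩
  exact
    { two := S.two
      card := S.card.1
      sq := S.sq l hl
      al := S.a_v hl
      l0 := S.v_ne hl
      cen := fun h => (S.cent_iff hl h).symm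
      fix := hfix
      dis := fun n h1 h2 => by
        rw [← ha] at h2
        exact S.I_inf hq ((S.mem_I_iff hl).mpr h1) ((S.mem_I_iff hq.hw).mpr h2)
      s0 := fun e => hq.vw (Or.inl e)
      s1 := fun e => hq.vw (Or.inr e)
      s0' := fun e => hq.wv (Or.inl (by rw [ha]; exact e))
      s1' := fun e => hq.wv (Or.inr (by rw [ha]; exact e))
      q0 := fun e => S.mu_not_E hq.symm (Or.inl (by unfold TSys.c; rw [ha]; exact e))
      q1 := fun e => S.mu_not_E hq.symm (Or.inr (by unfold TSys.c; rw [ha]; exact e))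
      q0' := fun e => S.mu_not_E hq (Or.inl (by unfold TSys.c; rw [ha]; exact e))
      q1' := fun e => S.mu_not_E hq (Or.inr (by unfold TSys.c; rw [ha]; exact e)) }

namespace One

variable {G : Type u} [Group G] [Finite G] {T V : Subgroup G} {z : G}
  {M H : Type u} [AddCommGroup M] [Finite M] [Group H] [Finite H] [DistribMulAction H M] [FaithfulSMul H M]

/-- **`k = 1`, no `λ`-transvection, `A` centralises `F(H)`**: impossible. -/
theorem false_of_nt (h : One T V z)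
    (nl : ∀ U : Subgroup G, IsPGroup 2 U → normalizer (V : Set G) ≤ normalizer (U : Set G) →
      centralizer ({z} : Set G) ≤ normalizer (U : Set G) → U = ⊥)
    (hk : KOne V) (hN : NT V) (R : MRep V cg z M H) (hc : CenFit R) : False := by
  have hz := h.ln.z_mem
  have hz1 := h.ln.z_ne
  obtain ⟨y, hy, hy1, hyz⟩ := h.exists_q hz hz1
  obtain ⟨b, hb, hbE⟩ := SetLike.not_le_iff_exists.mp (h.not_ws_le_ee hy hy1)
  obtain ⟨S, hL, ha, -⟩ := h.tsys R hN (hk z hz hz1) hy hy1 hyz hb hbE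
  have hl : R.pi y ∈ S.L := by rw [hL]; exact ⟨1, one_smul _ _⟩
  obtain ⟨x, hx⟩ := S.exists_sp hl
  have e : S.a (R.pi y) = R.phi b := by
    have := ha 1
    simpa using this
  rw [e] at hx
  exact false_of_sp h nl R hc hy hy1 hyz (by rw [h.ww_cg hy hy1]; exact hb) hx

end One

/-- **`CompP`, `k = 1`, no `λ`-transvection** -/
theorem ntOneP (K : Cls.{u}) : NtOneP K := by
  intro G _ _ _ S P h z ho hcase M H _ _ _ _ _ _ R hc
  exfalso
  have hz1 := ho.ln.z_ne
  have hz : z ∈ zc (S : Subgroup G) := by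
    refine mem_zc.mpr ⟨ho.ln.V_le ho.ln.z_mem, fun s hs => ?_, ?_⟩
    · exact mem_centralizer_singleton_iff.mp (ho.ln.T_le hs)
    · rw [pow_two]; exact ho.ln.sq z ho.ln.z_mem
  have hC := centralizer_singleton_eq_CZ h ho.ln.card_V hz hz1
  refine ho.false_of_nt (fun U h1 h2 h3 => ?_) hcase.1 hcase.2 R hc
  rw [hC] at h3
  exact h.nonLoc U h1 ((le_normalizer_zl _ _).trans h2) h3

end Cfsg.Agent.Omega.NO3S.TwoOne

end

section


/-!
# NO-3S, `q = 2`, `n = 1`: the mixed case of `CompP` is empty (helper311's text #18168 (2))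

* `One.allTv_of_not_nt` : a `λ`-transvection in `A` implies that `A` consists of `λ`-transvections;
* `mixP : MixP K`.
-/

set_option autoImplicit false

namespace Cfsg.Agent.Omega.NO3S.TwoOne

open Subgroup Cfsg Cfsg.Agent.Omega.MinPar Cfsg.Agent.Omega.Frame Cfsg.Agent.Omega.FrameNOFF
open Cfsg.Agent.ZN (zl zc o2)
open Cfsg.Agent.MinSimple.Geo (ws kq)
open Cfsg.Agent.Omega.NO3S.Fit
open scoped commutatorElement

universe u

/-- a `λ`-transvection in `A` implies that `A` consists of `λ`-transvections -/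
theorem One.allTv_of_not_nt {G : Type u} [Group G] [Finite G] {T V : Subgroup G} {z : G} (h : One T V z)
    (hn : ¬ NT V) : AllTv V := by
  have hz := h.ln.z_mem
  have hz1 := h.ln.z_ne
  obtain ⟨y, hy, hy1, hyz⟩ := h.ln.exists_y
  obtain ⟨p, hp, hp1, w, hw, hwe⟩ : ∃ p ∈ V, p ≠ 1 ∧ ∃ w ∈ n0 V p, w ∉ ee V p := by
    by_contra hc
    apply hn
    intro p hp hp1 w hw
    by_contra hwe
    exact hc ⟨p, hp, hp1, w, hw, hwe⟩
  obtain ⟨g, hg, hgp⟩ := h.xl_trans hp hp1 hy hy1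
  have hgn := h.xl_le_normalizer hg
  have h1 : g * w * g⁻¹ ∈ n0 V y := by
    have := conj_mem_n0 hgn hw
    rwa [hgp] at this
  have h2 : g * w * g⁻¹ ∉ kq V z := by
    intro hk
    have h3 : g * w * g⁻¹ ∈ ee V y := h.mem_ee hy hy1 hz hz1 (Ne.symm hyz) h1.1 hk
    apply hwe
    refine ⟨hw.1, fun q hq hq1 => ?_⟩
    have h4 := h3.2 (g * q * g⁻¹) ((mem_normalizer_iff.mp hgn q).mp hq) (conj_eq_one_iff.not.mpr hq1)
    have h5 := conj_mem_kq g⁻¹ h4
    have e1 : g⁻¹ * (g * w * g⁻¹) * g⁻¹⁻¹ = w := by group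
    have e2 : g⁻¹ * (g * q * g⁻¹) * g⁻¹⁻¹ = q := by group
    rwa [e1, e2] at h5
  have h3 := Mixed.comm_mem_V' h hy hy1 hyz h1.1 h2 fun v hv => by
    have := h1.2.2 z hz hz1 v hv
    rwa [commutatorElement_def] at this
  intro p hp hp1 q hq hq1 a ha b hb
  rw [commutatorElement_def]
  by_cases hqp : q = p
  · rw [hqp] at hb
    rw [h.comm hp hp1 a ha b hb]
    have e : b * a * a⁻¹ * b⁻¹ = 1 := by group
    rw [e]
    exact one_mem _
  · refine h3 p hp hp1 q hq hq1 hqp a ?_ b ?_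
    · rw [h.ww_cg hp hp1]; exact ha
    · rw [h.ww_cg hq hq1]; exact hb

/-- **the mixed case is empty** -/
theorem mixP (K : Cls.{u}) : MixP K := by
  intro G _ _ _ S P _ z ho hc
  exact absurd (ho.allTv_of_not_nt hc.2.1) hc.2.2

end Cfsg.Agent.Omega.NO3S.TwoOne

end

end

-- merged: Cfsg.Agent.Mrg.Omega.NO3S.TwoOne.Final
section

/-!
# NO-3S, `TwoOneFin`: what is left (assembler: helper391)

Proved: `FitP` (`Fit.fitP`), `TvOneP`, `NtOneP`, `MixP`, `TvBigP`, `NtBigP`.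

* `compP' : St1762 → CompP K` (the case list of `CompP` is complete);
* `twoOneFin_of_f : St1762 → FOneP K → TwoOneFin K`.
-/

set_option autoImplicit false

namespace Cfsg.Agent.Omega.NO3S.TwoOne

open Cfsg Cfsg.Agent.Omega.MinPar Cfsg.Agent.Omega.Frame Cfsg.Agent.Omega.FrameNOFF
open Cfsg.Agent.Classification.TitsFin (FinHyp)
open Cfsg.Agent.Omega.NO3S.Fit

universe u

variable {K : Cls.{u}}

/-- **`CompP`** : the components case is complete -/
theorem compP' (h62 : Exits.St1762.{u}) : CompP K :=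
  compP tvOneP (ntOneP K) (mixP K) (tvBigP K h62) (ntBigP K)

/-- **`TwoOneFin` from (F1) alone** -/
theorem twoOneFin_of_f (h62 : Exits.St1762.{u}) (h0 : FOneP K) : TwoOneFin K :=
  twoOneFin h0 (Fit.fitP K) (compP' h62)

end Cfsg.Agent.Omega.NO3S.TwoOne

end

-- merged: Cfsg.Agent.Mrg.Omega.NO3S.WZero.Final
section

/-!
# NO-3S, `|V| = 4`: the world W0 is dead (helper56 #21024), the composition

* `Wz.cent` : in the world `Wz`: `N_q` centralises `W_p` for every critical pair `(p, q)`.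
-/

set_option autoImplicit false
set_option linter.unusedSectionVars false

namespace Cfsg.Agent.Omega.NO3S.WZero

open Subgroup Cfsg Cfsg.Agent.ZN Cfsg.Agent.MinSimple.Geo Cfsg.Agent.Omega.CaseL Cfsg.Agent.Omega.NO3S.TwoOne
  Cfsg.Agent.Omega.NO3S.Pt
open Cfsg.Agent.Omega.NO3S.Dual (nn mem_nn)

universe u

variable {G : Type u} [Group G] {T V : Subgroup G} {z : G} {n : ℕ}

/-- (T4): `F ≠ {λ}` at the base flag -/
def FNe (V : Subgroup G) (z : G) : Prop :=
  ∃ g ∈ centralizer ({z} : Set G), ∃ y ∈ V, y ∉ zpowers z ∧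
    y * (g * y * g⁻¹) ∈ nn (ws V z) (kq V z) ∧ y * (g * y * g⁻¹) ∉ zpowers z

theorem false_of [Finite G] (h : Wz T V z n) {p q f : G} (hcr : Cr V n p q) (hf : f ∈ nn (ws V q) (kq V q))
    (hfp : ∃ w ∈ ws V p, f * w ≠ w * f) (t4 : FNe V z) : False := by
  obtain ⟨NV, hc⟩ := can h.fr t4
  have hm : Mn V 2 := fun k hk a b hab => hcr.min k (lt_of_lt_of_le hk h.two) a b hab
  exact end_false h hc (h.one hcr.min hc) (h.five hc) (sZero h.fr hm hc) hcr hf hfp

/-- `N_q` centralises `W_p` for every critical pair `(p, q)` -/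
theorem Wz.cent [Finite G] (h : Wz T V z n) {p q f : G} (hcr : Cr V n p q) (hf : f ∈ nn (ws V q) (kq V q))
    {w : G} (hw : w ∈ ws V p) : f * w = w * f := by
  by_contra hne
  exact false_of h hcr hf ⟨w, hw, hne⟩ (h.tfour hcr hf ⟨w, hw, hne⟩)

end Cfsg.Agent.Omega.NO3S.WZero

end

-- merged: Cfsg.Agent.Mrg.Omega.NO3S.WZero.Landed
section

/-!
# The world W0 is void: the sockets `WTwo K`, `NTwo K`, `FullTwo K` from (ML) (#21024)

* `no_cr` : `Fr T V z`, K-group point centralisers, `n ≥ 2`: no critical pair at distance `n`;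
* `nnLe`, `wTwo`, `nTwo`, `fullTwo`.
-/

set_option autoImplicit false

namespace Cfsg.Agent.Omega.NO3S.WZero

open Subgroup Cfsg Cfsg.Agent.ZN Cfsg.Agent.MinSimple.Geo Cfsg.Agent.Omega.CaseL Cfsg.Agent.Omega.NO3S.TwoOne
open Cfsg.Agent.Omega.NO3S Cfsg.Agent.Omega.NO3S.Pt Cfsg.Agent.Omega.Frame
open Cfsg.Agent.Omega.NO3S.Dual (nn mem_nn)
open Cfsg.Agent.Omega.ML.Final (MLK)

universe u

/-- **no critical pair at distance `n ≥ 2`** -/
theorem no_cr (hML : MLK.{u, u}) {G : Type u} [Group G] [Finite G] {T V : Subgroup G} {z : G} (h : Fr T V z)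
    (hK : ∀ p : G, Col V p p → IsKGroup (centralizer ({p} : Set G))) {n : ℕ} (hn : 2 ≤ n) {p q : G}
    (hc : Cr V n p q) : False := by
  have hw := wz hML h hK hn
  obtain ⟨p', q', hcr, f, hf, w, hw', hne⟩ := hw.n1 hc
  exact hne (hw.cent hcr hf hw')

theorem nnLe (hML : MLK.{u, u}) : NNLe.{u} := fun _ _ _ _ _ _ h hK _ _ _ hn hc => (no_cr hML h hK hn hc).elim

variable {K : Cls.{u}}

/-- **the socket `WTwo K`** -/
theorem wTwo (hML : MLK.{u, u}) : WTwo K := wTwo_of (nnLe hML)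

/-- **the socket `NTwo K`** -/
theorem nTwo (hML : MLK.{u, u}) : TwoFar.NTwo K := nTwo_of (nnLe hML)

/-- **the socket `FullTwo K`** from (F1) -/
theorem fullTwo (hML : MLK.{u, u}) (h1 : TwoOne.FOneP K) : NO3S.FullTwo K := fullTwo_of h1 (nnLe hML)

end Cfsg.Agent.Omega.NO3S.WZero

end

-- merged: Cfsg.Agent.Mrg.Omega.Node.MultiPlug
section

/-!
# The leaves `MultiTwoL`, `MultiQL` of NO-3S: what is plugged

* `EOfNeg`, `EOfLev`, `eOf_of_stages` : case (E), by stages; `EOf.or`, `OmNeg.or`, `OmLev.or` : by the pairs `(k, q)`;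
* `two_of` : `MultiTwoL K` from its open inputs; `q_of` : `MultiQL K` from its open inputs.
-/

set_option autoImplicit false

namespace Cfsg.Agent.Omega.Node.MultiPlug

open Subgroup Cfsg Cfsg.Agent.ZN.ChoiceBase
open Cfsg.Agent.ZN (jj zj bau zc zl o2)
open Cfsg.Agent.Omega.NO3S.Level (lev)
open Cfsg.Agent.Omega.Frame (Cls)
open Cfsg.Agent.Omega.NO3S (HypL HypJ)
open Cfsg.Agent.Omega.Node.MultiOf

universe u

section sockets

variable (K : Cls.{u}) (c : ℕ → ℕ → Prop)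

/-- **(E)**, stage `-1`. -/
def EOfNeg : Prop :=
  ∀ (G : Type u) [Group G] [Finite G], K G → ∀ (S : Sylow 2 G) (P : Subgroup G) (k : ℕ)
    (L W Z C : Fin k → Subgroup G) (q : ℕ), 2 ≤ k → c k q → HypJ S P →
      Mul S P (jj (S : Subgroup G)) (bau (S : Subgroup G)) (zj (S : Subgroup G)) L W Z C q →
        NLoc (KZ (bau (S : Subgroup G)) (zj (S : Subgroup G))) → IsKnownSimple' G

/-- **(E)**, stage `n`. -/
def EOfLev : Prop :=
  ∀ (G : Type u) [Group G] [Finite G], K G → ∀ (S : Sylow 2 G) (P : Subgroup G) (n : ℕ),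
    (∀ R, MinPar.IsParS (S : Subgroup G) R → lev (S : Subgroup G) n ≤ o2 R) →
    ¬ lev (S : Subgroup G) (n + 1) ≤ o2 P →
    ∀ (B ZJ : Subgroup G) (k : ℕ) (L W Z C : Fin k → Subgroup G) (q : ℕ), 2 ≤ k → c k q →
      ZJ = zc (lev (S : Subgroup G) (n + 1)) →
      B = (S : Subgroup G) ⊓ centralizer (zc (lev (S : Subgroup G) (n + 1)) : Set G) →
      Mul S P (lev (S : Subgroup G) (n + 1)) B ZJ L W Z C q → NLoc (KZ B ZJ) → IsKnownSimple' G

end sockets

variable {K : Cls.{u}}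

theorem eOf_of_stages {c : ℕ → ℕ → Prop} (h1 : EOfNeg K c) (h2 : EOfLev K c) : EOf K c := by
  intro G _ _ hK S P K' B ZJ k L W Z C q hk hc hM hN
  cases hM.stg with
  | neg hj => exact h1 G hK S P k L W Z C q hk hc ⟨hM.hyp.toHypN, hj⟩ hM hN
  | lev n hall hn hn1 => exact h2 G hK S P n hall hn1 _ _ k L W Z C q hk hc rfl rfl hM hN

theorem eOf_or {c d : ℕ → ℕ → Prop} (h1 : EOf K c) (h2 : EOf K d) : EOf K fun k q => c k q ∨ d k q := by
  intro G _ _ hK S P K' B ZJ k L W Z C q hk hc hM hN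
  rcases hc with hc | hc
  · exact h1 G hK S P K' B ZJ k L W Z C q hk hc hM hN
  · exact h2 G hK S P K' B ZJ k L W Z C q hk hc hM hN

theorem eOf_mono {c d : ℕ → ℕ → Prop} (h : ∀ k q, 2 ≤ k → d k q → c k q) (h1 : EOf K c) : EOf K d :=
  fun G _ _ hK S P K' B ZJ k L W Z C q hk hc hM hN => h1 G hK S P K' B ZJ k L W Z C q hk (h k q hk hc) hM hN

theorem omNeg_mono {c d : ℕ → ℕ → Prop} (h : ∀ k q, 2 ≤ k → d k q → c k q) (h1 : OmNeg K c) : OmNeg K d :=
  fun G _ _ hK S P k hH hJ hk F _ _ _ hc N ho => h1 G hK S P k hH hJ hk F (h k _ hk hc) N ho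

theorem omLev_mono {c d : ℕ → ℕ → Prop} (h : ∀ k q, 2 ≤ k → d k q → c k q) (h1 : OmLev K c) : OmLev K d :=
  fun G _ _ hK S P k hH n hall hn1 hk F _ _ _ hc N B ZJ e1 e2 ho =>
    h1 G hK S P k hH n hall hn1 hk F (h k _ hk hc) N B ZJ e1 e2 ho

theorem omLev_or {c d : ℕ → ℕ → Prop} (h1 : OmLev K c) (h2 : OmLev K d) : OmLev K fun k q => c k q ∨ d k q := by
  intro G _ _ hK S P k hH n hall hn1 hk F _ _ _ hc N B ZJ e1 e2 ho
  rcases hc with hc | hc
  · exact h1 G hK S P k hH n hall hn1 hk F hc N B ZJ e1 e2 ho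
  · exact h2 G hK S P k hH n hall hn1 hk F hc N B ZJ e1 e2 ho

/-- **(E), `k = 2`, `q = 2`**: from UNI+ and block generation at the levels (THEOREM KL, MLK). -/
theorem e22 (hML : ML.Final.MLK.{u, u}) (hKL : KL.Quo.NoInp.{u, u}) (hU : TC.OfMul.UniLev K) :
    EOf K fun k q => k = 2 ∧ q = 2 :=
  TC.OfMul.eOf_two FF.Glob.ffthm hU (TC.EndKL.eFr hML hKL)

/-- **(E), `k ≥ 3`, `q = 2`**: from UNI+ and block generation at the levels, and the end over the frame. -/
theorem e32 (hU : EK3.OfMul.UniLevK K) (hE : MulC.EEndK K) : EOf K fun k q => 3 ≤ k ∧ q = 2 :=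
  EK3.OfMul.eOf_three hU (MulC.eFrK_of_end hE)

/-- **`MultiTwoL K`** from its open inputs: (Om) is closed. -/
theorem two_of (hML : ML.Final.MLK.{u, u}) (hKL : KL.Quo.NoInp.{u, u}) (hU : TC.OfMul.UniLev K)
    (hUK : EK3.OfMul.UniLevK K) (hE : MulC.EEndK K) : NO3S.MultiTwoL K :=
  multiTwoL_of OM.SwapL.omOfZ_two (e22 hML hKL hU) (e32 hUK hE)

/-- **`MultiQL K`** from its open inputs: (Om) is closed. -/
theorem q_of (hE2 : EOf K fun k q => k = 2 ∧ 4 ≤ q) (hE3 : EOf K fun k q => 3 ≤ k ∧ 4 ≤ q) : NO3S.MultiQL K :=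
  multiQL_of OmLevQ.omOf_q hE2 hE3

end Cfsg.Agent.Omega.Node.MultiPlug

end

-- merged: Cfsg.Agent.Mrg.Omega.Node.NO3SGam
section

/-!
# The leaf NO-3S: the socket `GammaFF`, cut further

`EndsO K H` = what is missing of `Ends K H` (`NO3S/Level/Gamma.lean`) given `WF K` (`FullK`) and `Two K` (the exit of the
light case); `GamFive K` = (S5) with all its data; `gammaFF_of_caseL : Ends K CaseLP → .. → GammaFF K`.
(S2), (S3), UNIQ are closed (`GamRU.lean`, helper570, 424, 422, 633, 365, 905, 794 and others), (C)(2) is closed (`NO3b/CTwoFF/End.lean`, helper194), `RedH K CaseLP` is closed (`RedC/Main.lean`, helper284), (S1) is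
closed (`SOne/Plug.lean`, helper754, 894, 335, 748, 283, 480 and others), (S5) is closed (`SFive/MainF.lean`, helper214,
31, 422, 879, 618, 304, 747, 589 and others).
-/

set_option autoImplicit false

namespace Cfsg.Agent.Omega.NO3S

open Subgroup Cfsg Cfsg.Agent.ZN Cfsg.Agent.Omega.MinPar Cfsg.Agent.Omega.Frame Cfsg.Agent.Omega.FrameNOFF
open Cfsg.Agent.Omega.NO3S.Level
open Cfsg.Agent.Omega.NO3S.Fld (Crd)
open Cfsg.Agent.Omega.FrameFF (cv)
open Cfsg.Agent.Omega.FFThm (SymKM)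
open Cfsg.Agent.Omega.NOThreeL.Merge (MZ)

universe u

/-- The light case of `S₅` over a frame. -/
def LightH (K : Cls.{u}) (H : FrP.{u}) : Prop :=
  ∀ (G : Type u) [Group G] [Finite G], K G → ∀ (S : Sylow 2 G) (P : Subgroup G), H G S P →
    SymKM (S : Subgroup G) P (zl (S : Subgroup G) P) (cv (S : Subgroup G) P) 1 2 →
      ∀ p : Fin 5 → G, Sym.Light.FiveL S P p → IsKnownSimple' G

/-- The FF-ends over a frame `H` with more than one block or without field: open inputs. -/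
structure EndsM (K : Cls.{u}) (H : FrP.{u}) : Prop where
  multiTwo : MultiTwoH K H
  multiQ : MultiQH K H
  light : LightH K H
  symBig : SymBigH K H
  symMany : SymManyH K H

/-- The FF-ends over a frame `H`: open inputs. -/
structure EndsO (K : Cls.{u}) (H : FrP.{u}) : Prop extends EndsM K H where
  red : RedH K H

/-- **(S5)**: an active member with `C_Z(P) = 1`, `V_P` an FF-module, all members of `P*(S)` normalise `V_P`
(it is impossible: helper422 #22571, 58 #22615 for `k ≥ 2` and `S_n`, helper879 #22996 for `k = 1`). -/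
def GamFive (K : Cls.{u}) : Prop :=
  ∀ (G : Type u) [Group G] [Finite G], K G → ∀ (S : Sylow 2 G) (P F : Subgroup G), WSt S P F →
    zc (S : Subgroup G) ⊓ centralizer (P : Set G) = ⊥ → FFMod (S : Subgroup G) P →
      (∀ R, IsParS (S : Subgroup G) R → R ≤ normalizer (zl (S : Subgroup G) P : Set G)) →
        zl (S : Subgroup G) (MZ (S : Subgroup G)) = zl (S : Subgroup G) P →
          (∃ R, PSS (S : Subgroup G) R ∧ zl (S : Subgroup G) R = zl (S : Subgroup G) P) → IsKnownSimple' G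

variable {K : Cls.{u}} {H : FrP.{u}}

theorem symTwoH_of (hH : ∀ (G : Type u) [Group G] [Finite G] (S : Sylow 2 G) (P : Subgroup G), H G S P → Hyp S P)
    (h2 : Two K) (hl : LightH K H) : SymTwoH K H := by
  intro G _ _ hK S P h M
  obtain ⟨p, hp⟩ := Sym.Exit.exists_five (hH G S P h) M.toSymK
  by_cases hc : ∃ T₀ : Sylow 2 G, ∀ x ∈ (T₀ : Subgroup G), x * NTwo.nn p * x⁻¹ = NTwo.nn p
  · obtain ⟨T₀, hT₀⟩ := hc
    exact Sym.Exit.known_of_central h2 hK hp T₀ hT₀
  · push Not at hc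
    exact hl G hK S P h M p ⟨hp, fun T₀ h0 => by
      obtain ⟨x, hx, h1⟩ := hc T₀
      exact h1 (h0 x hx)⟩

theorem EndsO.toEnds (hF : ∀ (G : Type u) [Group G] [Finite G] (S : Sylow 2 G) (P : Subgroup G), H G S P → HypF S P)
    (h2 : Two K) (hw : WF K) (E : EndsO K H) : Ends K H where
  red := E.red
  w := fun G _ _ hK S P h F _ _ _ hF' M B R hB hf n y hn hy => hw G hK S P (hF G S P h) F hF' M B R hB hf n y hn hy
  multiTwo := E.multiTwo
  multiQ := E.multiQ
  symTwo := symTwoH_of (fun G _ _ S P h => (hF G S P h).toHyp) h2 E.light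
  symBig := E.symBig
  symMany := E.symMany

theorem caseLP_hypF (G : Type u) [Group G] [Finite G] (S : Sylow 2 G) (P : Subgroup G) (h : CaseLP G S P) :
    HypF S P := CaseL.hypF h

theorem fiveP_hypF (G : Type u) [Group G] [Finite G] (S : Sylow 2 G) (P : Subgroup G) (h : FiveP G S P) :
    HypF S P := by
  obtain ⟨h1, ⟨F, hw⟩, -, -⟩ := h
  exact { toHypN := hw.toHypC.hypN h1.par h1.nonLoc, four := fun Q hQ => hw.toHypC.four Q hQ.par hQ.nonLoc }

/-- The data of `GamFive`. -/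
theorem five_data {G : Type u} [Group G] [Finite G] {S : Sylow 2 G} {P F : Subgroup G} (h : WSt S P F)
    (hff : FFMod (S : Subgroup G) P)
    (hall : ∀ R, IsParS (S : Subgroup G) R → R ≤ normalizer (zl (S : Subgroup G) P : Set G))
    (hc : (∃ R, PSS (S : Subgroup G) R ∧
        zl (S : Subgroup G) (MZ (S : Subgroup G)) = zl (S : Subgroup G) R) ∨
      (¬ FFMod (S : Subgroup G) (MZ (S : Subgroup G)) ∧
        ¬ zl (S : Subgroup G) (MZ (S : Subgroup G)) ≤ o2 (CZ (S : Subgroup G)))) :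
    zl (S : Subgroup G) (MZ (S : Subgroup G)) = zl (S : Subgroup G) P ∧
      ∃ R, PSS (S : Subgroup G) R ∧ zl (S : Subgroup G) R = zl (S : Subgroup G) P := by
  have he : zl (S : Subgroup G) (MZ (S : Subgroup G)) = zl (S : Subgroup G) P := by
    refine le_antisymm (ZN.zl_le ZN.zc_le_zl (sSup_le fun R hR => hall R hR)) ?_
    exact ZN.zl_le ZN.zc_le_zl (le_trans (le_sSup h.par) (ZN.le_normalizer_zl _ _))
  refine ⟨he, ?_⟩
  rcases hc with ⟨R, hR, hRe⟩ | ⟨h1, -⟩
  · exact ⟨R, hR, hRe.symm.trans he⟩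
  · refine absurd ?_ h1
    obtain ⟨A, hA, hAo⟩ := hff
    exact ⟨A, hA, by rw [he]; exact hAo⟩

/-- **`GammaFF` from the ends in the case (L).** -/
theorem gammaFF_of_caseL (hE : Ends K CaseLP) (h1 : FOneB K) (h1' : OneB K) (h3 : MidBF K) (h4 : FarBF K)
    (h5 : NOThreeL.Merge.NotFFG K) (h6 : GamG K) : GammaFF K := by
  intro G _ _ hK S h hV
  have hff : ∀ P, PSS (S : Subgroup G) P → FFMod (S : Subgroup G) P := fun P hP => (hV P hP).2
  rcases cut' h hff (fun P hP => (hV P hP).1) with ⟨P, hP⟩ | hG | ⟨P, F, hw, hc⟩ | ⟨w, hn, R, hR, he⟩ | ⟨P, hP⟩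
  · exact hE.known (redAll_caseL hE.red) h1 h1' h3 h4 hK (H := CaseLP) hP hP.hypF (hP.ff P hP.pss)
  · exact h5 G hK S _ hG
  · by_cases hr : ∀ R F' : Subgroup G, WSt S R F' → zc (S : Subgroup G) ⊓ centralizer (R : Set G) ≠ ⊥
    · exact GamRU.gamRad K G hK S P F hw hr
    · push Not at hr
      obtain ⟨P', F', hw', hz⟩ := hr
      rcases GamRU.gamUniq K G hK S P' F' hw' hz with ⟨hfP, hall⟩ | hk
      · obtain ⟨he, hR⟩ := five_data hw' hfP hall hc
        exact SFive.gamFive K G hK S P' F' hw' hz hfP hall he hR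
      · exact hk
  · exact (NO3b.CTwoFF.ctwo w hn hR he).elim
  · exact h6 G hK S P hP

end Cfsg.Agent.Omega.NO3S

end

-- merged: Cfsg.Agent.Mrg.Omega.Node.NO3SOpen
section

/-!
# The leaf NO-3S: the inputs which are still open, with levels

`OpenL K` = what is missing of `InL K` (`Node/NO3SLevel.lean`); `OpenL.toInL`, `OpenL.node : Landed → OpenL K →
NodeNO3S K`, `OpenL.toIn : Landed → OpenL K → In K` (the old structure; every field of it follows); `Landed` =
Bender and S1144 (`Node/NO3SPlug.lean`: theorems with a large import closure).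
Plugged: the FF theorem, TITS-ISO, `UniqQ` (helper109, 44), `FitP` (helper311, 568, 539, 885, ...), `CompP` (helper391
and others), THEOREM B (helper365), `RedL` (helper163, 240, 417, 973, 749, 427), `TwoMidF` (helper598 and others),
`TwoFarF` (helper292, 855, 460, 543 and others), `FarBF` (helper238, 404, 241, 961, 533, 49, 244 and others), `MidBF`
(helper475, 426, 491, 831, 756, 42, 588, 864, 129, 49, 317 and others), (ML) (helper484, 721 and others), `SymTwoL` from the light case (helper237),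
`OneB` (`OneSzBF`: helper846, 859, 46, 246, 482, 982, 248, 418 and others), `WF` (helper973, 471, 298, 391, 426, 543,
649, 983 and others), (F1), (Om) for the symmetric types (helper394, 590 and others), `NotFFG`, `GamG`, `GamRad`, `GamUniq`, `GamFive`,
the symmetric types but the light one (helper164, 787, 487, 647, 313 and others), (Om) for natural modules, (E) for
`q = 2`, UNI+ (helper186, 584, 109, 646, 314, 236, 668, 607, 543, 472, 12, 548 and others), QW, LAMBDA.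
-/

set_option autoImplicit false

namespace Cfsg.Agent.Omega.NO3S

open Subgroup Cfsg Cfsg.Agent.ZN Cfsg.Agent.Omega.MinPar Cfsg.Agent.Omega.Frame Cfsg.Agent.Omega.FrameNOFF

universe u

/-- `SymTwoL`, the light case: no Sylow 2-subgroup centralises `nn p`. Paper: helper215 #14965, 237 #16855, 872
#16764, 755 #16817. -/
def LightL (K : Cls.{u}) : Prop :=
  ∀ (G : Type u) [Group G] [Finite G], K G → ∀ (S : Sylow 2 G) (P : Subgroup G), HypL S P →
    ∀ p : Fin 5 → G, Sym.Light.FiveL S P p → IsKnownSimple' G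

/-- The open inputs of the leaf, with levels. -/
structure OpenL (K : Cls.{u}) : Prop where
  /-- case (L), natural, `q ≥ 4`: THEOREM L(q) -/
  offN : EK3.QL.OffNK K
  /-- case (L), `S₅`, light vectors not 2-central: a weird `Y` of the infinite stage -/
  torS : Node.NoWFivePlug.TorSOf K
  /-- case (L), `S₅`: the facts at `Y` -/
  y5 : Node.NoWFivePlug.Y5Of.{u}

variable {K : Cls.{u}}

theorem eLight_of (h : LightL K) : Node.SymOf.ELight K := fun G _ _ hK S P _ _ _ _ _ _ _ _ hM _ p hp =>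
  h G hK S P hM.hyp p hp

/-- `NO3S.Landed` from the landed inputs of the tree (`Omega/Landed.lean`). -/
theorem landed_of (L : Cfsg.Agent.Omega.Landed.Landed.{u}) : Landed.{u} :=
  ⟨L.benderAll, L.lib.s1144, L.lib.s1762, L.mlk, L.crit, L.lib.bender, L.noInp, L.rows, L.ext⟩

theorem fullTwo_of (h1 : TwoOne.FOneP K) (h2 : WTwo K) : FullTwo K := by
  intro G _ _ hK S P h hc n y hn hy
  obtain ⟨z, hz1⟩ := Subgroup.ne_bot_iff_exists_ne_one.1
    (MinSimple.Basic.zc_ne_bot S.isPGroup' (h.ctx.sylow_ne_bot S))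
  have hz1' : (z : G) ≠ 1 := fun e => hz1 (Subtype.ext e)
  rcases h1 G hK S P h hc z z.2 hz1' with h3 | h3
  · exact h2 G hK S P h hc z z.2 hz1' h3 n y hn hy
  · exact Or.inr h3

/-- **The pieces behind (F1)** (844 / 995 red, 441 / 484 rows, 993 / 721 / 72 Lie(2), 325, 848 and others). -/
theorem endPieces (L : Landed.{u}) : ML.Ex.EndPieces.{u, u, u} where
  red := ML.Ex.psRed L.mlk
  exit := fun _ _ _ _ _ _ _ _ _ _ hI hS => L.rows.exit hI hS
  lie2 := ML.Ex.Lie2.lie2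
  u33 := ML.Ex.u33W
  a6 := ML.Ex.a6W

/-- **(F1)**, `q = 2` (425, 396, 854, 728, 451, 721 and others). -/
theorem fOneP (L : Landed.{u}) : TwoOne.FOneP K := FOne.ThmR.fOneP L.mlk (endPieces L) K

/-- **(F1)**, `q ≥ 4` (241, 69, 232, 142 and others). -/
theorem fOneB (L : Landed.{u}) : FOneB K := FOne.QR.fOneB L.mlk (endPieces L)

/-- The world `W0` (`|V_P| = 4`) is void (helper56 #21024; 467, 124, 251, 180, 937, 292, 865, 692). -/
theorem fullTwo (L : Landed.{u}) : FullTwo K := fullTwo_of (fOneP L) (WZero.wTwo L.mlk)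

theorem twoFar_closed (L : Landed.{u}) : TwoFar K := twoFar_of (fullTwo L) (TwoFar.twoFarF L.mlk)

theorem twoMid_closed (L : Landed.{u}) : TwoMid K := twoMid_of (fullTwo L) (TwoMid.twoMidF L.mlk)

/-- **`CompP` is closed** (helper391, 204, 409, 881, 225, 311, 885, 396, 568, 867, 246, 982, 180, 918, 46). -/
theorem compP_closed (L : Landed.{u}) : TwoOne.CompP K := TwoOne.compP' L.s1762

/-- **The exit `Two`** is closed. -/
theorem two_closed (L : Landed.{u}) : Two K :=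
  NO3S.two (twoFar_closed L) (twoMid_closed L)
    (twoOne (TwoOne.twoOneFin (fOneP L) (Fit.fitP K) (compP_closed L)) titsIso)

theorem oneB_closed (L : Landed.{u}) : OneB K :=
  NO3S.oneB L.bender L.s1144 (oneSzB_of (fOneB L) (oneSzBF L.crit L.benderS))

/-- **`NotFFG` is closed** (NO-3S and NO-3L; helper506, 957, 255, 823, 96, 235, 811, 442 and others). -/
theorem notFFG_closed (L : Landed.{u}) : NOThreeL.Merge.NotFFG K :=
  NO3b.ExEnd.notFFG_of_absP L.mlk (NO3b.EndX.absP_all L.mlk L.rows) NO3b.BasePt.basePoint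

/-- **(S4) is closed** (helper826, 759, 449, 459 and others). -/
theorem gamG_closed (L : Landed.{u}) : GamG K := fun _ _ _ _ _ _ h => by
  obtain ⟨_, _, _, _, hb⟩ := h.exists_baseFlag
  exact (NO3b.ExEnd.baseFlag_false h.ctx L.mlk (NO3b.EndX.absP_all L.mlk L.rows) hb).elim

/-- **(E) for `S₅`, light vectors not 2-central** (helper693, 736, 411, 237, 904, 286, 337, 433, 586, 604, 457 and
others). -/
theorem eLight (L : Landed.{u}) : Node.SymOf.ELight K := LFive.eLight_of (LFive.falseLF L.mlk L.ext)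

theorem noWX : EThree.Row7X.NoWX K := fun G _ _ hK S P B ZJ L W Z C A q hq hM _ _ =>
  Node.CaseLPX.noWQ K G hK S P B ZJ 2 L W Z C A q le_rfl hq hM 1

/-- **No weird `Y ≤ C_G(Z_l : l ≠ j)`**, natural, `q = 2` (helper388, 186, 808, 366, 605, 459, 425, 602, 619, 922, 474,
839, 150, 613, 822, 312 and others). -/
theorem noW : Node.MulXTwo.NoW K :=
  WY.Sel.noW_of WY.FinOf.finP (WY.InfOf.infP_of CaseLQ.TorFin.torOf (WY.InfOf.torEnd K))

/-- The case (L) of GammaFF. -/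
theorem OpenL.caseOp (L : Landed.{u}) (I : OpenL K) : Node.CaseLPOpen.CaseOp K where
  noW := noW
  lamQ := CaseLW.LamQ.lamHQ K
  eTwoQ := EThree.Row7J.eX L.mlk L.ext (EK3.QL.tiX L.mlk L.ext I.offN) noWX
  eManyQ := Node.CaseLPX.eManyQ_of L.mlk L.ext (EK3.QL.tiWX L.mlk L.ext I.offN)
  light := LFive.elx_of (LFive.falseLF L.mlk L.ext)
    (Node.NoWFivePlug.noWFive (Node.NoWFiveFin.finF K) I.torS I.y5)

theorem OpenL.toInL (L : Landed.{u}) (I : OpenL K) : InL K where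
  two := two_closed L
  redL := Fld.redL_all K
  fullB := fullB_of (fOneB L) (FullQ.wB L.mlk)
  farBF := FarQ.Free.farBF L.mlk
  midBF := MidB.midBF' L.mlk
  oneB := oneB_closed L
  multiTwoL := Node.MultiPlug.two_of L.mlk L.noInp TC.UniLev.uniLev OM.Lev.Low.TorusK.Done.uniLevK (EK3.eEndK_of L.mlk L.noInp K)
  multiQL := Node.MultiPlug.q_of (EThree.Row7.row7 L.mlk L.ext) (EK3.Q.Tree.eOf L.mlk L.ext K)
  symTwoL := Node.SymOf.symTwoL_of_light (two_closed L) Node.OmLevZ.omS_two (eLight L)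
  symBigL := EDel.PlugL.symBigL L.mlk
  symManyL := EDel.PlugL.symManyL L.mlk
  notFFG := notFFG_closed L
  gammaFF := gammaFF_of_caseL (((I.caseOp L).caseIn L.mlk L.noInp).ends (two_closed L) (FullQ.wF L.mlk)) (fOneB L) (oneB_closed L)
    (MidB.midBF' L.mlk) (FarQ.Free.farBF L.mlk) (notFFG_closed L) (gamG_closed L)

/-- **The leaf NO-3S from its open inputs.** -/
theorem OpenL.node (L : Landed.{u}) (I : OpenL K) : NodeNO3S K := (I.toInL L).node

/-- The old structure. -/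
theorem OpenL.toIn (L : Landed.{u}) (I : OpenL K) : In K where
  ff := FF.Glob.ffthm
  twoFar := twoFar_closed L
  twoMid := twoMid_closed L
  twoOneFin := TwoOne.twoOneFin (fOneP L) (Fit.fitP K) (compP_closed L)
  titsIso := titsIso
  fld := fun _ _ _ hK _ _ h _ _ _ _ _ _ _ => (I.toInL L).known_of_hypJ hK h
  uniqQ := uniqQ
  farQ := fun _ _ _ hK _ _ h _ _ _ _ _ _ _ _ _ _ _ _ => (I.toInL L).known_of_hypJ hK h
  midQ := fun _ _ _ hK _ _ h _ _ _ _ _ _ _ _ _ _ => (I.toInL L).known_of_hypJ hK h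
  oneQ := fun _ _ _ hK _ _ h _ _ _ _ _ _ _ _ _ _ => (I.toInL L).known_of_hypJ hK h
  multiTwo := fun _ _ _ hK _ _ h _ _ _ _ _ _ _ _ => (I.toInL L).known_of_hypJ hK h
  multiQ := fun _ _ _ hK _ _ h _ _ _ _ _ _ _ _ => (I.toInL L).known_of_hypJ hK h
  symTwo := fun _ _ _ hK _ _ h _ => (I.toInL L).known_of_hypJ hK h
  symBig := fun _ _ _ hK _ _ h _ _ _ => (I.toInL L).known_of_hypJ hK h
  symMany := fun _ _ _ hK _ _ h _ _ _ _ _ => (I.toInL L).known_of_hypJ hK h
  notFF := NOThreeL.Merge.notFF_of (notFFG_closed L)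
  ffJ := fun _ _ _ hK S _ h _ _ _ => (I.toInL L).jc _ hK S h

end Cfsg.Agent.Omega.NO3S

end
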