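import Cfsg.Agent.Mrg.Omega.Lie.FixB
import Cfsg.Agent.Mrg.Omega.Lie.QMod
import Cfsg.Agent.Mrg.Omega.BTwo.CoordNat
import Cfsg.Agent.Mrg.Omega.Lie.TwoMain
import Cfsg.Agent.Mrg.Omega.Lie.KRowsPlug
import Cfsg.Agent.Mrg.Omega.Lie.End.KSys
import Cfsg.Agent.Mrg.Omega.Lie.End.OfLay
import Cfsg.Agent.Mrg.Omega.Lie.LemmaTComp
import Cfsg.Agent.Mrg.Omega.Lie.End.KLTwo
import Cfsg.Agent.Mrg.Omega.IIa4.Lay

-- merged: Cfsg.Agent.Mrg.Omega.Lie.Fix
section

/-!
# THEOREM FIX (#15651), final forms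

`b : BTC V R`, `c : Coord V R i j ..`, `τ : TorD ..`, `4 ≤ |F|`, `C(W i) ≤ R i` (rad = 0), `A ≠ 1`;
`NE V R i` (Lie/SE.lean) `=` the image of `N(V)` in `H = N(R i) / O₂(N(R i))` `=` the stabiliser of `e` (`mem_NE`).

* `norm_of` (`G`-form of the abstract theorem): `t(a) ∈ Γ ≤ N(R i)`, `[V ^ g, U j] ≤ R i` for `g ∈ Γ`, and some
  `Q ≤ Γ ⊓ N(V)` has odd index in `Γ`; then `Γ ≤ N(V)`;
* `gam`, `gam_orb` : `T ≤ Gam ≤ H`, `A` centralises `γ e` (`γ ∈ Gam`), and a subgroup of odd index of `Gam` is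
  contained in `NE` / the orbit of `e` is odd; then `Gam ≤ NE`;
* `norm_le` : `A ≤ N ≤ H⁰`, `N ⊴ H`: `N_H(S ⊓ N) ≤ NE`;
* **`mul`** : `H = N NE`; `mulG` : `N(R i) = N (N(R i) ⊓ N(V))` for `U j ≤ N ≤ C(R i)`, `N ⊴ N(R i)`;
* `span`, `spanG` : `M = ⟨e ^ N⟩`, `W i = ⟨V ^ N⟩`.
-/

set_option autoImplicit false
set_option linter.unusedSectionVars false

namespace Cfsg.Agent.Omega.Lie.Fix

open Subgroup Cfsg.Agent.Omega.BTwo Cfsg.Agent.Lib.SL2Mat Cfsg.Agent.Omega.Lie.Quot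
open Cfsg.Agent.Omega.Lie.SE (NE cl)
open scoped Pointwise

universe u v w

variable {G : Type u} [Group G] {ι : Type w} {V : Subgroup G} {R : ι → Subgroup G} {i j : ι}

/-- an element acting trivially on `M` normalises `V` -/
theorem Q_le_NV [Finite G] (b : BT V R) (i : ι) : QQ (R i) ≤ normalizer (V : Set G) := by
  obtain ⟨M, B, _, _, _, _, p, r, f, m⟩ := b.exists_mod i
  have hVW := V_le_WW V (R i)
  intro g hg
  obtain ⟨n, hn, rfl⟩ := hg
  refine mem_normalizer_of_conj fun x hx => ?_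
  have h1 : n • p x ∈ m.sb V := by
    rw [m.Q_act b ⟨n, hn, rfl⟩]
    exact m.p_mem (hVW hx) hx
  rw [m.p_act n x (hVW hx)] at h1
  exact (m.p_mem_iff (conj_mem_of_normalizer (normalizer_le_WW V (R i) n.2) (hVW hx)) (b.R_le i)).1 h1

theorem pr_mem_NE [Finite G] (b : BT V R) {g : G} (hg : g ∈ normalizer (R i : Set G)) :
    pr (R i) ⟨g, hg⟩ ∈ NE V R i ↔ g ∈ normalizer (V : Set G) := pr_mem_im_iff (Q_le_NV b i) hg

/-- `NE` is the stabiliser of `e` -/
theorem mem_NE [Finite G] (b : BT V R) {M B : Type u} [AddCommGroup M] [AddCommGroup B]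
    [DistribMulAction (NR R i) M] [DistribMulAction (NR R i) B] [DistribMulAction (HQ (R i)) M]
    {p : G → M} {r : G → B} {f : M →+ M →+ B} (m : ModQ V R i M B p r f)
    {h : HQ (R i)} : h ∈ NE V R i ↔ ∀ x ∈ m.sb V, h • x ∈ m.sb V := by
  obtain ⟨n, hn, rfl⟩ := exists_pr h
  have hVW := V_le_WW V (R i)
  rw [pr_mem_NE b]
  constructor
  · rintro hnV _ ⟨x, hx, hxW, rfl⟩
    rw [m.pr_smul, m.p_act ⟨n, hn⟩ x hxW]
    exact m.p_mem (conj_mem_of_normalizer (normalizer_le_WW V (R i) hn) hxW) (conj_mem_of_normalizer hnV hx)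
  · intro hh
    refine mem_normalizer_of_conj fun v hv => ?_
    have h1 := hh (p v) (m.p_mem (hVW hv) hv)
    rw [m.pr_smul, m.p_act ⟨n, hn⟩ v (hVW hv)] at h1
    exact (m.p_mem_iff (conj_mem_of_normalizer (normalizer_le_WW V (R i) hn) (hVW hv)) (b.R_le i)).1 h1

theorem mem_NE_iff_le [Finite G] (b : BT V R) {M B : Type u} [AddCommGroup M] [AddCommGroup B]
    [DistribMulAction (NR R i) M] [DistribMulAction (NR R i) B] [DistribMulAction (HQ (R i)) M]
    {p : G → M} {r : G → B} {f : M →+ M →+ B} (m : ModQ V R i M B p r f)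
    {h : HQ (R i)} : h ∈ NE V R i ↔ h • m.sb V ≤ m.sb V := by
  rw [mem_NE b m]
  constructor
  · rintro h1 _ ⟨y, hy, rfl⟩
    exact h1 y hy
  · exact fun h1 x hx => h1 (AddSubgroup.smul_mem_pointwise_smul x h _ hx)

variable {F : Type v} [Field F] {v : F → F → G} {w1 w2 t : F → G}
variable [Finite G] [Finite F] [CharP F 2]

/-- **THEOREM FIX**, abstract theorem in `G` -/
theorem norm_of (b : BTC V R) (c : Coord V R i j v w1 w2) (τ : TorD V R i j v t) (hq : 4 ≤ Nat.card F)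
    (hC : centralizer (WW V (R i) : Set G) ≤ R i) (hA : ∃ u ∈ UU V R j, u ∉ DD V R)
    {Γ Q : Subgroup G} (hΓ : Γ ≤ normalizer (R i : Set G)) (hT : ∀ a : F, a ≠ 0 → t a ∈ Γ)
    (hfix : ∀ g ∈ Γ, ∀ u ∈ UU V R j, ∀ x ∈ V, u * (g * x * g⁻¹) * u⁻¹ * (g * x * g⁻¹)⁻¹ ∈ R i)
    (hQΓ : Q ≤ Γ) (hQ : Q ≤ normalizer (V : Set G)) (hodd : Odd (Q.relIndex Γ)) :
    Γ ≤ normalizer (V : Set G) := by
  obtain ⟨M, B, _, _, _, _, _, p, r, f, φ, s, h⟩ := b.exists_fMod c (LemN.exists_ne hq) hC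
  have hVW := V_le_WW V (R i)
  have hcW : ∀ {g x : G}, g ∈ normalizer (R i : Set G) → x ∈ WW V (R i) → g * x * g⁻¹ ∈ WW V (R i) :=
    fun hg hx => conj_mem_of_normalizer (normalizer_le_WW V (R i) hg) hx
  have hv : v 0 1 ∈ V := c.v_mem 0 1
  intro g hg
  have key := main' (h := h) (τ := τ) (Γ := Γ.subgroupOf (normalizer (R i : Set G)))
    (fun a => mem_subgroupOf.2 (hT a a.ne_zero))
    (fun u hu k hk => ?_) hq hA (Q := Q.subgroupOf (normalizer (R i : Set G)))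
    (fun x hx => hQΓ hx) (fun x hx => ?_) ?_ (g := ⟨g, hΓ hg⟩) (mem_subgroupOf.2 hg)
  · obtain ⟨c', hc'⟩ := key
    exact norm_V h hc'
  · rw [h.fr.p_act k _ (hVW hv), h.fr.p_act u _ (hcW k.2 (hVW hv)),
      h.fr.p_eq_iff (hcW u.2 (hcW k.2 (hVW hv))) (hcW k.2 (hVW hv))]
    exact hfix k (mem_subgroupOf.1 hk) u hu _ hv
  · have h1 : x • p (v 0 1) ∈ h.fr.sb V := by
      rw [h.fr.p_act x _ (hVW hv)]
      exact h.fr.p_mem (hcW x.2 (hVW hv)) (conj_mem_of_normalizer (hQ (mem_subgroupOf.1 hx)) hv)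
    obtain ⟨γ, hγ⟩ := h.mem_V.1 h1
    exact ⟨γ, hγ.symm⟩
  · rwa [relIndex_subgroupOf hΓ]

/-- **THEOREM FIX** for `T ≤ Gam ≤ H` -/
theorem gam (b : BTC V R) (c : Coord V R i j v w1 w2) (τ : TorD V R i j v t) (hq : 4 ≤ Nat.card F)
    (hC : centralizer (WW V (R i) : Set G) ≤ R i) (hA : ∃ a ∈ AA V R i j, a ≠ 1)
    {M B : Type u} [AddCommGroup M] [AddCommGroup B]
    [DistribMulAction (NR R i) M] [DistribMulAction (NR R i) B] [DistribMulAction (HQ (R i)) M]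
    {p : G → M} {r : G → B} {f : M →+ M →+ B} (m : ModQ V R i M B p r f)
    {Gam Q : Subgroup (HQ (R i))} (hT : TT τ ≤ Gam)
    (hfix : ∀ g ∈ Gam, ∀ a ∈ AA V R i j, ∀ x ∈ m.sb V, a • g • x = g • x)
    (hQΓ : Q ≤ Gam) (hQ : Q ≤ NE V R i) (hodd : Odd (Q.relIndex Gam)) : Gam ≤ NE V R i := by
  have hbt := b.toBT
  have hN : ∀ {X : Subgroup (HQ (R i))} {g : G} (hg : g ∈ normalizer (R i : Set G)),
      g ∈ (X.comap (pr (R i))).map (normalizer (R i : Set G)).subtype ↔ pr (R i) ⟨g, hg⟩ ∈ X := by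
    intro X g hg
    constructor
    · rintro ⟨x, hx, e⟩
      have : x = ⟨g, hg⟩ := Subtype.ext e
      rwa [← this]
    · exact fun hx => ⟨⟨g, hg⟩, hx, rfl⟩
  have hle : ∀ X : Subgroup (HQ (R i)), (X.comap (pr (R i))).map (normalizer (R i : Set G)).subtype ≤
      normalizer (R i : Set G) := fun X => map_subtype_le _
  have hVW := V_le_WW V (R i)
  have hcW : ∀ {g x : G}, g ∈ normalizer (R i : Set G) → x ∈ WW V (R i) → g * x * g⁻¹ ∈ WW V (R i) :=
    fun hg hx => conj_mem_of_normalizer (normalizer_le_WW V (R i) hg) hx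
  have hA' : ∃ u ∈ UU V R j, u ∉ DD V R := by
    obtain ⟨a, ha, ha1⟩ := hA
    obtain ⟨u, hu, rfl⟩ := QMod.exists_U hbt ha
    exact ⟨u, hu, QMod.notMem_D hbt c.ne hu ha1⟩
  have key := norm_of b c τ hq hC hA' (Γ := (Gam.comap (pr (R i))).map (normalizer (R i : Set G)).subtype)
    (Q := (Q.comap (pr (R i))).map (normalizer (R i : Set G)).subtype) (hle _)
    (fun a ha => (hN (τ.normR ha)).2 (hT ((mem_TT τ).2 ⟨a, ha, rfl⟩)))
    (fun g hg u hu x hx => ?_) (map_mono (comap_mono hQΓ)) (fun g hg => ?_) ?_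
  · intro y hy
    obtain ⟨g, hg, rfl⟩ := exists_pr y
    exact (pr_mem_NE hbt hg).2 (key ((hN hg).2 hy))
  · have hgN := hle _ hg
    have huN : u ∈ normalizer (R i : Set G) := U_le_N hbt i j hu
    have h1 := hfix _ ((hN hgN).1 hg) _ ((mem_AA hbt).2 ⟨u, hu, rfl⟩) (p x) (m.p_mem (hVW hx) hx)
    rw [m.pr_smul, m.pr_smul, m.p_act ⟨g, hgN⟩ x (hVW hx), m.p_act _ _ (hcW hgN (hVW hx)),
      m.p_eq_iff (hcW huN (hcW hgN (hVW hx))) (hcW hgN (hVW hx))] at h1
    exact h1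
  · have hgN := hle _ hg
    exact (pr_mem_NE hbt hgN).1 (hQ ((hN hgN).1 hg))
  · rw [relIndex_map_map_of_injective _ _ (normalizer (R i : Set G)).subtype_injective,
      relIndex_comap, map_comap_eq_self_of_surjective (pr_surjective _)]
    exact hodd

/-- **THEOREM FIX** for `T ≤ Gam ≤ H`, the orbit of `e` is odd -/
theorem gam_orb (b : BTC V R) (c : Coord V R i j v w1 w2) (τ : TorD V R i j v t) (hq : 4 ≤ Nat.card F)
    (hC : centralizer (WW V (R i) : Set G) ≤ R i) (hA : ∃ a ∈ AA V R i j, a ≠ 1)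
    {M B : Type u} [AddCommGroup M] [AddCommGroup B]
    [DistribMulAction (NR R i) M] [DistribMulAction (NR R i) B] [DistribMulAction (HQ (R i)) M]
    {p : G → M} {r : G → B} {f : M →+ M →+ B} (m : ModQ V R i M B p r f)
    {Gam : Subgroup (HQ (R i))} (hT : TT τ ≤ Gam)
    (hfix : ∀ g ∈ Gam, ∀ a ∈ AA V R i j, ∀ x ∈ m.sb V, a • g • x = g • x)
    (hodd : Odd (Nat.card {e' : AddSubgroup M | ∃ g ∈ Gam, g • m.sb V = e'})) :
    ∀ g ∈ Gam, g • m.sb V ≤ m.sb V := by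
  have hbt := b.toBT
  have e : Set.range (fun g : Gam => (g : HQ (R i)) • m.sb V) = {e' : AddSubgroup M | ∃ g ∈ Gam, g • m.sb V = e'} := by
    ext x
    constructor
    · rintro ⟨g, rfl⟩
      exact ⟨g, g.2, rfl⟩
    · rintro ⟨g, hg, rfl⟩
      exact ⟨⟨g, hg⟩, rfl⟩
  have h1 : (NE V R i ⊓ Gam).relIndex Gam =
      Nat.card {e' : AddSubgroup M | ∃ g ∈ Gam, g • m.sb V = e'} := by
    have h2 := MulAction.index_stabilizer (G := Gam) (x := m.sb V)
    have h3 : MulAction.orbit Gam (m.sb V) = {e' : AddSubgroup M | ∃ g ∈ Gam, g • m.sb V = e'} := by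
      rw [← e]; rfl
    rw [h3] at h2
    rw [Nat.card_coe_set_eq, ← h2, inf_relIndex_right]
    unfold relIndex
    congr 1
    ext g
    rw [mem_subgroupOf, MulAction.mem_stabilizer_iff]
    exact ⟨fun hg => SE.NE_smul m hg, fun hg => (mem_NE_iff_le hbt m).2 (le_of_eq hg)⟩
  have key := gam b c τ hq hC hA m (Q := NE V R i ⊓ Gam) hT hfix inf_le_right inf_le_left (by rw [h1]; exact hodd)
  exact fun g hg => (mem_NE_iff_le hbt m).1 (key hg)

section N

variable (b : BTC V R) (c : Coord V R i j v w1 w2) (τ : TorD V R i j v t) (hq : 4 ≤ Nat.card F)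
  (hC : centralizer (WW V (R i) : Set G) ≤ R i) (hA : ∃ a ∈ AA V R i j, a ≠ 1)
  (S₁ : Sylow 2 G) (hV : (S₁ : Subgroup G) ≤ normalizer (V : Set G))
  (hR : (S₁ : Subgroup G) ≤ normalizer (R i : Set G))
  {N : Subgroup (HQ (R i))} (hN : N.Normal) (hAN : AA V R i j ≤ N)
include b c τ hq hC hA hV hR hN hAN

/-- **THEOREM FIX** for `Γ = N_H(S ⊓ N)` -/
theorem norm_le : normalizer ((SS R i S₁ ⊓ N : Subgroup (HQ (R i))) : Set (HQ (R i))) ≤ NE V R i := by
  have hbt := b.toBT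
  have C := CrdOf.crd c
  obtain ⟨M, B, _, _, _, _, _, _, p, r, f, m'⟩ := QMod.exists_q hbt i
  have m : ModQ V R i M B p r f := ⟨m'.toModFr, m'.smul_M⟩
  obtain ⟨P, hP⟩ := exists_sylow S₁ hR
  have hPS : (P : Subgroup (HQ (R i))) ⊓ H0 R i = SS R i S₁ := by
    rw [hP]
    exact (im_inf (QQ_le_sylow S₁ hR) (Q_le_C hbt i)).symm
  have hH0 : (H0 R i).Normal := QMod.H0_normal m' hbt
  have hPn : (P : Subgroup (HQ (R i))) ≤
      normalizer ((SS R i S₁ ⊓ N : Subgroup (HQ (R i))) : Set (HQ (R i))) := by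
    intro x hx
    refine mem_normalizer_of_conj fun y hy => ?_
    obtain ⟨h1, h2⟩ := mem_inf.1 hy
    rw [← hPS] at h1 ⊢
    exact mem_inf.2 ⟨mem_inf.2 ⟨mul_mem (mul_mem hx (mem_inf.1 h1).1) (inv_mem hx),
      hH0.conj_mem _ (mem_inf.1 h1).2 x⟩, hN.conj_mem _ h2 x⟩
  have hTn : TT τ ≤ normalizer ((SS R i S₁ ⊓ N : Subgroup (HQ (R i))) : Set (HQ (R i))) := by
    intro x hx
    refine mem_normalizer_of_conj fun y hy => ?_
    obtain ⟨h1, h2⟩ := mem_inf.1 hy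
    exact mem_inf.2 ⟨TS_mem hbt τ C S₁ hV hR hx h1, hN.conj_mem _ h2 x⟩
  refine gam b c τ hq hC hA m (Q := (P : Subgroup (HQ (R i)))) hTn (fun g hg a ha x hx => ?_) hPn ?_ ?_
  · have h1 : g⁻¹ * a * g ∈ SS R i S₁ ⊓ N := by
      have h2 := conj_mem_of_normalizer (inv_mem hg) (mem_inf.2 ⟨A_le_S hbt S₁ i j hV ha, hAN ha⟩)
      rwa [inv_inv] at h2
    have h2 := SE.fix_SS hbt m C S₁ hV hR (mem_inf.1 h1).1 hx
    calc a • g • x = g • (g⁻¹ * a * g) • x := by rw [← mul_smul, ← mul_smul]; congr 1; group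
      _ = g • x := by rw [h2]
  · rw [hP]; exact im_mono hV
  · have hfact : Fact (Nat.Prime 2) := ⟨Nat.prime_two⟩
    have h1 : Odd (P : Subgroup (HQ (R i))).index := by
      rw [← Nat.not_even_iff_odd, even_iff_two_dvd]
      exact P.not_dvd_index
    exact h1.of_dvd_nat (relIndex_dvd_index_of_le hPn)

variable (hN0 : N ≤ H0 R i)
include hN0

/-- **(L8)** : `H = N N_H(e)` -/
theorem mul (h : HQ (R i)) : ∃ n ∈ N, ∃ k ∈ NE V R i, h = n * k := by
  have hbt := b.toBT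
  obtain ⟨P, hP⟩ := exists_P hbt S₁ hR
  have h1 := ThmD.frattini P N
  have h2 : (P : Subgroup (HQ (R i))) ⊓ N = SS R i S₁ ⊓ N := by
    rw [← hP, inf_assoc, inf_eq_right.2 hN0]
  rw [h2] at h1
  have h3 : h ∈ normalizer ((SS R i S₁ ⊓ N : Subgroup (HQ (R i))) : Set (HQ (R i))) ⊔ N := by
    rw [h1]; exact mem_top _
  rw [sup_comm, mem_sup_of_normal_left] at h3
  obtain ⟨n, hn, k, hk, rfl⟩ := h3
  exact ⟨n, hn, k, norm_le b c τ hq hC hA S₁ hV hR hN hAN hk, rfl⟩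

/-- **(L9)** : `M = ⟨e ^ N⟩` -/
theorem span {M B : Type u} [AddCommGroup M] [AddCommGroup B]
    [DistribMulAction (NR R i) M] [DistribMulAction (NR R i) B] [DistribMulAction (HQ (R i)) M]
    {p : G → M} {r : G → B} {f : M →+ M →+ B} (m : ModQ V R i M B p r f) : cl N (m.sb V) = ⊤ := by
  refine m.toModFr.gen (fun x a ha => ?_) (SE.le_cl _ _)
  rw [← m.pr_smul]
  obtain ⟨n, hn, k, hk, e⟩ := mul b c τ hq hC hA S₁ hV hR hN hAN hN0 (pr (R i) x)
  have h1 : pr (R i) x • cl N (m.sb V) ≤ cl N (m.sb V) := by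
    refine SE.smul_cl_le fun g hg => ?_
    have e2 : pr (R i) x * g = (n * (k * g * k⁻¹)) * k := by rw [e]; group
    rw [← mul_smul, e2, mul_smul, SE.NE_smul m hk]
    exact SE.smul_le_cl (mul_mem hn (hN.conj_mem _ hg k))
  exact h1 (AddSubgroup.smul_mem_pointwise_smul a _ _ ha)

end N

section G

variable (b : BTC V R) (c : Coord V R i j v w1 w2) (τ : TorD V R i j v t) (hq : 4 ≤ Nat.card F)
  (hC : centralizer (WW V (R i) : Set G) ≤ R i) (hA : ∃ u ∈ UU V R j, u ∉ DD V R)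
  (S₁ : Sylow 2 G) (hV : (S₁ : Subgroup G) ≤ normalizer (V : Set G))
  (hR : (S₁ : Subgroup G) ≤ normalizer (R i : Set G))
  {N : Subgroup G} (hN : normalizer (R i : Set G) ≤ normalizer (N : Set G)) (hU : UU V R j ≤ N)
  (hN0 : N ≤ centralizer (R i : Set G))
include b c τ hq hC hA hV hR hN hU hN0

/-- **(L8)** in `G` : `N(R i) = N (N(R i) ⊓ N(V))` -/
theorem mulG {g : G} (hg : g ∈ normalizer (R i : Set G)) :
    ∃ n ∈ N, ∃ k ∈ normalizer (R i : Set G) ⊓ normalizer (V : Set G), g = n * k := by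
  have hbt := b.toBT
  have hNN : N ≤ normalizer (R i : Set G) := hN0.trans (centralizer_le_normalizer _)
  have h1 : (im (R i) N).Normal := by
    constructor
    intro x hx y
    obtain ⟨x', hx', hxN, rfl⟩ := mem_im.1 hx
    obtain ⟨y', hy', rfl⟩ := exists_pr y
    exact mem_im.2 ⟨_, mul_mem (mul_mem hy' hx') (inv_mem hy'), conj_mem_of_normalizer (hN hy') hxN, rfl⟩
  have h2 : ∃ a ∈ AA V R i j, a ≠ 1 := by
    obtain ⟨u, hu, hD⟩ := hA
    exact ⟨_, (mem_AA hbt).2 ⟨u, hu, rfl⟩, fun h0 => hD ((U_inf_Q hbt c.ne hu).1 ((pr_eq_one _).1 h0))⟩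
  obtain ⟨n', hn', k', hk', e⟩ := mul b c τ hq hC h2 S₁ hV hR h1 (im_mono hU) (im_mono hN0) (pr (R i) ⟨g, hg⟩)
  obtain ⟨n, hn, hnN, rfl⟩ := mem_im.1 hn'
  refine ⟨n, hnN, n⁻¹ * g, mem_inf.2 ⟨mul_mem (inv_mem hn) hg, ?_⟩, by group⟩
  have h3 : pr (R i) ⟨n⁻¹ * g, mul_mem (inv_mem hn) hg⟩ = k' := by
    have e1 : (⟨n⁻¹ * g, mul_mem (inv_mem hn) hg⟩ : NR R i) = (⟨n, hn⟩ : NR R i)⁻¹ * ⟨g, hg⟩ := rfl
    rw [e1, map_mul, map_inv, e, inv_mul_cancel_left]
  rw [← h3] at hk'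
  exact (pr_mem_NE hbt _).1 hk'

/-- **(L9)** in `G` : `W i = ⟨V ^ N⟩` -/
theorem spanG {X : Subgroup G} (hX : ∀ n ∈ N, ∀ x ∈ V, n * x * n⁻¹ ∈ X) : WW V (R i) ≤ X := by
  unfold WW
  refine iSup_le fun g => ?_
  rintro _ ⟨x, hx, rfl⟩
  obtain ⟨n, hn, k, hk, e⟩ := mulG b c τ hq hC hA S₁ hV hR hN hU hN0 g.2
  change (g : G) * x * (g : G)⁻¹ ∈ X
  have e2 : n * k * x * (n * k)⁻¹ = n * (k * x * k⁻¹) * n⁻¹ := by group
  rw [e, e2]
  exact hX n hn _ (conj_mem_of_normalizer (mem_inf.1 hk).2 hx)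

end G

end Cfsg.Agent.Omega.Lie.Fix

end

-- merged: Cfsg.Agent.Mrg.Omega.Lie.SEOpp
section

section


/-!
# NODE LIE, LEMMA CEN from the field `opp` of the K-side

* `OppM L SL e`: for some `w ∈ L`, every additive subgroup which contains `s w e`, `s ∈ SL`, contains `x e` for all `x ∈ L`;
* `OppM.of_opp`: from `Opp B S P` for a group `K ≤ H`, if `B` stabilises `e` and every panel has `Pan`
  (`Pan.of_fix`, `Pan.of_mov`);
* `OppM.sup`, `OppM.biSup`: products of commuting subgroups;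
* `OppM.le`: `⟨e^L⟩ ≤ w e + [⟨e^L⟩, SL]`;
* `OppM.cen`: `C_M(SL) = e`, if `M = ⟨e^L⟩` and the form is nondegenerate;
* `cenSE_of`: the statement for `M = W i / R i`.
-/

set_option autoImplicit false
set_option linter.unusedSectionVars false

namespace Cfsg.Agent.Omega.Lie.SE

open Subgroup Cfsg.Agent.Omega.BTwo Cfsg.Agent.Omega.Lie.Quot Cfsg.Agent.Omega.Lie.LemN Cfsg.Agent.Omega.Lie.End
open scoped Pointwise

universe u v w

section abs

variable {H : Type v} {M : Type u} [Group H] [AddCommGroup M] [DistribMulAction H M]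

/-- `x e`, `x ∈ L`, is in every subgroup containing the `s w e`, `s ∈ SL` -/
def OppM (L SL : Subgroup H) (e : AddSubgroup M) : Prop :=
  ∃ w ∈ L, ∀ N : AddSubgroup M, (∀ s ∈ SL, (s * w) • e ≤ N) → ∀ x ∈ L, x • e ≤ N

/-- the panel condition: `e` is in the sum of the `y e`, `y ∈ P - B` -/
def Pan {K : Subgroup H} (B P : Subgroup K) (e : AddSubgroup M) : Prop :=
  ∀ N : AddSubgroup M, (∀ y ∈ P, y ∉ B → (y : H) • e ≤ N) → e ≤ N

theorem Pan.of_fix {K : Subgroup H} {B P : Subgroup K} {e : AddSubgroup M} (hne : ∃ y ∈ P, y ∉ B)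
    (h : ∀ y ∈ P, (y : H) • e ≤ e) : Pan B P e := by
  intro N hN
  obtain ⟨y, hy, hyB⟩ := hne
  have h1 := h y⁻¹ (inv_mem hy)
  rw [smul_le_iff] at h1
  have h2 : ((y⁻¹ : K) : H)⁻¹ = (y : H) := by push_cast; rw [inv_inv]
  rw [h2] at h1
  exact h1.trans (hN y hy hyB)

/-- a moved panel: `(1 + a)(1 + b) M ≤ e` for elements `a`, `b` such that `a`, `b`, `a b` move the chamber `n B` -/
theorem Pan.of_mov {K : Subgroup H} {B P : Subgroup K} {e : AddSubgroup M} {a b n : K} (ha : a ∈ P) (hb : b ∈ P)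
    (hn : n ∈ P) (hnB : n ∉ B) (h1 : n⁻¹ * a * n ∉ B) (h2 : n⁻¹ * b * n ∉ B) (h3 : n⁻¹ * (a * b) * n ∉ B)
    (hq : ∀ m : M, m + (a : H) • m + (b : H) • m + ((a : H) * b) • m ∈ e) : Pan B P e := by
  intro N hN v hv
  have key : ∀ y : K, y ∈ P → y ∉ B → (y : H) • v ∈ N := fun y hy hyB =>
    hN y hy hyB (AddSubgroup.smul_mem_pointwise_smul v (y : H) e hv)
  have hc : ∀ x ∈ P, n⁻¹ * x * n ∈ P := fun x hx => mul_mem (mul_mem (inv_mem hn) hx) hn
  have k0 : ((n : H)⁻¹) • ((n : H) • v + (a : H) • (n : H) • v + (b : H) • (n : H) • v +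
      ((a : H) * b) • (n : H) • v) ∈ N := by
    have h4 := hq ((n : H) • v)
    have h5 := hN n⁻¹ (inv_mem hn) (fun h => hnB (by simpa using inv_mem h))
    have h6 := AddSubgroup.smul_mem_pointwise_smul _ ((n⁻¹ : K) : H) e h4
    exact h5 h6
  have k1 := key _ (hc a ha) h1
  have k2 := key _ (hc b hb) h2
  have k3 := key _ (hc _ (mul_mem ha hb)) h3
  have e0 : ((n : H)⁻¹) • ((n : H) • v + (a : H) • (n : H) • v + (b : H) • (n : H) • v +
      ((a : H) * b) • (n : H) • v) = v + ((n⁻¹ * a * n : K) : H) • v + ((n⁻¹ * b * n : K) : H) • v +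
      ((n⁻¹ * (a * b) * n : K) : H) • v := by
    push_cast
    rw [smul_add, smul_add, smul_add, inv_smul_smul, smul_smul, smul_smul, smul_smul, smul_smul, smul_smul,
      smul_smul]
  rw [e0] at k0
  have e1 : v = (v + ((n⁻¹ * a * n : K) : H) • v + ((n⁻¹ * b * n : K) : H) • v +
      ((n⁻¹ * (a * b) * n : K) : H) • v) - ((n⁻¹ * a * n : K) : H) • v - ((n⁻¹ * b * n : K) : H) • v -
      ((n⁻¹ * (a * b) * n : K) : H) • v := by abel
  rw [e1]
  exact sub_mem (sub_mem (sub_mem k0 k1) k2) k3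

/-- from the K-side to the module -/
theorem OppM.of_opp {K : Subgroup H} {J : Type*} {B S : Subgroup K} {P : J → Subgroup K} (h : Opp B S P)
    {e : AddSubgroup M} (hB : ∀ b ∈ B, (b : H) • e ≤ e) (hP : ∀ i, Pan B (P i) e) {SK : Subgroup H}
    (hS : ∀ s ∈ S, (s : H) ∈ SK) : OppM K SK e := by
  obtain ⟨w, hw⟩ := h
  refine ⟨w, w.2, fun N hN x hx => ?_⟩
  refine hw {y : K | (y : H) • e ≤ N} ?_ ?_ ?_ ⟨x, hx⟩
  · intro y hy b hb
    change ((y * b : K) : H) • e ≤ N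
    push_cast
    rw [mul_smul]
    exact (smul_mono (hB b hb)).trans hy
  · intro s hs
    change ((s * w : K) : H) • e ≤ N
    push_cast
    exact hN s (hS s hs)
  · intro y i hy
    change (y : H) • e ≤ N
    rw [smul_le_iff]
    refine hP i _ fun z hz hzB => ?_
    have h1 : ((y * z : K) : H) • e ≤ N := hy z hz hzB
    push_cast at h1
    rw [mul_smul, smul_le_iff] at h1
    exact h1

theorem OppM.bot (SL : Subgroup H) (e : AddSubgroup M) : OppM ⊥ SL e := by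
  refine ⟨1, one_mem _, fun N hN x hx => ?_⟩
  rw [mem_bot] at hx
  rw [hx]
  have := hN 1 (one_mem _)
  rwa [one_mul] at this

theorem OppM.mono {L SL SL' : Subgroup H} {e : AddSubgroup M} (h : OppM L SL e) (hle : SL ≤ SL') : OppM L SL' e := by
  obtain ⟨w, hw, h⟩ := h
  exact ⟨w, hw, fun N hN => h N fun s hs => hN s (hle hs)⟩

/-- commuting products -/
theorem OppM.sup {L K SL SK : Subgroup H} {e : AddSubgroup M} (h : OppM L SL e) (h' : OppM K SK e) (hSL : SL ≤ L)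
    (hSK : SK ≤ K) (hc : ∀ x ∈ L, ∀ y ∈ K, x * y = y * x) : OppM (L ⊔ K) (SL ⊔ SK) e := by
  obtain ⟨w, hw, h⟩ := h
  obtain ⟨w', hw', h'⟩ := h'
  refine ⟨w * w', mul_mem (mem_sup_left hw) (mem_sup_right hw'), fun N hN x hx => ?_⟩
  have hnorm : K ≤ normalizer (L : Set H) := by
    intro y hy
    rw [mem_normalizer_iff]
    intro z
    constructor
    · intro hz
      rw [← hc z hz y hy, mul_inv_cancel_right]
      exact hz
    · intro hz
      have h1 := hc _ hz y hy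
      have h2 : z = y * z * y⁻¹ := by
        have h3 : y * z * y⁻¹ * y = y * (y * z * y⁻¹) := h1
        rw [inv_mul_cancel_right] at h3
        exact mul_left_cancel h3
      rw [h2]
      exact hz
  obtain ⟨l, hl, k, hk, rfl⟩ := mem_sup_of_normal_right' hnorm hx
  -- first `s w` fixed
  have key : ∀ s ∈ SL, ∀ k ∈ K, (s * w * k) • e ≤ N := by
    intro s hs k hk
    rw [mul_smul, smul_le_iff]
    refine h' _ (fun s' hs' => ?_) k hk
    rw [← smul_le_iff, smul_smul]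
    have e1 : s * w * (s' * w') = s * s' * (w * w') := by
      have h1 := hc w hw s' (hSK hs')
      calc s * w * (s' * w') = s * (w * s') * w' := by group
        _ = s * (s' * w) * w' := by rw [h1]
        _ = s * s' * (w * w') := by group
    rw [e1]
    exact hN _ (mul_mem (mem_sup_left hs) (mem_sup_right hs'))
  have h1 : l • e ≤ k⁻¹ • N := by
    refine h _ (fun s hs => ?_) l hl
    rw [← smul_le_iff, smul_smul, ← hc _ (mul_mem (hSL hs) hw) k hk]
    exact key s hs k hk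
  rw [hc l hl k hk, mul_smul, smul_le_iff]
  exact h1
where
  mem_sup_of_normal_right' {L K : Subgroup H} (hnorm : K ≤ normalizer (L : Set H)) {x : H} (hx : x ∈ L ⊔ K) :
      ∃ l ∈ L, ∃ k ∈ K, x = l * k := by
    have h1 : x ∈ ((L ⊔ K : Subgroup H) : Set H) := hx
    rw [Subgroup.coe_mul_of_right_le_normalizer_left L K hnorm, Set.mem_mul] at h1
    obtain ⟨l, hl, k, hk, e⟩ := h1
    exact ⟨l, hl, k, hk, e.symm⟩

theorem OppM.biSup [Finite H] {Λ : Set (Subgroup H)} {S : Subgroup H} {e : AddSubgroup M}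
    (hc : ∀ K ∈ Λ, ∀ L ∈ Λ, K ≠ L → ∀ x ∈ K, ∀ y ∈ L, x * y = y * x) (h : ∀ K ∈ Λ, OppM K (S ⊓ K) e) :
    OppM (⨆ K ∈ Λ, K) (⨆ K ∈ Λ, S ⊓ K) e := by
  classical
  have hfin : Λ.Finite := Set.toFinite Λ
  have key : ∀ F : Finset (Subgroup H), (F : Set (Subgroup H)) ⊆ Λ → OppM (⨆ K ∈ F, K) (⨆ K ∈ F, S ⊓ K) e := by
    intro F
    induction F using Finset.induction_on with
    | empty =>
      intro _
      simpa using OppM.bot ⊥ e
    | insert K F hK ih =>
      intro hF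
      rw [Finset.coe_insert, Set.insert_subset_iff] at hF
      rw [Finset.iSup_insert, Finset.iSup_insert]
      refine OppM.sup (h K hF.1) (ih hF.2) inf_le_right (iSup₂_mono fun _ _ => inf_le_right) ?_
      intro x hx y hy
      have h1 : (⨆ L ∈ F, L) ≤ centralizer (K : Set H) := by
        refine iSup₂_le fun L hL z hz => ?_
        refine mem_centralizer_iff.2 fun k hk => ?_
        have hne : K ≠ L := by
          rintro rfl
          exact hK hL
        exact hc K hF.1 L (hF.2 hL) hne k hk z hz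
      exact mem_centralizer_iff.1 (h1 hy) x hx
  have h1 := key hfin.toFinset (by rw [hfin.coe_toFinset])
  have e1 : ∀ f : Subgroup H → Subgroup H, (⨆ K ∈ hfin.toFinset, f K) = ⨆ K ∈ Λ, f K := by
    intro f
    simp only [Set.Finite.mem_toFinset]
  rwa [e1 (fun K => K), e1 (fun K => S ⊓ K)] at h1

/-- `⟨e^L⟩ ≤ w e + [⟨e^L⟩, SL]` -/
theorem OppM.le {L SL : Subgroup H} {e : AddSubgroup M} (h : OppM L SL e) :
    ∃ w ∈ L, cl L e ≤ w • e ⊔ AddSubgroup.closure {m | ∃ s ∈ SL, ∃ x ∈ cl L e, m = s • x - x} := by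
  obtain ⟨w, hw, h⟩ := h
  refine ⟨w, hw, cl_le fun g hg => h _ (fun s hs => ?_) g hg⟩
  rintro _ ⟨y, hy, rfl⟩
  change (s * w) • y ∈ _
  have h1 : w • y ∈ cl L e := smul_le_cl hw (AddSubgroup.smul_mem_pointwise_smul y w e hy)
  have e1 : (s * w) • y = w • y + (s • w • y - w • y) := by
    rw [mul_smul]; abel
  rw [e1]
  exact add_mem (AddSubgroup.mem_sup_left (AddSubgroup.smul_mem_pointwise_smul y w e hy))
    (AddSubgroup.mem_sup_right (AddSubgroup.subset_closure ⟨s, hs, _, h1, rfl⟩))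

/-- `⟨e^{w⁻¹ SL w}⟩ = M` -/
theorem OppM.top {L SL : Subgroup H} {e : AddSubgroup M} (h : OppM L SL e) (hM : cl L e = ⊤) :
    ∃ w ∈ L, cl (SL.map (MulAut.conj w⁻¹).toMonoidHom) e = ⊤ := by
  obtain ⟨w, hw, h⟩ := h
  refine ⟨w, hw, ?_⟩
  set Sm := SL.map (MulAut.conj w⁻¹).toMonoidHom with hSm
  have h1 : cl L e ≤ w • cl Sm e := by
    refine cl_le fun g hg => h _ (fun s hs => ?_) g hg
    have h2 : w⁻¹ * s * w ∈ Sm := by
      refine ⟨s, hs, ?_⟩
      change w⁻¹ * s * w⁻¹⁻¹ = _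
      rw [inv_inv]
    have e1 : s * w = w * (w⁻¹ * s * w) := by group
    rw [e1, mul_smul]
    exact smul_mono (smul_le_cl h2)
  rw [hM, top_le_iff] at h1
  rw [eq_top_iff]
  intro x _
  have h2 : w • x ∈ w • cl Sm e := by rw [h1]; exact AddSubgroup.mem_top _
  obtain ⟨y, hy, e2⟩ := h2
  have e3 : y = x := by
    have e4 : w • y = w • x := e2
    exact smul_left_cancel w e4
  rwa [← e3]

/-- **LEMMA CEN** -/
theorem OppM.cen [Finite M] {B : Type*} [AddCommGroup B] {f : M →+ M →+ B} {L SL : Subgroup H} {e : AddSubgroup M}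
    (h : OppM L SL e) (hM : cl L e = ⊤) (hSL : SL ≤ L) (hf : ∀ h ∈ L, ∀ x y : M, f (h • x) (h • y) = f x y)
    (hnd : ∀ x, (∀ y, f x y = 0) → x = 0) {U : AddSubgroup M} (hU : ∀ x, x ∈ U ↔ ∀ y ∈ e, f x y = 0)
    (hidx : U.index ≤ Nat.card e) (hS : ∀ h ∈ SL, ∀ y ∈ e, h • y = y) {x : M} (hx : ∀ h ∈ SL, h • x = x) : x ∈ e := by
  obtain ⟨w, hw, hcl⟩ := h.top hM
  have e1 : (SL.map (MulAut.conj w⁻¹).toMonoidHom).map (MulAut.conj w).toMonoidHom = SL := by
    rw [map_map]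
    convert map_id SL
    ext x
    change w * (w⁻¹ * x * w⁻¹⁻¹) * w⁻¹ = x
    group
  refine cen_eq (Sm := SL.map (MulAut.conj w⁻¹).toMonoidHom) (g := w) ?_ hnd hcl hU hidx ?_ ?_
  · rintro _ ⟨s, hs, rfl⟩ x y
    exact hf _ (mul_mem (mul_mem (inv_mem hw) (hSL hs)) (inv_mem (inv_mem hw))) x y
  · rw [e1]; exact hS
  · rw [e1]; exact hx

end abs

/-! ### The real situation -/

section real

variable {G : Type u} [Group G] {ι : Type w} {V : Subgroup G} {R : ι → Subgroup G} {i : ι} {M B : Type u}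
  [AddCommGroup M] [AddCommGroup B] [DistribMulAction (NR R i) M] [DistribMulAction (NR R i) B]
  [DistribMulAction (HQ (R i)) M] {p : G → M} {r : G → B} {f : M →+ M →+ B}

/-- the form is nondegenerate if `C(W i) ≤ R i` -/
theorem nondeg (m : ModQ V R i M B p r f) (b : BT V R) (hC : centralizer (WW V (R i) : Set G) ≤ R i) {x : M}
    (hx : ∀ y, f x y = 0) : x = 0 := by
  obtain ⟨z, hz, rfl⟩ := (m.mem_rad b).1 hx
  have h1 : z ∈ R i := hC (mem_inf.1 hz).2
  exact (m.p_ker _ (b.R_le_W i i h1)).2 h1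

theorem index_le [Finite G] (m : ModQ V R i M B p r f) (b : BT V R) :
    (m.sb (UU V R i)).index ≤ Nat.card (m.sb V) := by
  have := m.finite_M
  have h1 : (m.sb (UU V R i)).index ≤ (UU V R i).relIndex (WW V (R i)) := by
    let g : WW V (R i) ⧸ (UU V R i).subgroupOf (WW V (R i)) → M ⧸ m.sb (UU V R i) :=
      Quotient.lift (fun w : WW V (R i) => (QuotientAddGroup.mk (p w) : M ⧸ m.sb (UU V R i))) (by
        intro w w' h
        have h' := QuotientGroup.leftRel_apply.1 h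
        rw [mem_subgroupOf] at h'
        push_cast at h'
        refine QuotientAddGroup.eq.2 ?_
        rw [← m.p_inv w.2, ← m.p_mul _ (inv_mem w.2) _ w'.2]
        exact m.p_mem (mul_mem (inv_mem w.2) w'.2) h')
    have hg : Function.Surjective g := by
      intro y
      obtain ⟨y, rfl⟩ := QuotientAddGroup.mk_surjective y
      obtain ⟨w, hw, rfl⟩ := m.p_surj y
      exact ⟨QuotientGroup.mk ⟨w, hw⟩, rfl⟩
    exact Nat.card_le_card_of_surjective g hg
  have h2 : (R i).relIndex V ≤ Nat.card (m.sb V) := by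
    have hVW := V_le_WW V (R i)
    let g : V ⧸ (R i).subgroupOf V → m.sb V :=
      Quotient.lift (fun v : V => (⟨p v, m.p_mem (hVW v.2) v.2⟩ : m.sb V)) (by
        intro v v' h
        have h' := QuotientGroup.leftRel_apply.1 h
        rw [mem_subgroupOf] at h'
        push_cast at h'
        apply Subtype.ext
        change p v = p v'
        have h3 : (p ((v : G)⁻¹ * v')) = 0 := (m.p_ker _ (mul_mem (inv_mem (hVW v.2)) (hVW v'.2))).2 h'
        rw [m.p_mul _ (inv_mem (hVW v.2)) _ (hVW v'.2), m.p_inv (hVW v.2), neg_add_eq_zero] at h3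
        exact h3)
    have hg : Function.Injective g := by
      intro x y h
      obtain ⟨x, rfl⟩ := QuotientGroup.mk_surjective x
      obtain ⟨y, rfl⟩ := QuotientGroup.mk_surjective y
      refine QuotientGroup.eq.2 ?_
      rw [mem_subgroupOf]
      have h3 : p x = p y := congrArg Subtype.val h
      have h4 : p ((x : G)⁻¹ * y) = 0 := by
        rw [m.p_mul _ (inv_mem (hVW x.2)) _ (hVW y.2), m.p_inv (hVW x.2), h3, neg_add_cancel]
      push_cast
      exact (m.p_ker _ (mul_mem (inv_mem (hVW x.2)) (hVW y.2))).1 h4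
    exact Nat.card_le_card_of_injective g hg
  rw [b.relIndex_U i] at h1
  rw [b.relIndex_R_V i] at h2
  exact h1.trans h2

/-- **CenSE** from `OppM` for a group `L ≤ H⁰` with `⟨e^L⟩ = M` -/
theorem mem_of_oppM [Finite G] {F : Type v} [Field F] {j : ι} {vv : F → F → G} {w1 w2 : F → G}
    (m : ModQ V R i M B p r f) (b : BT V R) (C : Crd V R i j vv w1 w2)
    (hC : centralizer (WW V (R i) : Set G) ≤ R i) (S₁ : Sylow 2 G)
    (hV : (S₁ : Subgroup G) ≤ normalizer (V : Set G)) (hR : (S₁ : Subgroup G) ≤ normalizer (R i : Set G))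
    {L SL : Subgroup (HQ (R i))} (h : OppM L SL (m.sb V)) (hM : cl L (m.sb V) = ⊤) (hSL : SL ≤ L)
    (hL : L ≤ H0 R i) (hS : SL ≤ SS R i S₁) {x : G} (hx : x ∈ WW V (R i))
    (hfix : ∀ s ∈ (S₁ : Subgroup G), s ∈ centralizer (R i : Set G) → s * x * s⁻¹ * x⁻¹ ∈ R i) : x ∈ V := by
  have := m.finite_M
  have h1 : p x ∈ m.sb V := by
    refine h.cen (f := f) hM hSL (fun g hg => m.f_act b (hL hg)) (fun y => nondeg m b hC)
      (fun y => (m.perp_iff b y).symm) (index_le m b) (fun s hs y hy => fix_SS b m C S₁ hV hR (hS hs) hy) ?_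
    intro s hs
    obtain ⟨g, hg, hgS, rfl⟩ := mem_im.1 (hS hs)
    rw [m.act hg hx, m.p_eq_iff (conj_mem_of_normalizer (normalizer_le_WW V (R i) hg) hx) hx]
    exact hfix g hgS.1 hgS.2
  exact (m.p_mem_iff hx (b.R_le i)).1 h1

end real

end Cfsg.Agent.Omega.Lie.SE

end

section


/-!
# NODE LIE, LEMMA CEN: the panels of a component

* `exists_mov`: a moved node of `KSys`: `a ∈ [S, T]`, `t ∈ T` such that `a`, `t a`, `a (t a)` move a chamber of the panel;
* `Pan.of_moved`: `Pan` for a moved node;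
* `OppM.of_ksys`: `OppM K SK e` from `KSys` and `Opp`, if the Borel subgroup and the unmoved parabolic subgroups stabilise `e`.
-/

set_option autoImplicit false
set_option linter.unusedSectionVars false

namespace Cfsg.Agent.Omega.Lie.SE

open Subgroup Cfsg.Agent.Omega.Lie.End Cfsg.Agent.ParSys
open scoped Pointwise

universe u v

section grp

variable {K : Type*} [Group K] {S : Subgroup K} {T : Subgroup (MulAut K)} {P : Subgroup K}

theorem AT_le (hT : ∀ t ∈ T, ∀ u ∈ S, t u ∈ S) : AT S T ≤ S := by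
  unfold AT
  rw [closure_le]
  rintro _ ⟨t, ht, u, hu, rfl⟩
  exact mul_mem (inv_mem hu) (hT t ht u hu)

theorem mem_B_of_T (hT : ∀ t ∈ T, ∀ u ∈ S, t u ∈ S) {t : MulAut K} (ht : t ∈ T) {b : K}
    (hb : b ∈ normalizer (S : Set K)) : t b ∈ normalizer (S : Set K) := by
  have h1 : ∀ u, u ∈ S ↔ t u ∈ S := fun u => ⟨hT t ht u, fun h => by
    have h2 := hT t⁻¹ (inv_mem ht) _ h
    rwa [MulAut.inv_apply_self] at h2⟩
  rw [mem_normalizer_iff] at hb ⊢
  intro x
  have h2 : x = t (t⁻¹ x) := (MulAut.apply_inv_self K t x).symm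
  have h3 : t b * x * (t b)⁻¹ = t (b * t⁻¹ x * b⁻¹) := by
    rw [map_mul, map_mul, map_inv, MulAut.apply_inv_self]
  rw [h3]
  constructor
  · intro h
    refine (h1 _).1 ((hb _).1 ?_)
    rw [h1, MulAut.apply_inv_self]
    exact h
  · intro h
    have h4 := (hb _).2 ((h1 _).2 h)
    rw [h2]
    exact (h1 _).1 h4

theorem Qk_T (hT : ∀ t ∈ T, ∀ u ∈ S, t u ∈ S) (hP : ∀ t ∈ T, ∀ x ∈ P, t x ∈ P) {t : MulAut K} (ht : t ∈ T) {x : K}
    (hx : x ∈ Qk (normalizer (S : Set K)) P) : t x ∈ Qk (normalizer (S : Set K)) P := by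
  rw [mem_Qk] at hx ⊢
  intro g hg
  have h1 := hx _ (hP t⁻¹ (inv_mem ht) g hg)
  have h2 := mem_B_of_T hT ht h1
  rwa [map_mul, map_mul, map_inv, MulAut.apply_inv_self] at h2

/-- a moved node -/
theorem exists_mov (hS : S ≤ P) (hT : ∀ t ∈ T, ∀ u ∈ S, t u ∈ S) (hP : ∀ t ∈ T, ∀ x ∈ P, t x ∈ P)
    (hT1 : ∃ t ∈ T, t ≠ 1) (hsq : ∀ a ∈ AT S T, a * a = 1)
    (hfive : 5 ≤ (normalizer (S : Set K)).relIndex P) (hptr : Hall.HallData.PTr (normalizer (S : Set K)) S P)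
    (hreg : ∀ u ∈ S, ∀ g ∈ P, g ∉ normalizer (S : Set K) → g⁻¹ * u * g ∈ normalizer (S : Set K) →
      u ∈ Qk (normalizer (S : Set K)) P) (hmov : Moved S T P) :
    ∃ a ∈ AT S T, ∃ t ∈ T, a ∈ P ∧ t a ∈ P ∧ ∃ n ∈ P, n ∉ normalizer (S : Set K) ∧
      n⁻¹ * a * n ∉ normalizer (S : Set K) ∧ n⁻¹ * t a * n ∉ normalizer (S : Set K) ∧
      n⁻¹ * (a * t a) * n ∉ normalizer (S : Set K) := by
  set B := normalizer (S : Set K) with hB
  have hSB : S ≤ B := le_normalizer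
  -- a chamber `n B ≠ B`
  have h1 : ∃ n ∈ P, n ∉ B := by
    by_contra hcon
    push Not at hcon
    have h2 : B.relIndex P = 1 := relIndex_eq_one.2 hcon
    omega
  obtain ⟨n, hn, hnB⟩ := h1
  -- `S` is not in the kernel
  have h2 : ∃ u ∈ S, u ∉ Qk B P := by
    by_contra hcon
    push Not at hcon
    have h3 : ∀ n' ∈ P, n' ∉ B → n⁻¹ * n' ∈ B := by
      intro n' hn' hn'B
      obtain ⟨u, hu, b, hb, e⟩ := hptr n hn hnB n' hn' hn'B
      have h4 := mem_Qk.1 (hcon u hu) n hn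
      have e1 : n⁻¹ * n' = n⁻¹ * u * n * b := by rw [e]; group
      rw [e1]
      exact mul_mem h4 hb
    -- only two cosets
    have h4 : Nat.card (P ⧸ B.subgroupOf P) ≤ 2 := by
      have hsurj : Function.Surjective (fun x : Bool => (if x then QuotientGroup.mk 1 else
          QuotientGroup.mk ⟨n, hn⟩ : P ⧸ B.subgroupOf P)) := by
        intro y
        obtain ⟨⟨y, hy⟩, rfl⟩ := QuotientGroup.mk_surjective y
        by_cases hyB : y ∈ B
        · refine ⟨true, ?_⟩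
          simp only [if_true]
          refine QuotientGroup.eq.2 ?_
          rw [mem_subgroupOf]
          push_cast
          rw [inv_one, one_mul]
          exact hyB
        · refine ⟨false, ?_⟩
          simp only [Bool.false_eq_true, if_false]
          refine QuotientGroup.eq.2 ?_
          rw [mem_subgroupOf]
          exact h3 y hy hyB
      have h5 := Nat.card_le_card_of_surjective _ hsurj
      simpa using h5
    have h5 : B.relIndex P = Nat.card (P ⧸ B.subgroupOf P) := rfl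
    omega
  obtain ⟨u, hu, huQ⟩ := h2
  obtain ⟨t, ht, ht1⟩ := hT1
  have ha : u⁻¹ * t u ∈ AT S T := subset_closure ⟨t, ht, u, hu, rfl⟩
  set a := u⁻¹ * t u with ha_def
  have haQ : a ∉ Qk B P := fun h => huQ (hmov t ht ht1 u hu h)
  have haS : a ∈ S := AT_le hT ha
  have hbS : t a ∈ S := hT t ht a haS
  have hbQ : t a ∉ Qk B P := by
    intro h
    have h3 := Qk_T hT hP (inv_mem ht) h
    rw [MulAut.inv_apply_self] at h3
    exact haQ h3
  have habQ : a * t a ∉ Qk B P := by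
    intro h
    have h3 : a = a⁻¹ := (inv_eq_of_mul_eq_one_left (hsq a ha)).symm
    rw [h3, map_inv] at h
    have h4 : a⁻¹ * (t a)⁻¹ ∈ Qk B P := h
    have h5 : (t a)⁻¹ = t a := by
      rw [← map_inv, ← h3]
    rw [h5] at h4
    exact haQ (hmov t ht ht1 a haS h4)
  refine ⟨a, ha, t, ht, hS haS, hS hbS, n, hn, hnB, fun h => haQ (hreg _ haS n hn hnB h),
    fun h => hbQ (hreg _ hbS n hn hnB h), fun h => habQ (hreg _ (mul_mem haS hbS) n hn hnB h)⟩

end grp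

section mod

variable {H : Type v} {M : Type u} [Group H] [AddCommGroup M] [DistribMulAction H M] {K : Subgroup H}
  {S : Subgroup K} {T : Subgroup (MulAut K)} {A T' : Subgroup H} {e : AddSubgroup M}

/-- `Pan` for a moved node -/
theorem Pan.of_moved {P : Subgroup K} (hS : S ≤ P) (hT : ∀ t ∈ T, ∀ u ∈ S, t u ∈ S)
    (hP : ∀ t ∈ T, ∀ x ∈ P, t x ∈ P) (hT1 : ∃ t ∈ T, t ≠ 1) (hsq : ∀ a ∈ AT S T, a * a = 1)
    (hfive : 5 ≤ (normalizer (S : Set K)).relIndex P) (hptr : Hall.HallData.PTr (normalizer (S : Set K)) S P)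
    (hreg : ∀ u ∈ S, ∀ g ∈ P, g ∉ normalizer (S : Set K) → g⁻¹ * u * g ∈ normalizer (S : Set K) →
      u ∈ Qk (normalizer (S : Set K)) P) (hmov : Moved S T P)
    (hA : ∀ a ∈ AT S T, (a : H) ∈ A) (hTT : ∀ t ∈ T, ∃ t' ∈ T', ∀ x : K, ((t x : K) : H) = t' * x * t'⁻¹)
    (hq : ∀ a ∈ A, ∀ t ∈ T', ∀ m : M, m + a • m + (t * a * t⁻¹) • m + (a * (t * a * t⁻¹)) • m ∈ e) :
    Pan (normalizer (S : Set K)) P e := by
  obtain ⟨a, ha, t, ht, haP, hbP, n, hn, hnB, h1, h2, h3⟩ := exists_mov hS hT hP hT1 hsq hfive hptr hreg hmov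
  obtain ⟨t', ht', e1⟩ := hTT t ht
  refine Pan.of_mov haP hbP hn hnB h1 h2 h3 fun m => ?_
  rw [e1 a]
  exact hq _ (hA a ha) t' ht' m

/-- `OppM` for a component -/
theorem OppM.of_ksys {J : Type} {P : J → Subgroup K} {mm : J → J → ℕ} (ks : KSys S T P mm)
    (hopp : Opp (normalizer (S : Set K)) S P) (hT : ∀ t ∈ T, ∀ u ∈ S, t u ∈ S)
    (hT1 : ∃ t ∈ T, t ≠ 1) (hsq : ∀ a ∈ AT S T, a * a = 1) (hA : ∀ a ∈ AT S T, (a : H) ∈ A)
    (hTT : ∀ t ∈ T, ∃ t' ∈ T', ∀ x : K, ((t x : K) : H) = t' * x * t'⁻¹)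
    (hq : ∀ a ∈ A, ∀ t ∈ T', ∀ m : M, m + a • m + (t * a * t⁻¹) • m + (a * (t * a * t⁻¹)) • m ∈ e)
    (hB : ∀ b ∈ normalizer (S : Set K), (b : H) • e ≤ e)
    (hU : ∀ i, Unmoved S T (P i) → ∀ y ∈ P i, (y : H) • e ≤ e) {SK : Subgroup H} (hSK : ∀ s ∈ S, (s : H) ∈ SK) :
    OppM K SK e := by
  refine OppM.of_opp hopp hB (fun i => ?_) hSK
  rcases ks.dich i with h | h
  · refine Pan.of_fix ?_ (hU i h)
    by_contra hcon
    push Not at hcon
    have h2 : (normalizer (S : Set K)).relIndex (P i) = 1 := relIndex_eq_one.2 hcon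
    have h3 := ks.five i
    omega
  · exact Pan.of_moved (le_normalizer.trans (ks.le i)) hT (ks.T_P i) hT1 hsq (ks.five i) (ks.ptr i) (ks.reg i) h hA
      hTT hq

end mod

end Cfsg.Agent.Omega.Lie.SE

end

end

-- merged: Cfsg.Agent.Mrg.Omega.Lie.SEAll
section

/-!
# NODE LIE: `CenSE` from the layer, the K-side and THEOREM FIX

`FixM m j T` : THEOREM FIX (bb OMEGA #15651) for an arbitrary group `Γ ≥ T`: if the orbit of `e` under `Γ` has odd length and
`A` centralises all its members, then `Γ` stabilises `e`.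

* `stab_of_fix` : `N_H(S ∩ ⟨A^H⟩)` stabilises `e`;
* `unm_of_fix` : the unmoved parabolic subgroups of the moved components stabilise `e`;
* `mem_of_fix` : the conclusion of `CenSE` at the point `i`.
-/

set_option autoImplicit false
set_option linter.unusedSectionVars false

namespace Cfsg.Agent.Omega.Lie.SE

open Subgroup Cfsg Cfsg.Agent.Omega.BTwo Cfsg.Agent.Omega.Lie.Quot Cfsg.Agent.Omega.Lie.LemN Cfsg.Agent.Omega.Lie.End
open Cfsg.Agent.Omega.Lie.End.OfLay Cfsg.Agent.Omega.Lie.End.AHat Cfsg.Agent.ParSys Cfsg.Agent.Omega.IIa4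
open scoped Pointwise

universe u v w

section grp

variable {H : Type*} [Group H]

theorem sup_eq_mul {P T : Subgroup H} (hT : T ≤ normalizer (P : Set H)) {x : H} (hx : x ∈ P ⊔ T) :
    ∃ y ∈ P, ∃ t ∈ T, x = y * t := by
  rw [← SetLike.mem_coe, coe_mul_of_right_le_normalizer_left P _ hT] at hx
  obtain ⟨y, hy, t, ht, rfl⟩ := hx
  exact ⟨y, hy, t, ht, rfl⟩

/-- relative indices in `P T`, `T` of odd order normalising `P` -/
theorem odd_relIndex_sup [Finite H] {S P T : Subgroup H} (hSP : S ≤ P) (hT : T ≤ normalizer (P : Set H))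
    (h1 : Odd (S.relIndex P)) (h2 : Odd (Nat.card T)) : Odd ((S ⊔ T).relIndex (P ⊔ T)) := by
  have hn : (P.subgroupOf (P ⊔ T)).Normal :=
    (normal_subgroupOf_iff_le_normalizer le_sup_left).2 (sup_le le_normalizer hT)
  have h3 : P.relIndex (P ⊔ T) ∣ Nat.card T := by
    -- `T` maps onto `P T / P`
    have hsurj : Function.Surjective ((QuotientGroup.mk' (P.subgroupOf (P ⊔ T))).comp
        (inclusion (le_sup_right : T ≤ P ⊔ T))) := by
      intro q
      obtain ⟨⟨x, hx⟩, rfl⟩ := QuotientGroup.mk'_surjective _ q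
      obtain ⟨y, hy, t, ht, rfl⟩ := sup_eq_mul hT hx
      refine ⟨⟨t, ht⟩, ?_⟩
      change QuotientGroup.mk _ = QuotientGroup.mk _
      rw [QuotientGroup.eq, mem_subgroupOf]
      change t⁻¹ * (y * t) ∈ P
      have h4 := (mem_normalizer_iff.1 (inv_mem (hT ht)) y).1 hy
      rwa [inv_inv, mul_assoc] at h4
    exact card_dvd_of_surjective _ hsurj
  have h4 : Odd (S.relIndex (P ⊔ T)) := by
    rw [← relIndex_mul_relIndex S P (P ⊔ T) hSP le_sup_left]
    exact h1.mul (h2.of_dvd_nat h3)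
  have h5 : (S ⊔ T).relIndex (P ⊔ T) ∣ S.relIndex (P ⊔ T) := relIndex_dvd_of_le_left _ le_sup_left
  exact h4.of_dvd_nat h5

/-- a product of subgroups of pairwise commuting groups is normalised by the elements of one of them which normalise
their part -/
theorem norm_biSup [Finite H] {Λ : Set (Subgroup H)} {S K : Subgroup H} (hK : K ∈ Λ)
    (hc : ∀ K ∈ Λ, ∀ L ∈ Λ, K ≠ L → ∀ x ∈ K, ∀ y ∈ L, x * y = y * x) {b : H} (hb : b ∈ K)
    (hbN : b ∈ normalizer ((S ⊓ K : Subgroup H) : Set H)) :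
    b ∈ normalizer ((⨆ L ∈ Λ, S ⊓ L : Subgroup H) : Set H) := by
  refine mem_normalizer_of_conj fun x hx => ?_
  have h1 : (⨆ L ∈ Λ, S ⊓ L).map (MulAut.conj b).toMonoidHom ≤ ⨆ L ∈ Λ, S ⊓ L := by
    rw [Subgroup.map_iSup]
    refine iSup_le fun L => ?_
    rw [Subgroup.map_iSup]
    refine iSup_le fun hL => ?_
    have h2 : (S ⊓ L).map (MulAut.conj b).toMonoidHom ≤ S ⊓ L := by
      rintro _ ⟨y, hy, rfl⟩
      change b * y * b⁻¹ ∈ S ⊓ L
      by_cases hKL : K = L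
      · subst hKL
        exact BTwo.conj_mem_of_normalizer hbN hy
      · rw [hc K hK L hL hKL b hb y hy.2, mul_inv_cancel_right]
        exact hy
    exact h2.trans (le_iSup₂ (f := fun (L : Subgroup H) (_ : L ∈ Λ) => S ⊓ L) L hL)
  exact h1 ⟨x, hx, rfl⟩

/-- an unmoved parabolic subgroup: `A` is contained in a subgroup `X ≤ S` normalised by `P` and `T` -/
theorem exists_X [Finite H] {S A T K : Subgroup H} (h : CompB.Hyp S A T K) {P : Subgroup K}
    (hTP : ∀ t ∈ Tact T K, ∀ x ∈ P, t x ∈ P) (hu : Unmoved (S.subgroupOf K) (Tact T K) P) :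
    ∃ X : Subgroup H, A ≤ X ∧ X ≤ S ∧ P.map K.subtype ⊔ T ≤ normalizer (X : Set H) := by
  set SK := S.subgroupOf K with hSK
  set B := normalizer (SK : Set K) with hB
  set O := Qk B P ⊓ SK with hO
  have hTS : ∀ τ ∈ Tact T K, ∀ u ∈ SK, τ u ∈ SK := by
    intro τ hτ u hu
    obtain ⟨t, ht, -, h1⟩ := mem_Tact.1 hτ
    rw [hSK, mem_subgroupOf, h1]
    exact h.TS t ht u (mem_subgroupOf.1 hu)
  refine ⟨O.map K.subtype ⊔ (A ⊓ centralizer (K : Set H)), ?_, ?_, ?_⟩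
  · intro a ha
    obtain ⟨b, hb, c, hc, hcK, rfl⟩ := h.decomp ha
    refine mul_mem (mem_sup_left ⟨⟨b, hb.2⟩, ⟨?_, mem_subgroupOf.2 (h.AS hb.1)⟩, rfl⟩)
      (mem_sup_right ⟨hc, mem_centralizer_iff.2 fun x hx => (hcK x hx).symm⟩)
    have h1 : AT SK (Tact T K) ≤ Qk B P := by
      unfold AT
      rw [closure_le]
      rintro _ ⟨t, ht, u, hu', rfl⟩
      exact hu t ht u hu'
    apply h1
    rw [AT_eq h]
    exact mem_subgroupOf.2 hb
  · refine sup_le ?_ (inf_le_left.trans h.AS)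
    rintro _ ⟨x, hx, rfl⟩
    exact mem_subgroupOf.1 hx.2
  · refine sup_le ?_ ?_
    · rintro _ ⟨y, hy, rfl⟩
      have key : (O.map K.subtype ⊔ (A ⊓ centralizer (K : Set H))).map (MulAut.conj (y : H)).toMonoidHom ≤
          O.map K.subtype ⊔ (A ⊓ centralizer (K : Set H)) := by
        rw [Subgroup.map_sup]
        refine sup_le ?_ ?_
        · rintro _ ⟨_, ⟨o, ho, rfl⟩, rfl⟩
          refine mem_sup_left ⟨y * o * y⁻¹, ⟨?_, ?_⟩, by simp⟩
          · refine mem_Qk.2 fun g hg => ?_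
            have h1 := mem_Qk.1 ho.1 (y⁻¹ * g) (mul_mem (inv_mem hy) hg)
            have e : (y⁻¹ * g)⁻¹ * o * (y⁻¹ * g) = g⁻¹ * (y * o * y⁻¹) * g := by group
            rwa [e] at h1
          · have h1 : y * o * y⁻¹ ∈ B := by
              have h2 := mem_Qk.1 ho.1 y⁻¹ (inv_mem hy)
              rwa [inv_inv] at h2
            obtain ⟨n, hn⟩ := h.S2 ⟨(o : H), mem_subgroupOf.1 ho.2⟩
            have hn' : (o : H) ^ 2 ^ n = 1 := congrArg Subtype.val hn
            have h3 : ∀ z : K, z ∈ B → ∀ x, x ∈ S ⊓ K → (z : H) * x * (z : H)⁻¹ ∈ S ⊓ K := by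
              intro z hz x hx
              have h4 := (mem_normalizer_iff.1 hz ⟨x, hx.2⟩).1 (mem_subgroupOf.2 hx.1)
              exact ⟨mem_subgroupOf.1 h4, K.mul_mem (K.mul_mem z.2 hx.2) (K.inv_mem z.2)⟩
            refine mem_subgroupOf.2 (h.mem_of_normalizes (n := n) (SetLike.coe_mem _) ?_ (h3 _ h1) fun x hx => ?_)
            · push_cast
              rw [conj_pow, hn', mul_one, mul_inv_cancel]
            · have h5 := h3 _ (inv_mem h1) x hx
              push_cast at h5 ⊢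
              rwa [inv_inv] at h5
        · rintro _ ⟨c, hc, rfl⟩
          refine mem_sup_right ?_
          have h1 : (MulAut.conj (y : H)).toMonoidHom c = c := by
            change (y : H) * c * (y : H)⁻¹ = c
            rw [mem_centralizer_iff.1 hc.2 y y.2, mul_inv_cancel_right]
          rw [h1]
          exact hc
      exact BTwo.mem_normalizer_of_conj fun x hx => key ⟨x, hx, rfl⟩
    · intro t ht
      have key : (O.map K.subtype ⊔ (A ⊓ centralizer (K : Set H))).map (MulAut.conj t).toMonoidHom ≤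
          O.map K.subtype ⊔ (A ⊓ centralizer (K : Set H)) := by
        rw [Subgroup.map_sup]
        refine sup_le ?_ ?_
        · rintro _ ⟨_, ⟨o, ho, rfl⟩, rfl⟩
          have hτ : K.normalizerMonoidHom ⟨t, OfLay.T_le h.toPre ht⟩ ∈ Tact T K :=
            mem_Tact.2 ⟨t, ht, OfLay.T_le h.toPre ht, fun x => rfl⟩
          exact mem_sup_left ⟨K.normalizerMonoidHom ⟨t, OfLay.T_le h.toPre ht⟩ o,
            ⟨Qk_T hTS hTP hτ ho.1, hTS _ hτ o ho.2⟩, rfl⟩
        · rintro _ ⟨c, hc, rfl⟩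
          refine mem_sup_right ⟨h.TA t ht c hc.1, mem_centralizer_iff.2 fun x hx => ?_⟩
          change x * (t * c * t⁻¹) = t * c * t⁻¹ * x
          have h1 : t⁻¹ * x * t ∈ K := by
            have h2 := (mem_normalizer_iff.1 (inv_mem (OfLay.T_le h.toPre ht)) x).1 hx
            rwa [inv_inv] at h2
          have h2 := mem_centralizer_iff.1 hc.2 _ h1
          calc x * (t * c * t⁻¹) = t * (t⁻¹ * x * t * c) * t⁻¹ := by group
            _ = t * (c * (t⁻¹ * x * t)) * t⁻¹ := by rw [h2]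
            _ = t * c * t⁻¹ * x := by group
      exact BTwo.mem_normalizer_of_conj fun x hx => key ⟨x, hx, rfl⟩

/-- a subgroup `≠ 1` of `S` normalised by `N(S)` contains `S`, if `K ≅ L₂(2ⁿ)` -/
theorem le_of_exc {K : Type*} [Group K] [Finite K] {S : Sylow 2 K} {T : Subgroup (MulAut K)}
    (h : KExc K (S : Subgroup K) T) {X : Subgroup K}
    (hX : ∀ b ∈ normalizer ((S : Subgroup K) : Set K), ∀ x ∈ X, b * x * b⁻¹ ∈ X)
    (hne : ∃ x ∈ X, x ∈ (S : Subgroup K) ∧ x ≠ 1) : (S : Subgroup K) ≤ X := by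
  obtain ⟨-, -, F, _, _, hF, ⟨e₀⟩⟩ := h
  have hc : CharP F 2 := ringChar.of_eq hF
  obtain ⟨e₁⟩ := EH3.Rank1.LTwo.psl_equiv (F := F)
  have e := e₀.trans e₁
  obtain ⟨Q, hQ⟩ := LTwoSide.sylow_eq e
  obtain ⟨g, hg⟩ := MulAction.exists_smul_eq K Q S
  have hS : ∀ x, x ∈ (S : Subgroup K) ↔ ((MulAut.conj g⁻¹).trans e) x ∈ EH3.Rank1.LTwo.U F := by
    intro x
    have h1 : x ∈ (S : Subgroup K) ↔ g⁻¹ * x * g ∈ Q := by
      rw [← hg]
      show x ∈ MulAut.conj g • (Q : Subgroup K) ↔ _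
      rw [Subgroup.mem_pointwise_smul_iff_inv_smul_mem]
      show ((MulAut.conj g)⁻¹ x ∈ (Q : Subgroup K)) ↔ _
      rw [MulAut.conj_inv_apply]
      rfl
    rw [h1, hQ]
    show e (g⁻¹ * x * g) ∈ EH3.Rank1.LTwo.U F ↔ e (g⁻¹ * x * g⁻¹⁻¹) ∈ EH3.Rank1.LTwo.U F
    rw [inv_inv]
  have co := LTwoSide.co hS
  obtain ⟨x, hxX, hxS, hx1⟩ := hne
  obtain ⟨c, hc⟩ := (co.mem x).1 hxS
  have hc0 : c ≠ 0 := by
    rintro rfl
    exact hx1 (hc.symm.trans co.zero)
  intro u hu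
  obtain ⟨a, ha⟩ := (co.mem u).1 hu
  by_cases ha0 : a = 0
  · rw [← ha, ha0, co.zero]; exact one_mem _
  · obtain ⟨d, hd, hd'⟩ := co.dia (a * c⁻¹) (mul_ne_zero ha0 (inv_ne_zero hc0))
    have h1 := hX d hd x hxX
    rw [← hc, hd', inv_mul_cancel_right₀ hc0, ha] at h1
    exact h1

end grp

section real

variable {G : Type u} [Group G] {ι : Type w} {V : Subgroup G} {R : ι → Subgroup G} {i j : ι} {M B : Type u}
  [AddCommGroup M] [AddCommGroup B] [DistribMulAction (NR R i) M] [DistribMulAction (NR R i) B]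
  [DistribMulAction (HQ (R i)) M] {p : G → M} {r : G → B} {f : M →+ M →+ B} {F : Type v} [Field F]
  {vv : F → F → G} {w1 w2 t : F → G}

/-- THEOREM FIX for the point `i` (`T` the torus in `H`) -/
def FixM (m : ModQ V R i M B p r f) (j : ι) (T : Subgroup (HQ (R i))) : Prop :=
  ∀ Γ Γ₀ : Subgroup (HQ (R i)), T ≤ Γ → Γ₀ ≤ Γ → Odd (Γ₀.relIndex Γ) → (∀ γ ∈ Γ₀, γ • m.sb V ≤ m.sb V) →
    (∀ γ ∈ Γ, ∀ a ∈ AA V R i j, ∀ x ∈ m.sb V, a • γ • x = γ • x) → ∀ γ ∈ Γ, γ • m.sb V ≤ m.sb V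

theorem TT_le_NE (b : BT V R) (τ : TorD V R i j vv t) : TT τ ≤ NE V R i := by
  intro x hx
  obtain ⟨a, ha, rfl⟩ := (mem_TT τ).1 hx
  exact pr_mem_im _ (b.X_le_NV (τ.memX a ha))

/-- `h` stabilising `e` normalises `A` -/
theorem norm_A_of_stab [Finite G] (m : ModQ V R i M B p r f) (b : BT V R) (hij : i ≠ j) {h : HQ (R i)}
    (hh : h • m.sb V ≤ m.sb V) {a : HQ (R i)} (ha : a ∈ AA V R i j) : h * a * h⁻¹ ∈ AA V R i j := by
  obtain ⟨g, hg, rfl⟩ := exists_pr h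
  have hV : g ∈ normalizer (V : Set G) := by
    refine BTwo.mem_normalizer_of_conj fun y hy => ?_
    have hyW := V_le_WW V (R i) hy
    have h1 := hh (AddSubgroup.smul_mem_pointwise_smul _ (pr (R i) ⟨g, hg⟩) _ (m.p_mem hyW hy))
    rw [m.act hg hyW] at h1
    exact (m.p_mem_iff (BTwo.conj_mem_of_normalizer (normalizer_le_WW V (R i) hg) hyW) (b.R_le i)).1 h1
  obtain ⟨u, hu, rfl⟩ := (mem_AA b).1 ha
  rw [← ModQ.im_Y b hij]
  have h3 : g * u * g⁻¹ ∈ YY V R := BTwo.conj_mem_of_normalizer (b.NV_le_NY hV) (UU_le_YY j hu)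
  exact pr_mem_im (mul_mem (mul_mem hg (U_le_N b i j hu)) (inv_mem hg)) h3

/-- `M = ⟨e^E⟩` if `H = N E` and `N` stabilises `e` -/
theorem cl_eq_top (m : ModQ V R i M B p r f) {N E : Subgroup (HQ (R i))} [E.Normal]
    (hN : ∀ h ∈ N, h • m.sb V ≤ m.sb V) (hNE : N ⊔ E = ⊤) : cl E (m.sb V) = ⊤ := by
  refine m.toModFr.gen (fun h a ha => ?_) (le_cl _ _)
  rw [← m.pr_smul h a]
  have h1 : pr (R i) h ∈ E ⊔ N := by rw [sup_comm, hNE]; exact mem_top _
  have h2 : N ≤ normalizer (E : Set (HQ (R i))) := fun x _ =>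
    mem_normalizer_iff.2 fun y => ⟨fun hy => Normal.conj_mem inferInstance y hy x, fun hy => by
      have h3 := Normal.conj_mem (inferInstance : E.Normal) _ hy x⁻¹
      have e : x⁻¹ * (x * y * x⁻¹) * x⁻¹⁻¹ = y := by group
      rwa [e] at h3⟩
  obtain ⟨x, hx, n, hn, e1⟩ := sup_eq_mul h2 h1
  rw [e1]
  have h3 : (x * n) • cl E (m.sb V) ≤ cl E (m.sb V) := by
    refine smul_cl_le fun g hg => ?_
    have e2 : (x * n) • g • m.sb V = (x * (n * g * n⁻¹)) • (n • m.sb V) := by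
      rw [smul_smul, smul_smul]
      congr 1
      group
    rw [e2]
    refine (smul_mono (hN n hn)).trans (smul_le_cl (mul_mem hx ?_))
    exact Normal.conj_mem inferInstance g hg n
  exact h3 (AddSubgroup.smul_mem_pointwise_smul a (x * n) _ ha)

section main

variable [Finite G] (m : ModQ V R i M B p r f) (b : BT V R) (C : Coord V R i j vv w1 w2) (τ : TorD V R i j vv t)
  (S₁ : Sylow 2 G) (hV : (S₁ : Subgroup G) ≤ normalizer (V : Set G))
  (hR : (S₁ : Subgroup G) ≤ normalizer (R i : Set G)) (hfix : FixM m j (TT τ))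

/-- the normal closure of `A` -/
abbrev NN (V : Subgroup G) (R : ι → Subgroup G) (i j : ι) : Subgroup (HQ (R i)) :=
  normalClosure (AA V R i j : Set (HQ (R i)))

theorem A_le_NN : AA V R i j ≤ NN V R i j := subset_normalClosure

theorem NN_le_H0 (b : BT V R) : NN V R i j ≤ H0 R i := by
  have := Layer.H0_normal R i
  exact normalClosure_le_normal (ModQ.A_le_H0 b j)

include m b C S₁ hV hR hfix

/-- **`N_H(S ∩ ⟨A^H⟩)` stabilises `e`** -/
theorem stab_of_fix {γ : HQ (R i)}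
    (hγ : γ ∈ normalizer ((SS R i S₁ ⊓ NN V R i j : Subgroup (HQ (R i))) : Set (HQ (R i)))) :
    γ • m.sb V ≤ m.sb V := by
  have hfact : Fact (Nat.Prime 2) := ⟨Nat.prime_two⟩
  have hnN : ∀ x : HQ (R i), ∀ y ∈ NN V R i j, x * y * x⁻¹ ∈ NN V R i j := fun x y hy =>
    Normal.conj_mem inferInstance y hy x
  obtain ⟨P, hP⟩ := Quot.exists_sylow S₁ hR
  have hPS : (P : Subgroup (HQ (R i))) ⊓ H0 R i = SS R i S₁ := by
    rw [hP]; exact (im_inf (QQ_le_sylow S₁ hR) (Q_le_C b i)).symm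
  have hPN : (P : Subgroup (HQ (R i))) ≤
      normalizer ((SS R i S₁ ⊓ NN V R i j : Subgroup (HQ (R i))) : Set (HQ (R i))) := by
    intro x hx
    refine BTwo.mem_normalizer_of_conj fun y hy => ⟨?_, hnN x y hy.2⟩
    have h1 : y ∈ (P : Subgroup (HQ (R i))) ⊓ H0 R i := by rw [hPS]; exact hy.1
    rw [← hPS]
    exact ⟨(P : Subgroup (HQ (R i))).mul_mem ((P : Subgroup (HQ (R i))).mul_mem hx h1.1)
      ((P : Subgroup (HQ (R i))).inv_mem hx), (Layer.H0_normal R i).conj_mem y h1.2 x⟩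
  refine hfix (normalizer ((SS R i S₁ ⊓ NN V R i j : Subgroup (HQ (R i))) : Set (HQ (R i)))) P ?_ hPN ?_ ?_ ?_ γ hγ
  · intro x hx
    exact BTwo.mem_normalizer_of_conj fun y hy => ⟨TS_mem b τ (Crd.of_coord C) S₁ hV hR hx hy.1, hnN x y hy.2⟩
  · have h1 := P.not_dvd_index
    rw [← even_iff_two_dvd, Nat.not_even_iff_odd] at h1
    exact h1.of_dvd_nat (relIndex_dvd_index_of_le hPN)
  · intro x hx
    rw [hP] at hx
    exact (NE_smul m (im_mono hV hx)).le
  · intro γ hγ a ha x hx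
    have h1 : γ⁻¹ * a * γ ∈ SS R i S₁ ⊓ NN V R i j := by
      have h2 := (mem_normalizer_iff.1 (inv_mem hγ) a).1 ⟨A_le_S b S₁ i j hV ha, A_le_NN ha⟩
      rwa [inv_inv] at h2
    have h3 := fix_SS b m (Crd.of_coord C) S₁ hV hR h1.1 hx
    rw [mul_smul, mul_smul, inv_smul_eq_iff] at h3
    exact h3

/-- **the unmoved parabolic subgroups of the moved components stabilise `e`** -/
theorem unm_of_fix [Finite F] [CharP F 2] (l : Lay V R i j (TT τ) (SS R i S₁)) {K : Subgroup (HQ (R i))}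
    (hK : MComp V R i j K) {P : Subgroup K} (hP : normalizer ((SS R i S₁).subgroupOf K : Set K) ≤ P)
    (hTP : ∀ t ∈ Tact (TT τ) K, ∀ x ∈ P, t x ∈ P)
    (hu : Unmoved ((SS R i S₁).subgroupOf K) (Tact (TT τ) K) P) {y : K} (hy : y ∈ P) :
    (y : HQ (R i)) • m.sb V ≤ m.sb V := by
  have hh := l.hyp K hK
  obtain ⟨X, hAX, hXS, hXN⟩ := exists_X hh hTP hu
  have hS_NE : SS R i S₁ ≤ NE V R i := im_mono (inf_le_left.trans hV)
  have h1 : SS R i S₁ ⊓ K ≤ P.map K.subtype := fun x hx =>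
    ⟨⟨x, hx.2⟩, hP (le_normalizer (mem_subgroupOf.2 hx.1)), rfl⟩
  have hTN : TT τ ≤ normalizer ((P.map K.subtype : Subgroup (HQ (R i))) : Set (HQ (R i))) := by
    intro t ht
    refine BTwo.mem_normalizer_of_conj ?_
    rintro _ ⟨x, hx, rfl⟩
    exact ⟨K.normalizerMonoidHom ⟨t, OfLay.T_le hh.toPre ht⟩ x,
      hTP _ (mem_Tact.2 ⟨t, ht, OfLay.T_le hh.toPre ht, fun x => rfl⟩) x hx, rfl⟩
  have h2 : Odd ((SS R i S₁ ⊓ K).relIndex (P.map K.subtype)) := by
    obtain ⟨P₀, hP₀⟩ := OfLay.exists_sylow hh.toPre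
    have hfact : Fact (Nat.Prime 2) := ⟨Nat.prime_two⟩
    have h3 := P₀.not_dvd_index
    rw [hP₀, ← even_iff_two_dvd, Nat.not_even_iff_odd] at h3
    have h4 : (SS R i S₁ ⊓ K).relIndex (P.map K.subtype) = ((SS R i S₁).subgroupOf K).relIndex P := by
      rw [← subgroupOf_map_subtype]
      exact relIndex_map_map_of_injective _ _ K.subtype_injective
    rw [h4]
    exact h3.of_dvd_nat (relIndex_dvd_index_of_le (le_normalizer.trans hP))
  refine hfix (P.map K.subtype ⊔ TT τ) ((SS R i S₁ ⊓ K) ⊔ TT τ) le_sup_right (sup_le_sup_right h1 _)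
    (odd_relIndex_sup h1 hTN h2 (odd_TT b τ)) ?_ ?_ y (mem_sup_left ⟨y, hy, rfl⟩)
  · intro γ hγ
    exact (NE_smul m ((sup_le (inf_le_left.trans hS_NE) (TT_le_NE b τ) : (SS R i S₁ ⊓ K) ⊔ TT τ ≤ NE V R i) hγ)).le
  · intro γ hγ a ha x hx
    have h3 : γ⁻¹ * a * γ ∈ X := by
      have h4 := (mem_normalizer_iff.1 (inv_mem (hXN hγ)) a).1 (hAX ha)
      rwa [inv_inv] at h4
    have h5 := fix_SS b m (Crd.of_coord C) S₁ hV hR (hXS h3) hx
    rw [mul_smul, mul_smul, inv_smul_eq_iff] at h5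
    exact h5

omit hfix m C S₁ hV hR in
theorem hat (hij : i ≠ j) {S T : Subgroup (HQ (R i))} (l : Lay V R i j T S) :
    AHat.Dat (H0 R i) S (AA V R i j) T where
  O2 := pCore_HQ (R i)
  norm := Layer.H0_normal R i
  A_le := ModQ.A_le_H0 b j
  sq _ ha := A_sq b hij ha
  odd := l.odd
  hyp K hK := l.hyp K hK

omit hfix m C in
/-- **Frattini** for `S ∩ ⟨A^H⟩` -/
theorem frattini_NN :
    normalizer ((SS R i S₁ ⊓ NN V R i j : Subgroup (HQ (R i))) : Set (HQ (R i))) ⊔ NN V R i j = ⊤ := by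
  obtain ⟨P, hP⟩ := Quot.exists_sylow S₁ hR
  have hPS : (P : Subgroup (HQ (R i))) ⊓ H0 R i = SS R i S₁ := by
    rw [hP]; exact (im_inf (QQ_le_sylow S₁ hR) (Q_le_C b i)).symm
  have h1 := ThmD.frattini P (NN V R i j)
  have h2 : (P : Subgroup (HQ (R i))) ⊓ NN V R i j = SS R i S₁ ⊓ NN V R i j := by
    rw [← hPS, inf_assoc, inf_eq_right.2 (NN_le_H0 b)]
  rwa [h2] at h1

/-- `M = ⟨e^⟨A^H⟩⟩` -/
theorem cl_NN : cl (NN V R i j) (m.sb V) = ⊤ :=
  cl_eq_top m (N := normalizer ((SS R i S₁ ⊓ NN V R i j : Subgroup (HQ (R i))) : Set (HQ (R i))))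
    (E := NN V R i j) (fun _ hh => stab_of_fix m b C τ S₁ hV hR hfix hh) (frattini_NN b S₁ hV hR)

/-- the moved components are permuted by `H` -/
theorem inv_NN (l : Lay V R i j (TT τ) (SS R i S₁)) {K : Subgroup (HQ (R i))} (hK : Mov (AA V R i j) (H0 R i) K)
    (h : HQ (R i)) : Mov (AA V R i j) (H0 R i) (cg h K) := by
  refine (hat b C.ne l).inv_of_fac (fun h => ?_) hK h
  have h1 : h ∈ NN V R i j ⊔
      normalizer ((SS R i S₁ ⊓ NN V R i j : Subgroup (HQ (R i))) : Set (HQ (R i))) := by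
    rw [sup_comm, frattini_NN b S₁ hV hR]; exact mem_top _
  have h2 : normalizer ((SS R i S₁ ⊓ NN V R i j : Subgroup (HQ (R i))) : Set (HQ (R i))) ≤
      normalizer ((NN V R i j : Subgroup (HQ (R i))) : Set (HQ (R i))) := fun x _ =>
    BTwo.mem_normalizer_of_conj fun y hy => Normal.conj_mem inferInstance y hy x
  obtain ⟨x, hx, n, hn, rfl⟩ := sup_eq_mul h2 h1
  exact ⟨x, hx, n, fun a ha => norm_A_of_stab m b C.ne (stab_of_fix m b C τ S₁ hV hR hfix hn) ha, rfl⟩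

/-- **the Borel subgroups of the moved components stabilise `e`** -/
theorem borel_stab (l : Lay V R i j (TT τ) (SS R i S₁)) {K : Subgroup (HQ (R i))} (hK : MComp V R i j K) {x : K}
    (hx : x ∈ normalizer ((SS R i S₁).subgroupOf K : Set K)) : (x : HQ (R i)) • m.sb V ≤ m.sb V := by
  refine stab_of_fix m b C τ S₁ hV hR hfix ?_
  rw [(hat b C.ne l).sylow_eq (S_isPGroup S₁) fun K hK => inv_NN m b C τ S₁ hV hR hfix l hK]
  exact norm_biSup (Λ := {K : Subgroup (HQ (R i)) | Mov (AA V R i j) (H0 R i) K}) hK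
    (fun K hK L hL hne x hx y hy => Layer.comm_of_ne hK.1 hL.1 hne hx hy) x.2 ((NA.mem_norm_subgroupOf x.2).1 hx)

/-- **the exception `KExc` does not occur** -/
theorem not_exc [Finite F] [CharP F 2] (hq : 4 ≤ Nat.card F) (l : Lay V R i j (TT τ) (SS R i S₁))
    {K : Subgroup (HQ (R i))} (hK : MComp V R i j K) :
    ¬ KExc K ((SS R i S₁).subgroupOf K) (Tact (TT τ) K) := by
  intro hexc
  have hh := l.hyp K hK
  have ta := OfLay.tact_of_lay b τ C.ne hq l hK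
  obtain ⟨P₀, hP₀⟩ := OfLay.exists_sylow hh.toPre
  have key : (SS R i S₁).subgroupOf K ≤ (AA V R i j ⊓ K).subgroupOf K := by
    rw [← hP₀]
    rw [← hP₀] at hexc
    refine le_of_exc hexc ?_ ?_
    · intro x hx a ha
      rw [hP₀] at hx
      refine mem_subgroupOf.2 ⟨?_, SetLike.coe_mem _⟩
      exact norm_A_of_stab m b C.ne (borel_stab m b C τ S₁ hV hR hfix l hK hx) (mem_subgroupOf.1 ha).1
    · obtain ⟨b, hb1⟩ := ne_bot_iff_exists_ne_one.1 (hh.inf_ne_bot hK.2.2)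
      refine ⟨⟨b, b.2.2⟩, mem_subgroupOf.2 b.2, ?_, fun h0 =>
        hb1 (Subtype.ext (congrArg (fun z : K => (z : HQ (R i))) h0))⟩
      rw [hP₀]
      exact mem_subgroupOf.2 (hh.AS b.2.1)
  obtain ⟨-, ⟨u, hu, hu1, hfu⟩, -⟩ := hexc
  have h1 : u ∈ AT ((SS R i S₁).subgroupOf K) (Tact (TT τ) K) := by
    rw [AT_eq hh]
    exact key hu
  have h2 : ∃ t ∈ Tact (TT τ) K, t ≠ 1 := by
    by_contra hcon
    push Not at hcon
    have h1 : Tact (TT τ) K = ⊥ := (Subgroup.eq_bot_iff_forall _).2 hcon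
    have h2 := ta.three
    rw [h1, Subgroup.card_bot] at h2
    omega
  obtain ⟨t', ht', ht1⟩ := h2
  exact hu1 (ta.fpf t' ht' ht1 u h1 (hfu t' ht'))

/-- **`OppM` for `⟨A^H⟩`** -/
theorem oppM_of_fix [Finite F] [CharP F 2] (b' : BTC V R) (hq : 4 ≤ Nat.card F)
    (l : Lay V R i j (TT τ) (SS R i S₁))
    (ks : ∀ K : Subgroup (HQ (R i)), MComp V R i j K → ∃ (J : Type) (P : J → Subgroup K) (mm : J → J → ℕ),
      KSys ((SS R i S₁).subgroupOf K) (Tact (TT τ) K) P mm ∧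
        Opp (normalizer ((SS R i S₁).subgroupOf K : Set K)) ((SS R i S₁).subgroupOf K) P) :
    OppM (NN V R i j) (SS R i S₁ ⊓ NN V R i j) (m.sb V) := by
  have hij := C.ne
  have d := hat b hij l
  have hinv := fun (K : Subgroup (HQ (R i))) (hK : Mov (AA V R i j) (H0 R i) K) =>
    inv_NN m b C τ S₁ hV hR hfix l hK
  have hcomm : ∀ K ∈ {K : Subgroup (HQ (R i)) | Mov (AA V R i j) (H0 R i) K},
      ∀ L ∈ {K : Subgroup (HQ (R i)) | Mov (AA V R i j) (H0 R i) K}, K ≠ L → ∀ x ∈ K, ∀ y ∈ L, x * y = y * x :=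
    fun K hK L hL hne x hx y hy => Layer.comm_of_ne hK.1 hL.1 hne hx hy
  have e1 := d.sylow_eq (S_isPGroup S₁) hinv
  have e2 := d.nc_eq hinv
  have key : OppM (⨆ K ∈ {K : Subgroup (HQ (R i)) | Mov (AA V R i j) (H0 R i) K}, K)
      (⨆ K ∈ {K : Subgroup (HQ (R i)) | Mov (AA V R i j) (H0 R i) K}, SS R i S₁ ⊓ K) (m.sb V) := by
    refine OppM.biSup hcomm fun K hK => ?_
    obtain ⟨J, P, mm, ksys, hopp⟩ := ks K hK
    have ta := OfLay.tact_of_lay b τ hij hq l hK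
    have hh := l.hyp K hK
    refine OppM.of_ksys ksys hopp ta.stab ?_ ta.sq (A := AA V R i j) (T' := TT τ) ?_ ?_ ?_ ?_ ?_ ?_
    · by_contra hcon
      push Not at hcon
      have h1 : Tact (TT τ) K = ⊥ := (Subgroup.eq_bot_iff_forall _).2 hcon
      have h2 := ta.three
      rw [h1, Subgroup.card_bot] at h2
      omega
    · intro a ha
      exact (mem_subgroupOf.1 (OfLay.AT_le hh.toPre ha)).1
    · intro t ht
      obtain ⟨t', ht', -, h1⟩ := mem_Tact.1 ht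
      exact ⟨t', ht', h1⟩
    · intro a ha t ht x
      exact m.quad b' τ ha ht x
    · intro x hx
      exact borel_stab m b C τ S₁ hV hR hfix l hK hx
    · intro k hu y hy
      exact unm_of_fix m b C τ S₁ hV hR hfix l hK (ksys.le k) (ksys.T_P k) hu hy
    · intro s hs
      exact ⟨mem_subgroupOf.1 hs, s.2⟩
  rw [e1, show NN V R i j = _ from e2]
  exact key

/-- **`CenSE` at the point `i`** -/
theorem mem_of_fix [Finite F] [CharP F 2] (b' : BTC V R) (hq : 4 ≤ Nat.card F)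
    (hC : centralizer (WW V (R i) : Set G) ≤ R i) (l : Lay V R i j (TT τ) (SS R i S₁))
    (ks : ∀ K : Subgroup (HQ (R i)), MComp V R i j K → ∃ (J : Type) (P : J → Subgroup K) (mm : J → J → ℕ),
      KSys ((SS R i S₁).subgroupOf K) (Tact (TT τ) K) P mm ∧
        Opp (normalizer ((SS R i S₁).subgroupOf K : Set K)) ((SS R i S₁).subgroupOf K) P)
    {x : G} (hx : x ∈ WW V (R i))
    (hfx : ∀ s ∈ (S₁ : Subgroup G), s ∈ centralizer (R i : Set G) → s * x * s⁻¹ * x⁻¹ ∈ R i) : x ∈ V := by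
  exact mem_of_oppM m b (Crd.of_coord C) hC S₁ hV hR (oppM_of_fix m b C τ S₁ hV hR hfix b' hq l ks)
    (cl_NN m b C τ S₁ hV hR hfix) inf_le_right (NN_le_H0 b) inf_le_left hx hfx

end main

end real

end Cfsg.Agent.Omega.Lie.SE

end

-- merged: Cfsg.Agent.Mrg.Omega.Node.SEPOf
section

/-!
# `SEP K` (`Node/LeafA4.lean`) from the K-side with `Opp`

* `fixM` : `SE.FixM` from THEOREM FIX (`Lie/Fix.lean`, helper932);
* **`sep_of : KSideX → SEP K`** (`Lie/End/KSideX.lean`).  The exception `KExc` is excluded by `SE.not_exc`.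
-/

set_option autoImplicit false
set_option linter.unusedSectionVars false

namespace Cfsg.Agent.Omega.IIa4

open Subgroup Cfsg Cfsg.Agent.ZN Cfsg.Agent.Omega.NatPair Cfsg.Agent.Omega.BTwo
open Cfsg.Agent.Omega.Frame Cfsg.Agent.Omega.FrameFF Cfsg.Agent.Omega.Lie Cfsg.Agent.Omega.Lie.Quot
open Cfsg.Agent.Omega.Lie.End Cfsg.Agent.Omega.Lie.SE

universe u v w

section fix

variable {G : Type u} [Group G] [Finite G] {ι : Type w} {V : Subgroup G} {R : ι → Subgroup G} {i j : ι}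

/-- `A ≠ 1` -/
theorem exists_AA (b : BTC V R) (hij : i ≠ j) (S₁ : Sylow 2 G) (hV : (S₁ : Subgroup G) ≤ normalizer (V : Set G))
    (hR : (S₁ : Subgroup G) ≤ normalizer (R i : Set G)) : ∃ a ∈ AA V R i j, a ≠ 1 := by
  have h1 := Cfsg.Agent.Omega.BTwo.Cz.not_UU_le b S₁ hij hV hR
  rw [SetLike.not_le_iff_exists] at h1
  obtain ⟨u, hu, huD⟩ := h1
  refine ⟨_, (mem_AA b.toBT).2 ⟨u, hu, rfl⟩, fun h2 => huD ?_⟩
  exact (U_inf_Q b.toBT hij hu).1 ((pr_eq_one _).1 h2)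

variable {M B : Type u} [AddCommGroup M] [AddCommGroup B] [DistribMulAction (NR R i) M]
  [DistribMulAction (NR R i) B] [DistribMulAction (HQ (R i)) M] {p : G → M} {r : G → B} {f : M →+ M →+ B}
  {F : Type v} [Field F] [Finite F] [CharP F 2] {vv : F → F → G} {w1 w2 t : F → G}

/-- **THEOREM FIX** -/
theorem fixM (m : ModQ V R i M B p r f) (b : BTC V R) (c : Coord V R i j vv w1 w2) (τ : TorD V R i j vv t)
    (hq : 4 ≤ Nat.card F) (hC : centralizer (WW V (R i) : Set G) ≤ R i) (hA : ∃ a ∈ AA V R i j, a ≠ 1) :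
    FixM m j (TT τ) := fun _ _ hT hle hodd hstab hfix _ hγ =>
  (Fix.mem_NE_iff_le b.toBT m).1 (Fix.gam b c τ hq hC hA m hT hfix hle
    (fun x hx => (Fix.mem_NE_iff_le b.toBT m).2 (hstab x hx)) hodd hγ)

end fix

/-- **`CenSE`** from the K-side -/
theorem Sit.cenSE_of {G : Type u} [Group G] [Finite G] {S : Sylow 2 G} {P : Subgroup G} {g : G} {F : Type} [Field F]
    [Finite F] [CharP F 2] {M : NatMod F (zl (S : Subgroup G) P)} (h : Sit S P g M) (hks : KSideX.{u})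
    (hl : LayAll (zl (S : Subgroup G) P) (pt M) F) (hsemi : SemiOut (zl (S : Subgroup G) P) (pt M)) :
    CenSE (zl (S : Subgroup G) P) (pt M) := by
  intro i S₁ hV hR x hx hfx
  obtain ⟨j, hij⟩ := h.exists_ne_pt i
  obtain ⟨v, w1, w2, c⟩ := h.exists_coord hij
  obtain ⟨t, τ⟩ := h.exists_torD c
  obtain ⟨X, B, _, _, _, _, _, p, r, f, m⟩ := exists_modQ h.bt i
  have l := hl i j hij v w1 w2 t c τ S₁ hV hR
  have hf := fixM m h.btc c τ h.four (hsemi i).1.le (exists_AA h.btc hij S₁ hV hR)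
  refine mem_of_fix m h.bt c τ S₁ hV hR hf h.btc h.four (hsemi i).1.le l (fun K hK => ?_) hx hfx
  obtain ⟨P₀, hP₀⟩ := OfLay.exists_sylow (l.hyp K hK).toPre
  have h1 := hks K hK.1.2.1.commutator_eq_top hK.1.2.2 (OfLay.odd_center (pCore_HQ (pt M i)) hK.1) (l.lie K hK) P₀
    (OfLay.Tact (TT τ) K) (hP₀ ▸ OfLay.tact_of_lay h.bt τ hij h.four l hK)
  rw [hP₀] at h1
  rcases h1 with ⟨J, -, Q, mm, h2, h3, -⟩ | h2
  · exact ⟨J, Q, mm, h2, h3⟩
  · exact absurd h2 (not_exc m h.bt c τ S₁ hV hR hf h.four l hK)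

/-- **`SEP K`** -/
theorem sep_of {K : Cls.{u}} (hks : KSideX.{u}) : SEP K :=
  fun _ _ _ _ _ _ _ _ _ _ _ _ h hl hsemi => h.cenSE_of hks hl hsemi

end Cfsg.Agent.Omega.IIa4

end
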